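import Mathlib

/-!
# Simultaneous diagonalisation of commuting involutions (characteristic ≠ 2)

For a commuting family `f : ι → End K V` of involutions (`f i * f i = 1`) on a finite-dimensional
space over a field with `2 ≠ 0`, the simultaneous eigenspaces `simEig f χ = ⨅ i, eigenspace (f i) (χ i)`
are independent and span `V`.
-/

set_option autoImplicit false

namespace Cfsg.Agent.Lib.Helper14

open Module Module.End

section single

variable {K V : Type*} [Field K] [AddCommGroup V] [Module K V]

/-- For an involution in characteristic `≠ 2`, generalised eigenspaces are eigenspaces. -/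
theorem maxGenEigenspace_eq_eigenspace_of_sq (h2 : (2 : K) ≠ 0) (g : End K V) (hg : g * g = 1)
    (μ : K) : g.maxGenEigenspace μ = g.eigenspace μ := by
  refine le_antisymm (fun v hv => ?_) eigenspace_le_maxGenEigenspace
  rw [mem_maxGenEigenspace] at hv
  obtain ⟨k, hk⟩ := hv
  rw [mem_eigenspace_iff]
  set N : End K V := g - μ • 1 with hN
  have hgv : ∀ w : V, g (g w) = w := fun w => by
    have := congrArg (fun e : End K V => e w) hg
    simpa using this
  have hNN : ∀ w : V, N (N w) = (-(2 * μ)) • N w + (1 - μ * μ) • w := by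
    intro w
    simp only [hN, LinearMap.sub_apply, LinearMap.smul_apply, Module.End.one_apply, map_sub,
      map_smul, hgv]
    module
  suffices h : N v = 0 by
    have : g v - μ • v = 0 := by simpa [hN] using h
    exact sub_eq_zero.mp this
  by_cases hμ : μ * μ = 1
  · -- `N ^ (k+1) = (-(2μ))^k • N`
    have hμ0 : μ ≠ 0 := by rintro rfl; simp at hμ
    have hc : -(2 * μ) ≠ 0 := neg_ne_zero.mpr (mul_ne_zero h2 hμ0)
    have hpow : ∀ j : ℕ, ∀ w : V, (N ^ (j + 1)) w = ((-(2 * μ)) ^ j) • N w := by
      intro j
      induction j with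
      | zero => intro w; simp
      | succ j ih =>
        intro w
        rw [pow_succ, Module.End.mul_apply, ih, hNN, hμ, sub_self, zero_smul, add_zero, smul_smul,
          pow_succ]
    cases k with
    | zero =>
      have : v = 0 := by simpa using hk
      rw [this, map_zero]
    | succ k =>
      rw [hpow] at hk
      exact (smul_eq_zero.mp hk).resolve_left (pow_ne_zero _ hc)
  · -- `N` is injective
    have hc : (1 - μ * μ) ≠ 0 := sub_ne_zero.mpr (Ne.symm hμ)
    have hinj : ∀ w : V, N w = 0 → w = 0 := by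
      intro w hw
      have := hNN w
      rw [hw, map_zero, smul_zero, zero_add] at this
      exact (smul_eq_zero.mp this.symm).resolve_left hc
    have : ∀ j : ℕ, (N ^ j) v = 0 → v = 0 := by
      intro j
      induction j with
      | zero => intro h; simpa using h
      | succ j ih =>
        intro h
        rw [pow_succ', Module.End.mul_apply] at h
        exact ih (hinj _ h)
    rw [this k hk, map_zero]

/-- An involution in characteristic `≠ 2` is diagonalisable. -/
theorem iSup_maxGenEigenspace_eq_top_of_sq (h2 : (2 : K) ≠ 0) (g : End K V) (hg : g * g = 1) :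
    ⨆ μ, g.maxGenEigenspace μ = ⊤ := by
  rw [eq_top_iff]
  intro v _
  have hgv : ∀ w : V, g (g w) = w := fun w => by
    have := congrArg (fun e : End K V => e w) hg
    simpa using this
  have h1 : (2 : K)⁻¹ • (v + g v) ∈ g.maxGenEigenspace 1 := by
    apply eigenspace_le_maxGenEigenspace
    rw [mem_eigenspace_iff, map_smul, map_add, hgv, one_smul, add_comm]
  have h2' : (2 : K)⁻¹ • (v - g v) ∈ g.maxGenEigenspace (-1) := by
    apply eigenspace_le_maxGenEigenspace
    rw [mem_eigenspace_iff, map_smul, map_sub, hgv, neg_smul, one_smul, ← smul_neg, neg_sub]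
  have hv : v = (2 : K)⁻¹ • (v + g v) + (2 : K)⁻¹ • (v - g v) := by
    rw [← smul_add, add_add_sub_cancel, ← two_smul K v, smul_smul, inv_mul_cancel₀ h2, one_smul]
  rw [hv]
  exact Submodule.add_mem _ (Submodule.mem_iSup_of_mem (1 : K) h1)
    (Submodule.mem_iSup_of_mem (-1 : K) h2')

end single

section family

variable {ι K V : Type*} [Field K] [AddCommGroup V] [Module K V]

/-- Simultaneous eigenspace of a family of endomorphisms. -/
def simEig (f : ι → End K V) (χ : ι → K) : Submodule K V := ⨅ i, (f i).eigenspace (χ i)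

theorem mem_simEig (f : ι → End K V) (χ : ι → K) (v : V) :
    v ∈ simEig f χ ↔ ∀ i, f i v = χ i • v := by
  simp [simEig]

theorem simEig_eq_iInf_maxGen (h2 : (2 : K) ≠ 0) (f : ι → End K V) (hf : ∀ i, f i * f i = 1)
    (χ : ι → K) : simEig f χ = ⨅ i, (f i).maxGenEigenspace (χ i) := by
  unfold simEig
  exact iInf_congr fun i => (maxGenEigenspace_eq_eigenspace_of_sq h2 (f i) (hf i) (χ i)).symm

/-- Independence of the simultaneous eigenspaces. -/
theorem simEig_iSupIndep (h2 : (2 : K) ≠ 0) (f : ι → End K V) (hf : ∀ i, f i * f i = 1)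
    (hc : ∀ i j, Commute (f i) (f j)) : iSupIndep (simEig f) := by
  have := independent_iInf_maxGenEigenspace_of_forall_mapsTo f
    (fun i j φ => mapsTo_maxGenEigenspace_of_comm (hc j i) φ)
  have heq : simEig f = fun χ : ι → K => ⨅ i, (f i).maxGenEigenspace (χ i) :=
    funext fun χ => simEig_eq_iInf_maxGen h2 f hf χ
  rw [heq]
  exact this

/-- The simultaneous eigenspaces span. -/
theorem iSup_simEig_eq_top [FiniteDimensional K V] (h2 : (2 : K) ≠ 0) (f : ι → End K V)
    (hf : ∀ i, f i * f i = 1) (hc : ∀ i j, Commute (f i) (f j)) : ⨆ χ, simEig f χ = ⊤ := by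
  have := iSup_iInf_maxGenEigenspace_eq_top_of_iSup_maxGenEigenspace_eq_top_of_commute f
    (fun i j _ => hc i j) (fun i => iSup_maxGenEigenspace_eq_top_of_sq h2 (f i) (hf i))
  rw [← this]
  exact iSup_congr fun χ => simEig_eq_iInf_maxGen h2 f hf χ

/-- On a nonzero simultaneous eigenspace the eigenvalues are `±1`. -/
theorem simEig_val (f : ι → End K V) (hf : ∀ i, f i * f i = 1) (χ : ι → K)
    (hχ : simEig f χ ≠ ⊥) (i : ι) : χ i = 1 ∨ χ i = -1 := by
  obtain ⟨v, hv, hv0⟩ := Submodule.exists_mem_ne_zero_of_ne_bot hχ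
  rw [mem_simEig] at hv
  have h1 : f i (f i v) = v := by
    have := congrArg (fun e : End K V => e v) (hf i)
    simpa using this
  rw [hv i, map_smul, hv i, smul_smul] at h1
  have h3 : (χ i * χ i - 1) • v = 0 := by rw [sub_smul, h1, one_smul, sub_self]
  have h4 := (smul_eq_zero.mp h3).resolve_right hv0
  exact mul_self_eq_one_iff.mp (sub_eq_zero.mp h4)

/-- Two endomorphisms agreeing on all simultaneous eigenspaces are equal. -/
theorem ext_of_simEig [FiniteDimensional K V] (h2 : (2 : K) ≠ 0) (f : ι → End K V)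
    (hf : ∀ i, f i * f i = 1) (hc : ∀ i j, Commute (f i) (f j)) (a b : End K V)
    (hab : ∀ χ, ∀ v ∈ simEig f χ, a v = b v) : a = b := by
  have htop := iSup_simEig_eq_top h2 f hf hc
  have hker : ⨆ χ, simEig f χ ≤ LinearMap.ker (a - b) := by
    refine iSup_le fun χ v hv => ?_
    rw [LinearMap.mem_ker, LinearMap.sub_apply, hab χ v hv, sub_self]
  rw [htop] at hker
  ext v
  have := hker (Submodule.mem_top : v ∈ ⊤)
  rw [LinearMap.mem_ker, LinearMap.sub_apply] at this
  exact sub_eq_zero.mp this

/-- The number of nonzero simultaneous eigenspaces is at most the dimension. -/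
theorem card_simEig_ne_bot_le [FiniteDimensional K V] (h2 : (2 : K) ≠ 0) (f : ι → End K V)
    (hf : ∀ i, f i * f i = 1) (hc : ∀ i j, Commute (f i) (f j))
    [Fintype {χ : ι → K // simEig f χ ≠ ⊥}] :
    Fintype.card {χ : ι → K // simEig f χ ≠ ⊥} ≤ finrank K V :=
  (simEig_iSupIndep h2 f hf hc).subtype_ne_bot_le_finrank

/-- Key counting statement: an injective commuting family of involutions embeds into
`Λ → Bool`, where `Λ` is the set of weights. -/
theorem injective_weights [FiniteDimensional K V] (h2 : (2 : K) ≠ 0) (f : ι → End K V)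
    (hf : ∀ i, f i * f i = 1) (hc : ∀ i j, Commute (f i) (f j)) (hinj : Function.Injective f)
    [DecidableEq K] :
    Function.Injective
      (fun (i : ι) (χ : {χ : ι → K // simEig f χ ≠ ⊥}) => decide (χ.1 i = 1)) := by
  intro i j hij
  apply hinj
  apply ext_of_simEig h2 f hf hc
  intro χ v hv
  by_cases hχ : simEig f χ = ⊥
  · rw [hχ, Submodule.mem_bot] at hv
    rw [hv, map_zero, map_zero]
  · have h1 := congrFun hij ⟨χ, hχ⟩
    simp only [decide_eq_decide] at h1
    have hi := simEig_val f hf χ hχ i
    have hj := simEig_val f hf χ hχ j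
    have hne : (1 : K) ≠ -1 := by
      intro h
      apply h2
      have : (1 : K) + 1 = 0 := by nth_rewrite 2 [h]; simp
      rw [← this]; norm_num
    have heq : χ i = χ j := by
      rcases hi with hi | hi <;> rcases hj with hj | hj
      · rw [hi, hj]
      · exact absurd (h1.mp hi) (by rw [hj]; exact hne.symm)
      · exact absurd (h1.mpr hj) (by rw [hi]; exact hne.symm)
      · rw [hi, hj]
    rw [mem_simEig] at hv
    rw [hv i, hv j, heq]

/-- If there are as many weights as the dimension, the determinant of each member is the product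
of its eigenvalues over the weights. -/
theorem det_eq_prod_weights [FiniteDimensional K V] (h2 : (2 : K) ≠ 0) (f : ι → End K V)
    (hf : ∀ i, f i * f i = 1) (hc : ∀ i j, Commute (f i) (f j))
    [Fintype {χ : ι → K // simEig f χ ≠ ⊥}]
    (hcard : Fintype.card {χ : ι → K // simEig f χ ≠ ⊥} = finrank K V) (i : ι) :
    LinearMap.det (f i) = ∏ χ : {χ : ι → K // simEig f χ ≠ ⊥}, χ.1 i := by
  classical
  rcases isEmpty_or_nonempty {χ : ι → K // simEig f χ ≠ ⊥} with hemp | hne
  · rw [Fintype.card_eq_zero] at hcard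
    rw [LinearMap.det_eq_one_of_finrank_eq_zero hcard.symm, Finset.univ_eq_empty,
      Finset.prod_empty]
  have hex : ∀ χ : {χ : ι → K // simEig f χ ≠ ⊥}, ∃ v ∈ simEig f χ.1, v ≠ 0 :=
    fun χ => Submodule.exists_mem_ne_zero_of_ne_bot χ.2
  choose v hv hv0 using hex
  have hli : LinearIndependent K v :=
    ((simEig_iSupIndep h2 f hf hc).comp Subtype.val_injective).linearIndependent
      (fun χ : {χ : ι → K // simEig f χ ≠ ⊥} => simEig f χ.1) hv hv0
  let b : Basis {χ : ι → K // simEig f χ ≠ ⊥} K V :=
    basisOfLinearIndependentOfCardEqFinrank hli hcard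
  have hb : ∀ χ, b χ = v χ := fun χ => by
    simp [b]
  have hmat : LinearMap.toMatrix b b (f i) = Matrix.diagonal (fun χ => χ.1 i) := by
    ext χ ψ
    rw [LinearMap.toMatrix_apply, hb, (mem_simEig f ψ.1 (v ψ)).mp (hv ψ) i, map_smul, ← hb,
      Basis.repr_self, Finsupp.smul_apply, Finsupp.single_apply, Matrix.diagonal_apply]
    by_cases h : χ = ψ
    · subst h; simp
    · rw [if_neg (Ne.symm h), if_neg h]; simp
  rw [← LinearMap.det_toMatrix b, hmat, Matrix.det_diagonal]

/-- An injective commuting family of involutions on an `m`-dimensional space has at most `2 ^ m`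
members. -/
theorem card_le_two_pow_finrank [FiniteDimensional K V] (h2 : (2 : K) ≠ 0) (f : ι → End K V)
    (hf : ∀ i, f i * f i = 1) (hc : ∀ i j, Commute (f i) (f j)) (hinj : Function.Injective f) :
    Nat.card ι ≤ 2 ^ finrank K V := by
  classical
  let _ : Fintype {χ : ι → K // simEig f χ ≠ ⊥} :=
    (simEig_iSupIndep h2 f hf hc).fintypeNeBotOfFiniteDimensional
  have h1 := Nat.card_le_card_of_injective _ (injective_weights h2 f hf hc hinj)
  rw [Nat.card_fun, Nat.card_eq_fintype_card (α := Bool),
    Nat.card_eq_fintype_card (α := {χ : ι → K // simEig f χ ≠ ⊥}), Fintype.card_bool] at h1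
  exact h1.trans (Nat.pow_le_pow_right (by norm_num) (card_simEig_ne_bot_le h2 f hf hc))

/-- An injective commuting family of involutions of determinant `1` on an `m`-dimensional space,
`m ≥ 1`, has at most `2 ^ (m - 1)` members. -/
theorem card_le_two_pow_finrank_pred [FiniteDimensional K V] (h2 : (2 : K) ≠ 0) (f : ι → End K V)
    (hf : ∀ i, f i * f i = 1) (hc : ∀ i j, Commute (f i) (f j)) (hinj : Function.Injective f)
    (hdet : ∀ i, LinearMap.det (f i) = 1) (hpos : 0 < finrank K V) :
    Nat.card ι ≤ 2 ^ (finrank K V - 1) := by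
  classical
  let _ : Fintype {χ : ι → K // simEig f χ ≠ ⊥} :=
    (simEig_iSupIndep h2 f hf hc).fintypeNeBotOfFiniteDimensional
  have hle := card_simEig_ne_bot_le h2 f hf hc
  have hinjw := injective_weights h2 f hf hc hinj
  rcases Nat.lt_or_ge (Fintype.card {χ : ι → K // simEig f χ ≠ ⊥}) (finrank K V) with hlt | hge
  · have h1 := Nat.card_le_card_of_injective _ hinjw
    rw [Nat.card_fun, Nat.card_eq_fintype_card (α := Bool),
      Nat.card_eq_fintype_card (α := {χ : ι → K // simEig f χ ≠ ⊥}), Fintype.card_bool] at h1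
    exact h1.trans (Nat.pow_le_pow_right (by norm_num) (by omega))
  · have hcard : Fintype.card {χ : ι → K // simEig f χ ≠ ⊥} = finrank K V := le_antisymm hle hge
    have hne : Nonempty {χ : ι → K // simEig f χ ≠ ⊥} := by
      rw [← Fintype.card_pos_iff, hcard]; exact hpos
    obtain ⟨χ₀⟩ := hne
    have hprod : ∀ i, ∏ χ : {χ : ι → K // simEig f χ ≠ ⊥}, χ.1 i = 1 := fun i => by
      rw [← det_eq_prod_weights h2 f hf hc hcard i, hdet]
    have hne1 : (1 : K) ≠ -1 := by
      intro h
      apply h2
      have : (1 : K) + 1 = 0 := by nth_rewrite 2 [h]; simp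
      rw [← this]; norm_num
    -- drop the coordinate `χ₀`
    have hinj' : Function.Injective
        (fun (i : ι) (χ : {χ : {χ : ι → K // simEig f χ ≠ ⊥} // χ ≠ χ₀}) =>
          decide (χ.1.1 i = 1)) := by
      intro i j hij
      apply hinjw
      have hval : ∀ χ : {χ : ι → K // simEig f χ ≠ ⊥}, χ ≠ χ₀ → χ.1 i = χ.1 j := by
        intro χ hχ
        have h1 := congrFun hij ⟨χ, hχ⟩
        simp only [decide_eq_decide] at h1
        rcases simEig_val f hf χ.1 χ.2 i with hi | hi <;>
          rcases simEig_val f hf χ.1 χ.2 j with hj | hj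
        · rw [hi, hj]
        · exact absurd (h1.mp hi) (by rw [hj]; exact hne1.symm)
        · exact absurd (h1.mpr hj) (by rw [hi]; exact hne1.symm)
        · rw [hi, hj]
      have h0 : χ₀.1 i = χ₀.1 j := by
        have hi := hprod i
        have hj := hprod j
        rw [← Finset.mul_prod_erase Finset.univ _ (Finset.mem_univ χ₀)] at hi hj
        have heq : ∏ χ ∈ Finset.univ.erase χ₀, χ.1 i = ∏ χ ∈ Finset.univ.erase χ₀, χ.1 j :=
          Finset.prod_congr rfl fun χ hχ => hval χ (Finset.ne_of_mem_erase hχ)
        rw [heq] at hi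
        have hnz : ∏ χ ∈ Finset.univ.erase χ₀, χ.1 j ≠ 0 := by
          intro h
          rw [h, mul_zero] at hj
          exact zero_ne_one hj
        exact mul_right_cancel₀ hnz (hi.trans hj.symm)
      funext χ
      by_cases hχ : χ = χ₀
      · show decide (χ.1 i = 1) = decide (χ.1 j = 1)
        rw [hχ, h0]
      · show decide (χ.1 i = 1) = decide (χ.1 j = 1)
        rw [hval χ hχ]
    have h1 := Nat.card_le_card_of_injective _ hinj'
    rw [Nat.card_fun, Nat.card_eq_fintype_card (α := Bool),
      Nat.card_eq_fintype_card (α := {χ : {χ : ι → K // simEig f χ ≠ ⊥} // χ ≠ χ₀}),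
      Fintype.card_bool, Fintype.card_subtype_compl (fun χ : {χ : ι → K // simEig f χ ≠ ⊥} => χ = χ₀),
      Fintype.card_subtype_eq, hcard] at h1
    exact h1

end family

end Cfsg.Agent.Lib.Helper14
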