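import Mathlib
import Cfsg.Prelude.Def_Classical
import Cfsg.Prelude.Def_CaseTheorems
import Cfsg.Prelude.Def_EvenType
import Cfsg.Agent.Lib.Helper14.InvolDiag

/-!
# Transfer between isometry groups

* `glCongr`, `isoCongr`: a linear equivalence `L` with `Q' (L w) = c * Q w` induces an injective
  homomorphism `isometryGroup F Q →* isometryGroup F Q'`;
* `blockHom`: `O(Q₁) →* O(Q₁ ⊞ T)`;
* `omegaMap`: an injective homomorphism of groups maps commutator subgroups injectively;
* `pRankAtLeast_of_injective_hom`.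
-/

set_option autoImplicit false

namespace Cfsg.Agent.Lib.Helper14

open Matrix

section glcongr

variable {F : Type*} [Field F] {ι ι' : Type} [Fintype ι] [DecidableEq ι] [Fintype ι']
  [DecidableEq ι']

/-- Transport of matrices along a linear equivalence of the coordinate spaces. -/
noncomputable def matCongr (L : (ι → F) ≃ₗ[F] (ι' → F)) : Matrix ι ι F ≃+* Matrix ι' ι' F :=
  ((Matrix.toLinAlgEquiv' (R := F) (n := ι)).toRingEquiv.trans L.conjRingEquiv).trans
    (Matrix.toLinAlgEquiv' (R := F) (n := ι')).symm.toRingEquiv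

theorem matCongr_mulVec (L : (ι → F) ≃ₗ[F] (ι' → F)) (M : Matrix ι ι F) (w : ι → F) :
    matCongr L M *ᵥ L w = L (M *ᵥ w) := by
  have h : matCongr L M = LinearMap.toMatrix' (L.conjRingEquiv (Matrix.toLin' M)) := rfl
  rw [h, LinearMap.toMatrix'_mulVec]
  show L ((Matrix.toLin' M) (L.symm (L w))) = L (M *ᵥ w)
  rw [L.symm_apply_apply, Matrix.toLin'_apply]

/-- Transport of `GL` along a linear equivalence of the coordinate spaces. -/
noncomputable def glCongr (L : (ι → F) ≃ₗ[F] (ι' → F)) : GL ι F ≃* GL ι' F :=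
  Units.mapEquiv (matCongr L).toMulEquiv

theorem glCongr_mulVec (L : (ι → F) ≃ₗ[F] (ι' → F)) (g : GL ι F) (w : ι → F) :
    ((glCongr L g : GL ι' F) : Matrix ι' ι' F) *ᵥ L w = L ((g : Matrix ι ι F) *ᵥ w) :=
  matCongr_mulVec L g.1 w

/-- A similitude between two forms induces a homomorphism of isometry groups. -/
noncomputable def isoCongr (Q : (ι → F) → F) (Q' : (ι' → F) → F) (L : (ι → F) ≃ₗ[F] (ι' → F))
    (c : F) (hL : ∀ w, Q' (L w) = c * Q w) :
    Cfsg.isometryGroup F Q →* Cfsg.isometryGroup F Q' where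
  toFun g := ⟨glCongr L g.1, by
    intro u _
    show Q' (((glCongr L g.1 : GL ι' F) : Matrix ι' ι' F) *ᵥ u) = Q' u
    have hu : u = L (L.symm u) := (L.apply_symm_apply u).symm
    have h2 : Q ((g.1 : Matrix ι ι F) *ᵥ L.symm u) = Q (L.symm u) := g.2 _ (0 : ι → F)
    rw [hu, glCongr_mulVec, hL, h2, ← hL]⟩
  map_one' := by
    apply Subtype.ext
    show glCongr L (1 : GL ι F) = 1
    exact map_one _
  map_mul' g h := by
    apply Subtype.ext
    show glCongr L (g.1 * h.1) = glCongr L g.1 * glCongr L h.1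
    exact map_mul _ _ _

theorem isoCongr_injective (Q : (ι → F) → F) (Q' : (ι' → F) → F) (L : (ι → F) ≃ₗ[F] (ι' → F))
    (c : F) (hL : ∀ w, Q' (L w) = c * Q w) : Function.Injective (isoCongr Q Q' L c hL) := by
  intro g h hgh
  have h1 : glCongr L g.1 = glCongr L h.1 := congrArg Subtype.val hgh
  exact Subtype.ext ((glCongr L).injective h1)

end glcongr

section block

variable {F : Type*} [Field F] {ι τ : Type} [Fintype ι] [DecidableEq ι] [Fintype τ]
  [DecidableEq τ]

/-- The block embedding `g ↦ g ⊕ 1` of `GL`. -/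
def glBlock : GL ι F →* GL (ι ⊕ τ) F where
  toFun g := ⟨fromBlocks g.1 0 0 1, fromBlocks (g⁻¹ : GL ι F).1 0 0 1,
    by rw [fromBlocks_multiply]; simp,
    by rw [fromBlocks_multiply]; simp⟩
  map_one' := by
    apply Units.ext
    show fromBlocks (1 : Matrix ι ι F) 0 0 1 = 1
    exact fromBlocks_one
  map_mul' g h := by
    apply Units.ext
    show fromBlocks (g.1 * h.1) 0 0 1 = fromBlocks g.1 0 0 1 * fromBlocks h.1 0 0 1
    rw [fromBlocks_multiply]
    simp

theorem glBlock_val (g : GL ι F) :
    ((glBlock (τ := τ) g : GL (ι ⊕ τ) F) : Matrix (ι ⊕ τ) (ι ⊕ τ) F) = fromBlocks g.1 0 0 1 := rfl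

theorem glBlock_injective : Function.Injective (glBlock (F := F) (ι := ι) (τ := τ)) := by
  intro g h hgh
  have h1 : fromBlocks g.1 (0 : Matrix ι τ F) (0 : Matrix τ ι F) 1 = fromBlocks h.1 0 0 1 := by
    rw [← glBlock_val, ← glBlock_val, hgh]
  exact Units.ext (fromBlocks_inj.mp h1).1

theorem glBlock_mulVec (g : GL ι F) (v : ι ⊕ τ → F) :
    ((glBlock (τ := τ) g : GL (ι ⊕ τ) F) : Matrix (ι ⊕ τ) (ι ⊕ τ) F) *ᵥ v =
      Sum.elim (g.1 *ᵥ (fun i => v (Sum.inl i))) (fun j => v (Sum.inr j)) := by
  rw [glBlock_val]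
  have hv : v = Sum.elim (fun i => v (Sum.inl i)) (fun j => v (Sum.inr j)) := by
    funext x; rcases x with x | x <;> rfl
  conv_lhs => rw [hv]
  rw [fromBlocks_mulVec]
  simp

/-- The block embedding of isometry groups `O(Q₁) →* O(Q₁ ⊞ T)`. -/
def blockHom (Q₁ : (ι → F) → F) (T : (τ → F) → F) (Q : (ι ⊕ τ → F) → F)
    (hQ : ∀ v, Q v = Q₁ (fun i => v (Sum.inl i)) + T (fun j => v (Sum.inr j))) :
    Cfsg.isometryGroup F Q₁ →* Cfsg.isometryGroup F Q where
  toFun g := ⟨glBlock g.1, by
    intro u _
    show Q (((glBlock (τ := τ) g.1 : GL (ι ⊕ τ) F) : Matrix (ι ⊕ τ) (ι ⊕ τ) F) *ᵥ u) = Q u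
    rw [glBlock_mulVec, hQ, hQ]
    simp only [Sum.elim_inl, Sum.elim_inr]
    congr 1
    exact g.2 _ (0 : ι → F)⟩
  map_one' := by
    apply Subtype.ext
    show glBlock (1 : GL ι F) = 1
    exact map_one _
  map_mul' g h := by
    apply Subtype.ext
    show glBlock (g.1 * h.1) = glBlock g.1 * glBlock h.1
    exact map_mul _ _ _

theorem blockHom_injective (Q₁ : (ι → F) → F) (T : (τ → F) → F) (Q : (ι ⊕ τ → F) → F)
    (hQ : ∀ v, Q v = Q₁ (fun i => v (Sum.inl i)) + T (fun j => v (Sum.inr j))) :
    Function.Injective (blockHom Q₁ T Q hQ) := by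
  intro g h hgh
  have h1 : glBlock (τ := τ) g.1 = glBlock h.1 := congrArg Subtype.val hgh
  exact Subtype.ext (glBlock_injective h1)

end block

section omega

/-- An injective homomorphism induces an injective homomorphism of commutator subgroups. -/
def commMap {G H : Type*} [Group G] [Group H] (φ : G →* H) : commutator G →* commutator H :=
  (φ.comp (commutator G).subtype).codRestrict (commutator H) (by
    intro x
    have h1 : φ x.1 ∈ (commutator G).map φ := Subgroup.mem_map_of_mem _ x.2
    rw [_root_.map_commutator_eq] at h1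
    rw [commutator_def]
    exact Subgroup.commutator_mono le_top le_top h1)

theorem commMap_injective {G H : Type*} [Group G] [Group H] (φ : G →* H)
    (hφ : Function.Injective φ) : Function.Injective (commMap φ) := by
  intro x y hxy
  have h1 : φ x.1 = φ y.1 := congrArg Subtype.val hxy
  exact Subtype.ext (hφ h1)

theorem commMap_val {G H : Type*} [Group G] [Group H] (φ : G →* H) (x : commutator G) :
    (commMap φ x : H) = φ x.1 := rfl

/-- The `p`-rank is monotone along injective homomorphisms. -/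
theorem pRankAtLeast_of_injective_hom {G H : Type*} [Group G] [Group H] (φ : G →* H)
    (hφ : Function.Injective φ) (p k : ℕ) (h : Cfsg.PRankAtLeast p k G) :
    Cfsg.PRankAtLeast p k H := by
  obtain ⟨A, hA, hexp, hcard⟩ := h
  refine ⟨A.map φ, ?_, ?_, ?_⟩
  · exact Subgroup.map_isMulCommutative A φ
  · rintro _ ⟨a, ha, rfl⟩
    rw [← map_pow, hexp a ha, map_one]
  · rw [Subgroup.card_map_of_injective hφ]
    exact hcard

end omega

section sign

/-- A fixed-point-free involution on a set with `4k + 2` elements is an odd permutation. -/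
theorem sign_eq_neg_one_of_involution {X : Type*} [Fintype X] [DecidableEq X] (π : Equiv.Perm X)
    (hπ : π * π = 1) (hfix : ∀ x, π x ≠ x) (hcard : Fintype.card X % 4 = 2) :
    Equiv.Perm.sign π = -1 := by
  have hne : Nonempty X := by
    rw [← Fintype.card_pos_iff]; omega
  obtain ⟨x₀⟩ := hne
  have hπ1 : π ≠ 1 := by
    intro h
    exact hfix x₀ (by rw [h]; rfl)
  have hord : orderOf π = 2 := orderOf_eq_prime (by rw [pow_two]; exact hπ) hπ1
  obtain ⟨k, hk⟩ := Equiv.Perm.cycleType_prime_order (by rw [hord]; exact Nat.prime_two)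
  rw [hord] at hk
  have hsupp : π.support = Finset.univ := by
    ext x
    simp only [Equiv.Perm.mem_support, Finset.mem_univ, iff_true]
    exact hfix x
  have hsum : π.cycleType.sum = Fintype.card X := by
    rw [Equiv.Perm.sum_cycleType, hsupp, Finset.card_univ]
  rw [hk, Multiset.sum_replicate, smul_eq_mul] at hsum
  rw [Equiv.Perm.sign_of_cycleType, hk, Multiset.sum_replicate, Multiset.card_replicate,
    smul_eq_mul]
  have hodd : Odd ((k + 1) * 2 + (k + 1)) := by
    rw [Nat.odd_iff]; omega
  exact hodd.neg_one_pow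

variable {F : Type*} [Field F] [Fintype F] [DecidableEq F] {ι : Type} [Fintype ι] [DecidableEq ι]

/-- The action of the isometry group on a level set of the form. -/
def levelPerm (Q : (ι → F) → F) (c : F) :
    Cfsg.isometryGroup F Q →* Equiv.Perm {v : ι → F // Q v = c} where
  toFun g :=
    { toFun := fun v => ⟨(g.1 : Matrix ι ι F) *ᵥ v.1, (g.2 v.1 (0 : ι → F)).trans v.2⟩
      invFun := fun v => ⟨((g⁻¹ : Cfsg.isometryGroup F Q).1 : Matrix ι ι F) *ᵥ v.1,
        ((g⁻¹).2 v.1 (0 : ι → F)).trans v.2⟩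
      left_inv := fun v => by
        apply Subtype.ext
        show ((g⁻¹ : Cfsg.isometryGroup F Q).1 : Matrix ι ι F) *ᵥ ((g.1 : Matrix ι ι F) *ᵥ v.1) = v.1
        rw [mulVec_mulVec]
        have : ((g⁻¹ : Cfsg.isometryGroup F Q).1 : Matrix ι ι F) * (g.1 : Matrix ι ι F) = 1 := by
          have h := inv_mul_cancel g
          have h2 := congrArg (fun x : Cfsg.isometryGroup F Q => ((x.1 : GL ι F) : Matrix ι ι F)) h
          exact h2
        rw [this, one_mulVec]
      right_inv := fun v => by
        apply Subtype.ext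
        show (g.1 : Matrix ι ι F) *ᵥ (((g⁻¹ : Cfsg.isometryGroup F Q).1 : Matrix ι ι F) *ᵥ v.1) = v.1
        rw [mulVec_mulVec]
        have : (g.1 : Matrix ι ι F) * ((g⁻¹ : Cfsg.isometryGroup F Q).1 : Matrix ι ι F) = 1 := by
          have h := mul_inv_cancel g
          have h2 := congrArg (fun x : Cfsg.isometryGroup F Q => ((x.1 : GL ι F) : Matrix ι ι F)) h
          exact h2
        rw [this, one_mulVec] }
  map_one' := by
    apply Equiv.ext
    intro v
    apply Subtype.ext
    show (((1 : Cfsg.isometryGroup F Q).1 : GL ι F) : Matrix ι ι F) *ᵥ v.1 = v.1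
    show (1 : Matrix ι ι F) *ᵥ v.1 = v.1
    rw [one_mulVec]
  map_mul' g h := by
    apply Equiv.ext
    intro v
    apply Subtype.ext
    show (((g * h : Cfsg.isometryGroup F Q).1 : GL ι F) : Matrix ι ι F) *ᵥ v.1 =
      (g.1 : Matrix ι ι F) *ᵥ ((h.1 : Matrix ι ι F) *ᵥ v.1)
    rw [mulVec_mulVec]
    rfl

omit [Fintype F] [DecidableEq F] in
theorem levelPerm_apply (Q : (ι → F) → F) (c : F) (g : Cfsg.isometryGroup F Q)
    (v : {v : ι → F // Q v = c}) : (levelPerm Q c g v).1 = (g.1 : Matrix ι ι F) *ᵥ v.1 := rfl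

/-- If a nonzero level set has `4k + 2` elements, then `-1` is not in `Ω`. -/
theorem neg_one_not_mem_Omega (h2 : (2 : F) ≠ 0) (Q : (ι → F) → F) (hQ0 : Q 0 = 0) (c : F)
    (hc : c ≠ 0) (hcard : Fintype.card {v : ι → F // Q v = c} % 4 = 2)
    (x : Cfsg.isometryGroup F Q) (hx : ((x.1 : GL ι F) : Matrix ι ι F) = -1) :
    x ∉ Cfsg.Omega F Q := by
  intro hmem
  let σ : Cfsg.isometryGroup F Q →* ℤˣ := Equiv.Perm.sign.comp (levelPerm Q c)
  have h1 : x ∈ σ.ker := Abelianization.commutator_subset_ker σ hmem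
  have h3 : Equiv.Perm.sign (levelPerm Q c x) = 1 := h1
  have hval : ∀ v : {v : ι → F // Q v = c}, (levelPerm Q c x v).1 = -v.1 := by
    intro v
    rw [levelPerm_apply, hx, neg_mulVec, one_mulVec]
  have h4 : Equiv.Perm.sign (levelPerm Q c x) = -1 := by
    apply sign_eq_neg_one_of_involution _ _ _ hcard
    · apply Equiv.ext
      intro v
      apply Subtype.ext
      show (levelPerm Q c x (levelPerm Q c x v)).1 = v.1
      rw [hval, hval, neg_neg]
    · intro v hv
      have h5 : -v.1 = v.1 := by rw [← hval, hv]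
      have h6 : v.1 = 0 := by
        funext i
        have h7 := congrFun h5 i
        simp only [Pi.neg_apply] at h7
        have h8 : (2 : F) * v.1 i = 0 := by linear_combination -h7
        exact (mul_eq_zero.mp h8).resolve_left h2
      apply hc
      rw [← v.2, h6, hQ0]
  rw [h3] at h4
  exact absurd h4 (by decide)

end sign

section doubling

variable {F : Type*} [Field F] {ι : Type} [Fintype ι] [DecidableEq ι]

/-- Elements of the commutator subgroup of an isometry group have determinant one. -/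
theorem det_eq_one_of_mem_Omega' (Q : (ι → F) → F)
    (x : Cfsg.isometryGroup F Q) (hx : x ∈ Cfsg.Omega F Q) :
    (x.1 : Matrix ι ι F).det = 1 := by
  let detHom : Cfsg.isometryGroup F Q →* Fˣ :=
    (Matrix.GeneralLinearGroup.det).comp (Subgroup.subtype _)
  have h1 : x ∈ detHom.ker := Abelianization.commutator_subset_ker detHom hx
  have h2 : Matrix.GeneralLinearGroup.det x.1 = 1 := h1
  have h3 := congrArg Units.val h2
  simpa using h3

/-- If `-1` is not in `Ω` and the dimension is even, the `2`-rank of `Ω` is at most `dim - 2`. -/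
theorem pRankLE_of_neg_one_not_mem (h2 : (2 : F) ≠ 0) (Q : (ι → F) → F)
    (hd : Even (Fintype.card ι)) (hpos : 2 ≤ Fintype.card ι)
    (hneg : ∀ x : Cfsg.isometryGroup F Q, ((x.1 : GL ι F) : Matrix ι ι F) = -1 →
      x ∉ Cfsg.Omega F Q) :
    Cfsg.PRankLE 2 (Fintype.card ι - 2) ↥(Cfsg.Omega F Q) := by
  intro A hA hexp
  let T : A → Module.End F (ι → F) := fun a => Matrix.toLin' (a.1.1.1 : Matrix ι ι F)
  have hmul : ∀ a b : A, T (a * b) = T a * T b := by
    intro a b
    show Matrix.toLin' (((a.1.1.1 * b.1.1.1 : GL ι F)) : Matrix ι ι F) = _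
    rw [Units.val_mul, Matrix.toLin'_mul]
    rfl
  have hone : T 1 = 1 := by
    show Matrix.toLin' (((1 : GL ι F)) : Matrix ι ι F) = _
    rw [Units.val_one, Matrix.toLin'_one]
    rfl
  have hsq : ∀ a : A, a * a = 1 := by
    intro a
    apply Subtype.ext
    have := hexp a.1 a.2
    rw [pow_two] at this
    exact this
  have hT : ∀ a, T a * T a = 1 := by
    intro a
    rw [← hmul, hsq, hone]
  have hTinj : Function.Injective T := by
    intro a b hab
    have := Matrix.toLin'.injective hab
    exact Subtype.ext (Subtype.ext (Subtype.ext (Units.ext this)))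
  have hTc : ∀ a b, T a * T b = T b * T a := by
    intro a b
    rw [← hmul, ← hmul, hA.is_comm.comm a b]
  have hTdet : ∀ a, LinearMap.det (T a) = 1 := by
    intro a
    show LinearMap.det (Matrix.toLin' (a.1.1.1 : Matrix ι ι F)) = 1
    rw [LinearMap.det_toLin']
    exact det_eq_one_of_mem_Omega' Q a.1.1 a.1.2
  have hTneg : ∀ a, T a ≠ -1 := by
    intro a ha
    apply hneg a.1.1 _ a.1.2
    apply Matrix.toLin'.injective
    rw [map_neg, Matrix.toLin'_one]
    exact ha
  let s : Bool → F := fun b => if b then -1 else 1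
  have hs : ∀ b, s b * s b = 1 := by
    intro b; cases b <;> simp [s]
  let f : A × Bool → Module.End F (ι → F) := fun x => s x.2 • T x.1
  have hf : ∀ x, f x * f x = 1 := by
    intro x
    show (s x.2 • T x.1) * (s x.2 • T x.1) = 1
    rw [smul_mul_smul_comm, hs, hT, one_smul]
  have hc : ∀ x y, Commute (f x) (f y) := by
    intro x y
    show (s x.2 • T x.1) * (s y.2 • T y.1) = (s y.2 • T y.1) * (s x.2 • T x.1)
    rw [smul_mul_smul_comm, smul_mul_smul_comm, hTc, mul_comm (s x.2)]
  have hinj : Function.Injective f := by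
    rintro ⟨a, b⟩ ⟨a', b'⟩ hab
    have hab' : s b • T a = s b' • T a' := hab
    by_cases hbb : b = b'
    · subst hbb
      have hsb : s b ≠ 0 := by
        intro h0
        have := hs b
        rw [h0, mul_zero] at this
        exact zero_ne_one this
      have : T a = T a' := smul_right_injective _ hsb hab'
      rw [hTinj this]
    · exfalso
      have hTaa : T a = -T a' := by
        cases b <;> cases b'
        · exact absurd rfl hbb
        · have h1 : (1 : F) • T a = (-1 : F) • T a' := hab'
          exact (one_smul F (T a)).symm.trans (h1.trans (neg_one_smul F (T a')))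
        · have h1 : (-1 : F) • T a = (1 : F) • T a' := hab'
          have h3 : -T a = T a' := (neg_one_smul F (T a)).symm.trans (h1.trans (one_smul F (T a')))
          exact neg_eq_iff_eq_neg.mp h3
        · exact absurd rfl hbb
      apply hTneg (a * a')
      rw [hmul, hTaa]
      exact (neg_mul (T a') (T a')).trans (congrArg Neg.neg (hT a'))
  have hdet : ∀ x, LinearMap.det (f x) = 1 := by
    intro x
    show LinearMap.det (s x.2 • T x.1) = 1
    rw [LinearMap.det_smul, hTdet, mul_one, Module.finrank_fintype_fun_eq_card]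
    obtain ⟨k, hk⟩ := hd
    rw [hk, ← two_mul, pow_mul, pow_two, hs, one_pow]
  have hfr : Module.finrank F (ι → F) = Fintype.card ι := by simp
  have key := card_le_two_pow_finrank_pred h2 f hf hc hinj hdet (by rw [hfr]; omega)
  rw [hfr, Nat.card_prod, Nat.card_eq_fintype_card (α := Bool), Fintype.card_bool] at key
  have hpow : 2 ^ (Fintype.card ι - 1) = 2 ^ (Fintype.card ι - 2) * 2 := by
    rw [← pow_succ]
    congr 1
    omega
  rw [hpow] at key
  exact Nat.le_of_mul_le_mul_right key (by norm_num)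

end doubling

end Cfsg.Agent.Lib.Helper14
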