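import Cfsg.Agent.Lib.Helper14.GL2Cent

/-!
# `SL₂` over a finite field: order, conjugacy to companion matrices
-/

set_option autoImplicit false

namespace Cfsg.Agent.Lib.Helper14

open Matrix

variable {F : Type*} [Field F]

section card

variable [Fintype F]

omit [Fintype F] in
theorem det_surjective_GL2 : Function.Surjective (Matrix.GeneralLinearGroup.det : GL (Fin 2) F →* Fˣ) := by
  intro u
  refine ⟨Matrix.GeneralLinearGroup.mkOfDetNeZero !![(u : F), 0; 0, 1] (by simp [Matrix.det_fin_two]), ?_⟩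
  apply Units.ext
  simp [Matrix.GeneralLinearGroup.mkOfDetNeZero, Matrix.det_fin_two]

omit [Fintype F] in
theorem card_ker_det_GL2 :
    Nat.card (Matrix.GeneralLinearGroup.det : GL (Fin 2) F →* Fˣ).ker =
      Nat.card (SpecialLinearGroup (Fin 2) F) := by
  symm
  let φ : SpecialLinearGroup (Fin 2) F → (Matrix.GeneralLinearGroup.det : GL (Fin 2) F →* Fˣ).ker :=
    fun A => ⟨SpecialLinearGroup.toGL A, by
      rw [MonoidHom.mem_ker]
      apply Units.ext
      simp⟩
  apply Nat.card_eq_of_bijective φ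
  constructor
  · intro A B h
    have := congrArg (fun z : (Matrix.GeneralLinearGroup.det : GL (Fin 2) F →* Fˣ).ker => (z : GL (Fin 2) F)) h
    exact SpecialLinearGroup.toGL_injective this
  · rintro ⟨g, hg⟩
    rw [MonoidHom.mem_ker] at hg
    have hdet : (g : Matrix (Fin 2) (Fin 2) F).det = 1 := by
      have := congrArg (fun u : Fˣ => (u : F)) hg
      simpa using this
    refine ⟨⟨(g : Matrix (Fin 2) (Fin 2) F), hdet⟩, ?_⟩
    apply Subtype.ext
    apply Units.ext
    rfl

/-- `|SL₂(F)| = q (q² - 1)`. -/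
theorem card_SL2 : Nat.card (SpecialLinearGroup (Fin 2) F) = Fintype.card F * (Fintype.card F ^ 2 - 1) := by
  classical
  have h1 := Subgroup.card_mul_index (Matrix.GeneralLinearGroup.det : GL (Fin 2) F →* Fˣ).ker
  rw [Subgroup.index_ker, MonoidHom.range_eq_top.mpr det_surjective_GL2, Subgroup.card_top,
    card_ker_det_GL2, Matrix.card_GL_field, Nat.card_eq_fintype_card (α := Fˣ), Fintype.card_units] at h1
  simp only [Fin.prod_univ_two, Fin.val_zero, pow_zero, Fin.val_one, pow_one] at h1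
  have hq : 2 ≤ Fintype.card F := Fintype.one_lt_card
  obtain ⟨k, hk⟩ : ∃ k, Fintype.card F = k + 2 := ⟨Fintype.card F - 2, by omega⟩
  rw [hk] at h1 ⊢
  have e1 : k + 2 - 1 = k + 1 := by omega
  have e2 : (k + 2) ^ 2 - (k + 2) = (k + 2) * (k + 1) := by
    have : (k + 2) ^ 2 = (k + 2) * (k + 1) + (k + 2) := by ring
    omega
  rw [e1, e2] at h1
  have h2 : Nat.card (SpecialLinearGroup (Fin 2) F) * (k + 1) = ((k + 2) * ((k + 2) ^ 2 - 1)) * (k + 1) := by
    rw [h1]; ring
  exact Nat.eq_of_mul_eq_mul_right (by omega) h2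

end card

/-- the companion matrix of trace `t` in `SL₂`. -/
def comp2SL (t : F) : SpecialLinearGroup (Fin 2) F := ⟨comp2 t 1, by simp⟩

@[simp] theorem comp2SL_coe (t : F) :
    ((comp2SL t : SpecialLinearGroup (Fin 2) F) : Matrix (Fin 2) (Fin 2) F) = comp2 t 1 := rfl

/-- transformation of the cyclic form under `v ↦ (a + b M) v`. -/
theorem cyc2_transform (M : Matrix (Fin 2) (Fin 2) F) (x y a b : F) :
    cyc2 M (a * x + b * (M 0 0 * x + M 0 1 * y)) (a * y + b * (M 1 0 * x + M 1 1 * y)) =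
      (a ^ 2 + M.trace * a * b + M.det * b ^ 2) * cyc2 M x y := by
  simp only [cyc2, Matrix.trace_fin_two, Matrix.det_fin_two]
  ring

/-- If the cyclic form of `g ∈ SL₂` represents `1`, then `g` is conjugate in `SL₂` to the
companion matrix of its trace. -/
theorem isConj_comp2SL_of_cyc2 (g : SpecialLinearGroup (Fin 2) F) (x y : F)
    (h : cyc2 (g : Matrix (Fin 2) (Fin 2) F) x y = 1) :
    IsConj g (comp2SL (g : Matrix (Fin 2) (Fin 2) F).trace) := by
  rw [isConj_comm, isConj_iff]
  refine ⟨⟨cycMat2 (g : Matrix (Fin 2) (Fin 2) F) x y, by rw [det_cycMat2, h]⟩, ?_⟩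
  apply mul_inv_eq_of_eq_mul
  apply Subtype.ext
  show cycMat2 (g : Matrix (Fin 2) (Fin 2) F) x y * comp2 _ 1 = (g : Matrix (Fin 2) (Fin 2) F) * cycMat2 _ x y
  rw [mul_cycMat2, g.det_coe]

/-- The norm form `a² + t a b + b²` with `t² ≠ 4` is universal over a finite field. -/
theorem exists_norm_eq [Fintype F] (t c : F) (ht : t ^ 2 ≠ 4) :
    ∃ a b : F, a ^ 2 + t * a * b + b ^ 2 = c := by
  by_cases h2 : ringChar F = 2
  · obtain ⟨a, ha⟩ := FiniteField.isSquare_of_char_two h2 c
    exact ⟨a, 0, by rw [ha]; ring⟩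
  · have h2' : (2 : F) ≠ 0 := by
      intro h
      apply h2
      exact (ringChar.eq_iff.mpr (by
        have : CharP F (ringChar F) := ringChar.charP F
        have : ringChar F ∣ 2 := by
          rw [← CharP.cast_eq_zero_iff F (ringChar F)]; exact_mod_cast h
        have hp : (ringChar F).Prime := CharP.char_is_prime F (ringChar F)
        have := (Nat.prime_dvd_prime_iff_eq hp Nat.prime_two).mp this
        rw [← this]; infer_instance))
    have hodd : Fintype.card F % 2 = 1 := FiniteField.odd_card_of_char_ne_two h2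
    have hd : (1 - t ^ 2 / 4 : F) ≠ 0 := by
      intro h
      apply ht
      have h4 : (4 : F) ≠ 0 := by
        have : (4 : F) = 2 * 2 := by norm_num
        rw [this]; exact mul_ne_zero h2' h2'
      field_simp at h
      linear_combination -h
    obtain ⟨a, b, hab⟩ := FiniteField.exists_root_sum_quadratic
      (f := Polynomial.X ^ 2 - Polynomial.C c) (g := Polynomial.C (1 - t ^ 2 / 4) * Polynomial.X ^ 2)
      (by rw [Polynomial.degree_X_pow_sub_C (by norm_num)]; rfl)
      (by rw [Polynomial.degree_C_mul_X_pow 2 hd]; rfl) hodd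
    simp only [Polynomial.eval_sub, Polynomial.eval_pow, Polynomial.eval_X, Polynomial.eval_C,
      Polynomial.eval_mul] at hab
    refine ⟨a - t * b / 2, b, ?_⟩
    have h4 : (4 : F) ≠ 0 := by
      have : (4 : F) = 2 * 2 := by norm_num
      rw [this]; exact mul_ne_zero h2' h2'
    field_simp
    field_simp at hab
    linear_combination hab

/-- A non-scalar element of `SL₂` over a finite field whose trace `t` satisfies `t² ≠ 4` is
conjugate in `SL₂` to the companion matrix. -/
theorem isConj_comp2SL [Fintype F] (g : SpecialLinearGroup (Fin 2) F)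
    (hg : ¬ IsScalar2 (g : Matrix (Fin 2) (Fin 2) F))
    (ht : (g : Matrix (Fin 2) (Fin 2) F).trace ^ 2 ≠ 4) :
    IsConj g (comp2SL (g : Matrix (Fin 2) (Fin 2) F).trace) := by
  obtain ⟨x, y, hxy⟩ := exists_cyc2_ne_zero _ hg
  obtain ⟨a, b, hab⟩ := exists_norm_eq (g : Matrix (Fin 2) (Fin 2) F).trace
    (cyc2 (g : Matrix (Fin 2) (Fin 2) F) x y)⁻¹ ht
  refine isConj_comp2SL_of_cyc2 g
    (a * x + b * ((g : Matrix (Fin 2) (Fin 2) F) 0 0 * x + (g : Matrix (Fin 2) (Fin 2) F) 0 1 * y))
    (a * y + b * ((g : Matrix (Fin 2) (Fin 2) F) 1 0 * x + (g : Matrix (Fin 2) (Fin 2) F) 1 1 * y)) ?_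
  · rw [cyc2_transform, g.det_coe]
    have : a ^ 2 + (g : Matrix (Fin 2) (Fin 2) F).trace * a * b + 1 * b ^ 2 =
        (cyc2 (g : Matrix (Fin 2) (Fin 2) F) x y)⁻¹ := by rw [← hab]; ring
    rw [this, inv_mul_cancel₀ hxy]

end Cfsg.Agent.Lib.Helper14
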