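import Mathlib
set_option autoImplicit false
namespace Cfsg.Agent.Lib.Helper14
open Matrix

/-!
# The subgroup `SL₂(F) ≀ S_l` of `Sp_{2l}(F)`

We embed `l → SL₂(F)` block-diagonally into `Matrix.symplecticGroup l F`, embed `Perm l` by
permutation matrices, show the product set is a subgroup `wreathSp` of order `#SL₂(F)^#l * (#l)!`,
and construct the diagonal `±1` subgroup `signSp` (elementary abelian of order `2^#l`), which is
normalised by `wreathSp`.
-/

section
variable {F : Type*} [Field F] {l : Type*} [Fintype l] [DecidableEq l]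

/-- Block-diagonal matrix of a family of `SL₂` matrices. -/
def sl2Mat (s : l → SpecialLinearGroup (Fin 2) F) : Matrix (l ⊕ l) (l ⊕ l) F :=
  fromBlocks (diagonal fun i => (s i).1 0 0) (diagonal fun i => (s i).1 0 1)
    (diagonal fun i => (s i).1 1 0) (diagonal fun i => (s i).1 1 1)

theorem sl2Mat_mem (s : l → SpecialLinearGroup (Fin 2) F) : sl2Mat s ∈ symplecticGroup l F := by
  rw [sl2Mat, SymplecticGroup.fromBlocks_mem_iff]
  simp only [diagonal_transpose, diagonal_mul_diagonal]
  refine ⟨?_, ?_, ?_⟩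
  · congr 1
    funext i
    ring
  · congr 1
    funext i
    ring
  · rw [diagonal_sub, ← diagonal_one]
    congr 1
    funext i
    have h := (s i).2
    rw [det_fin_two] at h
    linear_combination h

theorem sl2Mat_mul (s t : l → SpecialLinearGroup (Fin 2) F) :
    sl2Mat (s * t) = sl2Mat s * sl2Mat t := by
  simp only [sl2Mat, fromBlocks_multiply, diagonal_mul_diagonal, diagonal_add]
  congr 1 <;>
  · congr 1
    funext i
    simp [Pi.mul_apply, mul_apply, Fin.sum_univ_two]

theorem sl2Mat_one : sl2Mat (1 : l → SpecialLinearGroup (Fin 2) F) = 1 := by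
  simp only [sl2Mat, Pi.one_apply]
  rw [← fromBlocks_one]
  congr 1 <;> simp

/-- The block-diagonal embedding `(l → SL₂(F)) →* Sp_{2l}(F)`. -/
def sl2ToSp : (l → SpecialLinearGroup (Fin 2) F) →* symplecticGroup l F where
  toFun s := ⟨sl2Mat s, sl2Mat_mem s⟩
  map_one' := Subtype.ext sl2Mat_one
  map_mul' s t := Subtype.ext (sl2Mat_mul s t)

theorem sl2ToSp_val (s : l → SpecialLinearGroup (Fin 2) F) :
    ((sl2ToSp s : symplecticGroup l F) : Matrix (l ⊕ l) (l ⊕ l) F) = sl2Mat s := rfl

theorem sl2Mat_injective : Function.Injective (sl2Mat (F := F) (l := l)) := by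
  intro s t h
  simp only [sl2Mat, fromBlocks_inj] at h
  obtain ⟨h1, h2, h3, h4⟩ := h
  funext i
  have e1 := congrFun (diagonal_injective h1) i
  have e2 := congrFun (diagonal_injective h2) i
  have e3 := congrFun (diagonal_injective h3) i
  have e4 := congrFun (diagonal_injective h4) i
  apply Matrix.SpecialLinearGroup.ext
  intro a b
  fin_cases a <;> fin_cases b
  · exact e1
  · exact e2
  · exact e3
  · exact e4

theorem sl2ToSp_injective : Function.Injective (sl2ToSp (F := F) (l := l)) := by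
  intro s t h
  exact sl2Mat_injective (congrArg Subtype.val h)

/-- The permutation matrix `fromBlocks Q 0 0 Q`. -/
def permMat (F : Type*) [Field F] (σ : Equiv.Perm l) : Matrix (l ⊕ l) (l ⊕ l) F :=
  fromBlocks (permMatrixHom σ) 0 0 (permMatrixHom σ)

theorem permMatrixHom_transpose_mul (σ : Equiv.Perm l) :
    (permMatrixHom (R := F) σ)ᵀ * permMatrixHom σ = 1 := by
  have h1 : (permMatrixHom (R := F) σ)ᵀ = permMatrixHom σ⁻¹ := by
    simp only [permMatrixHom_apply, transpose_permMatrix]
  rw [h1, ← map_mul, inv_mul_cancel, map_one]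

theorem permMat_mem (σ : Equiv.Perm l) : permMat F σ ∈ symplecticGroup l F := by
  rw [permMat, SymplecticGroup.fromBlocks_mem_iff]
  refine ⟨by simp, by simp, ?_⟩
  rw [permMatrixHom_transpose_mul]
  simp

/-- The embedding `Perm l →* Sp_{2l}(F)`. -/
def permSp : Equiv.Perm l →* symplecticGroup l F where
  toFun σ := ⟨permMat F σ, permMat_mem σ⟩
  map_one' := by
    apply Subtype.ext
    show permMat F 1 = 1
    rw [permMat, map_one, fromBlocks_one]
  map_mul' σ τ := by
    apply Subtype.ext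
    show permMat F (σ * τ) = permMat F σ * permMat F τ
    simp only [permMat, fromBlocks_multiply, map_mul]
    simp

theorem permSp_val (σ : Equiv.Perm l) :
    ((permSp σ : symplecticGroup l F) : Matrix (l ⊕ l) (l ⊕ l) F) = permMat F σ := rfl

theorem permMatrixHom_apply_apply (σ : Equiv.Perm l) (i j : l) :
    (permMatrixHom (R := F) σ) i j = if σ⁻¹ i = j then 1 else 0 := by
  simp [permMatrixHom_apply, Equiv.Perm.permMatrix, PEquiv.toMatrix_apply, Equiv.toPEquiv_apply]

theorem permMatrixHom_mul_diagonal (σ : Equiv.Perm l) (a : l → F) :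
    permMatrixHom (R := F) σ * diagonal a = diagonal (fun i => a (σ⁻¹ i)) * permMatrixHom σ := by
  ext i j
  rw [mul_diagonal, diagonal_mul, permMatrixHom_apply_apply]
  split_ifs with h
  · rw [h, mul_comm]
  · simp

theorem permMat_mul_sl2Mat (σ : Equiv.Perm l) (s : l → SpecialLinearGroup (Fin 2) F) :
    permMat F σ * sl2Mat s = sl2Mat (fun i => s (σ⁻¹ i)) * permMat F σ := by
  simp only [permMat, sl2Mat, fromBlocks_multiply, permMatrixHom_mul_diagonal, zero_mul, mul_zero,
    add_zero, zero_add]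

theorem permSp_mul_sl2ToSp (σ : Equiv.Perm l) (s : l → SpecialLinearGroup (Fin 2) F) :
    permSp σ * sl2ToSp s = sl2ToSp (fun i => s (σ⁻¹ i)) * permSp σ :=
  Subtype.ext (permMat_mul_sl2Mat σ s)

/-- If a block-diagonal `SL₂`-matrix is a permutation matrix then both are trivial. -/
theorem sl2ToSp_eq_permSp (s : l → SpecialLinearGroup (Fin 2) F) (σ : Equiv.Perm l)
    (h : sl2ToSp s = permSp σ) : s = 1 ∧ σ = 1 := by
  have h1 : sl2Mat s = permMat F σ := congrArg Subtype.val h
  have hσ : σ = 1 := by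
    simp only [sl2Mat, permMat, fromBlocks_inj] at h1
    obtain ⟨h2, -, -, -⟩ := h1
    have h3 : σ⁻¹ = 1 := by
      ext i
      by_contra hne
      have hne' : i ≠ σ⁻¹ i := fun hh => hne hh.symm
      have h4 := congrFun (congrFun h2 i) (σ⁻¹ i)
      rw [permMatrixHom_apply_apply, if_pos rfl, diagonal_apply_ne _ hne'] at h4
      exact zero_ne_one h4
    rw [← inv_inv σ, h3, inv_one]
  refine ⟨?_, hσ⟩
  apply sl2ToSp_injective
  rw [h, hσ, map_one, map_one]

/-- The subgroup `SL₂(F) ≀ S_l` of `Sp_{2l}(F)`. -/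
def wreathSp (F : Type*) [Field F] (l : Type*) [Fintype l] [DecidableEq l] :
    Subgroup (symplecticGroup l F) where
  carrier := {x | ∃ (s : l → SpecialLinearGroup (Fin 2) F) (σ : Equiv.Perm l),
    x = sl2ToSp s * permSp σ}
  one_mem' := ⟨1, 1, by rw [map_one, map_one, mul_one]⟩
  mul_mem' := by
    rintro x y ⟨s, σ, rfl⟩ ⟨t, τ, rfl⟩
    refine ⟨s * (fun i => t (σ⁻¹ i)), σ * τ, ?_⟩
    rw [map_mul, map_mul, mul_assoc, ← mul_assoc (permSp σ), permSp_mul_sl2ToSp]
    simp only [mul_assoc]
  inv_mem' := by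
    rintro x ⟨s, σ, rfl⟩
    refine ⟨fun i => (s (σ i))⁻¹, σ⁻¹, ?_⟩
    rw [_root_.mul_inv_rev, ← map_inv, ← map_inv, permSp_mul_sl2ToSp]
    congr 2

theorem mem_wreathSp (x : symplecticGroup l F) :
    x ∈ wreathSp F l ↔ ∃ (s : l → SpecialLinearGroup (Fin 2) F) (σ : Equiv.Perm l),
      x = sl2ToSp s * permSp σ := Iff.rfl

/-- The parametrisation of `wreathSp`. -/
noncomputable def wreathSpEquiv :
    ((l → SpecialLinearGroup (Fin 2) F) × Equiv.Perm l) ≃ wreathSp F l := by
  refine Equiv.ofBijective (fun x => ⟨sl2ToSp x.1 * permSp x.2, x.1, x.2, rfl⟩) ⟨?_, ?_⟩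
  · rintro ⟨s, σ⟩ ⟨t, τ⟩ h
    have h1 : sl2ToSp s * permSp σ = sl2ToSp t * permSp τ := congrArg Subtype.val h
    have h2 : sl2ToSp (t⁻¹ * s) = permSp (τ * σ⁻¹) := by
      rw [map_mul, map_mul, map_inv, map_inv]
      calc (sl2ToSp t)⁻¹ * sl2ToSp s = (sl2ToSp t)⁻¹ * (sl2ToSp s * permSp σ) * (permSp σ)⁻¹ := by
            group
        _ = permSp τ * (permSp σ)⁻¹ := by
            rw [h1]
            group
    obtain ⟨h3, h4⟩ := sl2ToSp_eq_permSp _ _ h2
    have h5 : s = t := by
      rw [← mul_one t, ← h3]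
      group
    have h6 : σ = τ := by
      rw [← one_mul σ, ← h4]
      group
    rw [h5, h6]
  · rintro ⟨x, s, σ, rfl⟩
    exact ⟨⟨s, σ⟩, rfl⟩

theorem card_wreathSp [Fintype F] :
    Nat.card (wreathSp F l) =
      Nat.card (SpecialLinearGroup (Fin 2) F) ^ Fintype.card l * (Fintype.card l).factorial := by
  classical
  rw [← Nat.card_congr (wreathSpEquiv (F := F) (l := l)), Nat.card_prod, Nat.card_pi,
    Finset.prod_const, Finset.card_univ, Nat.card_eq_fintype_card (α := Equiv.Perm l),
    Fintype.card_perm]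

end

section sign
variable {F : Type*} [Field F] {l : Type*} [Fintype l] [DecidableEq l]

/-- The scalar matrix `±1` of `SL₂(F)` attached to a unit of `ℤ`. -/
def sgnSL (F : Type*) [Field F] : ℤˣ →* SpecialLinearGroup (Fin 2) F where
  toFun u := ⟨diagonal (fun _ => (((u : ℤˣ) : ℤ) : F)), by
    rw [det_diagonal, Fin.prod_univ_two, ← Int.cast_mul, ← Units.val_mul, Int.units_mul_self,
      Units.val_one, Int.cast_one]⟩
  map_one' := by
    apply Subtype.ext
    show diagonal (fun _ => (((1 : ℤˣ) : ℤ) : F)) = 1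
    rw [Units.val_one, Int.cast_one, diagonal_one]
  map_mul' u v := by
    apply Subtype.ext
    show diagonal (fun _ => (((u * v : ℤˣ) : ℤ) : F)) =
      diagonal (fun _ => (((u : ℤˣ) : ℤ) : F)) * diagonal (fun _ => (((v : ℤˣ) : ℤ) : F))
    rw [diagonal_mul_diagonal, Units.val_mul, Int.cast_mul]

theorem sgnSL_val (u : ℤˣ) :
    ((sgnSL F u : SpecialLinearGroup (Fin 2) F) : Matrix (Fin 2) (Fin 2) F) =
      diagonal (fun _ => (((u : ℤˣ) : ℤ) : F)) := rfl

theorem sgnSL_comm (u : ℤˣ) (x : SpecialLinearGroup (Fin 2) F) :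
    sgnSL F u * x = x * sgnSL F u := by
  apply Subtype.ext
  show (sgnSL F u).1 * x.1 = x.1 * (sgnSL F u).1
  rw [sgnSL_val]
  ext i j
  rw [diagonal_mul, mul_diagonal, mul_comm]

theorem sgnSL_injective (h2 : (2 : F) ≠ 0) : Function.Injective (sgnSL F) := by
  intro u v h
  have h1 : (((u : ℤˣ) : ℤ) : F) = (((v : ℤˣ) : ℤ) : F) := by
    have := congrArg (fun x : SpecialLinearGroup (Fin 2) F => x.1 0 0) h
    simpa [sgnSL_val] using this
  rcases Int.units_eq_one_or u with rfl | rfl <;> rcases Int.units_eq_one_or v with rfl | rfl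
  · rfl
  · exfalso
    apply h2
    simp at h1
    linear_combination h1
  · exfalso
    apply h2
    simp at h1
    linear_combination -h1
  · rfl

/-- The diagonal sign homomorphism `(l → ℤˣ) →* Sp_{2l}(F)`. -/
def signHom (F : Type*) [Field F] (l : Type*) [Fintype l] [DecidableEq l] :
    (l → ℤˣ) →* symplecticGroup l F :=
  sl2ToSp.comp
    { toFun := fun ε i => sgnSL F (ε i)
      map_one' := by
        funext i
        simp
      map_mul' := by
        intro ε η
        funext i
        simp }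

theorem signHom_apply (ε : l → ℤˣ) : signHom F l ε = sl2ToSp (fun i => sgnSL F (ε i)) := rfl

theorem signHom_injective (h2 : (2 : F) ≠ 0) : Function.Injective (signHom F l) := by
  intro ε η h
  rw [signHom_apply, signHom_apply] at h
  have h1 := sl2ToSp_injective h
  funext i
  exact sgnSL_injective h2 (congrFun h1 i)

/-- The diagonal `±1` subgroup of `Sp_{2l}(F)`. -/
def signSp (F : Type*) [Field F] (l : Type*) [Fintype l] [DecidableEq l] :
    Subgroup (symplecticGroup l F) := (signHom F l).range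

theorem card_signSp (h2 : (2 : F) ≠ 0) : Nat.card (signSp F l) = 2 ^ Fintype.card l := by
  classical
  unfold signSp
  rw [← Nat.card_congr (MonoidHom.ofInjective (signHom_injective (l := l) h2)).toEquiv,
    Nat.card_eq_fintype_card, Fintype.card_fun, Fintype.card_units_int]

theorem signSp_comm (x y : symplecticGroup l F) (hx : x ∈ signSp F l) (hy : y ∈ signSp F l) :
    x * y = y * x := by
  obtain ⟨ε, rfl⟩ := hx
  obtain ⟨η, rfl⟩ := hy
  rw [← map_mul, ← map_mul, mul_comm]

theorem signSp_sq (x : symplecticGroup l F) (hx : x ∈ signSp F l) : x ^ 2 = 1 := by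
  obtain ⟨ε, rfl⟩ := hx
  rw [← map_pow]
  have : ε ^ 2 = 1 := by
    funext i
    simp [sq, Int.units_mul_self]
  rw [this, map_one]

theorem signSp_le_wreathSp : signSp F l ≤ wreathSp F l := by
  rintro x ⟨ε, rfl⟩
  exact ⟨fun i => sgnSL F (ε i), 1, by rw [map_one, mul_one, signHom_apply]⟩

/-- `wreathSp` normalises `signSp`. -/
theorem wreathSp_conj_signSp (x d : symplecticGroup l F) (hx : x ∈ wreathSp F l)
    (hd : d ∈ signSp F l) : x * d * x⁻¹ ∈ signSp F l := by
  obtain ⟨s, σ, rfl⟩ := hx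
  obtain ⟨ε, rfl⟩ := hd
  refine ⟨fun i => ε (σ⁻¹ i), ?_⟩
  rw [signHom_apply, signHom_apply]
  have h1 : permSp σ * sl2ToSp (fun i => sgnSL F (ε i)) * (permSp σ)⁻¹ =
      sl2ToSp (F := F) (fun i => sgnSL F (ε (σ⁻¹ i))) := by
    rw [permSp_mul_sl2ToSp]
    group
  have h2 : sl2ToSp s * sl2ToSp (F := F) (fun i => sgnSL F (ε (σ⁻¹ i))) * (sl2ToSp s)⁻¹ =
      sl2ToSp (fun i => sgnSL F (ε (σ⁻¹ i))) := by
    rw [← map_mul, ← map_inv, ← map_mul]
    congr 1
    funext i
    show s i * sgnSL F (ε (σ⁻¹ i)) * (s i)⁻¹ = _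
    rw [← sgnSL_comm, mul_assoc, mul_inv_cancel, mul_one]
  rw [← h2, ← h1]
  group

end sign

end Cfsg.Agent.Lib.Helper14
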