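import Cfsg.Agent.Lib.Helper14.InvolDiag

/-!
# Commuting involutions preserving an alternating form

A commuting family of involutions preserving a nondegenerate alternating form on a space of
dimension `d` has at most `d / 2` weights, hence at most `2 ^ (d / 2)` members.
-/

set_option autoImplicit false

namespace Cfsg.Agent.Lib.Helper14

open Module Module.End

section symp

variable {ι K V : Type*} [Field K] [AddCommGroup V] [Module K V]

/-- Distinct simultaneous eigenspaces are orthogonal for an invariant bilinear form. -/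
theorem simEig_ortho (h2 : (2 : K) ≠ 0) (f : ι → End K V) (hf : ∀ i, f i * f i = 1)
    (B : LinearMap.BilinForm K V) (hpres : ∀ i u v, B (f i u) (f i v) = B u v)
    (χ ψ : ι → K) (hχ : simEig f χ ≠ ⊥) (hψ : simEig f ψ ≠ ⊥) (hne : χ ≠ ψ)
    (u v : V) (hu : u ∈ simEig f χ) (hv : v ∈ simEig f ψ) : B u v = 0 := by
  obtain ⟨i, hi⟩ := Function.ne_iff.mp hne
  have h1 := hpres i u v
  rw [(mem_simEig f χ u).mp hu i, (mem_simEig f ψ v).mp hv i, map_smul, map_smul,
    LinearMap.smul_apply, smul_eq_mul, smul_eq_mul] at h1
  have hprod : χ i * ψ i = -1 := by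
    rcases simEig_val f hf χ hχ i with h | h <;> rcases simEig_val f hf ψ hψ i with h' | h'
    · exact absurd (h.trans h'.symm) hi
    · rw [h, h']; ring
    · rw [h, h']; ring
    · exact absurd (h.trans h'.symm) hi
  have h3 : (2 : K) * B u v = 0 := by
    have : ψ i * (χ i * B u v) = -(B u v) := by rw [← mul_assoc, mul_comm (ψ i), hprod]; ring
    rw [this] at h1
    linear_combination -h1
  exact (mul_eq_zero.mp h3).resolve_left h2

/-- With a nondegenerate alternating invariant form, there are at most `dim / 2` weights. -/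
theorem two_mul_card_weights_le [FiniteDimensional K V] (h2 : (2 : K) ≠ 0) (f : ι → End K V)
    (hf : ∀ i, f i * f i = 1) (hc : ∀ i j, Commute (f i) (f j))
    (B : LinearMap.BilinForm K V) (hB : B.Nondegenerate) (halt : B.IsAlt)
    (hpres : ∀ i u v, B (f i u) (f i v) = B u v)
    [Fintype {χ : ι → K // simEig f χ ≠ ⊥}] :
    2 * Fintype.card {χ : ι → K // simEig f χ ≠ ⊥} ≤ finrank K V := by
  classical
  have hex : ∀ χ : {χ : ι → K // simEig f χ ≠ ⊥}, ∃ v ∈ simEig f χ.1, v ≠ 0 :=
    fun χ => Submodule.exists_mem_ne_zero_of_ne_bot χ.2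
  choose v hv hv0 using hex
  have hli : LinearIndependent K v :=
    ((simEig_iSupIndep h2 f hf hc).comp Subtype.val_injective).linearIndependent
      (fun χ : {χ : ι → K // simEig f χ ≠ ⊥} => simEig f χ.1) hv hv0
  have hvv : ∀ χ ψ, B (v χ) (v ψ) = 0 := by
    intro χ ψ
    by_cases h : χ = ψ
    · subst h; exact halt (v χ)
    · exact simEig_ortho h2 f hf B hpres χ.1 ψ.1 χ.2 ψ.2 (fun h' => h (Subtype.ext h')) _ _
        (hv χ) (hv ψ)
  set U : Submodule K V := Submodule.span K (Set.range v) with hU
  have hUdim : finrank K U = Fintype.card {χ : ι → K // simEig f χ ≠ ⊥} :=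
    finrank_span_eq_card hli
  have hUle : U ≤ B.orthogonal U := by
    intro x hx
    rw [LinearMap.BilinForm.mem_orthogonal_iff]
    intro y hy
    show B y x = 0
    induction hy using Submodule.span_induction with
    | mem y hy =>
      obtain ⟨χ, rfl⟩ := hy
      induction hx using Submodule.span_induction with
      | mem x hx =>
        obtain ⟨ψ, rfl⟩ := hx
        exact hvv χ ψ
      | zero => simp
      | add a b _ _ ha hb => rw [map_add, ha, hb, add_zero]
      | smul c a _ ha => rw [map_smul, ha, smul_zero]
    | zero => simp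
    | add a b _ _ ha hb => rw [map_add, LinearMap.add_apply, ha, hb, add_zero]
    | smul c a _ ha => rw [map_smul, LinearMap.smul_apply, ha, smul_zero]
  have h3 := Submodule.finrank_mono hUle
  rw [LinearMap.BilinForm.finrank_orthogonal hB, hUdim] at h3
  have h4 : Fintype.card {χ : ι → K // simEig f χ ≠ ⊥} ≤ finrank K V := by
    rw [← hUdim]; exact Submodule.finrank_le U
  omega

/-- A commuting injective family of involutions preserving a nondegenerate alternating form on a
space of dimension `2 * n` has at most `2 ^ n` members. -/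
theorem card_le_two_pow_of_alt [FiniteDimensional K V] (h2 : (2 : K) ≠ 0) (f : ι → End K V)
    (hf : ∀ i, f i * f i = 1) (hc : ∀ i j, Commute (f i) (f j)) (hinj : Function.Injective f)
    (B : LinearMap.BilinForm K V) (hB : B.Nondegenerate) (halt : B.IsAlt)
    (hpres : ∀ i u v, B (f i u) (f i v) = B u v) (n : ℕ) (hn : finrank K V = 2 * n) :
    Nat.card ι ≤ 2 ^ n := by
  classical
  let _ : Fintype {χ : ι → K // simEig f χ ≠ ⊥} :=
    (simEig_iSupIndep h2 f hf hc).fintypeNeBotOfFiniteDimensional
  have h1 := Nat.card_le_card_of_injective _ (injective_weights h2 f hf hc hinj)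
  rw [Nat.card_fun, Nat.card_eq_fintype_card (α := Bool),
    Nat.card_eq_fintype_card (α := {χ : ι → K // simEig f χ ≠ ⊥}), Fintype.card_bool] at h1
  have h3 := two_mul_card_weights_le h2 f hf hc B hB halt hpres
  exact h1.trans (Nat.pow_le_pow_right (by norm_num) (by omega))

end symp

end Cfsg.Agent.Lib.Helper14
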