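import Cfsg.Agent.S2235
import Cfsg.Agent.Lib.Helper14.OrthoTransfer
import Cfsg.Agent.Lib.Helper15.QuadCount7

/-!
# Level sets of the standard even-dimensional forms modulo 4, and the type of the sum of squares
-/

set_option autoImplicit false

namespace Cfsg.Agent.Lib.Helper14

open Matrix Cfsg.Agent.S2235 Cfsg.Agent.Lib.Helper15 QuadraticMap Module

theorem mod4_aux (a b : ℕ) (ha : a % 4 = 2) (hb : Odd b) : (a * b) % 4 = 2 := by
  have hb' : b % 4 = 1 ∨ b % 4 = 3 := by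
    have := Nat.odd_iff.mp hb
    omega
  rw [Nat.mul_mod, ha]
  rcases hb' with h | h <;> rw [h]

section level

variable {F : Type*} [Field F] [Fintype F] [DecidableEq F]

theorem card_level_plus (n : ℕ) (hodd : Odd (Fintype.card F))
    (hq : Fintype.card F ^ n % 4 = 3) (c : F) (hc : c ≠ 0) :
    Fintype.card {v : Fin n ⊕ Fin n → F // Cfsg.quadFormPlus n F v = c} % 4 = 2 := by
  rw [← Nat.card_eq_fintype_card, card_plus_value, if_neg hc, add_zero]
  apply mod4_aux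
  · omega
  · exact hodd.pow

theorem hypCount_minus_eq (q k : ℕ) (hq : 1 ≤ q) :
    hypCount q 2 (q + 1) k = q ^ k * (q ^ (k + 1) + 1) := by
  unfold hypCount
  rcases k with _ | j
  · simp
  · obtain ⟨t, ht⟩ : ∃ t, q ^ (j + 1) = t + 1 :=
      ⟨q ^ (j + 1) - 1, (Nat.sub_add_cancel (Nat.one_le_pow _ _ hq)).symm⟩
    have h1 : q ^ (j + 1 - 1) * q ^ 2 = (t + 1) * q := by
      rw [Nat.add_sub_cancel, ← ht]; ring
    have h2 : q ^ (j + 1 + 1) = (t + 1) * q := by rw [← ht]; ring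
    rw [mul_assoc, h1, h2, ht, Nat.add_sub_cancel]
    ring

theorem card_level_minus (k : ℕ) (a b : F)
    (hab : ∀ z₁ z₂ : F, z₁ ^ 2 + a * z₁ * z₂ + b * z₂ ^ 2 = 0 → z₁ = 0 ∧ z₂ = 0)
    (hodd : Odd (Fintype.card F)) (hq : Fintype.card F ^ (k + 1) % 4 = 1) (c : F) (hc : c ≠ 0) :
    Fintype.card {v : (Fin k ⊕ Fin k) ⊕ Fin 2 → F // Cfsg.quadFormMinus k F a b v = c} % 4 = 2 := by
  have hfun : Cfsg.quadFormMinus k F a b = ⇑(Qgen k (binForm a b)) := by
    funext v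
    rw [Qgen_apply, binForm_apply]
    rfl
  rw [← Nat.card_eq_fintype_card, hfun, card_value_Qgen, card_binForm_value a b hab, if_neg hc,
    Fintype.card_fin, hypCount_minus_eq _ _ Fintype.card_pos, mul_comm]
  apply mod4_aux
  · omega
  · exact hodd.pow

end level

section sumsq

variable {F : Type*} [Field F] [Fintype F]

omit [Fintype F] in
/-- The matrix `-1` lies in `Ω` of the sum of squares in even dimension. -/
theorem neg_one_mem_Omega_Nf {κ : Type} [Fintype κ] [DecidableEq κ] (hκ : Odd (Fintype.card κ)) :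
    ∃ x : Cfsg.isometryGroup F (Nf F (Unit ⊕ κ)),
      ((x.1 : GL (Unit ⊕ κ) F) : Matrix (Unit ⊕ κ) (Unit ⊕ κ) F) = -1 ∧
        x ∈ Cfsg.Omega F (Nf F (Unit ⊕ κ)) := by
  refine ⟨deltaHom (fun _ => -1), ?_, deltaHom_mem _⟩
  rw [deltaHom_val]
  have h1 : dvec (F := F) (fun _ : κ => (-1 : ℤˣ)) = fun _ => -1 := by
    funext i
    unfold dvec
    rcases i with i | i
    · simp only [Sum.elim_inl, Finset.prod_const, Finset.card_univ, hκ.neg_one_pow]
      simp [sgn]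
    · simp [sgn]
  rw [h1]
  ext i j
  by_cases hij : i = j
  · subst hij; simp
  · simp [hij]

omit [Fintype F] in
theorem Nf_zero {ι : Type} [Fintype ι] : Nf F ι 0 = 0 := by
  unfold Nf; simp

variable [DecidableEq F]

theorem card_level_congr {ι ι' : Type} [Fintype ι] [Fintype ι'] [DecidableEq ι] [DecidableEq ι']
    (Q : (ι → F) → F) (Q' : (ι' → F) → F)
    (g : (ι → F) ≃ₗ[F] (ι' → F)) (hg : ∀ v, Q v = Q' (g v)) (c : F) :
    Fintype.card {v : ι → F // Q v = c} = Fintype.card {v : ι' → F // Q' v = c} :=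
  Fintype.card_congr (g.toEquiv.subtypeEquiv (fun v => by rw [hg v]; rfl))

/-- For `q ^ n ≡ 1 (mod 4)` the sum of `2n` squares is of plus type. -/
theorem exists_Nf_plus (n : ℕ) (hn : 1 ≤ n) (hodd : Odd (Fintype.card F))
    (hq : Fintype.card F ^ n % 4 = 1) :
    ∃ g : (Unit ⊕ Fin (2 * n - 1) → F) ≃ₗ[F] (Fin n ⊕ Fin n → F),
      ∀ v, Nf F (Unit ⊕ Fin (2 * n - 1)) v = Cfsg.quadFormPlus n F (g v) := by
  have h2 := two_ne_zero_of_odd hodd
  have hV : finrank F (Unit ⊕ Fin (2 * n - 1) → F) = 2 * n := by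
    simp; omega
  rcases classify_even (NQ F (Unit ⊕ Fin (2 * n - 1))) (nondegenerate_NQ h2) n hn hV with
    ⟨g, hg⟩ | ⟨ζ, hirr, g, hg⟩
  · exact ⟨g, fun v => by rw [← NQ_apply]; exact hg v⟩
  · exfalso
    have hab : ∀ z₁ z₂ : F, z₁ ^ 2 + 1 * z₁ * z₂ + ζ * z₂ ^ 2 = 0 → z₁ = 0 ∧ z₂ = 0 := by
      intro z₁ z₂ h
      by_cases hz : z₂ = 0
      · subst hz
        simp at h
        exact ⟨h, rfl⟩
      · exfalso
        apply hirr (z₁ / z₂)
        field_simp
        linear_combination h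
    have hcard := card_level_minus (n - 1) 1 ζ hab hodd
      (by rw [Nat.sub_add_cancel hn]; exact hq) 1 one_ne_zero
    rw [← card_level_congr (Nf F (Unit ⊕ Fin (2 * n - 1))) _ g
      (fun v => by rw [← NQ_apply]; exact hg v)] at hcard
    obtain ⟨x, hx, hxmem⟩ := neg_one_mem_Omega_Nf (F := F) (κ := Fin (2 * n - 1))
      (by rw [Fintype.card_fin, Nat.odd_iff]; omega)
    exact neg_one_not_mem_Omega h2 _ Nf_zero 1 one_ne_zero hcard x hx hxmem

/-- For `q ^ n ≡ 3 (mod 4)` the sum of `2n` squares is of minus type. -/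
theorem exists_Nf_minus (n : ℕ) (hn : 1 ≤ n) (hodd : Odd (Fintype.card F))
    (hq : Fintype.card F ^ n % 4 = 3) :
    ∃ ζ : F, (∀ t : F, t ^ 2 + t + ζ ≠ 0) ∧
      ∃ g : (Unit ⊕ Fin (2 * n - 1) → F) ≃ₗ[F] ((Fin (n - 1) ⊕ Fin (n - 1)) ⊕ Fin 2 → F),
        ∀ v, Nf F (Unit ⊕ Fin (2 * n - 1)) v = Cfsg.quadFormMinus (n - 1) F 1 ζ (g v) := by
  have h2 := two_ne_zero_of_odd hodd
  have hV : finrank F (Unit ⊕ Fin (2 * n - 1) → F) = 2 * n := by
    simp; omega
  rcases classify_even (NQ F (Unit ⊕ Fin (2 * n - 1))) (nondegenerate_NQ h2) n hn hV with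
    ⟨g, hg⟩ | ⟨ζ, hirr, g, hg⟩
  · exfalso
    have hcard := card_level_plus (F := F) n hodd hq 1 one_ne_zero
    rw [← card_level_congr (Nf F (Unit ⊕ Fin (2 * n - 1))) _ g
      (fun v => by rw [← NQ_apply]; exact hg v)] at hcard
    obtain ⟨x, hx, hxmem⟩ := neg_one_mem_Omega_Nf (F := F) (κ := Fin (2 * n - 1))
      (by rw [Fintype.card_fin, Nat.odd_iff]; omega)
    exact neg_one_not_mem_Omega h2 _ Nf_zero 1 one_ne_zero hcard x hx hxmem
  · exact ⟨ζ, hirr, g, fun v => by rw [← NQ_apply]; exact hg v⟩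

omit [DecidableEq F] [Fintype F] in
/-- A form similar to the sum of squares on `Unit ⊕ κ` has `2`-rank at least `card κ`. -/
theorem pRankAtLeast_of_Nf_equiv {ι' : Type} [Fintype ι'] [DecidableEq ι'] (h2 : (2 : F) ≠ 0)
    (Q' : (ι' → F) → F) {κ : Type} [Fintype κ] [DecidableEq κ]
    (g : (Unit ⊕ κ → F) ≃ₗ[F] (ι' → F)) (c : F) (hg : ∀ v, Q' (g v) = c * Nf F (Unit ⊕ κ) v) :
    Cfsg.PRankAtLeast 2 (Fintype.card κ) ↥(Cfsg.Omega F Q') := by
  let ψ := isoCongr (Nf F (Unit ⊕ κ)) Q' g c hg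
  let δ : (κ → ℤˣ) →* ↥(Cfsg.Omega F (Nf F (Unit ⊕ κ))) :=
    MonoidHom.codRestrict (deltaHom (F := F)) (Cfsg.Omega F (Nf F (Unit ⊕ κ))) deltaHom_mem
  have hδ : Function.Injective δ := by
    intro ε ε' h
    exact deltaHom_injective h2 (congrArg Subtype.val h)
  exact pRankAtLeast_of_injective ((commMap ψ).comp δ)
    ((commMap_injective ψ (isoCongr_injective _ _ g c hg)).comp hδ)

end sumsq

end Cfsg.Agent.Lib.Helper14
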