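import Cfsg.Agent.Lib.Helper14.SL2Order

/-!
# `SL₂` over a finite field of odd order: the `q + 4` class representatives
-/

set_option autoImplicit false

namespace Cfsg.Agent.Lib.Helper14

open Matrix

variable {F : Type*} [Field F]

/-- the sign `±1` attached to a boolean -/
def sgn (F : Type*) [Field F] (s : Bool) : F := if s then 1 else -1

theorem sgn_mul_self (s : Bool) : sgn F s * sgn F s = 1 := by
  cases s <;> simp [sgn]

theorem sgn_injective (h2 : (2 : F) ≠ 0) {s s' : Bool} (h : sgn F s = sgn F s') : s = s' := by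
  have hne : (1 : F) ≠ -1 := by
    intro h
    apply h2
    linear_combination h
  cases s <;> cases s' <;> simp [sgn] at h ⊢
  · exact hne h.symm
  · exact hne h

/-- `1` or a chosen non-square -/
def nuOf (ν : F) (s : Bool) : F := if s then 1 else ν

section odd

variable [Fintype F]

theorem two_ne_zero_of_odd (hodd : Odd (Fintype.card F)) : (2 : F) ≠ 0 := by
  apply Ring.two_ne_zero
  intro h
  have := FiniteField.even_card_of_char_two h
  rw [← Nat.not_even_iff_odd] at hodd
  exact hodd (Nat.even_iff.mpr this)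

theorem ringChar_ne_two_of_odd (hodd : Odd (Fintype.card F)) : ringChar F ≠ 2 := by
  intro h
  have := FiniteField.even_card_of_char_two h
  rw [← Nat.not_even_iff_odd] at hodd
  exact hodd (Nat.even_iff.mpr this)

/-- The product of two non-squares is a square. -/
theorem isSquare_mul_of_not_isSquare {a b : F} (ha : ¬ IsSquare a) (hb : ¬ IsSquare b) :
    IsSquare (a * b) := by
  classical
  have ha0 : a ≠ 0 := by rintro rfl; exact ha (IsSquare.zero)
  have hb0 : b ≠ 0 := by rintro rfl; exact hb (IsSquare.zero)
  rw [← quadraticChar_one_iff_isSquare (mul_ne_zero ha0 hb0), map_mul,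
    quadraticChar_neg_one_iff_not_isSquare.mpr ha, quadraticChar_neg_one_iff_not_isSquare.mpr hb]
  norm_num

/-- every non-zero `b` is `1` or `ν` times a non-zero square. -/
theorem exists_nuOf_mul_sq (ν : F) (hν : ¬ IsSquare ν) (b : F) (hb : b ≠ 0) :
    ∃ (s : Bool) (d : F), d ≠ 0 ∧ b = nuOf ν s * d ^ 2 := by
  have hν0 : ν ≠ 0 := by rintro rfl; exact hν (IsSquare.zero)
  by_cases hsq : IsSquare b
  · obtain ⟨d, hd⟩ := hsq
    refine ⟨true, d, ?_, by simp [nuOf, hd, pow_two]⟩
    rintro rfl
    apply hb; rw [hd, mul_zero]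
  · obtain ⟨r, hr⟩ := isSquare_mul_of_not_isSquare hν hsq
    have hr0 : r ≠ 0 := by
      rintro rfl
      rw [mul_zero] at hr
      exact mul_ne_zero hν0 hb hr
    refine ⟨false, r / ν, div_ne_zero hr0 hν0, ?_⟩
    simp only [nuOf, Bool.false_eq_true, if_false]
    field_simp
    linear_combination hr

omit [Fintype F] in
theorem card_sq_eq_four (h2 : (2 : F) ≠ 0) : Nat.card {t : F // t ^ 2 = 4} = 2 := by
  classical
  refine Eq.trans ?_ (card_sq_eq_one_odd h2)
  apply Nat.card_congr
  refine ⟨fun t => ⟨t.1 / 2, ?_⟩, fun p => ⟨2 * p.1, ?_⟩, ?_, ?_⟩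
  · have := t.2
    field_simp
    linear_combination this
  · have := p.2
    linear_combination 4 * this
  · intro t
    apply Subtype.ext
    simp only []
    field_simp
  · intro p
    apply Subtype.ext
    simp only []
    field_simp

theorem card_sq_ne_four (h2 : (2 : F) ≠ 0) :
    Nat.card {t : F // t ^ 2 ≠ 4} = Fintype.card F - 2 := by
  classical
  have h := card_sq_eq_four h2
  rw [Nat.card_eq_fintype_card] at h ⊢
  rw [Fintype.card_subtype_compl, h]

end odd

end Cfsg.Agent.Lib.Helper14
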