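import Cfsg.Agent.Lib.Helper14.GL2

/-!
# Centralizers of non-scalar 2 × 2 matrices
-/

set_option autoImplicit false

namespace Cfsg.Agent.Lib.Helper14

open Matrix

variable {F : Type*} [Field F]

omit [Field F] in
theorem mat2_ext {A B : Matrix (Fin 2) (Fin 2) F} (h00 : A 0 0 = B 0 0) (h01 : A 0 1 = B 0 1)
    (h10 : A 1 0 = B 1 0) (h11 : A 1 1 = B 1 1) : A = B := by
  ext i j
  fin_cases i <;> fin_cases j <;> assumption

/-- A matrix commuting with a non-scalar `2 × 2` matrix `M` is a polynomial `x + y M` in `M`. -/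
theorem exists_eq_add_smul_of_commute (M H : Matrix (Fin 2) (Fin 2) F) (hM : ¬ IsScalar2 M)
    (hc : H * M = M * H) : ∃ x y : F, H = x • (1 : Matrix (Fin 2) (Fin 2) F) + y • M := by
  have e00 := congrFun (congrFun hc 0) 0
  have e01 := congrFun (congrFun hc 0) 1
  have e10 := congrFun (congrFun hc 1) 0
  have e11 := congrFun (congrFun hc 1) 1
  simp only [Matrix.mul_apply, Fin.sum_univ_two] at e00 e01 e10 e11
  by_cases hb : M 0 1 = 0
  · by_cases hcc : M 1 0 = 0
    · have had : M 0 0 ≠ M 1 1 := fun h => hM ⟨hb, hcc, h⟩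
      have had' : M 0 0 - M 1 1 ≠ 0 := sub_ne_zero.mpr had
      -- M diagonal with distinct entries: H diagonal
      have h01 : H 0 1 = 0 := by
        have : H 0 1 * (M 0 0 - M 1 1) = 0 := by rw [hb] at e01; linear_combination -e01
        rcases mul_eq_zero.mp this with h | h
        · exact h
        · exact absurd h had'
      have h10 : H 1 0 = 0 := by
        have : H 1 0 * (M 0 0 - M 1 1) = 0 := by rw [hcc] at e10; linear_combination e10
        rcases mul_eq_zero.mp this with h | h
        · exact h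
        · exact absurd h had'
      refine ⟨H 0 0 - (H 0 0 - H 1 1) / (M 0 0 - M 1 1) * M 0 0, (H 0 0 - H 1 1) / (M 0 0 - M 1 1), ?_⟩
      apply mat2_ext <;>
        simp only [Matrix.add_apply, Matrix.smul_apply, Matrix.one_apply_eq, smul_eq_mul, mul_one,
          mul_zero, zero_add, ne_eq, zero_ne_one, one_ne_zero, not_false_eq_true, Matrix.one_apply_ne]
      · ring
      · rw [h01, hb]; ring
      · rw [h10, hcc]; ring
      · field_simp
        ring
    · -- c ≠ 0
      refine ⟨H 0 0 - H 1 0 / M 1 0 * M 0 0, H 1 0 / M 1 0, ?_⟩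
      apply mat2_ext <;>
        simp only [Matrix.add_apply, Matrix.smul_apply, Matrix.one_apply_eq, smul_eq_mul, mul_one,
          mul_zero, zero_add, ne_eq, zero_ne_one, one_ne_zero, not_false_eq_true, Matrix.one_apply_ne]
      · ring
      · field_simp
        linear_combination e00
      · field_simp
      · field_simp
        linear_combination e10
  · -- b ≠ 0
    refine ⟨H 0 0 - H 0 1 / M 0 1 * M 0 0, H 0 1 / M 0 1, ?_⟩
    apply mat2_ext <;>
      simp only [Matrix.add_apply, Matrix.smul_apply, Matrix.one_apply_eq, smul_eq_mul, mul_one,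
        mul_zero, zero_add, ne_eq, zero_ne_one, one_ne_zero, not_false_eq_true, Matrix.one_apply_ne]
    · ring
    · field_simp
    · field_simp
      linear_combination -e00
    · field_simp
      linear_combination -e01

/-- uniqueness of the representation `x + y M` for non-scalar `M`. -/
theorem add_smul_injective (M : Matrix (Fin 2) (Fin 2) F) (hM : ¬ IsScalar2 M) (x y x' y' : F)
    (h : x • (1 : Matrix (Fin 2) (Fin 2) F) + y • M = x' • (1 : Matrix (Fin 2) (Fin 2) F) + y' • M) :
    x = x' ∧ y = y' := by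
  have e00 := congrFun (congrFun h 0) 0
  have e01 := congrFun (congrFun h 0) 1
  have e10 := congrFun (congrFun h 1) 0
  have e11 := congrFun (congrFun h 1) 1
  simp only [Matrix.add_apply, Matrix.smul_apply, Matrix.one_apply_eq, smul_eq_mul, mul_one,
    mul_zero, zero_add, ne_eq, zero_ne_one, one_ne_zero, not_false_eq_true, Matrix.one_apply_ne] at e00 e01 e10 e11
  have hy : y = y' := by
    by_contra hne
    have hne' : y - y' ≠ 0 := sub_ne_zero.mpr hne
    apply hM
    refine ⟨?_, ?_, ?_⟩
    · have : (y - y') * M 0 1 = 0 := by linear_combination e01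
      exact (mul_eq_zero.mp this).resolve_left hne'
    · have : (y - y') * M 1 0 = 0 := by linear_combination e10
      exact (mul_eq_zero.mp this).resolve_left hne'
    · have : (y - y') * (M 0 0 - M 1 1) = 0 := by linear_combination e00 - e11
      exact sub_eq_zero.mp ((mul_eq_zero.mp this).resolve_left hne')
  subst hy
  exact ⟨by linear_combination e00, rfl⟩

/-- The centralizer of a non-scalar element of `GL₂` is parametrized by the pairs `(x, y)` with
`x + y g` invertible. -/
theorem card_centralizer_nonscalar [Finite F] (g : GL (Fin 2) F)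
    (hg : ¬ IsScalar2 (g : Matrix (Fin 2) (Fin 2) F)) :
    Nat.card (Subgroup.centralizer ({g} : Set (GL (Fin 2) F))) =
      Nat.card {p : F × F // (p.1 • (1 : Matrix (Fin 2) (Fin 2) F) +
        p.2 • (g : Matrix (Fin 2) (Fin 2) F)).det ≠ 0} := by
  symm
  let φ : {p : F × F // (p.1 • (1 : Matrix (Fin 2) (Fin 2) F) +
        p.2 • (g : Matrix (Fin 2) (Fin 2) F)).det ≠ 0} → Subgroup.centralizer ({g} : Set (GL (Fin 2) F)) :=
    fun p => ⟨Matrix.GeneralLinearGroup.mkOfDetNeZero _ p.2, by
      rw [Subgroup.mem_centralizer_iff]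
      intro h hh
      rw [Set.mem_singleton_iff] at hh
      subst hh
      apply Units.ext
      simp only [Units.val_mul]
      show (h : Matrix (Fin 2) (Fin 2) F) * (p.1.1 • (1 : Matrix (Fin 2) (Fin 2) F) + p.1.2 • (h : Matrix (Fin 2) (Fin 2) F)) =
        (p.1.1 • (1 : Matrix (Fin 2) (Fin 2) F) + p.1.2 • (h : Matrix (Fin 2) (Fin 2) F)) * (h : Matrix (Fin 2) (Fin 2) F)
      simp [Matrix.mul_add, Matrix.add_mul]⟩
  apply Nat.card_eq_of_bijective φ
  constructor
  · rintro ⟨⟨x, y⟩, hp⟩ ⟨⟨x', y'⟩, hp'⟩ h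
    have h1 := congrArg (fun z : Subgroup.centralizer ({g} : Set (GL (Fin 2) F)) =>
      ((z : GL (Fin 2) F) : Matrix (Fin 2) (Fin 2) F)) h
    have h2 : x • (1 : Matrix (Fin 2) (Fin 2) F) + y • (g : Matrix (Fin 2) (Fin 2) F) =
      x' • (1 : Matrix (Fin 2) (Fin 2) F) + y' • (g : Matrix (Fin 2) (Fin 2) F) := h1
    obtain ⟨rfl, rfl⟩ := add_smul_injective _ hg x y x' y' h2
    rfl
  · rintro ⟨h, hh⟩
    rw [Subgroup.mem_centralizer_iff] at hh
    have hcomm := hh g rfl
    have hcomm' : (h : Matrix (Fin 2) (Fin 2) F) * (g : Matrix (Fin 2) (Fin 2) F) =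
        (g : Matrix (Fin 2) (Fin 2) F) * (h : Matrix (Fin 2) (Fin 2) F) := by
      rw [← Units.val_mul, ← Units.val_mul, hcomm]
    obtain ⟨x, y, hxy⟩ := exists_eq_add_smul_of_commute _ _ hg hcomm'
    have hdet : (x • (1 : Matrix (Fin 2) (Fin 2) F) + y • (g : Matrix (Fin 2) (Fin 2) F)).det ≠ 0 := by
      rw [← hxy]
      exact ((Matrix.isUnit_iff_isUnit_det _).mp h.isUnit).ne_zero
    refine ⟨⟨(x, y), hdet⟩, ?_⟩
    apply Subtype.ext
    apply Units.ext
    exact hxy.symm

end Cfsg.Agent.Lib.Helper14
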