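import Cfsg.Agent.Lib.Helper14.SL2Unip

/-!
# `SL₂` over a field of characteristic `p`: elements of order `p`
-/

set_option autoImplicit false

namespace Cfsg.Agent.Lib.Helper14

open Matrix

variable {F : Type*} [Field F]

theorem data_of_order_GL (p : ℕ) [Fact p.Prime] [CharP F p]
    (g : Matrix.GeneralLinearGroup (Fin 2) F) (hg : orderOf g = p) :
    ¬ IsScalar2 (g : Matrix (Fin 2) (Fin 2) F) ∧ (g : Matrix (Fin 2) (Fin 2) F).trace = 2 ∧
      (g : Matrix (Fin 2) (Fin 2) F).det = 1 := by
  have hpp : p.Prime := Fact.out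
  have : CharP (Matrix (Fin 2) (Fin 2) F) p := Matrix.charP p
  apply unipotent_data
  · refine ⟨p, ?_⟩
    have := sub_pow_char_of_commute (R := Matrix (Fin 2) (Fin 2) F) p (Commute.one_right (g : Matrix (Fin 2) (Fin 2) F))
    rw [this, one_pow, ← Units.val_pow_eq_pow_val, ← hg, pow_orderOf_eq_one, Units.val_one, sub_self]
  · rintro rfl
    rw [orderOf_one] at hg
    exact hpp.one_lt.ne hg

theorem data_of_order_SL (p : ℕ) [Fact p.Prime] [CharP F p]
    (g : SpecialLinearGroup (Fin 2) F) (hg : orderOf g = p) :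
    ¬ IsScalar2 (g : Matrix (Fin 2) (Fin 2) F) ∧ (g : Matrix (Fin 2) (Fin 2) F).trace = 2 := by
  have h1 : orderOf (SpecialLinearGroup.toGL g) = p := by
    rw [orderOf_injective _ SpecialLinearGroup.toGL_injective, hg]
  obtain ⟨h2, h3, -⟩ := data_of_order_GL p (SpecialLinearGroup.toGL g) h1
  exact ⟨h2, h3⟩

theorem upperSL_one_pow (b : F) (n : ℕ) :
    (upperSL 1 b (one_mul 1)) ^ n = upperSL 1 (n * b) (one_mul 1) := by
  induction n with
  | zero =>
    apply Subtype.ext
    simp [Matrix.one_fin_two]
  | succ n ih =>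
    rw [pow_succ, ih]
    apply Subtype.ext
    show !![(1 : F), n * b; 0, 1] * !![1, b; 0, 1] = !![1, ((n + 1 : ℕ) : F) * b; 0, 1]
    rw [Matrix.mul_fin_two]
    apply mat2_mk_eq <;> push_cast <;> ring

theorem upperSL_eq_one_iff (b : F) : upperSL 1 b (one_mul 1) = 1 ↔ b = 0 := by
  constructor
  · intro h
    have := congrArg (fun z : SpecialLinearGroup (Fin 2) F => (z : Matrix (Fin 2) (Fin 2) F) 0 1) h
    simpa using this
  · rintro rfl
    apply Subtype.ext
    simp [Matrix.one_fin_two]

theorem orderOf_upperSL (p : ℕ) [Fact p.Prime] [CharP F p] (b : F) (hb : b ≠ 0) :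
    orderOf (upperSL 1 b (one_mul 1)) = p := by
  apply orderOf_eq_prime
  · rw [upperSL_one_pow, upperSL_eq_one_iff, CharP.cast_eq_zero, zero_mul]
  · rw [Ne, upperSL_eq_one_iff]; exact hb

theorem card_sq_eq_one_char_two [CharP F 2] : Nat.card {p : F // p * p = 1} = 1 := by
  rw [Nat.card_eq_one_iff_unique]
  refine ⟨⟨?_⟩, ⟨⟨1, one_mul 1⟩⟩⟩
  rintro ⟨a, ha⟩ ⟨b, hb⟩
  apply Subtype.ext
  show a = b
  have h2 : (2 : F) = 0 := by exact_mod_cast CharP.cast_eq_zero F 2
  have key : ∀ c : F, c * c = 1 → c = 1 := by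
    intro c hc
    have : (c - 1) ^ 2 = 0 := by linear_combination hc - c * h2 + h2
    have := pow_eq_zero_iff (two_ne_zero) |>.mp this
    linear_combination this
  rw [key a ha, key b hb]

theorem card_sq_eq_one_odd (h2 : (2 : F) ≠ 0) : Nat.card {p : F // p * p = 1} = 2 := by
  classical
  have : Nat.card {p : F // p * p = 1} = Nat.card Bool := by
    apply Nat.card_congr
    refine Equiv.ofBijective (fun z => decide (z.1 = 1)) ⟨?_, ?_⟩
    · rintro ⟨a, ha⟩ ⟨b, hb⟩ h
      apply Subtype.ext
      show a = b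
      simp only [decide_eq_decide] at h
      have key : ∀ c : F, c * c = 1 → c = 1 ∨ c = -1 := by
        intro c hc
        have : (c - 1) * (c + 1) = 0 := by linear_combination hc
        rcases mul_eq_zero.mp this with h | h
        · left; linear_combination h
        · right; linear_combination h
      have hne : (1 : F) ≠ -1 := by
        intro h
        apply h2
        linear_combination h
      rcases key a ha with rfl | rfl <;> rcases key b hb with rfl | rfl
      · rfl
      · exact absurd (h.mp rfl) (Ne.symm hne)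
      · exact absurd (h.mpr rfl) (Ne.symm hne)
      · rfl
    · intro x
      cases x
      · refine ⟨⟨-1, by ring⟩, ?_⟩
        simp only [decide_eq_false_iff_not]
        intro h
        apply h2
        linear_combination -h
      · exact ⟨⟨1, one_mul 1⟩, by simp⟩
  rw [this]; simp

end Cfsg.Agent.Lib.Helper14
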