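import Cfsg.Agent.Lib.Helper14.SL2

/-!
# `SL₂`: elements with trace `±2`, class sizes
-/

set_option autoImplicit false

namespace Cfsg.Agent.Lib.Helper14

open Matrix

theorem card_class_mul_card_centralizer {G : Type*} [Group G] [Finite G] (g : G) :
    Nat.card (ConjClasses.mk g).carrier * Nat.card (Subgroup.centralizer ({g} : Set G)) = Nat.card G := by
  classical
  have := Fintype.ofFinite G
  have h := MulAction.card_orbit_mul_card_stabilizer_eq_card_group (ConjAct G) g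
  rw [← Nat.card_eq_fintype_card, ← Nat.card_eq_fintype_card, ← Nat.card_eq_fintype_card] at h
  rw [Nat.card_congr (ConjAct.toConjAct (G := G)).toEquiv.symm] at h
  rw [← h]
  congr 1
  · rw [ConjAct.orbit_eq_carrier_conjClasses]
  · rw [Subgroup.centralizer_eq_comap_stabilizer]
    exact Nat.card_congr (Equiv.subtypeEquiv (ConjAct.toConjAct (G := G)).toEquiv (fun a => Subgroup.mem_comap))

variable {F : Type*} [Field F]

omit [Field F] in
theorem mat2_mk_eq {a b c d a' b' c' d' : F} (h1 : a = a') (h2 : b = b') (h3 : c = c') (h4 : d = d') :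
    !![a, b; c, d] = !![a', b'; c', d'] := by
  subst h1 h2 h3 h4; rfl

/-- Conjugacy in `SL₂` gives conjugacy in `GL₂`. -/
theorem isConj_toGL {g h : SpecialLinearGroup (Fin 2) F} (hc : IsConj g h) :
    IsConj (SpecialLinearGroup.toGL g) (SpecialLinearGroup.toGL h) :=
  MonoidHom.map_isConj SpecialLinearGroup.toGL hc

theorem isScalar2_conj_SL {g h : SpecialLinearGroup (Fin 2) F} (hc : IsConj g h)
    (hg : IsScalar2 (g : Matrix (Fin 2) (Fin 2) F)) : IsScalar2 (h : Matrix (Fin 2) (Fin 2) F) :=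
  isScalar2_conj (isConj_toGL hc) hg

theorem trace_conj_SL {g h : SpecialLinearGroup (Fin 2) F} (hc : IsConj g h) :
    (g : Matrix (Fin 2) (Fin 2) F).trace = (h : Matrix (Fin 2) (Fin 2) F).trace :=
  trace_conj (isConj_toGL hc)

/-- The upper triangular element `[[ε, b], [0, ε]]` of `SL₂` (`ε² = 1`). -/
def upperSL (ε b : F) (hε : ε * ε = 1) : SpecialLinearGroup (Fin 2) F :=
  ⟨!![ε, b; 0, ε], by simp [Matrix.det_fin_two, hε]⟩

@[simp] theorem upperSL_coe (ε b : F) (hε : ε * ε = 1) :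
    ((upperSL ε b hε : SpecialLinearGroup (Fin 2) F) : Matrix (Fin 2) (Fin 2) F) = !![ε, b; 0, ε] := rfl

/-- IsConj in `SL₂` via an intertwining matrix of determinant one. -/
theorem isConj_of_intertwine (g h : SpecialLinearGroup (Fin 2) F) (P : Matrix (Fin 2) (Fin 2) F)
    (hP : P.det = 1)
    (hPg : P * (g : Matrix (Fin 2) (Fin 2) F) = (h : Matrix (Fin 2) (Fin 2) F) * P) : IsConj g h := by
  rw [isConj_iff]
  refine ⟨⟨P, hP⟩, ?_⟩
  apply mul_inv_eq_of_eq_mul
  apply Subtype.ext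
  exact hPg

theorem exists_intertwine {g h : SpecialLinearGroup (Fin 2) F} (hc : IsConj g h) :
    ∃ P : Matrix (Fin 2) (Fin 2) F, P.det = 1 ∧
      P * (g : Matrix (Fin 2) (Fin 2) F) = (h : Matrix (Fin 2) (Fin 2) F) * P := by
  obtain ⟨c, hc⟩ := isConj_iff.mp hc
  refine ⟨c, c.2, ?_⟩
  have : c * g = h * c := by rw [← hc]; group
  exact congrArg Subtype.val this

/-- A non-scalar element of `SL₂` of trace `2ε` is conjugate to `[[ε, b], [0, ε]]` for some
`b ≠ 0`. -/
theorem exists_isConj_upperSL (g : SpecialLinearGroup (Fin 2) F)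
    (hg : ¬ IsScalar2 (g : Matrix (Fin 2) (Fin 2) F)) (ε : F) (hε : ε * ε = 1)
    (ht : (g : Matrix (Fin 2) (Fin 2) F).trace = 2 * ε) :
    ∃ b : F, b ≠ 0 ∧ IsConj g (upperSL ε b hε) := by
  obtain ⟨x, y, hxy⟩ := exists_cyc2_ne_zero _ hg
  set lam := cyc2 (g : Matrix (Fin 2) (Fin 2) F) x y with hlam
  set μ : F := -lam⁻¹ with hμ
  have hμ0 : μ ≠ 0 := by rw [hμ]; exact neg_ne_zero.mpr (inv_ne_zero hxy)
  refine ⟨μ, hμ0, ?_⟩
  rw [isConj_comm]
  set T : Matrix (Fin 2) (Fin 2) F := !![-ε, μ; 1, 0] with hT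
  have hCT : comp2 (2 * ε) 1 * T = T * !![ε, μ; 0, ε] := by
    rw [hT, comp2, Matrix.mul_fin_two, Matrix.mul_fin_two]
    apply mat2_mk_eq
    · linear_combination hε
    · ring
    · ring
    · ring
  apply isConj_of_intertwine _ _ (cycMat2 (g : Matrix (Fin 2) (Fin 2) F) x y * T)
  · rw [Matrix.det_mul, det_cycMat2, ← hlam, hT]
    simp [Matrix.det_fin_two, hμ]
    field_simp
  · show _ * !![ε, μ; 0, ε] = (g : Matrix (Fin 2) (Fin 2) F) * _
    rw [Matrix.mul_assoc, ← hCT, ← Matrix.mul_assoc, ← Matrix.mul_assoc, mul_cycMat2, ht, g.det_coe]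

/-- Rescaling the off-diagonal entry by a square. -/
theorem isConj_upperSL_mul_sq (ε b d : F) (hε : ε * ε = 1) (hd : d ≠ 0) :
    IsConj (upperSL ε b hε) (upperSL ε (b * d ^ 2) hε) := by
  apply isConj_of_intertwine _ _ !![d, 0; 0, d⁻¹]
  · simp [Matrix.det_fin_two, hd]
  · rw [upperSL_coe, upperSL_coe, Matrix.mul_fin_two, Matrix.mul_fin_two]
    apply mat2_mk_eq
    · ring
    · have : b * d ^ 2 * d⁻¹ = d * b := by
        rw [pow_two, mul_assoc, mul_assoc, mul_inv_cancel₀ hd]; ring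
      rw [this]; ring
    · ring
    · ring

/-- Conjugate upper triangular elements differ by a square. -/
theorem exists_sq_of_isConj_upperSL (ε b b' : F) (hε : ε * ε = 1) (hb : b ≠ 0)
    (hc : IsConj (upperSL ε b hε) (upperSL ε b' hε)) : ∃ d : F, d ≠ 0 ∧ b' = b * d ^ 2 := by
  obtain ⟨P, hP, hPg⟩ := exists_intertwine hc
  have e00 := congrFun (congrFun hPg 0) 0
  have e01 := congrFun (congrFun hPg 0) 1
  have e11 := congrFun (congrFun hPg 1) 1
  simp [Matrix.mul_apply, Fin.sum_univ_two] at e00 e01 e11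
  have hr : P 1 0 = 0 := by
    have : P 1 0 * b = 0 := by linear_combination e11
    exact (mul_eq_zero.mp this).resolve_right hb
  rw [Matrix.det_fin_two, hr] at hP
  simp at hP
  have hp0 : P 0 0 ≠ 0 := by
    rintro h
    rw [h] at hP; simp at hP
  refine ⟨P 0 0, hp0, ?_⟩
  have h1 : P 0 0 * b = b' * P 1 1 := by linear_combination e01
  calc b' = b' * (P 0 0 * P 1 1) := by rw [hP, mul_one]
    _ = (b' * P 1 1) * P 0 0 := by ring
    _ = b * P 0 0 ^ 2 := by rw [← h1]; ring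

/-- The centralizer of `[[ε, b], [0, ε]]` (`b ≠ 0`) in `SL₂`. -/
theorem card_centralizer_upperSL [Fintype F] (ε b : F) (hε : ε * ε = 1) (hb : b ≠ 0) :
    Nat.card (Subgroup.centralizer ({upperSL ε b hε} : Set (SpecialLinearGroup (Fin 2) F))) =
      Nat.card {p : F // p * p = 1} * Fintype.card F := by
  classical
  symm
  rw [← Nat.card_eq_fintype_card (α := F), ← Nat.card_prod]
  let φ : {p : F // p * p = 1} × F → Subgroup.centralizer ({upperSL ε b hε} : Set (SpecialLinearGroup (Fin 2) F)) :=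
    fun z => ⟨⟨!![z.1.1, z.2; 0, z.1.1], by simp [Matrix.det_fin_two, z.1.2]⟩, by
      refine Subgroup.mem_centralizer_iff.mpr ?_
      intro h hh
      rw [Set.mem_singleton_iff] at hh
      subst hh
      apply Subtype.ext
      show !![ε, b; 0, ε] * !![z.1.1, z.2; 0, z.1.1] = !![z.1.1, z.2; 0, z.1.1] * !![ε, b; 0, ε]
      rw [Matrix.mul_fin_two, Matrix.mul_fin_two]
      apply mat2_mk_eq <;> ring⟩
  apply Nat.card_eq_of_bijective φ
  constructor
  · rintro ⟨⟨p, hp⟩, q⟩ ⟨⟨p', hp'⟩, q'⟩ h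
    have h1 := congrArg (fun z : Subgroup.centralizer ({upperSL ε b hε} : Set (SpecialLinearGroup (Fin 2) F)) =>
      ((z : SpecialLinearGroup (Fin 2) F) : Matrix (Fin 2) (Fin 2) F)) h
    have h2 : !![p, q; 0, p] = !![p', q'; 0, p'] := h1
    have e00 := congrFun (congrFun h2 0) 0
    have e01 := congrFun (congrFun h2 0) 1
    simp at e00 e01
    subst e00 e01
    rfl
  · rintro ⟨P, hP⟩
    rw [Subgroup.mem_centralizer_iff] at hP
    have hcomm := hP _ rfl
    have hcomm' : !![ε, b; 0, ε] * (P : Matrix (Fin 2) (Fin 2) F) = (P : Matrix (Fin 2) (Fin 2) F) * !![ε, b; 0, ε] :=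
      congrArg Subtype.val hcomm
    have e00 := congrFun (congrFun hcomm' 0) 0
    have e01 := congrFun (congrFun hcomm' 0) 1
    simp [Matrix.mul_apply, Fin.sum_univ_two] at e00 e01
    have hr : (P : Matrix (Fin 2) (Fin 2) F) 1 0 = 0 := by
      have : b * (P : Matrix (Fin 2) (Fin 2) F) 1 0 = 0 := by linear_combination e00
      exact (mul_eq_zero.mp this).resolve_left hb
    have hps : (P : Matrix (Fin 2) (Fin 2) F) 0 0 = (P : Matrix (Fin 2) (Fin 2) F) 1 1 := by
      have : b * ((P : Matrix (Fin 2) (Fin 2) F) 0 0 - (P : Matrix (Fin 2) (Fin 2) F) 1 1) = 0 := by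
        linear_combination -e01
      exact sub_eq_zero.mp ((mul_eq_zero.mp this).resolve_left hb)
    have hdet := P.det_coe
    rw [Matrix.det_fin_two, hr, ← hps] at hdet
    simp at hdet
    refine ⟨(⟨(P : Matrix (Fin 2) (Fin 2) F) 0 0, hdet⟩, (P : Matrix (Fin 2) (Fin 2) F) 0 1), ?_⟩
    apply Subtype.ext
    apply Subtype.ext
    show !![(P : Matrix (Fin 2) (Fin 2) F) 0 0, (P : Matrix (Fin 2) (Fin 2) F) 0 1; 0, (P : Matrix (Fin 2) (Fin 2) F) 0 0] = (P : Matrix (Fin 2) (Fin 2) F)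
    apply mat2_ext <;> simp [hr, hps]

end Cfsg.Agent.Lib.Helper14
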