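import Mathlib

/-!
# Transitivity of `SL_n(F)` on nonzero vectors and on linearly independent pairs

For `n ≥ 3`, any linearly independent pair of vectors of `F^n` can be mapped to any other by a
matrix of determinant one.
-/

set_option autoImplicit false

namespace Cfsg.Agent.Lib.Helper14

open Matrix Module

section transitivity

variable {F : Type*} [Field F] {n : ℕ}

/-- `GL`-transitivity on independent pairs: a linear automorphism mapping one pair to the other. -/
theorem exists_linearEquiv_pair {V : Type*} [AddCommGroup V] [Module F V] {v v' u u' : V}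
    (hD : LinearIndependent F ![v, v']) (hE : LinearIndependent F ![u, u']) :
    ∃ φ : V ≃ₗ[F] V, φ v = u ∧ φ v' = u' := by
  have qD0 : ((hD.linearCombinationEquiv (Finsupp.single 0 1) : Submodule.span F (Set.range ![v, v'])) : V)
      = v := by simp
  have qD1 : ((hD.linearCombinationEquiv (Finsupp.single 1 1) : Submodule.span F (Set.range ![v, v'])) : V)
      = v' := by simp
  have qE0 : ((hE.linearCombinationEquiv (Finsupp.single 0 1) : Submodule.span F (Set.range ![u, u'])) : V)
      = u := by simp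
  have qE1 : ((hE.linearCombinationEquiv (Finsupp.single 1 1) : Submodule.span F (Set.range ![u, u'])) : V)
      = u' := by simp
  let f := hD.linearCombinationEquiv.symm ≪≫ₗ hE.linearCombinationEquiv
  have : FiniteDimensional F (Submodule.span F (Set.range ![v, v'])) :=
    FiniteDimensional.span_of_finite F (Set.finite_range _)
  obtain ⟨g, hg⟩ := Submodule.exists_linearEquiv_restrict_eq f
  refine ⟨g, ?_, ?_⟩
  · have h1 := hg (hD.linearCombinationEquiv (Finsupp.single 0 1))
    rw [qD0] at h1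
    rw [← h1]
    refine Eq.trans ?_ qE0
    simp [f]
  · have h1 := hg (hD.linearCombinationEquiv (Finsupp.single 1 1))
    rw [qD1] at h1
    rw [← h1]
    refine Eq.trans ?_ qE1
    simp [f]

/-- A linear map of prescribed determinant fixing two given vectors (`dim ≥ 3`). -/
theorem exists_linearMap_det_fix {V : Type*} [AddCommGroup V] [Module F V] [FiniteDimensional F V]
    (h3 : 3 ≤ finrank F V) (u u' : V) (a : F) :
    ∃ ψ : V →ₗ[F] V, LinearMap.det ψ = a ∧ ψ u = u ∧ ψ u' = u' := by
  classical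
  set W : Submodule F V := Submodule.span F (Set.range ![u, u']) with hW
  have hWlt : W < ⊤ := by
    rw [lt_top_iff_ne_top]
    intro h
    have h1 : finrank F W ≤ 2 := by
      have := finrank_range_le_card (R := F) ![u, u']
      simpa [Set.finrank, hW] using this
    rw [h, finrank_top] at h1
    omega
  obtain ⟨f, hf0, hfW⟩ := Submodule.exists_le_ker_of_lt_top W hWlt
  have hfu : f u = 0 := hfW (Submodule.subset_span ⟨0, rfl⟩)
  have hfu' : f u' = 0 := hfW (Submodule.subset_span ⟨1, rfl⟩)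
  obtain ⟨z, hz⟩ : ∃ z, f z ≠ 0 := by
    by_contra hcon
    push Not at hcon
    exact hf0 (LinearMap.ext hcon)
  refine ⟨LinearMap.transvection f (((a - 1) / f z) • z), ?_, ?_, ?_⟩
  · rw [LinearMap.transvection.det, map_smul, smul_eq_mul, div_mul_cancel₀ _ hz]
    ring
  · rw [LinearMap.transvection.apply, hfu, zero_smul, add_zero]
  · rw [LinearMap.transvection.apply, hfu', zero_smul, add_zero]

/-- `SL_n(F)`, `n ≥ 3`, is transitive on linearly independent pairs of vectors. -/
theorem exists_SL_mulVec_pair (hn : 3 ≤ n) {v v' u u' : Fin n → F}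
    (hD : LinearIndependent F ![v, v']) (hE : LinearIndependent F ![u, u']) :
    ∃ g : SpecialLinearGroup (Fin n) F, g.1 *ᵥ v = u ∧ g.1 *ᵥ v' = u' := by
  obtain ⟨φ, hφ1, hφ2⟩ := exists_linearEquiv_pair hD hE
  have hdet : LinearMap.det (φ : (Fin n → F) →ₗ[F] (Fin n → F)) ≠ 0 :=
    (LinearEquiv.isUnit_det' φ).ne_zero
  obtain ⟨ψ, hψ1, hψ2, hψ3⟩ := exists_linearMap_det_fix (F := F) (V := Fin n → F)
    (by simpa using hn) u u' (LinearMap.det (φ : (Fin n → F) →ₗ[F] (Fin n → F)))⁻¹
  refine ⟨⟨LinearMap.toMatrix' (ψ ∘ₗ (φ : (Fin n → F) →ₗ[F] (Fin n → F))), ?_⟩, ?_, ?_⟩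
  · rw [LinearMap.det_toMatrix', LinearMap.det_comp, hψ1, inv_mul_cancel₀ hdet]
  · show LinearMap.toMatrix' (ψ ∘ₗ (φ : (Fin n → F) →ₗ[F] (Fin n → F))) *ᵥ v = u
    rw [LinearMap.toMatrix'_mulVec, LinearMap.comp_apply, LinearEquiv.coe_coe, hφ1, hψ2]
  · show LinearMap.toMatrix' (ψ ∘ₗ (φ : (Fin n → F) →ₗ[F] (Fin n → F))) *ᵥ v' = u'
    rw [LinearMap.toMatrix'_mulVec, LinearMap.comp_apply, LinearEquiv.coe_coe, hφ2, hψ3]

/-- `SL_n(F)`, `n ≥ 3`, is transitive on nonzero vectors. -/
theorem exists_SL_mulVec (hn : 3 ≤ n) {v u : Fin n → F} (hv : v ≠ 0) (hu : u ≠ 0) :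
    ∃ g : SpecialLinearGroup (Fin n) F, g.1 *ᵥ v = u := by
  have h1 : 1 < finrank F (Fin n → F) := by simp; omega
  obtain ⟨v', hv'⟩ := exists_linearIndependent_pair_of_one_lt_finrank h1 hv
  obtain ⟨u', hu'⟩ := exists_linearIndependent_pair_of_one_lt_finrank h1 hu
  obtain ⟨g, hg, -⟩ := exists_SL_mulVec_pair hn hv' hu'
  exact ⟨g, hg⟩

end transitivity

end Cfsg.Agent.Lib.Helper14
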