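import Mathlib
import Cfsg.Prelude.Def_Characters
import Cfsg.Prelude.Def_ParabolicCharacters
import Cfsg.Agent.Lib.Helper2.Linear
import Cfsg.Agent.Lib.Helper14.GL2Cent

/-!
# The Borel subgroup of `GL₂(F)` and its linear characters
-/

set_option autoImplicit false

namespace Cfsg.Agent.Lib.Helper14

open Matrix Cfsg.Agent.Lib.Helper2

variable {F : Type*} [Field F]

theorem mem_borel_iff (x : GL (Fin 2) F) :
    x ∈ Cfsg.upperTriangularGL 2 F ↔ (x : Matrix (Fin 2) (Fin 2) F) 1 0 = 0 := by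
  show (x : Matrix (Fin 2) (Fin 2) F).BlockTriangular id ↔ _
  constructor
  · intro h
    exact h (by decide : (0 : Fin 2) < 1)
  · intro h i j hij
    fin_cases i <;> fin_cases j <;> simp_all

theorem inv_mul_10 (x y : GL (Fin 2) F) :
    ((x⁻¹ * y : GL (Fin 2) F) : Matrix (Fin 2) (Fin 2) F) 1 0 =
      ((x : Matrix (Fin 2) (Fin 2) F).det)⁻¹ * ((x : Matrix (Fin 2) (Fin 2) F) 0 0 * (y : Matrix (Fin 2) (Fin 2) F) 1 0 - (x : Matrix (Fin 2) (Fin 2) F) 1 0 * (y : Matrix (Fin 2) (Fin 2) F) 0 0) := by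
  rw [Units.val_mul, Matrix.coe_units_inv, Matrix.inv_def, Matrix.adjugate_fin_two]
  simp [Matrix.mul_apply, Fin.sum_univ_two]
  ring

theorem det_ne_zero_GL (x : GL (Fin 2) F) : (x : Matrix (Fin 2) (Fin 2) F).det ≠ 0 :=
  ((Matrix.isUnit_iff_isUnit_det _).mp x.isUnit).ne_zero

/-- Two elements of `GL₂` lie in the same coset of the Borel subgroup iff their first columns
are proportional. -/
theorem coset_eq_iff (x y : GL (Fin 2) F) :
    (QuotientGroup.mk x : GL (Fin 2) F ⧸ Cfsg.upperTriangularGL 2 F) = QuotientGroup.mk y ↔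
      (x : Matrix (Fin 2) (Fin 2) F) 0 0 * (y : Matrix (Fin 2) (Fin 2) F) 1 0 =
        (x : Matrix (Fin 2) (Fin 2) F) 1 0 * (y : Matrix (Fin 2) (Fin 2) F) 0 0 := by
  rw [QuotientGroup.eq, mem_borel_iff, inv_mul_10]
  constructor
  · intro h
    rcases mul_eq_zero.mp h with h | h
    · exact absurd (inv_eq_zero.mp h) (det_ne_zero_GL x)
    · exact sub_eq_zero.mp h
  · intro h
    rw [h, sub_self, mul_zero]

/-- coset representatives: the line through `(1, s)` or through `(0, 1)`. -/
noncomputable def lineRep : Option F → GL (Fin 2) F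
  | some s => Matrix.GeneralLinearGroup.mkOfDetNeZero !![1, 0; s, 1] (by simp [Matrix.det_fin_two])
  | none => Matrix.GeneralLinearGroup.mkOfDetNeZero !![0, 1; 1, 0] (by simp [Matrix.det_fin_two])

theorem lineRep_bijective :
    Function.Bijective (fun o : Option F =>
      (QuotientGroup.mk (lineRep o) : GL (Fin 2) F ⧸ Cfsg.upperTriangularGL 2 F)) := by
  constructor
  · intro o o' h
    rw [coset_eq_iff] at h
    rcases o with _ | s <;> rcases o' with _ | s' <;>
      simp [lineRep, Matrix.GeneralLinearGroup.mkOfDetNeZero] at h ⊢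
    exact h.symm
  · intro c
    induction c using QuotientGroup.induction_on with
    | _ x =>
      by_cases h : (x : Matrix (Fin 2) (Fin 2) F) 0 0 = 0
      · refine ⟨none, ?_⟩
        show (QuotientGroup.mk (lineRep none) : GL (Fin 2) F ⧸ Cfsg.upperTriangularGL 2 F) = QuotientGroup.mk x
        rw [coset_eq_iff]
        simp [lineRep, Matrix.GeneralLinearGroup.mkOfDetNeZero, h]
      · refine ⟨some ((x : Matrix (Fin 2) (Fin 2) F) 1 0 / (x : Matrix (Fin 2) (Fin 2) F) 0 0), ?_⟩
        show (QuotientGroup.mk (lineRep (some _)) : GL (Fin 2) F ⧸ Cfsg.upperTriangularGL 2 F) = QuotientGroup.mk x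
        rw [coset_eq_iff]
        simp [lineRep, Matrix.GeneralLinearGroup.mkOfDetNeZero]
        field_simp

/-- The upper triangular element `[[a, c], [0, d]]`. -/
noncomputable def bmk (a d : Fˣ) (c : F) : GL (Fin 2) F :=
  Matrix.GeneralLinearGroup.mkOfDetNeZero !![(a : F), c; 0, (d : F)] (by simp [Matrix.det_fin_two])

@[simp] theorem bmk_coe (a d : Fˣ) (c : F) :
    ((bmk a d c : GL (Fin 2) F) : Matrix (Fin 2) (Fin 2) F) = !![(a : F), c; 0, (d : F)] := rfl

theorem bmk_mem (a d : Fˣ) (c : F) : bmk a d c ∈ Cfsg.upperTriangularGL 2 F := by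
  rw [mem_borel_iff]; simp

theorem borel_00_ne_zero (b : Cfsg.upperTriangularGL 2 F) :
    ((b : GL (Fin 2) F) : Matrix (Fin 2) (Fin 2) F) 0 0 ≠ 0 := by
  have h1 := det_ne_zero_GL (b : GL (Fin 2) F)
  have h2 := (mem_borel_iff _).mp b.2
  rw [Matrix.det_fin_two, h2, mul_zero, sub_zero] at h1
  exact left_ne_zero_of_mul h1

theorem borel_11_ne_zero (b : Cfsg.upperTriangularGL 2 F) :
    ((b : GL (Fin 2) F) : Matrix (Fin 2) (Fin 2) F) 1 1 ≠ 0 := by
  have h1 := det_ne_zero_GL (b : GL (Fin 2) F)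
  have h2 := (mem_borel_iff _).mp b.2
  rw [Matrix.det_fin_two, h2, mul_zero, sub_zero] at h1
  exact right_ne_zero_of_mul h1

/-- Parametrization of the Borel subgroup. -/
noncomputable def borelMk (x : Fˣ × Fˣ × F) : Cfsg.upperTriangularGL 2 F :=
  ⟨bmk x.1 x.2.1 x.2.2, bmk_mem _ _ _⟩

theorem borelMk_bijective : Function.Bijective (borelMk (F := F)) := by
  constructor
  · rintro ⟨a, d, c⟩ ⟨a', d', c'⟩ h
    have h1 : (!![(a : F), c; 0, (d : F)] : Matrix (Fin 2) (Fin 2) F) = !![(a' : F), c'; 0, (d' : F)] :=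
      congrArg (fun b : Cfsg.upperTriangularGL 2 F => ((b : GL (Fin 2) F) : Matrix (Fin 2) (Fin 2) F)) h
    have e00 := congrFun (congrFun h1 0) 0
    have e01 := congrFun (congrFun h1 0) 1
    have e11 := congrFun (congrFun h1 1) 1
    simp at e00 e01 e11
    rw [Units.ext e00, Units.ext e11, e01]
  · intro b
    refine ⟨(Units.mk0 _ (borel_00_ne_zero b), Units.mk0 _ (borel_11_ne_zero b),
      ((b : GL (Fin 2) F) : Matrix (Fin 2) (Fin 2) F) 0 1), ?_⟩
    apply Subtype.ext
    apply Units.ext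
    apply mat2_ext <;> simp [borelMk, (mem_borel_iff _).mp b.2]

theorem card_borel [Fintype F] :
    Nat.card (Cfsg.upperTriangularGL 2 F) = (Fintype.card F - 1) * ((Fintype.card F - 1) * Fintype.card F) := by
  classical
  rw [← Nat.card_eq_of_bijective _ (borelMk_bijective (F := F)), Nat.card_prod, Nat.card_prod,
    Nat.card_eq_fintype_card, Nat.card_eq_fintype_card, Fintype.card_units]

theorem sum_borel [Fintype F] [DecidableEq F] [Fintype (Cfsg.upperTriangularGL 2 F)]
    (f : Cfsg.upperTriangularGL 2 F → ℂ) :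
    ∑ b, f b = ∑ a : Fˣ, ∑ d : Fˣ, ∑ c : F, f (borelMk (a, d, c)) := by
  rw [← Fintype.sum_equiv (Equiv.ofBijective _ (borelMk_bijective (F := F))) (fun x => f (borelMk x)) f
    (fun x => rfl)]
  rw [Fintype.sum_prod_type]
  apply Finset.sum_congr rfl
  intro a _
  rw [Fintype.sum_prod_type]

/-- The diagonal entries, as homomorphisms `B → Fˣ`. -/
noncomputable def borelDiag0 : Cfsg.upperTriangularGL 2 F →* Fˣ where
  toFun b := Units.mk0 _ (borel_00_ne_zero b)
  map_one' := by apply Units.ext; simp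
  map_mul' b b' := by
    apply Units.ext
    have h2 := (mem_borel_iff _).mp b'.2
    simp [Matrix.mul_apply, Fin.sum_univ_two, h2]

noncomputable def borelDiag1 : Cfsg.upperTriangularGL 2 F →* Fˣ where
  toFun b := Units.mk0 _ (borel_11_ne_zero b)
  map_one' := by apply Units.ext; simp
  map_mul' b b' := by
    apply Units.ext
    have h2 := (mem_borel_iff _).mp b.2
    simp [Matrix.mul_apply, Fin.sum_univ_two, h2]

/-- The linear character `b ↦ α(b₀₀) β(b₁₁)` of the Borel subgroup, as a homomorphism. -/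
noncomputable def thetaHom (α β : MulChar F ℂ) : Cfsg.upperTriangularGL 2 F →* ℂˣ :=
  (α.toUnitHom.comp borelDiag0) * (β.toUnitHom.comp borelDiag1)

/-- The linear character `b ↦ α(b₀₀) β(b₁₁)` of the Borel subgroup. -/
noncomputable def thetaFun (α β : MulChar F ℂ) (b : Cfsg.upperTriangularGL 2 F) : ℂ :=
  α (((b : GL (Fin 2) F) : Matrix (Fin 2) (Fin 2) F) 0 0) *
    β (((b : GL (Fin 2) F) : Matrix (Fin 2) (Fin 2) F) 1 1)

theorem thetaHom_apply (α β : MulChar F ℂ) (b : Cfsg.upperTriangularGL 2 F) :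
    ((thetaHom α β b : ℂˣ) : ℂ) = thetaFun α β b := by
  simp [thetaHom, thetaFun, borelDiag0, borelDiag1]

theorem thetaFun_isIrrCharacter (α β : MulChar F ℂ) :
    Cfsg.IsIrrCharacter (Cfsg.upperTriangularGL 2 F) (thetaFun α β) := by
  have := isIrrCharacter_of_monoidHom (thetaHom α β)
  convert this using 1
  ext b
  exact (thetaHom_apply α β b).symm

theorem thetaFun_conj (α β : MulChar F ℂ) (h y : Cfsg.upperTriangularGL 2 F) :
    thetaFun α β (h⁻¹ * y * h) = thetaFun α β y := by
  rw [← thetaHom_apply, ← thetaHom_apply, map_mul, map_mul, map_inv, mul_comm, ← mul_assoc,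
    mul_inv_cancel, one_mul]

theorem thetaFun_borelMk (α β : MulChar F ℂ) (a d : Fˣ) (c : F) :
    thetaFun α β (borelMk (a, d, c)) = α a * β d := by
  simp [thetaFun, borelMk]

end Cfsg.Agent.Lib.Helper14
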