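import Mathlib
import Cfsg.Prelude.Def_Characters
import Cfsg.Agent.Lib.Helper2.Induction

/-!
# Induced class functions via a transversal
-/

set_option autoImplicit false

namespace Cfsg.Agent.Lib.Helper14

open Cfsg.Agent.Lib.Helper2

variable {G : Type*} [Group G] [Fintype G] (H : Subgroup G)

omit [Fintype G] in
/-- extension by zero of a class function of `H` is invariant under conjugation by `H`. -/
theorem extendByZero_conj (θ : H → ℂ) (hθ : ∀ h y : H, θ (h⁻¹ * y * h) = θ y) (y : G) (h : H) :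
    Cfsg.extendByZero H θ ((h : G)⁻¹ * y * h) = Cfsg.extendByZero H θ y := by
  by_cases hy : y ∈ H
  · have h1 : (h : G)⁻¹ * y * h = ((h⁻¹ * ⟨y, hy⟩ * h : H) : G) := rfl
    rw [h1, extendByZero_coe, hθ, extendByZero_of_mem H θ hy]
  · rw [extendByZero_of_not_mem H θ hy, extendByZero_of_not_mem]
    intro hc
    apply hy
    have := H.mul_mem (H.mul_mem h.2 hc) (H.inv_mem h.2)
    simpa [mul_assoc] using this

/-- The induced function as a sum over a transversal. -/
theorem indFun_eq_sum_transversal {ι : Type*} [Fintype ι] (r : ι → G)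
    (hr : Function.Bijective (fun i => (QuotientGroup.mk (r i) : G ⧸ H)))
    (θ : H → ℂ) (hθ : ∀ h y : H, θ (h⁻¹ * y * h) = θ y) (g : G) :
    Cfsg.indFun H θ g = ∑ i, Cfsg.extendByZero H θ ((r i)⁻¹ * g * r i) := by
  classical
  have : Fintype H := Fintype.ofFinite H
  rw [indFun_apply]
  have hbij : Function.Bijective (fun p : ι × H => r p.1 * (p.2 : G)) := by
    constructor
    · rintro ⟨i, h⟩ ⟨j, h'⟩ hij
      simp only at hij
      have h1 : (QuotientGroup.mk (r i) : G ⧸ H) = QuotientGroup.mk (r j) := by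
        rw [QuotientGroup.eq]
        have : (r i)⁻¹ * r j = h * (h' : G)⁻¹ := by
          rw [eq_mul_inv_iff_mul_eq, mul_assoc, ← hij]
          group
        rw [this]
        exact H.mul_mem h.2 (H.inv_mem h'.2)
      have h2 : i = j := hr.1 h1
      subst h2
      have h3 : (h : G) = h' := mul_left_cancel hij
      rw [Subtype.ext h3]
    · intro x
      obtain ⟨i, hi⟩ := hr.2 (QuotientGroup.mk x)
      have h1 : (r i)⁻¹ * x ∈ H := QuotientGroup.eq.mp hi
      exact ⟨(i, ⟨_, h1⟩), by simp⟩
  rw [← Fintype.sum_equiv (Equiv.ofBijective _ hbij) (fun p : ι × H =>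
    Cfsg.extendByZero H θ ((r p.1 * (p.2 : G))⁻¹ * g * (r p.1 * (p.2 : G)))) _ (fun p => rfl)]
  rw [Fintype.sum_prod_type]
  have h2 : ∀ (i : ι) (h : H), Cfsg.extendByZero H θ ((r i * (h : G))⁻¹ * g * (r i * (h : G))) =
      Cfsg.extendByZero H θ ((r i)⁻¹ * g * r i) := by
    intro i h
    rw [← extendByZero_conj H θ hθ ((r i)⁻¹ * g * r i) h]
    congr 1
    group
  simp only [h2, Finset.sum_const, Finset.card_univ, nsmul_eq_mul]
  rw [← Finset.mul_sum, ← mul_assoc, ← Nat.card_eq_fintype_card,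
    inv_mul_cancel₀ (card_subgroup_ne_zero H), one_mul]

end Cfsg.Agent.Lib.Helper14
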