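import Mathlib

/-!
# Orthogonality relations for multiplicative characters of a finite field (sums over units)
-/

set_option autoImplicit false

namespace Cfsg.Agent.Lib.Helper14

open scoped ComplexConjugate

variable {F : Type*} [Field F] [Fintype F]

theorem card_mulChar : Nat.card (MulChar F ℂ) = Fintype.card F - 1 := by
  classical
  rw [MulChar.card_eq_card_units_of_hasEnoughRootsOfUnity F ℂ, Nat.card_eq_fintype_card,
    Fintype.card_units]

theorem conj_mulChar (α : MulChar F ℂ) (a : F) : conj (α a) = α⁻¹ a :=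
  MulChar.star_apply' α a

theorem sum_units_mulChar [DecidableEq F] (α : MulChar F ℂ) [Decidable (α = 1)] :
    ∑ a : Fˣ, α (a : F) = if α = 1 then ((Fintype.card F - 1 : ℕ) : ℂ) else 0 := by
  split_ifs with h
  · subst h
    simp only [MulChar.one_apply_coe, Finset.sum_const, Finset.card_univ, nsmul_eq_mul, mul_one]
    rw [Fintype.card_units]
  · obtain ⟨b, hb⟩ := MulChar.ne_one_iff.mp h
    refine eq_zero_of_mul_eq_self_left hb ?_
    rw [Finset.mul_sum]
    simp only [← map_mul]
    exact Fintype.sum_equiv (Equiv.mulLeft b) _ _ (fun a => by simp)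

theorem sum_units_mul_conj [DecidableEq F] (α α' : MulChar F ℂ) [Decidable (α = α')] :
    ∑ a : Fˣ, α (a : F) * conj (α' (a : F)) =
      if α = α' then ((Fintype.card F - 1 : ℕ) : ℂ) else 0 := by
  classical
  have h1 : ∀ a : Fˣ, α (a : F) * conj (α' (a : F)) = (α * α'⁻¹) (a : F) := by
    intro a
    rw [conj_mulChar, MulChar.mul_apply]
  simp only [h1]
  rw [sum_units_mulChar]
  have h2 : α * α'⁻¹ = 1 ↔ α = α' := by
    rw [mul_inv_eq_one]
  simp only [h2]

/-- Dual orthogonality: sum over all characters. -/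
theorem sum_mulChar_apply [DecidableEq F] [Fintype (MulChar F ℂ)] (a : Fˣ) :
    ∑ α : MulChar F ℂ, α (a : F) = if a = 1 then ((Fintype.card F - 1 : ℕ) : ℂ) else 0 := by
  split_ifs with h
  · subst h
    simp only [Units.val_one, map_one, Finset.sum_const, Finset.card_univ, nsmul_eq_mul, mul_one]
    rw [← Nat.card_eq_fintype_card, card_mulChar]
  · have h' : (a : F) ≠ 1 := fun hh => h (Units.ext hh)
    obtain ⟨χ, hχ⟩ := MulChar.exists_apply_ne_one_of_hasEnoughRootsOfUnity F ℂ h'
    refine eq_zero_of_mul_eq_self_left hχ ?_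
    rw [Finset.mul_sum]
    simp only [← MulChar.mul_apply]
    exact Fintype.sum_equiv (Equiv.mulLeft χ) _ _ (fun a => by simp)

theorem sum_mulChar_conj_apply [DecidableEq F] [Fintype (MulChar F ℂ)] (a : Fˣ) :
    ∑ α : MulChar F ℂ, conj (α (a : F)) = if a = 1 then ((Fintype.card F - 1 : ℕ) : ℂ) else 0 := by
  have h1 : ∀ α : MulChar F ℂ, conj (α (a : F)) = α ((a⁻¹ : Fˣ) : F) := by
    intro α
    rw [conj_mulChar, MulChar.inv_apply', Units.val_inv_eq_inv_val]
  simp only [h1]
  rw [sum_mulChar_apply]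
  simp only [inv_eq_one]

end Cfsg.Agent.Lib.Helper14
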