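import Mathlib
import Cfsg.Agent.Lib.Helper14.GL2Borel
import Cfsg.Agent.Lib.Helper14.MulCharSum
import Cfsg.Agent.Lib.Helper14.IndTransversal

/-!
# Characters of `GL₂(F)` induced from linear characters of the Borel subgroup
-/

set_option autoImplicit false

namespace Cfsg.Agent.Lib.Helper14

open Matrix Cfsg.Agent.Lib.Helper2
open scoped ComplexConjugate

variable {F : Type*} [Field F]

theorem extendByZero_theta [DecidableEq F] (α β : MulChar F ℂ) (y : GL (Fin 2) F) :
    Cfsg.extendByZero (Cfsg.upperTriangularGL 2 F) (thetaFun α β) y =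
      if (y : Matrix (Fin 2) (Fin 2) F) 1 0 = 0 then
        α ((y : Matrix (Fin 2) (Fin 2) F) 0 0) * β ((y : Matrix (Fin 2) (Fin 2) F) 1 1) else 0 := by
  split_ifs with h
  · rw [extendByZero_of_mem _ _ ((mem_borel_iff y).mpr h)]
    rfl
  · rw [extendByZero_of_not_mem]
    rwa [mem_borel_iff]

omit [Field F] in
theorem mat2_mk_eq' {a b c d a' b' c' d' : F} (h1 : a = a') (h2 : b = b') (h3 : c = c') (h4 : d = d') :
    !![a, b; c, d] = !![a', b'; c', d'] := by
  subst h1 h2 h3 h4; rfl

theorem lineRep_some_inv (s : F) : (lineRep (some s))⁻¹ = lineRep (some (-s)) := by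
  apply inv_eq_of_mul_eq_one_right
  apply Units.ext
  apply mat2_ext <;>
    simp [lineRep, Matrix.GeneralLinearGroup.mkOfDetNeZero, Matrix.mul_apply, Fin.sum_univ_two]

theorem lineRep_none_inv : (lineRep (none : Option F))⁻¹ = lineRep none := by
  apply inv_eq_of_mul_eq_one_right
  apply Units.ext
  apply mat2_ext <;>
    simp [lineRep, Matrix.GeneralLinearGroup.mkOfDetNeZero, Matrix.mul_apply, Fin.sum_univ_two]

theorem lineRep_some_conj (g : GL (Fin 2) F) (s : F) :
    (((lineRep (some s))⁻¹ * g * lineRep (some s) : GL (Fin 2) F) : Matrix (Fin 2) (Fin 2) F) =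
      !![(g : Matrix (Fin 2) (Fin 2) F) 0 0 + (g : Matrix (Fin 2) (Fin 2) F) 0 1 * s,
         (g : Matrix (Fin 2) (Fin 2) F) 0 1;
         (g : Matrix (Fin 2) (Fin 2) F) 1 0 + (g : Matrix (Fin 2) (Fin 2) F) 1 1 * s -
           s * ((g : Matrix (Fin 2) (Fin 2) F) 0 0 + (g : Matrix (Fin 2) (Fin 2) F) 0 1 * s),
         (g : Matrix (Fin 2) (Fin 2) F) 1 1 - s * (g : Matrix (Fin 2) (Fin 2) F) 0 1] := by
  rw [lineRep_some_inv]
  show (!![1, 0; -s, 1] : Matrix (Fin 2) (Fin 2) F) * (g : Matrix (Fin 2) (Fin 2) F) * !![1, 0; s, 1] = _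
  conv_lhs => rw [Matrix.eta_fin_two (g : Matrix (Fin 2) (Fin 2) F)]
  rw [Matrix.mul_fin_two, Matrix.mul_fin_two]
  apply mat2_mk_eq' <;> ring

theorem lineRep_none_conj (g : GL (Fin 2) F) :
    (((lineRep none)⁻¹ * g * lineRep none : GL (Fin 2) F) : Matrix (Fin 2) (Fin 2) F) =
      !![(g : Matrix (Fin 2) (Fin 2) F) 1 1, (g : Matrix (Fin 2) (Fin 2) F) 1 0;
         (g : Matrix (Fin 2) (Fin 2) F) 0 1, (g : Matrix (Fin 2) (Fin 2) F) 0 0] := by
  rw [lineRep_none_inv]
  show (!![0, 1; 1, 0] : Matrix (Fin 2) (Fin 2) F) * (g : Matrix (Fin 2) (Fin 2) F) * !![0, 1; 1, 0] = _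
  conv_lhs => rw [Matrix.eta_fin_two (g : Matrix (Fin 2) (Fin 2) F)]
  rw [Matrix.mul_fin_two, Matrix.mul_fin_two]
  apply mat2_mk_eq' <;> ring

/-- Explicit formula for the character induced from the Borel subgroup. -/
theorem indTheta_apply [Fintype F] [DecidableEq F] (α β : MulChar F ℂ) (g : GL (Fin 2) F) :
    Cfsg.indFun (Cfsg.upperTriangularGL 2 F) (thetaFun α β) g =
      (if (g : Matrix (Fin 2) (Fin 2) F) 0 1 = 0 then
        α ((g : Matrix (Fin 2) (Fin 2) F) 1 1) * β ((g : Matrix (Fin 2) (Fin 2) F) 0 0) else 0) +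
      ∑ s : F, (if (g : Matrix (Fin 2) (Fin 2) F) 1 0 + (g : Matrix (Fin 2) (Fin 2) F) 1 1 * s -
          s * ((g : Matrix (Fin 2) (Fin 2) F) 0 0 + (g : Matrix (Fin 2) (Fin 2) F) 0 1 * s) = 0 then
        α ((g : Matrix (Fin 2) (Fin 2) F) 0 0 + (g : Matrix (Fin 2) (Fin 2) F) 0 1 * s) *
          β ((g : Matrix (Fin 2) (Fin 2) F) 1 1 - s * (g : Matrix (Fin 2) (Fin 2) F) 0 1) else 0) := by
  rw [indFun_eq_sum_transversal _ lineRep lineRep_bijective _ (thetaFun_conj α β), Fintype.sum_option]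
  congr 1
  · rw [extendByZero_theta, lineRep_none_conj]
    simp
  · apply Finset.sum_congr rfl
    intro s _
    rw [extendByZero_theta, lineRep_some_conj]
    simp

theorem indTheta_bmk [Fintype F] [DecidableEq F] (α β : MulChar F ℂ) (a d : Fˣ) (c : F) :
    Cfsg.indFun (Cfsg.upperTriangularGL 2 F) (thetaFun α β) (bmk a d c) =
      (if c = 0 then α (d : F) * β (a : F) else 0) +
      ∑ s : F, (if (d : F) * s - s * ((a : F) + c * s) = 0 then
        α ((a : F) + c * s) * β ((d : F) - s * c) else 0) := by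
  rw [indTheta_apply]
  simp

theorem indTheta_one [Fintype F] [DecidableEq F] (α β : MulChar F ℂ) :
    Cfsg.indFun (Cfsg.upperTriangularGL 2 F) (thetaFun α β) 1 = (Fintype.card F : ℂ) + 1 := by
  rw [indTheta_apply]
  simp [add_comm]

/-- Sum over the unipotent coset of the induced character. -/
theorem sum_indTheta_bmk [Fintype F] [DecidableEq F] (α β : MulChar F ℂ) (a d : Fˣ) :
    ∑ c : F, Cfsg.indFun (Cfsg.upperTriangularGL 2 F) (thetaFun α β) (bmk a d c) =
      (Fintype.card F : ℂ) * (α (a : F) * β (d : F) + α (d : F) * β (a : F)) := by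
  simp only [indTheta_bmk]
  rw [Finset.sum_add_distrib, Finset.sum_ite_eq' Finset.univ (0 : F), if_pos (Finset.mem_univ _),
    Finset.sum_comm, ← Finset.add_sum_erase _ _ (Finset.mem_univ (0 : F))]
  have h0 : ∑ c : F, (if (d : F) * 0 - 0 * ((a : F) + c * 0) = 0 then
      α ((a : F) + c * 0) * β ((d : F) - 0 * c) else 0) = (Fintype.card F : ℂ) * (α (a : F) * β (d : F)) := by
    simp
  have hs : ∀ s ∈ Finset.univ.erase (0 : F), ∑ c : F, (if (d : F) * s - s * ((a : F) + c * s) = 0 then
      α ((a : F) + c * s) * β ((d : F) - s * c) else 0) = α (d : F) * β (a : F) := by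
    intro s hs
    have hs0 : s ≠ 0 := Finset.ne_of_mem_erase hs
    rw [Finset.sum_eq_single (((d : F) - (a : F)) / s)]
    · have h1 : (d : F) * s - s * ((a : F) + ((d : F) - (a : F)) / s * s) = 0 := by
        field_simp
        ring
      rw [if_pos h1]
      congr 2
      · field_simp
        ring
      · field_simp
        ring
    · intro c _ hc
      rw [if_neg]
      intro h
      apply hc
      have h2 : s * ((d : F) - (a : F) - c * s) = 0 := by
        rw [← h]; ring
      rcases mul_eq_zero.mp h2 with h3 | h3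
      · exact absurd h3 hs0
      · field_simp
        linear_combination -h3
    · intro h
      exact absurd (Finset.mem_univ _) h
  rw [h0, Finset.sum_congr rfl hs, Finset.sum_const, Finset.card_erase_of_mem (Finset.mem_univ _),
    Finset.card_univ, nsmul_eq_mul]
  have hq : 1 ≤ Fintype.card F := Fintype.card_pos
  push_cast [Nat.cast_sub hq]
  ring

theorem indTheta_unip [Fintype F] [DecidableEq F] (α β : MulChar F ℂ) (g : GL (Fin 2) F)
    (h00 : (g : Matrix (Fin 2) (Fin 2) F) 0 0 = 1) (h11 : (g : Matrix (Fin 2) (Fin 2) F) 1 1 = 1)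
    (h10 : (g : Matrix (Fin 2) (Fin 2) F) 1 0 = 0) (h01 : (g : Matrix (Fin 2) (Fin 2) F) 0 1 ≠ 0) :
    Cfsg.indFun (Cfsg.upperTriangularGL 2 F) (thetaFun α β) g = 1 := by
  rw [indTheta_apply, if_neg h01, zero_add, Finset.sum_eq_single (0 : F)]
  · simp [h00, h11, h10]
  · intro s _ hs
    rw [if_neg]
    rw [h00, h11, h10]
    intro h
    have : (g : Matrix (Fin 2) (Fin 2) F) 0 1 * (s * s) = 0 := by linear_combination -h
    rcases mul_eq_zero.mp this with h1 | h1
    · exact h01 h1
    · exact hs (mul_self_eq_zero.mp h1)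
  · intro h
    exact absurd (Finset.mem_univ _) h

theorem indTheta_diag [Fintype F] [DecidableEq F] (α β : MulChar F ℂ) (g : GL (Fin 2) F)
    (h01 : (g : Matrix (Fin 2) (Fin 2) F) 0 1 = 0) (h10 : (g : Matrix (Fin 2) (Fin 2) F) 1 0 = 0)
    (hne : (g : Matrix (Fin 2) (Fin 2) F) 0 0 ≠ (g : Matrix (Fin 2) (Fin 2) F) 1 1) :
    Cfsg.indFun (Cfsg.upperTriangularGL 2 F) (thetaFun α β) g =
      α ((g : Matrix (Fin 2) (Fin 2) F) 0 0) * β ((g : Matrix (Fin 2) (Fin 2) F) 1 1) +
      α ((g : Matrix (Fin 2) (Fin 2) F) 1 1) * β ((g : Matrix (Fin 2) (Fin 2) F) 0 0) := by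
  rw [indTheta_apply, if_pos h01, Finset.sum_eq_single (0 : F)]
  · simp [h01, h10, add_comm]
  · intro s _ hs
    rw [if_neg]
    rw [h01, h10]
    intro h
    have : s * ((g : Matrix (Fin 2) (Fin 2) F) 1 1 - (g : Matrix (Fin 2) (Fin 2) F) 0 0) = 0 := by
      linear_combination h
    rcases mul_eq_zero.mp this with h1 | h1
    · exact hs h1
    · exact hne (sub_eq_zero.mp h1).symm
  · intro h
    exact absurd (Finset.mem_univ _) h

theorem indTheta_elliptic [Fintype F] [DecidableEq F] (α β : MulChar F ℂ) (g : GL (Fin 2) F)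
    (h : ∀ (c : F) (v : Fin 2 → F), v ≠ 0 → (g : Matrix (Fin 2) (Fin 2) F).mulVec v ≠ c • v) :
    Cfsg.indFun (Cfsg.upperTriangularGL 2 F) (thetaFun α β) g = 0 := by
  rw [indTheta_apply, if_neg, zero_add]
  · apply Finset.sum_eq_zero
    intro s _
    rw [if_neg]
    intro hc
    apply h ((g : Matrix (Fin 2) (Fin 2) F) 0 0 + (g : Matrix (Fin 2) (Fin 2) F) 0 1 * s) ![1, s]
    · intro h0
      have := congrFun h0 0
      simp at this
    · ext i
      fin_cases i
      · simp [Matrix.mulVec, dotProduct, Fin.sum_univ_two]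
      · simp [Matrix.mulVec, dotProduct, Fin.sum_univ_two]
        linear_combination hc
  · intro h01
    apply h ((g : Matrix (Fin 2) (Fin 2) F) 1 1) ![0, 1]
    · intro h0
      have := congrFun h0 1
      simp at this
    · ext i
      fin_cases i
      · simp [Matrix.mulVec, dotProduct, Fin.sum_univ_two, h01]
      · simp [Matrix.mulVec, dotProduct, Fin.sum_univ_two]

/-- Mackey formula for the principal series of `GL₂`. -/
theorem classInner_indTheta [Fintype F] [DecidableEq F] (α β α' β' : MulChar F ℂ)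
    [Decidable (α = α')] [Decidable (β = β')] [Decidable (α = β')] [Decidable (β = α')] :
    Cfsg.classInner (Cfsg.indFun (Cfsg.upperTriangularGL 2 F) (thetaFun α β))
      (Cfsg.indFun (Cfsg.upperTriangularGL 2 F) (thetaFun α' β')) =
      (if α = α' ∧ β = β' then 1 else 0) + (if α = β' ∧ β = α' then 1 else 0) := by
  have : Fintype (Cfsg.upperTriangularGL 2 F) := Fintype.ofFinite _
  rw [frobenius_reciprocity _ _ _ (indFun_isClassFunction _ _), classInner_def, sum_borel]
  have h1 : ∀ (a d : Fˣ), ∑ c : F, thetaFun α β (borelMk (a, d, c)) *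
      conj (Cfsg.indFun (Cfsg.upperTriangularGL 2 F) (thetaFun α' β')
        ((borelMk (a, d, c) : Cfsg.upperTriangularGL 2 F) : GL (Fin 2) F)) =
      (Fintype.card F : ℂ) * ((α (a : F) * conj (α' (a : F))) * (β (d : F) * conj (β' (d : F))) +
        (α (a : F) * conj (β' (a : F))) * (β (d : F) * conj (α' (d : F)))) := by
    intro a d
    simp only [thetaFun_borelMk]
    rw [← Finset.mul_sum, ← map_sum]
    have : ∑ c : F, Cfsg.indFun (Cfsg.upperTriangularGL 2 F) (thetaFun α' β')
        ((borelMk (a, d, c) : Cfsg.upperTriangularGL 2 F) : GL (Fin 2) F) =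
        ∑ c : F, Cfsg.indFun (Cfsg.upperTriangularGL 2 F) (thetaFun α' β') (bmk a d c) := rfl
    rw [this, sum_indTheta_bmk]
    simp only [map_mul, map_add, Complex.conj_natCast]
    ring
  simp only [h1]
  simp only [← Finset.mul_sum, Finset.sum_add_distrib]
  rw [← Finset.sum_mul, ← Finset.sum_mul, sum_units_mul_conj, sum_units_mul_conj,
    sum_units_mul_conj, sum_units_mul_conj, card_borel]
  have hq : 1 ≤ Fintype.card F := Fintype.card_pos
  have hq1 : (Fintype.card F : ℂ) ≠ 0 := by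
    exact_mod_cast (Nat.pos_iff_ne_zero.mp hq)
  by_cases hq2 : Fintype.card F = 1
  · -- impossible for a field
    exfalso
    have := Fintype.one_lt_card (α := F)
    omega
  have hq3 : ((Fintype.card F - 1 : ℕ) : ℂ) ≠ 0 := by
    have : Fintype.card F - 1 ≠ 0 := by omega
    exact_mod_cast this
  have e : ∀ (P : Prop) [Decidable P], (if P then ((Fintype.card F - 1 : ℕ) : ℂ) else 0) =
      ((Fintype.card F - 1 : ℕ) : ℂ) * (if P then 1 else 0) := by
    intro P _; split_ifs <;> simp
  have e2 : ∀ (P Q : Prop) [Decidable P] [Decidable Q], (if P ∧ Q then (1 : ℂ) else 0) =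
      (if P then 1 else 0) * (if Q then 1 else 0) := by
    intro P Q _ _; split_ifs <;> simp_all
  rw [e (α = α'), e (β = β'), e (α = β'), e (β = α'), e2, e2]
  generalize (if α = α' then (1 : ℂ) else 0) = x1
  generalize (if β = β' then (1 : ℂ) else 0) = x2
  generalize (if α = β' then (1 : ℂ) else 0) = x3
  generalize (if β = α' then (1 : ℂ) else 0) = x4
  push_cast
  field_simp

end Cfsg.Agent.Lib.Helper14
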