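import Mathlib
import Cfsg.Agent.Lib.Helper14.GL2Ind
import Cfsg.Agent.Lib.Helper2.Expansion
import Cfsg.Agent.Lib.Helper2.Integrality
import Cfsg.Agent.Lib.Helper2.Regular

/-!
# Irreducible characters of `GL₂(F)`: principal series, Steinberg and linear characters
-/

set_option autoImplicit false

namespace Cfsg.Agent.Lib.Helper14

open Matrix Cfsg.Agent.Lib.Helper2
open scoped ComplexConjugate

variable {F : Type*} [Field F] [Fintype F] [DecidableEq F]

/-- The principal series character induced from `(α, β)`. -/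
noncomputable def ps (α β : MulChar F ℂ) : GL (Fin 2) F → ℂ :=
  Cfsg.indFun (Cfsg.upperTriangularGL 2 F) (thetaFun α β)

/-- The linear character `α ∘ det`, as a homomorphism. -/
noncomputable def detHom (α : MulChar F ℂ) : GL (Fin 2) F →* ℂˣ :=
  α.toUnitHom.comp Matrix.GeneralLinearGroup.det

/-- The linear character `α ∘ det`. -/
noncomputable def detChar (α : MulChar F ℂ) : GL (Fin 2) F → ℂ :=
  fun g => α ((g : Matrix (Fin 2) (Fin 2) F).det)

omit [Fintype F] [DecidableEq F] in
theorem detChar_isIrrCharacter (α : MulChar F ℂ) :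
    Cfsg.IsIrrCharacter (GL (Fin 2) F) (detChar α) := by
  have := isIrrCharacter_of_monoidHom (detHom α)
  convert this using 1
  ext g
  simp [detChar, detHom]

/-- The Steinberg-type character `ps α α - α ∘ det`. -/
noncomputable def st (α : MulChar F ℂ) : GL (Fin 2) F → ℂ := ps α α - detChar α

theorem ps_isCharacter (α β : MulChar F ℂ) : Cfsg.IsCharacter (GL (Fin 2) F) (ps α β) :=
  indFun_isCharacter _ _ (IsIrrCharacter.isCharacter (thetaFun_isIrrCharacter α β))

theorem classInner_ps_ps (α β α' β' : MulChar F ℂ)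
    [Decidable (α = α')] [Decidable (β = β')] [Decidable (α = β')] [Decidable (β = α')] :
    Cfsg.classInner (ps α β) (ps α' β') =
      (if α = α' ∧ β = β' then 1 else 0) + (if α = β' ∧ β = α' then 1 else 0) :=
  classInner_indTheta α β α' β'

theorem ps_isIrrCharacter {α β : MulChar F ℂ} (h : α ≠ β) :
    Cfsg.IsIrrCharacter (GL (Fin 2) F) (ps α β) := by
  classical
  apply isIrrCharacter_of_classInner_self_eq_one (ps_isCharacter α β)
  rw [classInner_ps_ps]
  simp [h]

theorem ps_comm (α β : MulChar F ℂ) : ps α β = ps β α := by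
  classical
  have h : Cfsg.classInner (ps α β - ps β α) (ps α β - ps β α) = 0 := by
    rw [classInner_sub_left, classInner_sub_right, classInner_sub_right, classInner_ps_ps,
      classInner_ps_ps, classInner_ps_ps, classInner_ps_ps]
    by_cases hab : α = β
    · subst hab; simp
    · have hba : β ≠ α := fun h => hab h.symm
      simp [hab, hba]
  have := eq_zero_of_classInner_self_eq_zero _ h
  exact sub_eq_zero.mp this

theorem ps_one (α β : MulChar F ℂ) : ps α β 1 = (Fintype.card F : ℂ) + 1 := indTheta_one α β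

omit [Fintype F] [DecidableEq F] in
theorem detChar_one (α : MulChar F ℂ) : detChar α 1 = 1 := by
  simp [detChar]

theorem st_one (α : MulChar F ℂ) : st α 1 = (Fintype.card F : ℂ) := by
  simp [st, ps_one, detChar_one]

/-- Inner product of a principal series character with a linear character. -/
theorem classInner_ps_detChar (α β γ : MulChar F ℂ) [Decidable (α = γ)] [Decidable (β = γ)] :
    Cfsg.classInner (ps α β) (detChar γ) = if α = γ ∧ β = γ then 1 else 0 := by
  have : Fintype (Cfsg.upperTriangularGL 2 F) := Fintype.ofFinite _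
  unfold ps
  rw [frobenius_reciprocity _ _ _
    (IsCharacter.isClassFunction (IsIrrCharacter.isCharacter (detChar_isIrrCharacter γ))),
    classInner_def, sum_borel]
  have h1 : ∀ (a d : Fˣ) (c : F), thetaFun α β (borelMk (a, d, c)) *
      conj (detChar γ ((borelMk (a, d, c) : Cfsg.upperTriangularGL 2 F) : GL (Fin 2) F)) =
      (α (a : F) * conj (γ (a : F))) * (β (d : F) * conj (γ (d : F))) := by
    intro a d c
    rw [thetaFun_borelMk]
    have : detChar γ ((borelMk (a, d, c) : Cfsg.upperTriangularGL 2 F) : GL (Fin 2) F) =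
        γ (a : F) * γ (d : F) := by
      show γ ((!![(a : F), c; 0, (d : F)] : Matrix (Fin 2) (Fin 2) F).det) = _
      rw [Matrix.det_fin_two_of, mul_zero, sub_zero, map_mul]
    rw [this, map_mul]
    ring
  simp only [h1, Finset.sum_const, Finset.card_univ, nsmul_eq_mul, ← Finset.mul_sum]
  rw [← Finset.sum_mul, sum_units_mul_conj, sum_units_mul_conj, card_borel]
  have hq : 1 ≤ Fintype.card F := Fintype.card_pos
  have hq1 : (Fintype.card F : ℂ) ≠ 0 := by
    exact_mod_cast (Nat.pos_iff_ne_zero.mp hq)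
  have hq2 : Fintype.card F ≠ 1 := by
    have := Fintype.one_lt_card (α := F)
    omega
  have hq3 : ((Fintype.card F - 1 : ℕ) : ℂ) ≠ 0 := by
    have : Fintype.card F - 1 ≠ 0 := by omega
    exact_mod_cast this
  by_cases h1 : α = γ <;> by_cases h2 : β = γ <;> simp [h1, h2]
  field_simp

/-- `st α` is a character and `ps α α = detChar α + st α`. -/
theorem st_isIrrCharacter (α : MulChar F ℂ) : Cfsg.IsIrrCharacter (GL (Fin 2) F) (st α) := by
  classical
  have h1 : Cfsg.classInner (ps α α) (detChar α) = 1 := by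
    rw [classInner_ps_detChar]; simp
  obtain ⟨Ψ, hΨ, hsum⟩ := exists_add_of_classInner_ne_zero (ps_isCharacter α α)
    ⟨detChar α, detChar_isIrrCharacter α⟩ (by rw [h1]; exact one_ne_zero)
  have hst : st α = Ψ := by
    unfold st
    rw [hsum]
    simp
  rw [hst]
  apply isIrrCharacter_of_classInner_self_eq_one hΨ
  rw [← hst]
  unfold st
  have h2 : Cfsg.classInner (detChar α) (ps α α) = 1 := by
    rw [← classInner_conj_symm, h1, map_one]
  have h3 : Cfsg.classInner (detChar α) (detChar α) = 1 :=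
    classInner_irrCharacter_self ⟨detChar α, detChar_isIrrCharacter α⟩
  rw [classInner_sub_left, classInner_sub_right, classInner_sub_right, classInner_ps_ps, h1, h2, h3]
  norm_num

theorem ps_self_eq (α : MulChar F ℂ) : ps α α = detChar α + st α := by
  unfold st; abel

/-- The upper unitriangular element `[[1, c], [0, 1]]`. -/
noncomputable def uel (c : F) : GL (Fin 2) F := bmk 1 1 c

omit [Fintype F] [DecidableEq F] in
theorem uel_zero : uel (0 : F) = 1 := by
  apply Units.ext
  apply mat2_ext <;> simp [uel]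

omit [Fintype F] [DecidableEq F] in
theorem uel_conj (c : F) (hc : c ≠ 0) :
    bmk (Units.mk0 c hc) 1 0 * uel 1 * (bmk (Units.mk0 c hc) 1 0)⁻¹ = uel c := by
  rw [mul_inv_eq_iff_eq_mul]
  apply Units.ext
  show (!![c, 0; 0, 1] : Matrix (Fin 2) (Fin 2) F) * !![1, 1; 0, 1] = !![1, c; 0, 1] * !![c, 0; 0, 1]
  rw [Matrix.mul_fin_two, Matrix.mul_fin_two]
  apply mat2_mk_eq' <;> ring

omit [Fintype F] [DecidableEq F] in
theorem classFun_uel {χ : GL (Fin 2) F → ℂ} (hχ : Cfsg.IsClassFunction (GL (Fin 2) F) χ) (c : F)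
    (hc : c ≠ 0) : χ (uel c) = χ (uel 1) := by
  rw [← uel_conj c hc, hχ]

/-- Sum of the values on the unipotent radical. -/
theorem sum_uel {χ : GL (Fin 2) F → ℂ} (hχ : Cfsg.IsClassFunction (GL (Fin 2) F) χ) :
    ∑ c : F, χ (uel c) = χ 1 + ((Fintype.card F : ℂ) - 1) * χ (uel 1) := by
  rw [← Finset.add_sum_erase _ _ (Finset.mem_univ (0 : F)), uel_zero]
  congr 1
  rw [Finset.sum_congr rfl (fun c hc => classFun_uel hχ c (Finset.ne_of_mem_erase hc)),
    Finset.sum_const, Finset.card_erase_of_mem (Finset.mem_univ _), Finset.card_univ, nsmul_eq_mul]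
  have hq : 1 ≤ Fintype.card F := Fintype.card_pos
  push_cast [Nat.cast_sub hq]
  ring

/-- The sum of all multiplicities in principal series is the multiplicity of the trivial
character on the unipotent radical. -/
theorem sum_classInner_ps [Fintype (MulChar F ℂ)] (χ : GL (Fin 2) F → ℂ)
    (hχ : Cfsg.IsClassFunction (GL (Fin 2) F) χ) :
    ∑ α : MulChar F ℂ, ∑ β : MulChar F ℂ, Cfsg.classInner (ps α β) χ =
      (Fintype.card F : ℂ)⁻¹ * ∑ c : F, conj (χ (uel c)) := by
  have : Fintype (Cfsg.upperTriangularGL 2 F) := Fintype.ofFinite _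
  unfold ps
  simp only [frobenius_reciprocity _ _ _ hχ]
  simp only [← classInner_sum_left]
  rw [classInner_def, sum_borel]
  have h1 : ∀ (a d : Fˣ) (c : F), (∑ α : MulChar F ℂ, ∑ β : MulChar F ℂ, thetaFun α β) (borelMk (a, d, c)) =
      (if a = 1 then ((Fintype.card F - 1 : ℕ) : ℂ) else 0) *
        (if d = 1 then ((Fintype.card F - 1 : ℕ) : ℂ) else 0) := by
    intro a d c
    simp only [Finset.sum_apply, thetaFun_borelMk]
    rw [← Finset.sum_mul_sum, sum_mulChar_apply, sum_mulChar_apply]
  simp only [h1]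
  rw [Finset.sum_eq_single (1 : Fˣ), Finset.sum_eq_single (1 : Fˣ)]
  · simp only [if_true]
    rw [← Finset.mul_sum, card_borel]
    have hq : 1 ≤ Fintype.card F := Fintype.card_pos
    have hq1 : (Fintype.card F : ℂ) ≠ 0 := by
      exact_mod_cast (Nat.pos_iff_ne_zero.mp hq)
    have hq2 : Fintype.card F ≠ 1 := by
      have := Fintype.one_lt_card (α := F)
      omega
    have hq3 : ((Fintype.card F - 1 : ℕ) : ℂ) ≠ 0 := by
      have : Fintype.card F - 1 ≠ 0 := by omega
      exact_mod_cast this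
    have : ∀ c : F, ((borelMk ((1 : Fˣ), (1 : Fˣ), c) : Cfsg.upperTriangularGL 2 F) : GL (Fin 2) F) = uel c :=
      fun c => rfl
    simp only [this]
    push_cast
    field_simp
  · intro d _ hd
    simp [hd]
  · intro h; exact absurd (Finset.mem_univ _) h
  · intro a _ ha
    simp [ha]
  · intro h; exact absurd (Finset.mem_univ _) h

/-- Cuspidal: orthogonal to all principal series characters. -/
def IsCusp (χ : GL (Fin 2) F → ℂ) : Prop :=
  ∀ α β : MulChar F ℂ, Cfsg.classInner (ps α β) χ = 0

theorem cusp_sum_uel {χ : GL (Fin 2) F → ℂ} (hχ : Cfsg.IsClassFunction (GL (Fin 2) F) χ)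
    (hc : IsCusp χ) : ∑ c : F, χ (uel c) = 0 := by
  classical
  have : Fintype (MulChar F ℂ) := Fintype.ofFinite _
  have h := sum_classInner_ps χ hχ
  simp only [hc _ _, Finset.sum_const_zero] at h
  have hq1 : (Fintype.card F : ℂ) ≠ 0 := by
    have hq : 1 ≤ Fintype.card F := Fintype.card_pos
    exact_mod_cast (Nat.pos_iff_ne_zero.mp hq)
  have h2 : ∑ c : F, conj (χ (uel c)) = 0 := by
    rcases mul_eq_zero.mp h.symm with h3 | h3
    · exact absurd (inv_eq_zero.mp h3) hq1
    · exact h3
  rw [← map_sum] at h2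
  exact (map_eq_zero _).mp h2

/-- A cuspidal irreducible character has degree `(q - 1) m` and value `-m` at a transvection. -/
theorem cusp_degree {χ : GL (Fin 2) F → ℂ} (hχ : Cfsg.IsIrrCharacter (GL (Fin 2) F) χ)
    (hc : IsCusp χ) : ∃ m : ℕ, 1 ≤ m ∧ χ 1 = ((Fintype.card F : ℂ) - 1) * m ∧ χ (uel 1) = -(m : ℂ) := by
  have hcf := IsCharacter.isClassFunction (IsIrrCharacter.isCharacter hχ)
  have h1 := cusp_sum_uel hcf hc
  rw [sum_uel hcf] at h1
  obtain ⟨n, hn0, hn⟩ := IsIrrCharacter.apply_one hχ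
  obtain ⟨k, ρ, hρ, hρχ⟩ := hχ
  have hint : IsIntegral ℤ (χ (uel 1)) := by
    rw [← hρχ]; exact char_isIntegral ρ _
  have hq : 2 ≤ Fintype.card F := Fintype.one_lt_card
  have hq1 : ((Fintype.card F : ℂ) - 1) ≠ 0 := by
    have : ((Fintype.card F - 1 : ℕ) : ℂ) ≠ 0 := by
      have : Fintype.card F - 1 ≠ 0 := by omega
      exact_mod_cast this
    rwa [Nat.cast_sub (by omega), Nat.cast_one] at this
  have hval : χ (uel 1) = ((-(n : ℚ) / ((Fintype.card F : ℚ) - 1) : ℚ) : ℂ) := by
    push_cast
    rw [eq_div_iff hq1]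
    rw [hn] at h1
    linear_combination h1
  obtain ⟨z, hz⟩ := exists_int_of_isIntegral_of_rat _ hval hint
  rw [hz, hn] at h1
  have h2 : (n : ℤ) + ((Fintype.card F : ℤ) - 1) * z = 0 := by
    have : ((n : ℤ) : ℂ) + (((Fintype.card F : ℤ) : ℂ) - 1) * (z : ℂ) = 0 := by
      push_cast
      exact h1
    exact_mod_cast this
  have hz0 : z < 0 := by
    by_contra hz0
    push Not at hz0
    have : 0 ≤ ((Fintype.card F : ℤ) - 1) * z := by
      apply mul_nonneg _ hz0
      have : (2 : ℤ) ≤ Fintype.card F := by exact_mod_cast hq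
      linarith
    have hn0' : (0 : ℤ) < n := by exact_mod_cast hn0
    linarith
  refine ⟨(-z).toNat, ?_, ?_, ?_⟩
  · omega
  · rw [hn]
    have h3 : ((-z).toNat : ℤ) = -z := Int.toNat_of_nonneg (by omega)
    have h4 : (n : ℤ) = ((Fintype.card F : ℤ) - 1) * ((-z).toNat : ℤ) := by
      rw [h3]; linarith
    have : ((n : ℤ) : ℂ) = (((Fintype.card F : ℤ) : ℂ) - 1) * (((-z).toNat : ℤ) : ℂ) := by
      exact_mod_cast h4
    push_cast at this
    exact this
  · rw [hz]
    have h3 : ((-z).toNat : ℤ) = -z := Int.toNat_of_nonneg (by omega)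
    have : (z : ℂ) = -(((-z).toNat : ℤ) : ℂ) := by
      rw [h3]; push_cast; ring
    rw [this]
    push_cast
    ring

/-- A non-cuspidal irreducible character is linear, Steinberg-type, or principal series. -/
theorem not_cusp_cases (χ : Cfsg.IrrCharacter (GL (Fin 2) F)) (h : ¬ IsCusp (χ : GL (Fin 2) F → ℂ)) :
    (∃ α : MulChar F ℂ, (χ : GL (Fin 2) F → ℂ) = detChar α) ∨
    (∃ α : MulChar F ℂ, (χ : GL (Fin 2) F → ℂ) = st α) ∨
    (∃ α β : MulChar F ℂ, α ≠ β ∧ (χ : GL (Fin 2) F → ℂ) = ps α β) := by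
  classical
  unfold IsCusp at h
  push Not at h
  obtain ⟨α, β, hab⟩ := h
  by_cases hne : α = β
  · subst hne
    rw [ps_self_eq, classInner_add_left] at hab
    by_cases h1 : Cfsg.classInner (detChar α) (χ : GL (Fin 2) F → ℂ) = 0
    · rw [h1, zero_add] at hab
      right; left
      refine ⟨α, ?_⟩
      by_contra hcon
      apply hab
      have : (⟨st α, st_isIrrCharacter α⟩ : Cfsg.IrrCharacter (GL (Fin 2) F)) ≠ χ := by
        intro h2; apply hcon; rw [← h2]
      exact classInner_irrCharacter_ne (χ := ⟨st α, st_isIrrCharacter α⟩) (ψ := χ) this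
    · left
      refine ⟨α, ?_⟩
      by_contra hcon
      apply h1
      have : (⟨detChar α, detChar_isIrrCharacter α⟩ : Cfsg.IrrCharacter (GL (Fin 2) F)) ≠ χ := by
        intro h2; apply hcon; rw [← h2]
      exact classInner_irrCharacter_ne (χ := ⟨detChar α, detChar_isIrrCharacter α⟩) (ψ := χ) this
  · right; right
    refine ⟨α, β, hne, ?_⟩
    by_contra hcon
    apply hab
    have : (⟨ps α β, ps_isIrrCharacter hne⟩ : Cfsg.IrrCharacter (GL (Fin 2) F)) ≠ χ := by
      intro h2; apply hcon; rw [← h2]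
    exact classInner_irrCharacter_ne (χ := ⟨ps α β, ps_isIrrCharacter hne⟩) (ψ := χ) this

end Cfsg.Agent.Lib.Helper14
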