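import Mathlib

/-!
# 2 × 2 matrices over a field: cyclic vectors, companion matrices, conjugacy in `GL₂`
-/

set_option autoImplicit false

namespace Cfsg.Agent.Lib.Helper14

open Matrix

variable {F : Type*} [Field F]

/-- companion matrix with trace `t` and determinant `δ`. -/
def comp2 (t δ : F) : Matrix (Fin 2) (Fin 2) F := !![0, -δ; 1, t]

@[simp] theorem comp2_det (t δ : F) : (comp2 t δ).det = δ := by
  simp [comp2, Matrix.det_fin_two]

@[simp] theorem comp2_trace (t δ : F) : (comp2 t δ).trace = t := by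
  simp [comp2, Matrix.trace_fin_two]

/-- A `2 × 2` matrix is scalar. -/
def IsScalar2 (M : Matrix (Fin 2) (Fin 2) F) : Prop := M 0 1 = 0 ∧ M 1 0 = 0 ∧ M 0 0 = M 1 1

theorem isScalar2_iff (M : Matrix (Fin 2) (Fin 2) F) :
    IsScalar2 M ↔ ∃ a : F, M = a • (1 : Matrix (Fin 2) (Fin 2) F) := by
  constructor
  · rintro ⟨h1, h2, h3⟩
    refine ⟨M 0 0, ?_⟩
    ext i j
    fin_cases i <;> fin_cases j <;> simp [h1, h2, h3]
  · rintro ⟨a, rfl⟩
    simp [IsScalar2]

theorem comp2_not_isScalar2 (t δ : F) : ¬ IsScalar2 (comp2 t δ) := by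
  rintro ⟨_, h2, _⟩
  simp [comp2] at h2

/-- The cyclic form `Q_M(x,y) = det [v | M v]` for `v = (x,y)`. -/
def cyc2 (M : Matrix (Fin 2) (Fin 2) F) (x y : F) : F :=
  M 1 0 * x ^ 2 + (M 1 1 - M 0 0) * x * y - M 0 1 * y ^ 2

/-- The matrix `[v | M v]` for `v = (x,y)`. -/
def cycMat2 (M : Matrix (Fin 2) (Fin 2) F) (x y : F) : Matrix (Fin 2) (Fin 2) F :=
  !![x, M 0 0 * x + M 0 1 * y; y, M 1 0 * x + M 1 1 * y]

theorem det_cycMat2 (M : Matrix (Fin 2) (Fin 2) F) (x y : F) :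
    (cycMat2 M x y).det = cyc2 M x y := by
  simp [cycMat2, cyc2, Matrix.det_fin_two]; ring

theorem exists_cyc2_ne_zero (M : Matrix (Fin 2) (Fin 2) F) (h : ¬ IsScalar2 M) :
    ∃ x y : F, cyc2 M x y ≠ 0 := by
  by_cases h1 : M 1 0 = 0
  · by_cases h2 : M 0 1 = 0
    · have h3 : M 0 0 ≠ M 1 1 := fun h3 => h ⟨h2, h1, h3⟩
      refine ⟨1, 1, ?_⟩
      simp [cyc2, h1, h2, sub_eq_zero, Ne.symm h3]
    · exact ⟨0, 1, by simp [cyc2, h2]⟩
  · exact ⟨1, 0, by simp [cyc2, h1]⟩

theorem mul_cycMat2 (M : Matrix (Fin 2) (Fin 2) F) (x y : F) :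
    M * cycMat2 M x y = cycMat2 M x y * comp2 M.trace M.det := by
  ext i j
  fin_cases i <;> fin_cases j <;>
    simp [cycMat2, comp2, Matrix.mul_apply, Fin.sum_univ_two, Matrix.trace_fin_two, Matrix.det_fin_two] <;> ring

/-- Conjugation in `GL₂` preserves scalar matrices. -/
theorem isScalar2_conj {g h : GL (Fin 2) F} (hc : IsConj g h)
    (hg : IsScalar2 (g : Matrix (Fin 2) (Fin 2) F)) : IsScalar2 (h : Matrix (Fin 2) (Fin 2) F) := by
  obtain ⟨c, hc⟩ := isConj_iff.mp hc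
  rw [isScalar2_iff] at hg ⊢
  obtain ⟨a, ha⟩ := hg
  refine ⟨a, ?_⟩
  rw [← hc]
  simp only [Units.val_mul, ha, Matrix.mul_smul, Matrix.mul_one, Matrix.smul_mul]
  rw [← Units.val_mul, mul_inv_cancel, Units.val_one]

theorem trace_conj {g h : GL (Fin 2) F} (hc : IsConj g h) :
    (g : Matrix (Fin 2) (Fin 2) F).trace = (h : Matrix (Fin 2) (Fin 2) F).trace := by
  obtain ⟨c, hc⟩ := isConj_iff.mp hc
  rw [← hc]
  simp only [Units.val_mul]
  rw [Matrix.trace_mul_cycle, ← Units.val_mul, inv_mul_cancel, Units.val_one, Matrix.one_mul]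

theorem det_conj {g h : GL (Fin 2) F} (hc : IsConj g h) :
    (g : Matrix (Fin 2) (Fin 2) F).det = (h : Matrix (Fin 2) (Fin 2) F).det := by
  obtain ⟨c, hc⟩ := isConj_iff.mp hc
  rw [← hc]
  simp only [Units.val_mul, Matrix.det_mul]
  have : (c : Matrix (Fin 2) (Fin 2) F).det * ((c⁻¹ : GL (Fin 2) F) : Matrix (Fin 2) (Fin 2) F).det = 1 := by
    rw [← Matrix.det_mul, ← Units.val_mul, mul_inv_cancel, Units.val_one, Matrix.det_one]
  calc (g : Matrix (Fin 2) (Fin 2) F).det = (g : Matrix (Fin 2) (Fin 2) F).det *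
      ((c : Matrix (Fin 2) (Fin 2) F).det * ((c⁻¹ : GL (Fin 2) F) : Matrix (Fin 2) (Fin 2) F).det) := by
        rw [this, mul_one]
    _ = _ := by ring

/-- The companion matrix as an element of `GL₂`. -/
noncomputable def comp2GL (t : F) (δ : Fˣ) : GL (Fin 2) F :=
  Matrix.GeneralLinearGroup.mkOfDetNeZero (comp2 t (δ : F)) (by simp)

@[simp] theorem comp2GL_coe (t : F) (δ : Fˣ) :
    ((comp2GL t δ : GL (Fin 2) F) : Matrix (Fin 2) (Fin 2) F) = comp2 t (δ : F) := rfl

/-- A non-scalar element of `GL₂` is conjugate to the companion matrix of its characteristic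
polynomial. -/
theorem isConj_comp2GL (g : GL (Fin 2) F) (hg : ¬ IsScalar2 (g : Matrix (Fin 2) (Fin 2) F))
    (δ : Fˣ) (hδ : (δ : F) = (g : Matrix (Fin 2) (Fin 2) F).det) :
    IsConj g (comp2GL (g : Matrix (Fin 2) (Fin 2) F).trace δ) := by
  obtain ⟨x, y, hxy⟩ := exists_cyc2_ne_zero _ hg
  rw [isConj_comm, isConj_iff]
  refine ⟨Matrix.GeneralLinearGroup.mkOfDetNeZero (cycMat2 (g : Matrix (Fin 2) (Fin 2) F) x y)
    (by rw [det_cycMat2]; exact hxy), ?_⟩
  rw [mul_inv_eq_iff_eq_mul]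
  apply Units.ext
  simp only [Units.val_mul, comp2GL_coe, hδ]
  exact (mul_cycMat2 _ x y).symm

/-- Two non-scalar elements of `GL₂` with the same trace and determinant are conjugate. -/
theorem isConj_of_trace_det (g h : GL (Fin 2) F)
    (hg : ¬ IsScalar2 (g : Matrix (Fin 2) (Fin 2) F)) (hh : ¬ IsScalar2 (h : Matrix (Fin 2) (Fin 2) F))
    (ht : (g : Matrix (Fin 2) (Fin 2) F).trace = (h : Matrix (Fin 2) (Fin 2) F).trace)
    (hd : (g : Matrix (Fin 2) (Fin 2) F).det = (h : Matrix (Fin 2) (Fin 2) F).det) : IsConj g h := by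
  have hdet : (g : Matrix (Fin 2) (Fin 2) F).det ≠ 0 := by
    have := (Matrix.isUnit_iff_isUnit_det _).mp g.isUnit
    exact this.ne_zero
  have h1 := isConj_comp2GL g hg (Units.mk0 _ hdet) rfl
  have h2 := isConj_comp2GL h hh (Units.mk0 _ hdet) (by simp [hd])
  rw [← ht] at h2
  exact h1.trans h2.symm

/-- Data of a non-identity unipotent element of `GL₂`. -/
theorem unipotent_data (g : GL (Fin 2) F)
    (hN : IsNilpotent ((g : Matrix (Fin 2) (Fin 2) F) - 1)) (hne : g ≠ 1) :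
    ¬ IsScalar2 (g : Matrix (Fin 2) (Fin 2) F) ∧ (g : Matrix (Fin 2) (Fin 2) F).trace = 2 ∧
      (g : Matrix (Fin 2) (Fin 2) F).det = 1 := by
  set M := (g : Matrix (Fin 2) (Fin 2) F) with hM
  have htr : (M - 1).trace = 0 := (Matrix.isNilpotent_trace_of_isNilpotent hN).eq_zero
  have hdet : (M - 1).det = 0 := by
    obtain ⟨k, hk⟩ := hN
    have : (M - 1).det ^ k = 0 := by rw [← Matrix.det_pow, hk]; simp [Matrix.det_zero]
    exact eq_zero_of_pow_eq_zero this
  have htr' : M.trace = 2 := by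
    simp only [Matrix.trace_fin_two, Matrix.sub_apply, Matrix.one_apply_eq] at htr ⊢
    linear_combination htr
  refine ⟨?_, htr', ?_⟩
  · rintro ⟨h1, h2, h3⟩
    apply hne
    apply Units.ext
    show M = 1
    have h00 : M 0 0 = 1 := by
      simp only [Matrix.trace_fin_two] at htr'
      simp only [Matrix.det_fin_two, Matrix.sub_apply, Matrix.one_apply_eq, Matrix.one_apply_ne,
        ne_eq, Fin.isValue, zero_ne_one, one_ne_zero, not_false_eq_true, h1, h2, sub_zero, mul_zero] at hdet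
      rw [← h3] at hdet
      have : (M 0 0 - 1) ^ 2 = 0 := by linear_combination hdet
      have := pow_eq_zero_iff (two_ne_zero) |>.mp this
      linear_combination this
    ext i j
    fin_cases i <;> fin_cases j <;> simp [h1, h2, h00, ← h3]
  · simp only [Matrix.trace_fin_two] at htr'
    simp only [Matrix.det_fin_two, Matrix.sub_apply, Matrix.one_apply_eq, Matrix.one_apply_ne,
      ne_eq, Fin.isValue, zero_ne_one, one_ne_zero, not_false_eq_true, sub_zero] at hdet ⊢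
    linear_combination hdet + htr'

end Cfsg.Agent.Lib.Helper14
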