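import Mathlib
import Cfsg.Agent.Lib.Helper14.GL2Irr
import Cfsg.Agent.S2330

/-!
# Counting the irreducible characters of `GL₂(F)`: cuspidal characters have degree `q - 1`
-/

set_option autoImplicit false

namespace Cfsg.Agent.Lib.Helper14

open Matrix Cfsg.Agent.Lib.Helper2
open scoped ComplexConjugate

variable {F : Type*} [Field F] [Fintype F] [DecidableEq F]

omit [Fintype F] [DecidableEq F] in
theorem detChar_bmk (α : MulChar F ℂ) (a d : Fˣ) (c : F) : detChar α (bmk a d c) = α (a : F) * α (d : F) := by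
  show α ((!![(a : F), c; 0, (d : F)] : Matrix (Fin 2) (Fin 2) F).det) = _
  rw [Matrix.det_fin_two_of, mul_zero, sub_zero, map_mul]

theorem ps_uel_one (α β : MulChar F ℂ) : ps α β (uel 1) = 1 := by
  apply indTheta_unip <;> simp [uel]

omit [Fintype F] [DecidableEq F] in
theorem detChar_uel_one (α : MulChar F ℂ) : detChar α (uel 1) = 1 := by
  unfold uel
  rw [detChar_bmk]
  simp

theorem st_uel_one (α : MulChar F ℂ) : st α (uel 1) = 0 := by
  simp [st, ps_uel_one, detChar_uel_one]

theorem ps_diag (α β : MulChar F ℂ) (a d : Fˣ) (h : a ≠ d) :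
    ps α β (bmk a d 0) = α (a : F) * β (d : F) + α (d : F) * β (a : F) := by
  unfold ps
  rw [indTheta_diag α β (bmk a d 0) (by simp) (by simp) (by simpa using fun hh => h (Units.ext hh))]
  simp

omit [Fintype F] [DecidableEq F] in
theorem detChar_injective : Function.Injective (detChar (F := F)) := by
  intro α α' h
  apply MulChar.ext
  intro t
  have := congrFun h (bmk t 1 0)
  rw [detChar_bmk, detChar_bmk] at this
  simpa using this

theorem st_injective : Function.Injective (st (F := F)) := by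
  intro α α' h
  apply MulChar.ext
  intro t
  by_cases ht : t = 1
  · subst ht; simp
  · have := congrFun h (bmk t 1 0)
    simp only [st, Pi.sub_apply, ps_diag _ _ _ _ ht, detChar_bmk] at this
    simp only [Units.val_one, map_one, mul_one, one_mul] at this
    linear_combination this

/-- The principal series as a function of an unordered pair. -/
noncomputable def psSym : Sym2 (MulChar F ℂ) → (GL (Fin 2) F → ℂ) :=
  Sym2.lift ⟨ps, ps_comm⟩

theorem psSym_mk (α β : MulChar F ℂ) : psSym s(α, β) = ps α β := rfl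

theorem psSym_isIrrCharacter (z : Sym2 (MulChar F ℂ)) (hz : ¬ z.IsDiag) :
    Cfsg.IsIrrCharacter (GL (Fin 2) F) (psSym z) := by
  induction z using Sym2.ind with
  | _ α β =>
    rw [psSym_mk]
    apply ps_isIrrCharacter
    intro h
    exact hz (Sym2.mk_isDiag_iff.mpr h)

theorem psSym_injOn (z z' : Sym2 (MulChar F ℂ)) (hz : ¬ z.IsDiag) (h : psSym z = psSym z') : z = z' := by
  classical
  induction z using Sym2.ind with
  | _ α β =>
    induction z' using Sym2.ind with
    | _ α' β' =>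
      rw [psSym_mk, psSym_mk] at h
      have hab : α ≠ β := fun h => hz (Sym2.mk_isDiag_iff.mpr h)
      have h1 : Cfsg.classInner (ps α β) (ps α' β') = 1 := by
        rw [← h, classInner_ps_ps]
        simp [hab]
      rw [classInner_ps_ps] at h1
      rw [Sym2.eq_iff]
      by_contra hcon
      push Not at hcon
      have e1 : ¬ (α = α' ∧ β = β') := fun hh => hcon.1 hh.1 hh.2
      have e2 : ¬ (α = β' ∧ β = α') := fun hh => hcon.2 hh.1 hh.2
      rw [if_neg e1, if_neg e2] at h1
      norm_num at h1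

/-- The enumeration of the non-cuspidal irreducible characters. -/
noncomputable def iota :
    MulChar F ℂ ⊕ (MulChar F ℂ ⊕ {z : Sym2 (MulChar F ℂ) // ¬ z.IsDiag}) →
      Cfsg.IrrCharacter (GL (Fin 2) F)
  | Sum.inl α => ⟨detChar α, detChar_isIrrCharacter α⟩
  | Sum.inr (Sum.inl α) => ⟨st α, st_isIrrCharacter α⟩
  | Sum.inr (Sum.inr z) => ⟨psSym z.1, psSym_isIrrCharacter z.1 z.2⟩

theorem psSym_one (z : Sym2 (MulChar F ℂ)) : psSym z 1 = (Fintype.card F : ℂ) + 1 := by
  induction z using Sym2.ind with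
  | _ α β => rw [psSym_mk, ps_one]

omit [DecidableEq F] in
theorem card_ne_one_complex : (Fintype.card F : ℂ) ≠ 1 := by
  have := Fintype.one_lt_card (α := F)
  have h : Fintype.card F ≠ 1 := by omega
  exact_mod_cast h

theorem iota_injective : Function.Injective (iota (F := F)) := by
  have hq := card_ne_one_complex (F := F)
  have hq0 : (Fintype.card F : ℂ) ≠ 0 := by
    have : 0 < Fintype.card F := Fintype.card_pos
    exact_mod_cast this.ne'
  rintro (α | α | z) (α' | α' | z') h
  · have := congrArg Subtype.val h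
    rw [detChar_injective this]
  · exfalso
    have := congrFun (congrArg Subtype.val h) 1
    simp only [iota, detChar_one, st_one] at this
    exact hq this.symm
  · exfalso
    have := congrFun (congrArg Subtype.val h) 1
    simp only [iota, detChar_one, psSym_one] at this
    apply hq0
    linear_combination -this
  · exfalso
    have := congrFun (congrArg Subtype.val h) 1
    simp only [iota, detChar_one, st_one] at this
    exact hq this
  · have := congrArg Subtype.val h
    rw [st_injective this]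
  · exfalso
    have := congrFun (congrArg Subtype.val h) 1
    simp only [iota, st_one, psSym_one] at this
    have : (1 : ℂ) = 0 := by linear_combination -this
    exact one_ne_zero this
  · exfalso
    have := congrFun (congrArg Subtype.val h) 1
    simp only [iota, detChar_one, psSym_one] at this
    apply hq0
    linear_combination this
  · exfalso
    have := congrFun (congrArg Subtype.val h) 1
    simp only [iota, st_one, psSym_one] at this
    have : (1 : ℂ) = 0 := by linear_combination this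
    exact one_ne_zero this
  · have := congrArg Subtype.val h
    have h2 := psSym_injOn z.1 z'.1 z.2 this
    rw [Subtype.ext h2]

theorem iota_not_cusp (x : MulChar F ℂ ⊕ (MulChar F ℂ ⊕ {z : Sym2 (MulChar F ℂ) // ¬ z.IsDiag})) :
    ¬ IsCusp ((iota x : Cfsg.IrrCharacter (GL (Fin 2) F)) : GL (Fin 2) F → ℂ) := by
  classical
  intro hc
  rcases x with α | α | ⟨z, hz⟩
  · have := hc α α
    simp only [iota] at this
    rw [classInner_ps_detChar] at this
    simp at this
  · have := hc α α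
    simp only [iota, st] at this
    rw [classInner_sub_right, classInner_ps_ps, classInner_ps_detChar] at this
    norm_num at this
  · induction z using Sym2.ind with
    | _ α β =>
      have hab : α ≠ β := fun h => hz (Sym2.mk_isDiag_iff.mpr h)
      have := hc α β
      simp only [iota, psSym_mk] at this
      rw [classInner_ps_ps] at this
      simp [hab] at this

theorem exists_iota_of_not_cusp (χ : Cfsg.IrrCharacter (GL (Fin 2) F))
    (h : ¬ IsCusp (χ : GL (Fin 2) F → ℂ)) : ∃ x, iota x = χ := by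
  rcases not_cusp_cases χ h with ⟨α, hα⟩ | ⟨α, hα⟩ | ⟨α, β, hab, hα⟩
  · exact ⟨Sum.inl α, Subtype.ext hα.symm⟩
  · exact ⟨Sum.inr (Sum.inl α), Subtype.ext hα.symm⟩
  · exact ⟨Sum.inr (Sum.inr ⟨s(α, β), fun hd => hab (Sym2.mk_isDiag_iff.mp hd)⟩), Subtype.ext hα.symm⟩

theorem all_eq_one_of_sum_sq {ι : Type*} (s : Finset ι) (f : ι → ℕ) (h1 : ∀ x ∈ s, 1 ≤ f x)
    (h2 : ∑ x ∈ s, f x ^ 2 = s.card) : ∀ x ∈ s, f x = 1 := by
  by_contra hcon
  push Not at hcon
  obtain ⟨x, hx, hfx⟩ := hcon
  have hlt : ∑ x ∈ s, (1 : ℕ) < ∑ x ∈ s, f x ^ 2 := by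
    apply Finset.sum_lt_sum
    · intro i hi
      exact Nat.one_le_pow _ _ (h1 i hi)
    · refine ⟨x, hx, ?_⟩
      have := h1 x hx
      have h3 : 2 ≤ f x := by omega
      nlinarith
  rw [h2] at hlt
  simp at hlt

theorem card_irr_GL2 :
    Nat.card (Cfsg.IrrCharacter (GL (Fin 2) F)) = Fintype.card F ^ 2 - 1 := by
  rw [card_irrCharacter, Cfsg.Agent.S2330.result]

omit [DecidableEq F] in
theorem card_GL2 : Nat.card (GL (Fin 2) F) =
    (Fintype.card F ^ 2 - 1) * (Fintype.card F ^ 2 - Fintype.card F) := by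
  rw [Matrix.card_GL_field]
  simp [Fin.prod_univ_two]

/-- The cuspidal irreducible characters of `GL₂(q)`: there are `q (q - 1) / 2` of them, all of
degree `q - 1` and with value `-1` at a transvection. -/
theorem cusp_main :
    (∀ χ : Cfsg.IrrCharacter (GL (Fin 2) F), IsCusp (χ : GL (Fin 2) F → ℂ) →
      (χ : GL (Fin 2) F → ℂ) 1 = (Fintype.card F : ℂ) - 1 ∧ (χ : GL (Fin 2) F → ℂ) (uel 1) = -1) ∧
    Nat.card {χ : Cfsg.IrrCharacter (GL (Fin 2) F) // IsCusp (χ : GL (Fin 2) F → ℂ)} =
      Fintype.card F * (Fintype.card F - 1) / 2 := by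
  classical
  have : Fintype (Cfsg.IrrCharacter (GL (Fin 2) F)) := Fintype.ofFinite _
  have : Fintype (MulChar F ℂ) := Fintype.ofFinite _
  obtain ⟨n, hn⟩ : ∃ n, Fintype.card F = n + 2 :=
    ⟨Fintype.card F - 2, by have := Fintype.one_lt_card (α := F); omega⟩
  let s : Finset (Cfsg.IrrCharacter (GL (Fin 2) F)) := Finset.univ.map ⟨iota, iota_injective⟩
  have hX : Fintype.card (MulChar F ℂ) = n + 1 := by
    rw [← Nat.card_eq_fintype_card, card_mulChar]; omega
  have hscard : s.card = (n + 1) + ((n + 1) + (n + 1).choose 2) := by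
    rw [Finset.card_map, Finset.card_univ, Fintype.card_sum, Fintype.card_sum,
      Sym2.card_subtype_not_diag, hX]
  have hmem : ∀ χ, χ ∈ sᶜ ↔ IsCusp (χ : GL (Fin 2) F → ℂ) := by
    intro χ
    rw [Finset.mem_compl, Finset.mem_map]
    constructor
    · intro h
      by_contra hc
      obtain ⟨x, hx⟩ := exists_iota_of_not_cusp χ hc
      exact h ⟨x, Finset.mem_univ _, hx⟩
    · rintro hc ⟨x, _, hx⟩
      apply iota_not_cusp x
      rw [show iota x = χ from hx]
      exact hc
  have hI : Fintype.card (Cfsg.IrrCharacter (GL (Fin 2) F)) = (n + 2) ^ 2 - 1 := by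
    rw [← Nat.card_eq_fintype_card, card_irr_GL2, hn]
  have h2c : 2 * (n + 1).choose 2 = (n + 1) * n := by
    rw [Nat.choose_two_right, Nat.add_sub_cancel]
    exact Nat.mul_div_cancel' (Nat.even_mul_pred_self (n + 1)).two_dvd
  have hcompl : sᶜ.card + (n + 1).choose 2 = (n + 1) ^ 2 := by
    have := Finset.card_add_card_compl s
    rw [hscard, hI] at this
    have h3 : (n + 2) ^ 2 - 1 = (n + 1) ^ 2 + 2 * (n + 1) := by
      have : (n + 2) ^ 2 = (n + 1) ^ 2 + 2 * (n + 1) + 1 := by ring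
      omega
    omega
  have hm : ∀ χ : Cfsg.IrrCharacter (GL (Fin 2) F), IsCusp (χ : GL (Fin 2) F → ℂ) →
      ∃ m : ℕ, 1 ≤ m ∧ (χ : GL (Fin 2) F → ℂ) 1 = ((Fintype.card F : ℂ) - 1) * m ∧
        (χ : GL (Fin 2) F → ℂ) (uel 1) = -(m : ℂ) := fun χ h => cusp_degree χ.2 h
  let m : Cfsg.IrrCharacter (GL (Fin 2) F) → ℕ := fun χ =>
    if h : IsCusp (χ : GL (Fin 2) F → ℂ) then Classical.choose (hm χ h) else 0
  have hm_spec : ∀ (χ : Cfsg.IrrCharacter (GL (Fin 2) F)) (h : IsCusp (χ : GL (Fin 2) F → ℂ)), 1 ≤ m χ ∧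
      (χ : GL (Fin 2) F → ℂ) 1 = ((Fintype.card F : ℂ) - 1) * m χ ∧
        (χ : GL (Fin 2) F → ℂ) (uel 1) = -(m χ : ℂ) := by
    intro χ h
    simp only [m, dif_pos h]
    exact Classical.choose_spec (hm χ h)
  have hsum := sum_irr_degree_sq (G := GL (Fin 2) F)
  rw [← Finset.sum_add_sum_compl s] at hsum
  have hs_sum : ∑ χ ∈ s, (χ : GL (Fin 2) F → ℂ) 1 ^ 2 =
      ((n : ℂ) + 1) + (((n : ℂ) + 1) * ((n : ℂ) + 2) ^ 2 + ((n + 1).choose 2 : ℂ) * ((n : ℂ) + 3) ^ 2) := by
    rw [Finset.sum_map, Fintype.sum_sum_type, Fintype.sum_sum_type]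
    simp only [Function.Embedding.coeFn_mk, iota, detChar_one, st_one, psSym_one, Finset.sum_const,
      Finset.card_univ, nsmul_eq_mul, hX, hn, Sym2.card_subtype_not_diag]
    push_cast
    ring
  have hc_sum : ∑ χ ∈ sᶜ, (χ : GL (Fin 2) F → ℂ) 1 ^ 2 =
      ((n : ℂ) + 1) ^ 2 * ((∑ χ ∈ sᶜ, m χ ^ 2 : ℕ) : ℂ) := by
    push_cast
    rw [Finset.mul_sum]
    apply Finset.sum_congr rfl
    intro χ hχ
    rw [(hm_spec χ ((hmem χ).mp hχ)).2.1, hn]
    push_cast
    ring
  have hG : (Nat.card (GL (Fin 2) F) : ℂ) = ((n : ℂ) + 1) * ((n : ℂ) + 3) * (((n : ℂ) + 2) * ((n : ℂ) + 1)) := by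
    rw [card_GL2, hn]
    have e1 : (n + 2) ^ 2 - 1 = (n + 1) * (n + 3) := by
      have : (n + 2) ^ 2 = (n + 1) * (n + 3) + 1 := by ring
      omega
    have e2 : (n + 2) ^ 2 - (n + 2) = (n + 2) * (n + 1) := by
      have : (n + 2) ^ 2 = (n + 2) * (n + 1) + (n + 2) := by ring
      omega
    rw [e1, e2]
    push_cast
    ring
  rw [hs_sum, hc_sum, hG] at hsum
  have h2c' : (2 : ℂ) * ((n + 1).choose 2 : ℂ) = ((n : ℂ) + 1) * n := by exact_mod_cast h2c
  have hcompl' : (sᶜ.card : ℂ) + ((n + 1).choose 2 : ℂ) = ((n : ℂ) + 1) ^ 2 := by exact_mod_cast hcompl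
  have hn1 : ((n : ℂ) + 1) ^ 2 ≠ 0 := by
    have : ((n + 1 : ℕ) : ℂ) ≠ 0 := by exact_mod_cast Nat.succ_ne_zero n
    push_cast at this
    exact pow_ne_zero 2 this
  have hM : ((∑ χ ∈ sᶜ, m χ ^ 2 : ℕ) : ℂ) = (sᶜ.card : ℂ) := by
    apply mul_left_cancel₀ hn1
    linear_combination hsum - ((n : ℂ) + 1) ^ 2 * hcompl' - 2 * ((n : ℂ) + 2) * h2c'
  have hM' : ∑ χ ∈ sᶜ, m χ ^ 2 = sᶜ.card := by exact_mod_cast hM
  have hall := all_eq_one_of_sum_sq sᶜ m (fun χ hχ => (hm_spec χ ((hmem χ).mp hχ)).1) hM'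
  constructor
  · intro χ hχ
    have h1 := hall χ ((hmem χ).mpr hχ)
    obtain ⟨-, h2, h3⟩ := hm_spec χ hχ
    rw [h1] at h2 h3
    constructor
    · rw [h2]; simp
    · rw [h3]; simp
  · have hcard : Nat.card {χ : Cfsg.IrrCharacter (GL (Fin 2) F) // IsCusp (χ : GL (Fin 2) F → ℂ)} = sᶜ.card := by
      rw [Nat.card_eq_fintype_card, Fintype.card_subtype]
      congr 1
      ext χ
      simp only [Finset.mem_filter, Finset.mem_univ, true_and]
      exact (hmem χ).symm
    rw [hcard, hn]
    have e3 : (n + 2) * (n + 2 - 1) / 2 = (n + 1) ^ 2 - (n + 1).choose 2 := by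
      have e0 : n + 2 - 1 = n + 1 := rfl
      rw [e0]
      have : (n + 2) * (n + 1) = 2 * ((n + 1) ^ 2 - (n + 1).choose 2) := by
        have h5 : (n + 1).choose 2 ≤ (n + 1) ^ 2 := by omega
        zify [h5]
        have h6 : (2 : ℤ) * ((n + 1).choose 2 : ℤ) = ((n : ℤ) + 1) * n := by exact_mod_cast h2c
        linear_combination h6
      rw [this, Nat.mul_div_cancel_left _ (by norm_num : 0 < 2)]
    rw [e3]
    omega

end Cfsg.Agent.Lib.Helper14
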