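import Mathlib
import Cfsg.Agent.Lib.Helper14.GL2Count
import Cfsg.Agent.Lib.Helper14.SL2

/-!
# Restriction of characters from `GL₂(F)` to `SL₂(F)` and twisting by `α ∘ det`
-/

set_option autoImplicit false

namespace Cfsg.Agent.Lib.Helper14

open Matrix Cfsg.Agent.Lib.Helper2
open scoped ComplexConjugate

variable {F : Type*} [Field F]

/-- Restriction of a function on `GL₂` to `SL₂`. -/
def res (Φ : GL (Fin 2) F → ℂ) : SpecialLinearGroup (Fin 2) F → ℂ :=
  fun s => Φ (SpecialLinearGroup.toGL s)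

theorem res_isCharacter {Φ : GL (Fin 2) F → ℂ} (hΦ : Cfsg.IsCharacter (GL (Fin 2) F) Φ) :
    Cfsg.IsCharacter (SpecialLinearGroup (Fin 2) F) (res Φ) :=
  IsCharacter.comp hΦ SpecialLinearGroup.toGL

theorem res_add (Φ Ψ : GL (Fin 2) F → ℂ) : res (Φ + Ψ) = res Φ + res Ψ := rfl

theorem res_sub (Φ Ψ : GL (Fin 2) F → ℂ) : res (Φ - Ψ) = res Φ - res Ψ := rfl

theorem res_one (Φ : GL (Fin 2) F → ℂ) : res Φ 1 = Φ 1 := by
  unfold res; rw [map_one]

theorem toGL_det (s : SpecialLinearGroup (Fin 2) F) :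
    ((SpecialLinearGroup.toGL s : GL (Fin 2) F) : Matrix (Fin 2) (Fin 2) F).det = 1 := s.2

/-- A sum over `SL₂` as a sum over the elements of `GL₂` of determinant one. -/
theorem sum_res [Fintype F] [DecidableEq F] (f : GL (Fin 2) F → ℂ) :
    ∑ s : SpecialLinearGroup (Fin 2) F, f (SpecialLinearGroup.toGL s) =
      ∑ g : GL (Fin 2) F, if (g : Matrix (Fin 2) (Fin 2) F).det = 1 then f g else 0 := by
  apply Fintype.sum_of_injective SpecialLinearGroup.toGL SpecialLinearGroup.toGL_injective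
  · intro g hg
    rw [if_neg]
    intro hdet
    apply hg
    refine ⟨⟨(g : Matrix (Fin 2) (Fin 2) F), hdet⟩, ?_⟩
    apply Units.ext
    rfl
  · intro s
    rw [if_pos (toGL_det s)]

theorem card_GL2_eq_mul [Fintype F] :
    Nat.card (GL (Fin 2) F) = (Fintype.card F - 1) * Nat.card (SpecialLinearGroup (Fin 2) F) := by
  rw [card_GL2, card_SL2]
  have hq : 2 ≤ Fintype.card F := Fintype.one_lt_card
  obtain ⟨k, hk⟩ : ∃ k, Fintype.card F = k + 2 := ⟨Fintype.card F - 2, by omega⟩
  rw [hk]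
  have e1 : (k + 2) ^ 2 - (k + 2) = (k + 2) * (k + 1) := by
    have : (k + 2) ^ 2 = (k + 2) * (k + 1) + (k + 2) := by ring
    omega
  have e2 : k + 2 - 1 = k + 1 := rfl
  rw [e1, e2]
  ring

/-- The inner product of restrictions to `SL₂` is the sum over twists of the inner products on
`GL₂`. -/
theorem classInner_res [Fintype F] [DecidableEq F] [Fintype (MulChar F ℂ)] (Φ Φ' : GL (Fin 2) F → ℂ) :
    Cfsg.classInner (res Φ) (res Φ') =
      ∑ γ : MulChar F ℂ, Cfsg.classInner (Φ * detChar γ) Φ' := by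
  simp only [classInner_def, ← Finset.mul_sum]
  rw [Finset.sum_comm]
  have h1 : ∀ g : GL (Fin 2) F, ∑ γ : MulChar F ℂ, (Φ * detChar γ) g * conj (Φ' g) =
      (if (g : Matrix (Fin 2) (Fin 2) F).det = 1 then Φ g * conj (Φ' g) else 0) *
        ((Fintype.card F - 1 : ℕ) : ℂ) := by
    intro g
    have h2 : ∀ γ : MulChar F ℂ, (Φ * detChar γ) g * conj (Φ' g) =
        (Φ g * conj (Φ' g)) * γ ((Matrix.GeneralLinearGroup.det g : Fˣ) : F) := by
      intro γ
      simp only [Pi.mul_apply, detChar, Matrix.GeneralLinearGroup.val_det_apply]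
      ring
    simp only [h2]
    rw [← Finset.mul_sum, sum_mulChar_apply]
    have h3 : (Matrix.GeneralLinearGroup.det g = 1) ↔ (g : Matrix (Fin 2) (Fin 2) F).det = 1 := by
      rw [← Units.val_inj, Matrix.GeneralLinearGroup.val_det_apply, Units.val_one]
    by_cases hd : (g : Matrix (Fin 2) (Fin 2) F).det = 1
    · rw [if_pos (h3.mpr hd), if_pos hd]
    · rw [if_neg (fun h => hd (h3.mp h)), if_neg hd, mul_zero, zero_mul]
  simp only [h1]
  rw [← Finset.sum_mul]
  have h4 := sum_res (fun g => Φ g * conj (Φ' g))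
  unfold res
  rw [h4, card_GL2_eq_mul]
  have hq : 2 ≤ Fintype.card F := Fintype.one_lt_card
  have hq3 : ((Fintype.card F - 1 : ℕ) : ℂ) ≠ 0 := by
    have : Fintype.card F - 1 ≠ 0 := by omega
    exact_mod_cast this
  have hS : (Nat.card (SpecialLinearGroup (Fin 2) F) : ℂ) ≠ 0 := by
    exact_mod_cast Nat.card_pos.ne'
  push_cast
  field_simp

section twist

/-- Twist of a representation by a linear character. -/
def twistRep {G V : Type*} [Group G] [AddCommGroup V] [Module ℂ V] (c : G →* ℂˣ)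
    (ρ : Representation ℂ G V) : Representation ℂ G V where
  toFun g := ((c g : ℂˣ) : ℂ) • ρ g
  map_one' := by simp
  map_mul' a b := by
    rw [map_mul, map_mul, Units.val_mul, smul_mul_smul_comm]

theorem twistRep_character {G V : Type*} [Group G] [AddCommGroup V] [Module ℂ V] (c : G →* ℂˣ)
    (ρ : Representation ℂ G V) (g : G) :
    (twistRep c ρ).character g = ((c g : ℂˣ) : ℂ) * ρ.character g := by
  show LinearMap.trace ℂ V (((c g : ℂˣ) : ℂ) • ρ g) = _
  rw [map_smul, smul_eq_mul]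
  rfl

theorem isCharacter_mul_hom {G : Type*} [Group G] {χ : G → ℂ} (hχ : Cfsg.IsCharacter G χ)
    (c : G →* ℂˣ) : Cfsg.IsCharacter G (χ * fun g => ((c g : ℂˣ) : ℂ)) := by
  obtain ⟨n, ρ, rfl⟩ := hχ
  refine ⟨n, twistRep c ρ, ?_⟩
  ext g
  rw [twistRep_character, Pi.mul_apply, mul_comm]

omit [Field F] in
theorem detChar_eq_detHom [Field F] (γ : MulChar F ℂ) :
    detChar γ = fun g => ((detHom γ g : ℂˣ) : ℂ) := by
  ext g
  simp [detChar, detHom]

theorem norm_mulChar' [Fintype F] (α : MulChar F ℂ) (x : F) (hx : x ≠ 0) : ‖α x‖ = 1 := by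
  classical
  have h1 : (Units.mk0 x hx) ^ Fintype.card Fˣ = 1 := pow_card_eq_one
  have h2 : α x ^ Fintype.card Fˣ = 1 := by
    rw [← map_pow]
    have : x ^ Fintype.card Fˣ = 1 := by
      have h3 : ((Units.mk0 x hx ^ Fintype.card Fˣ : Fˣ) : F) = ((1 : Fˣ) : F) := by rw [h1]
      rw [Units.val_pow_eq_pow_val, Units.val_mk0, Units.val_one] at h3
      exact h3
    rw [this, map_one]
  exact norm_eq_one_of_pow_eq_one Fintype.card_ne_zero h2

theorem detChar_mul_conj [Fintype F] (γ : MulChar F ℂ) (g : GL (Fin 2) F) :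
    detChar γ g * conj (detChar γ g) = 1 := by
  rw [Complex.mul_conj, Complex.normSq_eq_norm_sq]
  unfold detChar
  rw [norm_mulChar' γ _ (det_ne_zero_GL g)]
  simp

theorem detChar_mul_detChar (β γ : MulChar F ℂ) : detChar β * detChar γ = detChar (β * γ) := by
  ext g
  simp [detChar, MulChar.mul_apply]

theorem conj_detChar [Fintype F] (γ : MulChar F ℂ) (g : GL (Fin 2) F) :
    conj (detChar γ g) = detChar γ⁻¹ g := by
  unfold detChar
  exact conj_mulChar γ _

/-- Moving a twist across the inner product. -/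
theorem classInner_mul_detChar_right [Fintype F] [DecidableEq F] (Φ Ψ : GL (Fin 2) F → ℂ)
    (γ : MulChar F ℂ) :
    Cfsg.classInner Φ (Ψ * detChar γ) = Cfsg.classInner (Φ * detChar γ⁻¹) Ψ := by
  rw [classInner_def, classInner_def]
  congr 1
  apply Finset.sum_congr rfl
  intro g _
  simp only [Pi.mul_apply, map_mul, conj_detChar]
  ring

/-- A twist of an irreducible character is irreducible. -/
theorem isIrrCharacter_mul_detChar [Fintype F] [DecidableEq F] {χ : GL (Fin 2) F → ℂ}
    (hχ : Cfsg.IsIrrCharacter (GL (Fin 2) F) χ) (γ : MulChar F ℂ) :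
    Cfsg.IsIrrCharacter (GL (Fin 2) F) (χ * detChar γ) := by
  apply isIrrCharacter_of_classInner_self_eq_one
  · rw [detChar_eq_detHom]
    exact isCharacter_mul_hom (IsIrrCharacter.isCharacter hχ) _
  · have h1 : Cfsg.classInner χ χ = 1 := classInner_irrCharacter_self ⟨χ, hχ⟩
    rw [← h1, classInner_def, classInner_def]
    congr 1
    apply Finset.sum_congr rfl
    intro g _
    simp only [Pi.mul_apply, map_mul]
    rw [mul_mul_mul_comm, detChar_mul_conj, mul_one]

/-- Twisting a principal series character. -/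
theorem ps_mul_detChar [Fintype F] [DecidableEq F] (α β γ : MulChar F ℂ) :
    ps α β * detChar γ = ps (α * γ) (β * γ) := by
  ext g
  unfold ps
  rw [Pi.mul_apply, indTheta_apply, indTheta_apply, add_mul, Finset.sum_mul]
  have hdet : (g : Matrix (Fin 2) (Fin 2) F).det =
      (g : Matrix (Fin 2) (Fin 2) F) 0 0 * (g : Matrix (Fin 2) (Fin 2) F) 1 1 -
        (g : Matrix (Fin 2) (Fin 2) F) 0 1 * (g : Matrix (Fin 2) (Fin 2) F) 1 0 := Matrix.det_fin_two _
  congr 1
  · split_ifs with h
    · unfold detChar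
      rw [hdet, h, zero_mul, sub_zero, MulChar.mul_apply, MulChar.mul_apply, map_mul]
      ring
    · rw [zero_mul]
  · apply Finset.sum_congr rfl
    intro s _
    split_ifs with h
    · unfold detChar
      have h2 : (g : Matrix (Fin 2) (Fin 2) F).det =
          ((g : Matrix (Fin 2) (Fin 2) F) 0 0 + (g : Matrix (Fin 2) (Fin 2) F) 0 1 * s) *
            ((g : Matrix (Fin 2) (Fin 2) F) 1 1 - s * (g : Matrix (Fin 2) (Fin 2) F) 0 1) := by
        rw [hdet]
        linear_combination (-(g : Matrix (Fin 2) (Fin 2) F) 0 1) * h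
      rw [h2, MulChar.mul_apply, MulChar.mul_apply, map_mul]
      ring
    · rw [zero_mul]

theorem st_mul_detChar [Fintype F] [DecidableEq F] (α γ : MulChar F ℂ) :
    st α * detChar γ = st (α * γ) := by
  unfold st
  rw [sub_mul, ps_mul_detChar, detChar_mul_detChar]

theorem isCusp_mul_detChar [Fintype F] [DecidableEq F] {χ : GL (Fin 2) F → ℂ} (hχ : IsCusp χ)
    (γ : MulChar F ℂ) : IsCusp (χ * detChar γ) := by
  intro α β
  rw [classInner_mul_detChar_right, ps_mul_detChar]
  exact hχ _ _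

end twist

end Cfsg.Agent.Lib.Helper14
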