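import Mathlib
import Cfsg.Agent.Lib.Helper14.SL2Res

/-!
# The principal series of `SL₂(F)` is the restriction of the principal series of `GL₂(F)`
-/

set_option autoImplicit false

namespace Cfsg.Agent.Lib.Helper14

open Matrix Cfsg.Agent.Lib.Helper2
open scoped ComplexConjugate

variable {F : Type*} [Field F]

theorem mem_borelSL_iff (x : SpecialLinearGroup (Fin 2) F) :
    x ∈ (Cfsg.upperTriangularGL 2 F).comap SpecialLinearGroup.toGL ↔
      (x : Matrix (Fin 2) (Fin 2) F) 1 0 = 0 := by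
  rw [Subgroup.mem_comap, mem_borel_iff]
  rfl

theorem cosetSL_eq_iff (x y : SpecialLinearGroup (Fin 2) F) :
    (QuotientGroup.mk x : SpecialLinearGroup (Fin 2) F ⧸
        (Cfsg.upperTriangularGL 2 F).comap SpecialLinearGroup.toGL) = QuotientGroup.mk y ↔
      (x : Matrix (Fin 2) (Fin 2) F) 0 0 * (y : Matrix (Fin 2) (Fin 2) F) 1 0 =
        (x : Matrix (Fin 2) (Fin 2) F) 1 0 * (y : Matrix (Fin 2) (Fin 2) F) 0 0 := by
  have h := coset_eq_iff (SpecialLinearGroup.toGL x) (SpecialLinearGroup.toGL y)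
  rw [QuotientGroup.eq] at h ⊢
  rw [Subgroup.mem_comap, map_mul, map_inv]
  exact h

/-- Coset representatives of the Borel subgroup in `SL₂`. -/
def lineRepSL : Option F → SpecialLinearGroup (Fin 2) F
  | some s => ⟨!![1, 0; s, 1], by simp [Matrix.det_fin_two]⟩
  | none => ⟨!![0, -1; 1, 0], by simp [Matrix.det_fin_two]⟩

theorem lineRepSL_bijective :
    Function.Bijective (fun o : Option F =>
      (QuotientGroup.mk (lineRepSL o) : SpecialLinearGroup (Fin 2) F ⧸
        (Cfsg.upperTriangularGL 2 F).comap SpecialLinearGroup.toGL)) := by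
  constructor
  · intro o o' h
    rw [cosetSL_eq_iff] at h
    rcases o with _ | s <;> rcases o' with _ | s' <;>
      simp [lineRepSL] at h ⊢
    exact h.symm
  · intro c
    induction c using QuotientGroup.induction_on with
    | _ x =>
      by_cases h : (x : Matrix (Fin 2) (Fin 2) F) 0 0 = 0
      · refine ⟨none, ?_⟩
        show (QuotientGroup.mk (lineRepSL none) : SpecialLinearGroup (Fin 2) F ⧸
          (Cfsg.upperTriangularGL 2 F).comap SpecialLinearGroup.toGL) = QuotientGroup.mk x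
        rw [cosetSL_eq_iff]
        simp [lineRepSL, h]
      · refine ⟨some ((x : Matrix (Fin 2) (Fin 2) F) 1 0 / (x : Matrix (Fin 2) (Fin 2) F) 0 0), ?_⟩
        show (QuotientGroup.mk (lineRepSL (some _)) : SpecialLinearGroup (Fin 2) F ⧸
          (Cfsg.upperTriangularGL 2 F).comap SpecialLinearGroup.toGL) = QuotientGroup.mk x
        rw [cosetSL_eq_iff]
        simp [lineRepSL]
        field_simp

/-- The linear character `b ↦ α(b₀₀)` of the Borel subgroup of `SL₂`. -/
noncomputable def thetaSL (α : MulChar F ℂ)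
    (b : (Cfsg.upperTriangularGL 2 F).comap SpecialLinearGroup.toGL) : ℂ :=
  α (((b : SpecialLinearGroup (Fin 2) F) : Matrix (Fin 2) (Fin 2) F) 0 0)

theorem extendByZero_thetaSL [DecidableEq F] (α : MulChar F ℂ) (y : SpecialLinearGroup (Fin 2) F) :
    Cfsg.extendByZero ((Cfsg.upperTriangularGL 2 F).comap SpecialLinearGroup.toGL) (thetaSL α) y =
      if (y : Matrix (Fin 2) (Fin 2) F) 1 0 = 0 then α ((y : Matrix (Fin 2) (Fin 2) F) 0 0)
      else 0 := by
  split_ifs with h
  · rw [extendByZero_of_mem _ _ ((mem_borelSL_iff y).mpr h)]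
    rfl
  · rw [extendByZero_of_not_mem]
    rwa [mem_borelSL_iff]

theorem lineRepSL_some_conj (g : SpecialLinearGroup (Fin 2) F) (s : F) :
    (((lineRepSL (some s))⁻¹ * g * lineRepSL (some s) : SpecialLinearGroup (Fin 2) F) :
        Matrix (Fin 2) (Fin 2) F) =
      !![(g : Matrix (Fin 2) (Fin 2) F) 0 0 + (g : Matrix (Fin 2) (Fin 2) F) 0 1 * s,
         (g : Matrix (Fin 2) (Fin 2) F) 0 1;
         (g : Matrix (Fin 2) (Fin 2) F) 1 0 + (g : Matrix (Fin 2) (Fin 2) F) 1 1 * s -
           s * ((g : Matrix (Fin 2) (Fin 2) F) 0 0 + (g : Matrix (Fin 2) (Fin 2) F) 0 1 * s),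
         (g : Matrix (Fin 2) (Fin 2) F) 1 1 - s * (g : Matrix (Fin 2) (Fin 2) F) 0 1] := by
  have hinv : (lineRepSL (some s))⁻¹ = lineRepSL (some (-s)) := by
    apply inv_eq_of_mul_eq_one_right
    apply Subtype.ext
    show (!![1, 0; s, 1] : Matrix (Fin 2) (Fin 2) F) * !![1, 0; -s, 1] = 1
    rw [Matrix.mul_fin_two, Matrix.one_fin_two]
    apply mat2_mk_eq' <;> ring
  rw [hinv]
  show (!![1, 0; -s, 1] : Matrix (Fin 2) (Fin 2) F) * (g : Matrix (Fin 2) (Fin 2) F) *
    !![1, 0; s, 1] = _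
  conv_lhs => rw [Matrix.eta_fin_two (g : Matrix (Fin 2) (Fin 2) F)]
  rw [Matrix.mul_fin_two, Matrix.mul_fin_two]
  apply mat2_mk_eq' <;> ring

theorem lineRepSL_none_conj (g : SpecialLinearGroup (Fin 2) F) :
    (((lineRepSL none)⁻¹ * g * lineRepSL none : SpecialLinearGroup (Fin 2) F) :
        Matrix (Fin 2) (Fin 2) F) =
      !![(g : Matrix (Fin 2) (Fin 2) F) 1 1, -(g : Matrix (Fin 2) (Fin 2) F) 1 0;
         -(g : Matrix (Fin 2) (Fin 2) F) 0 1, (g : Matrix (Fin 2) (Fin 2) F) 0 0] := by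
  have hinv : (lineRepSL (none : Option F))⁻¹ = ⟨!![0, 1; -1, 0], by simp [Matrix.det_fin_two]⟩ := by
    apply inv_eq_of_mul_eq_one_right
    apply Subtype.ext
    show (!![0, -1; 1, 0] : Matrix (Fin 2) (Fin 2) F) * !![0, 1; -1, 0] = 1
    rw [Matrix.mul_fin_two, Matrix.one_fin_two]
    apply mat2_mk_eq' <;> ring
  rw [hinv]
  show (!![0, 1; -1, 0] : Matrix (Fin 2) (Fin 2) F) * (g : Matrix (Fin 2) (Fin 2) F) *
    !![0, -1; 1, 0] = _
  conv_lhs => rw [Matrix.eta_fin_two (g : Matrix (Fin 2) (Fin 2) F)]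
  rw [Matrix.mul_fin_two, Matrix.mul_fin_two]
  apply mat2_mk_eq' <;> ring

theorem thetaSL_conj (α : MulChar F ℂ)
    (h y : (Cfsg.upperTriangularGL 2 F).comap SpecialLinearGroup.toGL) :
    thetaSL α (h⁻¹ * y * h) = thetaSL α y := by
  unfold thetaSL
  congr 1
  have hh := (mem_borelSL_iff (h : SpecialLinearGroup (Fin 2) F)).mp h.2
  have hy := (mem_borelSL_iff (y : SpecialLinearGroup (Fin 2) F)).mp y.2
  have hdet : ((h : SpecialLinearGroup (Fin 2) F) : Matrix (Fin 2) (Fin 2) F) 0 0 *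
      ((h : SpecialLinearGroup (Fin 2) F) : Matrix (Fin 2) (Fin 2) F) 1 1 = 1 := by
    have := (h : SpecialLinearGroup (Fin 2) F).2
    rw [Matrix.det_fin_two, hh, mul_zero, sub_zero] at this
    exact this
  have key : ∀ A B : SpecialLinearGroup (Fin 2) F,
      ((A⁻¹ * B * A : SpecialLinearGroup (Fin 2) F) : Matrix (Fin 2) (Fin 2) F) =
        Matrix.adjugate (A : Matrix (Fin 2) (Fin 2) F) * (B : Matrix (Fin 2) (Fin 2) F) *
          (A : Matrix (Fin 2) (Fin 2) F) := fun _ _ => rfl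
  have key2 : (((h⁻¹ * y * h : (Cfsg.upperTriangularGL 2 F).comap SpecialLinearGroup.toGL) :
      SpecialLinearGroup (Fin 2) F) : Matrix (Fin 2) (Fin 2) F) =
      Matrix.adjugate ((h : SpecialLinearGroup (Fin 2) F) : Matrix (Fin 2) (Fin 2) F) *
        ((y : SpecialLinearGroup (Fin 2) F) : Matrix (Fin 2) (Fin 2) F) *
          ((h : SpecialLinearGroup (Fin 2) F) : Matrix (Fin 2) (Fin 2) F) := key _ _
  rw [key2, Matrix.adjugate_fin_two]
  simp only [Matrix.mul_apply, Fin.sum_univ_two, Matrix.of_apply, Matrix.cons_val', Matrix.cons_val_zero,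
    Matrix.cons_val_one, Matrix.cons_val_fin_one]
  rw [hh, hy]
  linear_combination ((y : SpecialLinearGroup (Fin 2) F) : Matrix (Fin 2) (Fin 2) F) 0 0 * hdet

/-- The character of `SL₂` induced from `b ↦ α(b₀₀)` is the restriction of the principal series
character `ps α 1` of `GL₂`. -/
theorem indFun_thetaSL [Fintype F] [DecidableEq F] (α : MulChar F ℂ) :
    Cfsg.indFun ((Cfsg.upperTriangularGL 2 F).comap SpecialLinearGroup.toGL) (thetaSL α) =
      res (ps α 1) := by
  ext g
  rw [indFun_eq_sum_transversal _ lineRepSL lineRepSL_bijective _ (thetaSL_conj α),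
    Fintype.sum_option]
  unfold res ps
  rw [indTheta_apply]
  have hdet : (g : Matrix (Fin 2) (Fin 2) F) 0 0 * (g : Matrix (Fin 2) (Fin 2) F) 1 1 -
      (g : Matrix (Fin 2) (Fin 2) F) 0 1 * (g : Matrix (Fin 2) (Fin 2) F) 1 0 = 1 := by
    have := g.2
    rw [Matrix.det_fin_two] at this
    exact this
  have hcoe : ((SpecialLinearGroup.toGL g : GL (Fin 2) F) : Matrix (Fin 2) (Fin 2) F) =
      (g : Matrix (Fin 2) (Fin 2) F) := rfl
  rw [hcoe]
  congr 1
  · rw [extendByZero_thetaSL, lineRepSL_none_conj]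
    simp only [Matrix.of_apply, Matrix.cons_val', Matrix.cons_val_zero, Matrix.cons_val_one,
      Matrix.cons_val_fin_one, neg_eq_zero]
    split_ifs with h
    · rw [h, zero_mul, sub_zero] at hdet
      have h0 : (g : Matrix (Fin 2) (Fin 2) F) 0 0 ≠ 0 := by
        intro h0
        rw [h0, zero_mul] at hdet
        exact zero_ne_one hdet
      rw [MulChar.one_apply (isUnit_iff_ne_zero.mpr h0), mul_one]
    · rfl
  · apply Finset.sum_congr rfl
    intro s _
    rw [extendByZero_thetaSL, lineRepSL_some_conj]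
    simp only [Matrix.of_apply, Matrix.cons_val', Matrix.cons_val_zero, Matrix.cons_val_one,
      Matrix.cons_val_fin_one]
    split_ifs with h
    · have h1 : ((g : Matrix (Fin 2) (Fin 2) F) 0 0 + (g : Matrix (Fin 2) (Fin 2) F) 0 1 * s) *
          ((g : Matrix (Fin 2) (Fin 2) F) 1 1 - s * (g : Matrix (Fin 2) (Fin 2) F) 0 1) = 1 := by
        linear_combination hdet + (g : Matrix (Fin 2) (Fin 2) F) 0 1 * h
      have h0 : (g : Matrix (Fin 2) (Fin 2) F) 1 1 - s * (g : Matrix (Fin 2) (Fin 2) F) 0 1 ≠ 0 := by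
        intro h0
        rw [h0, mul_zero] at h1
        exact zero_ne_one h1
      rw [MulChar.one_apply (isUnit_iff_ne_zero.mpr h0), mul_one]
    · rfl

end Cfsg.Agent.Lib.Helper14
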