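import Mathlib
import Cfsg.Agent.Lib.Helper14.SL2Res
import Cfsg.Agent.Lib.Helper2.CenterIndex
import Cfsg.Agent.Lib.Helper2.Completeness
import Cfsg.Agent.Lib.Helper2.PermLemma
import Cfsg.Agent.Lib.Helper2.Column

/-!
# Clifford theory by hand for `SL₂(F) ⊴ GL₂(F)`
-/

set_option autoImplicit false

namespace Cfsg.Agent.Lib.Helper14

open Matrix Cfsg.Agent.Lib.Helper2
open scoped ComplexConjugate

variable {F : Type*} [Field F] [Fintype F] [DecidableEq F]

omit [Fintype F] [DecidableEq F] in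
/-- Twisting by a character of the determinant does not change the restriction to `SL₂`. -/
theorem res_mul_detChar (Φ : GL (Fin 2) F → ℂ) (γ : MulChar F ℂ) :
    res (Φ * detChar γ) = res Φ := by
  ext s
  show Φ (SpecialLinearGroup.toGL s) * detChar γ (SpecialLinearGroup.toGL s) =
    Φ (SpecialLinearGroup.toGL s)
  unfold detChar
  rw [toGL_det, map_one, mul_one]

/-- `(q - 1) θ(1) = ∑_χ χ(1) ⟨res χ, θ⟩`. -/
theorem sum_degree_classInner_res [Fintype (Cfsg.IrrCharacter (GL (Fin 2) F))]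
    (θ : SpecialLinearGroup (Fin 2) F → ℂ) :
    ∑ χ : Cfsg.IrrCharacter (GL (Fin 2) F),
        (χ : GL (Fin 2) F → ℂ) 1 * Cfsg.classInner (res (χ : GL (Fin 2) F → ℂ)) θ =
      ((Fintype.card F : ℂ) - 1) * conj (θ 1) := by
  classical
  simp only [classInner_def, res]
  have h1 : ∀ χ : Cfsg.IrrCharacter (GL (Fin 2) F),
      (χ : GL (Fin 2) F → ℂ) 1 * ((Nat.card (SpecialLinearGroup (Fin 2) F) : ℂ)⁻¹ *
        ∑ s : SpecialLinearGroup (Fin 2) F,
          (χ : GL (Fin 2) F → ℂ) (SpecialLinearGroup.toGL s) * conj (θ s)) =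
      (Nat.card (SpecialLinearGroup (Fin 2) F) : ℂ)⁻¹ *
        ∑ s : SpecialLinearGroup (Fin 2) F,
          conj (θ s) * ((χ : GL (Fin 2) F → ℂ) 1 *
            (χ : GL (Fin 2) F → ℂ) (SpecialLinearGroup.toGL s)) := by
    intro χ
    rw [mul_left_comm, Finset.mul_sum]
    congr 1
    apply Finset.sum_congr rfl
    intro s _
    ring
  simp only [h1]
  rw [← Finset.mul_sum, Finset.sum_comm]
  simp only [← Finset.mul_sum, sum_irr_degree_mul]
  rw [Finset.sum_eq_single (1 : SpecialLinearGroup (Fin 2) F)]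
  · rw [map_one, if_pos rfl, card_GL2_eq_mul]
    have hS : (Nat.card (SpecialLinearGroup (Fin 2) F) : ℂ) ≠ 0 := by
      exact_mod_cast Nat.card_pos.ne'
    have hq : 1 ≤ Fintype.card F := Fintype.card_pos
    push_cast [Nat.cast_sub hq]
    field_simp
  · intro s _ hs
    rw [if_neg, mul_zero]
    intro h
    apply hs
    apply SpecialLinearGroup.toGL_injective
    rw [h, map_one]
  · intro h; exact absurd (Finset.mem_univ _) h

/-- Every irreducible character of `SL₂` occurs in the restriction of an irreducible character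
of `GL₂`. -/
theorem exists_constituent_res {θ : SpecialLinearGroup (Fin 2) F → ℂ}
    (hθ : Cfsg.IsIrrCharacter (SpecialLinearGroup (Fin 2) F) θ) :
    ∃ χ : Cfsg.IrrCharacter (GL (Fin 2) F),
      Cfsg.classInner (res (χ : GL (Fin 2) F → ℂ)) θ ≠ 0 := by
  classical
  have : Fintype (Cfsg.IrrCharacter (GL (Fin 2) F)) := Fintype.ofFinite _
  by_contra hcon
  push Not at hcon
  have h := sum_degree_classInner_res θ
  simp only [hcon, mul_zero, Finset.sum_const_zero] at h
  have hq : 2 ≤ Fintype.card F := Fintype.one_lt_card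
  have hq1 : ((Fintype.card F : ℂ) - 1) ≠ 0 := by
    have : ((Fintype.card F - 1 : ℕ) : ℂ) ≠ 0 := by
      have : Fintype.card F - 1 ≠ 0 := by omega
      exact_mod_cast this
    rwa [Nat.cast_sub (by omega), Nat.cast_one] at this
  rcases mul_eq_zero.mp h.symm with h2 | h2
  · exact hq1 h2
  · exact IsIrrCharacter.apply_one_ne_zero hθ ((map_eq_zero _).mp h2)

/-- Twist of an irreducible character, as an irreducible character. -/
noncomputable def twistIrr (χ : Cfsg.IrrCharacter (GL (Fin 2) F)) (γ : MulChar F ℂ) :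
    Cfsg.IrrCharacter (GL (Fin 2) F) :=
  ⟨(χ : GL (Fin 2) F → ℂ) * detChar γ, isIrrCharacter_mul_detChar χ.2 γ⟩

theorem twistIrr_coe (χ : Cfsg.IrrCharacter (GL (Fin 2) F)) (γ : MulChar F ℂ) :
    ((twistIrr χ γ : Cfsg.IrrCharacter (GL (Fin 2) F)) : GL (Fin 2) F → ℂ) =
      (χ : GL (Fin 2) F → ℂ) * detChar γ := rfl

theorem res_twistIrr (χ : Cfsg.IrrCharacter (GL (Fin 2) F)) (γ : MulChar F ℂ) :
    res ((twistIrr χ γ : Cfsg.IrrCharacter (GL (Fin 2) F)) : GL (Fin 2) F → ℂ) =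
      res (χ : GL (Fin 2) F → ℂ) := res_mul_detChar _ _

theorem twistIrr_one_apply (χ : Cfsg.IrrCharacter (GL (Fin 2) F)) (γ : MulChar F ℂ) :
    ((twistIrr χ γ : Cfsg.IrrCharacter (GL (Fin 2) F)) : GL (Fin 2) F → ℂ) 1 =
      (χ : GL (Fin 2) F → ℂ) 1 := by
  rw [twistIrr_coe, Pi.mul_apply, detChar_one, mul_one]

/-- Inner product of the restrictions of two irreducible characters of `GL₂`. -/
theorem classInner_res_irr [Fintype (MulChar F ℂ)] (χ χ' : Cfsg.IrrCharacter (GL (Fin 2) F)) :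
    Cfsg.classInner (res (χ : GL (Fin 2) F → ℂ)) (res (χ' : GL (Fin 2) F → ℂ)) =
      ∑ γ : MulChar F ℂ, if twistIrr χ γ = χ' then (1 : ℂ) else 0 := by
  classical
  rw [classInner_res]
  apply Finset.sum_congr rfl
  intro γ _
  exact classInner_irrCharacter (twistIrr χ γ) χ'

theorem classInner_res_irr_eq_zero (χ χ' : Cfsg.IrrCharacter (GL (Fin 2) F))
    (h : ∀ γ : MulChar F ℂ, twistIrr χ γ ≠ χ') :
    Cfsg.classInner (res (χ : GL (Fin 2) F → ℂ)) (res (χ' : GL (Fin 2) F → ℂ)) = 0 := by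
  classical
  have : Fintype (MulChar F ℂ) := Fintype.ofFinite _
  rw [classInner_res_irr]
  apply Finset.sum_eq_zero
  intro γ _
  rw [if_neg (h γ)]

theorem sum_classInner_res_irr [Fintype (Cfsg.IrrCharacter (GL (Fin 2) F))]
    (χ : Cfsg.IrrCharacter (GL (Fin 2) F)) :
    ∑ χ' : Cfsg.IrrCharacter (GL (Fin 2) F),
      Cfsg.classInner (res (χ : GL (Fin 2) F → ℂ)) (res (χ' : GL (Fin 2) F → ℂ)) =
        (Fintype.card F : ℂ) - 1 := by
  classical
  have : Fintype (MulChar F ℂ) := Fintype.ofFinite _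
  simp only [classInner_res_irr]
  rw [Finset.sum_comm]
  simp only [Finset.sum_ite_eq, Finset.mem_univ, if_true, Finset.sum_const, Finset.card_univ,
    nsmul_eq_mul, mul_one]
  rw [← Nat.card_eq_fintype_card, card_mulChar]
  have hq : 1 ≤ Fintype.card F := Fintype.card_pos
  push_cast [Nat.cast_sub hq]
  ring

omit [Fintype F] [DecidableEq F] in
/-- Scalar matrices are central in `GL₂`. -/
theorem bmk_scalar_mem_center (a : Fˣ) : bmk a a 0 ∈ Subgroup.center (GL (Fin 2) F) := by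
  rw [Subgroup.mem_center_iff]
  intro g
  apply Units.ext
  rw [Units.val_mul, Units.val_mul, bmk_coe]
  conv_lhs => rw [Matrix.eta_fin_two (g : Matrix (Fin 2) (Fin 2) F)]
  conv_rhs => rw [Matrix.eta_fin_two (g : Matrix (Fin 2) (Fin 2) F)]
  rw [Matrix.mul_fin_two, Matrix.mul_fin_two]
  apply mat2_mk_eq' <;> ring

omit [DecidableEq F] in
/-- An irreducible character does not vanish at a central element. -/
theorem irr_center_ne_zero {G : Type*} [Group G] [Fintype G] {χ : G → ℂ}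
    (hχ : Cfsg.IsIrrCharacter G χ) {z : G} (hz : z ∈ Subgroup.center G) : χ z ≠ 0 := by
  obtain ⟨n, ρ, hρ, rfl⟩ := hχ
  have := hρ
  obtain ⟨ω, hω⟩ := exists_smul_id_of_mem_center ρ hz
  have hnt := nontrivial_of_isIrreducible ρ
  have hpos := finrank_pos_of_isIrreducible ρ
  have hω0 : ω ≠ 0 := by
    rintro rfl
    rw [zero_smul] at hω
    have h1 : ρ z * ρ z⁻¹ = 1 := by rw [← map_mul, mul_inv_cancel, map_one]
    rw [hω, zero_mul] at h1
    obtain ⟨v, hv⟩ := exists_ne (0 : Fin n → ℂ)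
    apply hv
    have := congrArg (fun f : (Fin n → ℂ) →ₗ[ℂ] (Fin n → ℂ) => f v) h1
    simpa using this.symm
  show LinearMap.trace ℂ _ (ρ z) ≠ 0
  rw [hω, map_smul, LinearMap.trace_id, smul_eq_mul]
  apply mul_ne_zero hω0
  exact_mod_cast hpos.ne'

/-- If a twist fixes an irreducible character then the twisting character has square one. -/
theorem sq_eq_one_of_twistIrr_eq (χ : Cfsg.IrrCharacter (GL (Fin 2) F)) (γ : MulChar F ℂ)
    (h : twistIrr χ γ = χ) : γ ^ 2 = 1 := by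
  ext a
  have h1 := congrFun (congrArg (fun x : Cfsg.IrrCharacter (GL (Fin 2) F) =>
    (x : GL (Fin 2) F → ℂ)) h) (bmk a a 0)
  simp only [twistIrr_coe, Pi.mul_apply] at h1
  have h2 := irr_center_ne_zero χ.2 (bmk_scalar_mem_center a)
  have h3 : detChar γ (bmk a a 0) = 1 := by
    exact mul_left_cancel₀ h2 (h1.trans (mul_one _).symm)
  rw [MulChar.pow_apply_coe, MulChar.one_apply_coe, ← h3]
  unfold detChar
  rw [bmk_coe, Matrix.det_fin_two_of, mul_zero, sub_zero, ← pow_two, map_pow]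

omit [DecidableEq F] in
theorem isCyclic_mulChar : IsCyclic (MulChar F ℂ) := by
  classical
  obtain ⟨e⟩ := MulChar.mulEquiv_units F ℂ
  exact isCyclic_of_surjective e.symm e.symm.surjective

omit [DecidableEq F] in
theorem card_mulChar_sq_eq_one_le [Fintype (MulChar F ℂ)] [DecidableEq (MulChar F ℂ)] :
    (Finset.univ.filter (fun γ : MulChar F ℂ => γ ^ 2 = 1)).card ≤ 2 := by
  have := isCyclic_mulChar (F := F)
  exact IsCyclic.card_pow_eq_one_le (by norm_num)

/-- The norm of the restriction of an irreducible character of `GL₂` to `SL₂` is `1` or `2`. -/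
theorem classInner_res_self (χ : Cfsg.IrrCharacter (GL (Fin 2) F)) :
    Cfsg.classInner (res (χ : GL (Fin 2) F → ℂ)) (res (χ : GL (Fin 2) F → ℂ)) = 1 ∨
    Cfsg.classInner (res (χ : GL (Fin 2) F → ℂ)) (res (χ : GL (Fin 2) F → ℂ)) = 2 := by
  classical
  have : Fintype (MulChar F ℂ) := Fintype.ofFinite _
  rw [classInner_res_irr]
  rw [Finset.sum_boole]
  have h1 : (Finset.univ.filter (fun γ : MulChar F ℂ => twistIrr χ γ = χ)).card ≤ 2 := by
    refine le_trans (Finset.card_le_card ?_) card_mulChar_sq_eq_one_le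
    intro γ hγ
    rw [Finset.mem_filter] at hγ ⊢
    exact ⟨hγ.1, sq_eq_one_of_twistIrr_eq χ γ hγ.2⟩
  have h2 : 1 ≤ (Finset.univ.filter (fun γ : MulChar F ℂ => twistIrr χ γ = χ)).card := by
    rw [Finset.one_le_card]
    refine ⟨1, ?_⟩
    rw [Finset.mem_filter]
    refine ⟨Finset.mem_univ _, ?_⟩
    apply Subtype.ext
    rw [twistIrr_coe]
    ext g
    rw [Pi.mul_apply]
    unfold detChar
    rw [MulChar.one_apply (isUnit_iff_ne_zero.mpr (det_ne_zero_GL g)), mul_one]
  have h3 : (Finset.univ.filter (fun γ : MulChar F ℂ => twistIrr χ γ = χ)).card = 1 ∨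
      (Finset.univ.filter (fun γ : MulChar F ℂ => twistIrr χ γ = χ)).card = 2 := by omega
  rcases h3 with h3 | h3
  · left; rw [h3]; norm_num
  · right; rw [h3]; norm_num

/-- For `q` even the restriction of an irreducible character of `GL₂` to `SL₂` is irreducible. -/
theorem classInner_res_self_even (heven : Even (Fintype.card F))
    (χ : Cfsg.IrrCharacter (GL (Fin 2) F)) :
    Cfsg.classInner (res (χ : GL (Fin 2) F → ℂ)) (res (χ : GL (Fin 2) F → ℂ)) = 1 := by
  classical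
  have : Fintype (MulChar F ℂ) := Fintype.ofFinite _
  rw [classInner_res_irr]
  rw [Finset.sum_eq_single (1 : MulChar F ℂ)]
  · rw [if_pos]
    apply Subtype.ext
    rw [twistIrr_coe]
    ext g
    rw [Pi.mul_apply]
    unfold detChar
    rw [MulChar.one_apply (isUnit_iff_ne_zero.mpr (det_ne_zero_GL g)), mul_one]
  · intro γ _ hγ
    rw [if_neg]
    intro h
    apply hγ
    have h1 := sq_eq_one_of_twistIrr_eq χ γ h
    have h2 : γ ^ (Fintype.card F - 1) = 1 := by
      rw [← card_mulChar (F := F)]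
      exact pow_card_eq_one'
    have h3 := pow_gcd_eq_one.mpr ⟨h1, h2⟩
    have h4 : Nat.gcd 2 (Fintype.card F - 1) = 1 := by
      have hq : 1 ≤ Fintype.card F := Fintype.card_pos
      obtain ⟨k, hk⟩ := heven
      have : Fintype.card F - 1 = 2 * (k - 1) + 1 := by omega
      rw [this]
      simp
    rw [h4, pow_one] at h3
    exact h3
  · intro h; exact absurd (Finset.mem_univ _) h

section general

variable {K : Type*} [Group K] [Fintype K]

/-- A character of norm `2` is the sum of two distinct irreducible characters. -/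
theorem exists_add_of_classInner_self_eq_two {ψ : K → ℂ} (hψ : Cfsg.IsCharacter K ψ)
    (h2 : Cfsg.classInner ψ ψ = 2) :
    ∃ θ₁ θ₂ : K → ℂ, Cfsg.IsIrrCharacter K θ₁ ∧ Cfsg.IsIrrCharacter K θ₂ ∧ θ₁ ≠ θ₂ ∧
      ψ = θ₁ + θ₂ := by
  have h0 : ψ ≠ 0 := by
    rintro rfl
    rw [classInner_def] at h2
    simp at h2
  obtain ⟨θ₁, Ψ, hΨ, hsum⟩ := exists_irr_add_of_ne_zero hψ h0
  obtain ⟨n, hn⟩ := classInner_isCharacter_nat hΨ (IsIrrCharacter.isCharacter θ₁.2)
  obtain ⟨m, hm⟩ := classInner_isCharacter_nat hΨ hΨ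
  have hn' : Cfsg.classInner (θ₁ : K → ℂ) Ψ = n := by
    rw [← classInner_conj_symm, hn, Complex.conj_natCast]
  have h11 : Cfsg.classInner (θ₁ : K → ℂ) (θ₁ : K → ℂ) = 1 := classInner_irrCharacter_self θ₁
  rw [hsum, classInner_add_left, classInner_add_right, classInner_add_right, h11, hn, hn', hm]
    at h2
  have h3 : 1 + n + (n + m) = 2 := by exact_mod_cast h2
  have hn0 : n = 0 := by omega
  have hm1 : m = 1 := by omega
  subst hn0 hm1
  refine ⟨θ₁, Ψ, θ₁.2, ?_, ?_, hsum⟩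
  · apply isIrrCharacter_of_classInner_self_eq_one hΨ
    rw [hm]; norm_num
  · intro h
    rw [← h, h11] at hn
    norm_num at hn

end general

/-- Conjugation by an element of `GL₂`, as a map of `SL₂`. -/
def conjSLfun (x : GL (Fin 2) F) (s : SpecialLinearGroup (Fin 2) F) :
    SpecialLinearGroup (Fin 2) F :=
  ⟨(x : Matrix (Fin 2) (Fin 2) F) * (s : Matrix (Fin 2) (Fin 2) F) *
    ((x⁻¹ : GL (Fin 2) F) : Matrix (Fin 2) (Fin 2) F), by
    rw [Matrix.det_mul, Matrix.det_mul, s.2, mul_one, ← Matrix.det_mul, ← Units.val_mul,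
      mul_inv_cancel, Units.val_one, Matrix.det_one]⟩

omit [Fintype F] [DecidableEq F] in
theorem toGL_conjSLfun (x : GL (Fin 2) F) (s : SpecialLinearGroup (Fin 2) F) :
    SpecialLinearGroup.toGL (conjSLfun x s) = x * SpecialLinearGroup.toGL s * x⁻¹ := by
  apply Units.ext
  rfl

/-- Conjugation by an element of `GL₂`, as an automorphism of `SL₂`. -/
def conjSL (x : GL (Fin 2) F) : SpecialLinearGroup (Fin 2) F ≃* SpecialLinearGroup (Fin 2) F where
  toFun := conjSLfun x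
  invFun := conjSLfun x⁻¹
  left_inv s := by
    apply SpecialLinearGroup.toGL_injective
    rw [toGL_conjSLfun, toGL_conjSLfun]
    group
  right_inv s := by
    apply SpecialLinearGroup.toGL_injective
    rw [toGL_conjSLfun, toGL_conjSLfun]
    group
  map_mul' s s' := by
    apply SpecialLinearGroup.toGL_injective
    rw [map_mul, toGL_conjSLfun, toGL_conjSLfun, toGL_conjSLfun, map_mul]
    group

omit [Fintype F] [DecidableEq F] in
theorem toGL_conjSL (x : GL (Fin 2) F) (s : SpecialLinearGroup (Fin 2) F) :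
    SpecialLinearGroup.toGL (conjSL x s) = x * SpecialLinearGroup.toGL s * x⁻¹ :=
  toGL_conjSLfun x s

omit [Fintype F] [DecidableEq F] in
theorem conjSL_symm_apply (x : GL (Fin 2) F) (s : SpecialLinearGroup (Fin 2) F) :
    (conjSL x).symm s = conjSL x⁻¹ s := rfl

omit [Fintype F] [DecidableEq F] in
/-- The restriction of a class function of `GL₂` is invariant under `GL₂`-conjugation. -/
theorem res_conjSL {Φ : GL (Fin 2) F → ℂ} (hΦ : Cfsg.IsClassFunction (GL (Fin 2) F) Φ)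
    (x : GL (Fin 2) F) (s : SpecialLinearGroup (Fin 2) F) : res Φ (conjSL x s) = res Φ s := by
  unfold res
  rw [toGL_conjSL, hΦ]

omit [Fintype F] [DecidableEq F] in
theorem conjSL_of_SL (y s : SpecialLinearGroup (Fin 2) F) :
    conjSL (SpecialLinearGroup.toGL y) s = y * s * y⁻¹ := by
  apply SpecialLinearGroup.toGL_injective
  rw [toGL_conjSL, map_mul, map_mul, map_inv]


theorem isIrrCharacter_comp_conjSL {θ : SpecialLinearGroup (Fin 2) F → ℂ}
    (hθ : Cfsg.IsIrrCharacter (SpecialLinearGroup (Fin 2) F) θ) (x : GL (Fin 2) F) :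
    Cfsg.IsIrrCharacter (SpecialLinearGroup (Fin 2) F) (θ ∘ conjSL x) :=
  isIrrCharacter_comp_mulEquiv (conjSL x) ⟨θ, hθ⟩

/-- Inner products with restrictions are invariant under `GL₂`-conjugation. -/
theorem classInner_res_comp_conjSL {Φ : GL (Fin 2) F → ℂ}
    (hΦ : Cfsg.IsClassFunction (GL (Fin 2) F) Φ) (θ : SpecialLinearGroup (Fin 2) F → ℂ)
    (x : GL (Fin 2) F) :
    Cfsg.classInner (res Φ) (θ ∘ conjSL x) = Cfsg.classInner (res Φ) θ := by
  rw [classInner_def, classInner_def]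
  congr 1
  rw [← Equiv.sum_comp (conjSL x).toEquiv (fun s => res Φ s * conj (θ s))]
  apply Finset.sum_congr rfl
  intro s _
  show res Φ s * conj (θ (conjSL x s)) = res Φ (conjSL x s) * conj (θ (conjSL x s))
  rw [res_conjSL hΦ]

/-- Extension by zero of a function on `SL₂` to `GL₂`. -/
noncomputable def extSL (f : SpecialLinearGroup (Fin 2) F → ℂ) : GL (Fin 2) F → ℂ := fun g =>
  if h : (g : Matrix (Fin 2) (Fin 2) F).det = 1 then f ⟨(g : Matrix (Fin 2) (Fin 2) F), h⟩ else 0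

omit [Fintype F] in
theorem extSL_toGL (f : SpecialLinearGroup (Fin 2) F → ℂ) (s : SpecialLinearGroup (Fin 2) F) :
    extSL f (SpecialLinearGroup.toGL s) = f s := by
  unfold extSL
  rw [dif_pos (toGL_det s)]
  rfl

omit [Fintype F] in
theorem extSL_of_det_ne (f : SpecialLinearGroup (Fin 2) F → ℂ) (g : GL (Fin 2) F)
    (h : (g : Matrix (Fin 2) (Fin 2) F).det ≠ 1) : extSL f g = 0 := by
  unfold extSL
  rw [dif_neg h]

omit [Fintype F] in
theorem extSL_isClassFunction (f : SpecialLinearGroup (Fin 2) F → ℂ)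
    (hf : ∀ x : GL (Fin 2) F, f ∘ conjSL x = f) :
    Cfsg.IsClassFunction (GL (Fin 2) F) (extSL f) := by
  intro g x
  by_cases h : (g : Matrix (Fin 2) (Fin 2) F).det = 1
  · obtain ⟨s, rfl⟩ : ∃ s : SpecialLinearGroup (Fin 2) F, g = SpecialLinearGroup.toGL s :=
      ⟨⟨(g : Matrix (Fin 2) (Fin 2) F), h⟩, by apply Units.ext; rfl⟩
    rw [← toGL_conjSL, extSL_toGL, extSL_toGL]
    exact congrFun (hf x) _
  · rw [extSL_of_det_ne f g h, extSL_of_det_ne]
    intro h2
    apply h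
    rw [Units.val_mul, Units.val_mul, Matrix.det_mul, Matrix.det_mul, mul_right_comm,
      ← Matrix.det_mul, ← Units.val_mul, mul_inv_cancel, Units.val_one, Matrix.det_one,
      one_mul] at h2
    exact h2

theorem classInner_extSL (f : SpecialLinearGroup (Fin 2) F → ℂ) (Φ : GL (Fin 2) F → ℂ) :
    Cfsg.classInner (extSL f) Φ = ((Fintype.card F : ℂ) - 1)⁻¹ * Cfsg.classInner f (res Φ) := by
  rw [classInner_def, classInner_def]
  have h1 : ∑ g : GL (Fin 2) F, extSL f g * conj (Φ g) =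
      ∑ g : GL (Fin 2) F, if (g : Matrix (Fin 2) (Fin 2) F).det = 1 then
        extSL f g * conj (Φ g) else 0 := by
    apply Finset.sum_congr rfl
    intro g _
    split_ifs with h
    · rfl
    · rw [extSL_of_det_ne f g h, zero_mul]
  rw [h1, ← sum_res (fun g => extSL f g * conj (Φ g))]
  simp only [extSL_toGL]
  rw [card_GL2_eq_mul]
  have hS : (Nat.card (SpecialLinearGroup (Fin 2) F) : ℂ) ≠ 0 := by
    exact_mod_cast Nat.card_pos.ne'
  have hq : 2 ≤ Fintype.card F := Fintype.one_lt_card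
  have hq1 : ((Fintype.card F : ℂ) - 1) ≠ 0 := by
    have : ((Fintype.card F - 1 : ℕ) : ℂ) ≠ 0 := by
      have : Fintype.card F - 1 ≠ 0 := by omega
      exact_mod_cast this
    rwa [Nat.cast_sub (by omega), Nat.cast_one] at this
  push_cast [Nat.cast_sub (show 1 ≤ Fintype.card F by omega)]
  unfold res
  field_simp

/-- A `GL₂`-invariant function on `SL₂` orthogonal to all restrictions of irreducible characters
of `GL₂` vanishes. -/
theorem eq_zero_of_classInner_res_eq_zero (f : SpecialLinearGroup (Fin 2) F → ℂ)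
    (hf : ∀ x : GL (Fin 2) F, f ∘ conjSL x = f)
    (h : ∀ χ : Cfsg.IrrCharacter (GL (Fin 2) F),
      Cfsg.classInner f (res (χ : GL (Fin 2) F → ℂ)) = 0) : f = 0 := by
  have h1 : extSL f = 0 := by
    apply eq_zero_of_classInner_irr_eq_zero _ (extSL_isClassFunction f hf)
    intro χ
    rw [classInner_extSL, h χ, mul_zero]
  ext s
  rw [← extSL_toGL f s, h1]
  rfl

section general2

variable {K : Type*} [Group K] [Fintype K]

theorem classInner_add_irr_left {θ₁ θ₂ : K → ℂ} (h₁ : Cfsg.IsIrrCharacter K θ₁)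
    (h₂ : Cfsg.IsIrrCharacter K θ₂) (hne : θ₁ ≠ θ₂) :
    Cfsg.classInner (θ₁ + θ₂) θ₁ = 1 ∧ Cfsg.classInner (θ₁ + θ₂) θ₂ = 1 := by
  have h11 : Cfsg.classInner θ₁ θ₁ = 1 := classInner_irrCharacter_self ⟨θ₁, h₁⟩
  have h22 : Cfsg.classInner θ₂ θ₂ = 1 := classInner_irrCharacter_self ⟨θ₂, h₂⟩
  have h12 : Cfsg.classInner θ₁ θ₂ = 0 :=
    classInner_irrCharacter_ne (χ := ⟨θ₁, h₁⟩) (ψ := ⟨θ₂, h₂⟩)
      (fun h => hne (congrArg Subtype.val h))
  have h21 : Cfsg.classInner θ₂ θ₁ = 0 :=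
    classInner_irrCharacter_ne (χ := ⟨θ₂, h₂⟩) (ψ := ⟨θ₁, h₁⟩)
      (fun h => hne (congrArg Subtype.val h).symm)
  constructor
  · rw [classInner_add_left, h11, h21, add_zero]
  · rw [classInner_add_left, h12, h22, zero_add]

theorem eq_or_eq_of_classInner_add_ne_zero {θ₁ θ₂ ψ : K → ℂ} (h₁ : Cfsg.IsIrrCharacter K θ₁)
    (h₂ : Cfsg.IsIrrCharacter K θ₂) (hψ : Cfsg.IsIrrCharacter K ψ)
    (h : Cfsg.classInner (θ₁ + θ₂) ψ ≠ 0) : ψ = θ₁ ∨ ψ = θ₂ := by
  by_contra hcon
  push Not at hcon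
  apply h
  have h1 : Cfsg.classInner θ₁ ψ = 0 :=
    classInner_irrCharacter_ne (χ := ⟨θ₁, h₁⟩) (ψ := ⟨ψ, hψ⟩)
      (fun h => hcon.1 (congrArg Subtype.val h).symm)
  have h2 : Cfsg.classInner θ₂ ψ = 0 :=
    classInner_irrCharacter_ne (χ := ⟨θ₂, h₂⟩) (ψ := ⟨ψ, hψ⟩)
      (fun h => hcon.2 (congrArg Subtype.val h).symm)
  rw [classInner_add_left, h1, h2, add_zero]

theorem eq_of_irr_of_classInner_ne_zero {θ ψ : K → ℂ} (h₁ : Cfsg.IsIrrCharacter K θ)
    (hψ : Cfsg.IsIrrCharacter K ψ) (h : Cfsg.classInner θ ψ ≠ 0) : ψ = θ := by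
  by_contra hcon
  apply h
  exact classInner_irrCharacter_ne (χ := ⟨θ, h₁⟩) (ψ := ⟨ψ, hψ⟩)
      (fun h => hcon (congrArg Subtype.val h).symm)

end general2

section halves

variable (χ : Cfsg.IrrCharacter (GL (Fin 2) F)) {θ₁ θ₂ : SpecialLinearGroup (Fin 2) F → ℂ}
  (h₁ : Cfsg.IsIrrCharacter (SpecialLinearGroup (Fin 2) F) θ₁)
  (h₂ : Cfsg.IsIrrCharacter (SpecialLinearGroup (Fin 2) F) θ₂) (hne : θ₁ ≠ θ₂)
  (hsum : res (χ : GL (Fin 2) F → ℂ) = θ₁ + θ₂)

include h₁ h₂ hne hsum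

theorem classInner_res_halves (χ' : Cfsg.IrrCharacter (GL (Fin 2) F)) :
    Cfsg.classInner (res (χ' : GL (Fin 2) F → ℂ)) θ₁ =
      Cfsg.classInner (res (χ' : GL (Fin 2) F → ℂ)) θ₂ := by
  by_cases h : ∃ γ : MulChar F ℂ, twistIrr χ γ = χ'
  · obtain ⟨γ, rfl⟩ := h
    rw [res_twistIrr, hsum, (classInner_add_irr_left h₁ h₂ hne).1,
      (classInner_add_irr_left h₁ h₂ hne).2]
  · push Not at h
    have h0 := classInner_res_irr_eq_zero χ χ' h
    have h0' : Cfsg.classInner (res (χ' : GL (Fin 2) F → ℂ)) (res (χ : GL (Fin 2) F → ℂ)) = 0 := by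
      rw [← classInner_conj_symm, h0, map_zero]
    rw [hsum, classInner_add_right] at h0'
    have hc := res_isCharacter (IsIrrCharacter.isCharacter χ'.2)
    obtain ⟨a, ha⟩ := classInner_isCharacter_nat hc (IsIrrCharacter.isCharacter h₁)
    obtain ⟨b, hb⟩ := classInner_isCharacter_nat hc (IsIrrCharacter.isCharacter h₂)
    rw [ha, hb] at h0' ⊢
    have : a + b = 0 := by exact_mod_cast h0'
    have ha0 : a = 0 := by omega
    have hb0 : b = 0 := by omega
    rw [ha0, hb0]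

/-- The two constituents are conjugate under `GL₂`. -/
theorem exists_conjSL_eq : ∃ x : GL (Fin 2) F, θ₂ ∘ conjSL x = θ₁ := by
  by_contra hcon
  push Not at hcon
  have hχcf : Cfsg.IsClassFunction (GL (Fin 2) F) (χ : GL (Fin 2) F → ℂ) :=
    IsCharacter.isClassFunction (IsIrrCharacter.isCharacter χ.2)
  have hinv1 : ∀ x : GL (Fin 2) F, θ₁ ∘ conjSL x = θ₁ := by
    intro x
    have hirr := isIrrCharacter_comp_conjSL h₁ x
    have h3 : Cfsg.classInner (θ₁ + θ₂) (θ₁ ∘ conjSL x) ≠ 0 := by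
      rw [← hsum, classInner_res_comp_conjSL hχcf, hsum, (classInner_add_irr_left h₁ h₂ hne).1]
      exact one_ne_zero
    rcases eq_or_eq_of_classInner_add_ne_zero h₁ h₂ hirr h3 with h4 | h4
    · exact h4
    · exfalso
      apply hcon x⁻¹
      rw [← h4]
      ext s
      show θ₁ (conjSL x (conjSL x⁻¹ s)) = θ₁ s
      rw [← conjSL_symm_apply, MulEquiv.apply_symm_apply]
  have hinv2 : ∀ x : GL (Fin 2) F, θ₂ ∘ conjSL x = θ₂ := by
    intro x
    have e2 : θ₂ = res (χ : GL (Fin 2) F → ℂ) - θ₁ := by rw [hsum]; simp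
    ext s
    have e1 := congrFun (hinv1 x) s
    simp only [Function.comp_apply] at e1 ⊢
    rw [e2, Pi.sub_apply, Pi.sub_apply, res_conjSL hχcf, e1]
  have hzero : θ₁ - θ₂ = 0 := by
    apply eq_zero_of_classInner_res_eq_zero
    · intro x
      ext s
      have e1 := congrFun (hinv1 x) s
      have e2 := congrFun (hinv2 x) s
      simp only [Function.comp_apply, Pi.sub_apply] at e1 e2 ⊢
      rw [e1, e2]
    · intro χ'
      rw [classInner_sub_left, ← classInner_conj_symm, ← classInner_conj_symm _ θ₂,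
        classInner_res_halves χ h₁ h₂ hne hsum χ', sub_self]
  exact hne (sub_eq_zero.mp hzero)

theorem degree_halves : 2 * θ₁ 1 = (χ : GL (Fin 2) F → ℂ) 1 ∧ 2 * θ₂ 1 = (χ : GL (Fin 2) F → ℂ) 1 := by
  obtain ⟨x, hx⟩ := exists_conjSL_eq χ h₁ h₂ hne hsum
  have h3 : θ₂ 1 = θ₁ 1 := by
    have := congrFun hx 1
    simp only [Function.comp_apply, map_one] at this
    exact this
  have h4 : (χ : GL (Fin 2) F → ℂ) 1 = θ₁ 1 + θ₂ 1 := by
    have := res_one (χ : GL (Fin 2) F → ℂ)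
    rw [← this, hsum]; rfl
  rw [h4, h3]
  constructor <;> ring

end halves

/-- The structure of the restriction to `SL₂` of an irreducible character `χ` of `GL₂` containing
the irreducible character `θ`. -/
theorem constituent_cases (χ : Cfsg.IrrCharacter (GL (Fin 2) F))
    {θ : SpecialLinearGroup (Fin 2) F → ℂ}
    (hθ : Cfsg.IsIrrCharacter (SpecialLinearGroup (Fin 2) F) θ)
    (h : Cfsg.classInner (res (χ : GL (Fin 2) F → ℂ)) θ ≠ 0) :
    (Cfsg.classInner (res (χ : GL (Fin 2) F → ℂ)) (res (χ : GL (Fin 2) F → ℂ)) = 1 ∧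
      res (χ : GL (Fin 2) F → ℂ) = θ) ∨
    (Cfsg.classInner (res (χ : GL (Fin 2) F → ℂ)) (res (χ : GL (Fin 2) F → ℂ)) = 2 ∧
      ∃ θ' : SpecialLinearGroup (Fin 2) F → ℂ,
      Cfsg.IsIrrCharacter (SpecialLinearGroup (Fin 2) F) θ' ∧ θ' ≠ θ ∧
      res (χ : GL (Fin 2) F → ℂ) = θ + θ' ∧ 2 * θ 1 = (χ : GL (Fin 2) F → ℂ) 1 ∧
      2 * θ' 1 = (χ : GL (Fin 2) F → ℂ) 1 ∧ ∃ x : GL (Fin 2) F, θ' ∘ conjSL x = θ) := by
  have hc := res_isCharacter (IsIrrCharacter.isCharacter χ.2)
  rcases classInner_res_self χ with h1 | h2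
  · left
    refine ⟨h1, ?_⟩
    have hirr := isIrrCharacter_of_classInner_self_eq_one hc h1
    exact (eq_of_irr_of_classInner_ne_zero hirr hθ h).symm
  · right
    refine ⟨h2, ?_⟩
    obtain ⟨θ₁, θ₂, h₁, h₂, hne, hsum⟩ := exists_add_of_classInner_self_eq_two hc h2
    rw [hsum] at h
    rcases eq_or_eq_of_classInner_add_ne_zero h₁ h₂ hθ h with rfl | rfl
    · obtain ⟨d1, d2⟩ := degree_halves χ h₁ h₂ hne hsum
      obtain ⟨x, hx⟩ := exists_conjSL_eq χ h₁ h₂ hne hsum
      exact ⟨θ₂, h₂, hne.symm, hsum, d1, d2, x, hx⟩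
    · have hsum' : res (χ : GL (Fin 2) F → ℂ) = θ + θ₁ := by rw [hsum, add_comm]
      obtain ⟨d1, d2⟩ := degree_halves χ h₂ h₁ hne.symm hsum'
      obtain ⟨x, hx⟩ := exists_conjSL_eq χ h₂ h₁ hne.symm hsum'
      exact ⟨θ₁, h₁, hne, hsum', d1, d2, x, hx⟩

end Cfsg.Agent.Lib.Helper14
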