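import Mathlib
import Cfsg.Agent.Lib.Helper14.SL2Clifford
import Cfsg.Agent.Lib.Helper14.SL2Ind

/-!
# Restrictions to `SL₂(F)` of the non-cuspidal irreducible characters of `GL₂(F)`
-/

set_option autoImplicit false

namespace Cfsg.Agent.Lib.Helper14

open Matrix Cfsg.Agent.Lib.Helper2
open scoped ComplexConjugate

variable {F : Type*} [Field F] [Fintype F] [DecidableEq F]

/-- Inner product of the restrictions of two principal series characters. -/
theorem classInner_res_ps (α α' : MulChar F ℂ) [Decidable (α = α')] [Decidable (α * α' = 1)] :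
    Cfsg.classInner (res (ps α 1)) (res (ps α' 1)) =
      (if α = α' then 1 else 0) + (if α * α' = 1 then 1 else 0) := by
  classical
  have : Fintype (MulChar F ℂ) := Fintype.ofFinite _
  rw [classInner_res]
  simp only [ps_mul_detChar, classInner_ps_ps, one_mul]
  rw [Finset.sum_add_distrib]
  congr 1
  · rw [Finset.sum_eq_single (1 : MulChar F ℂ)]
    · simp
    · intro γ _ hγ
      rw [if_neg]
      intro h
      exact hγ h.2
    · intro h; exact absurd (Finset.mem_univ _) h
  · rw [Finset.sum_eq_single α']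
    · simp
    · intro γ _ hγ
      rw [if_neg]
      intro h
      exact hγ h.2
    · intro h; exact absurd (Finset.mem_univ _) h

theorem res_ps_isCharacter (α β : MulChar F ℂ) :
    Cfsg.IsCharacter (SpecialLinearGroup (Fin 2) F) (res (ps α β)) :=
  res_isCharacter (ps_isCharacter α β)

/-- The restriction of `ps α β` only depends on `α β⁻¹`. -/
theorem res_ps_eq (α β : MulChar F ℂ) : res (ps α β) = res (ps (α * β⁻¹) 1) := by
  rw [← res_mul_detChar (ps α β) β⁻¹, ps_mul_detChar, mul_inv_cancel]

theorem res_ps_inv (α : MulChar F ℂ) : res (ps α⁻¹ 1) = res (ps α 1) := by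
  rw [ps_comm α⁻¹ 1, res_ps_eq 1 α⁻¹, inv_inv, one_mul]

theorem res_ps_irr {α : MulChar F ℂ} (h : α ^ 2 ≠ 1) :
    Cfsg.IsIrrCharacter (SpecialLinearGroup (Fin 2) F) (res (ps α 1)) := by
  classical
  apply isIrrCharacter_of_classInner_self_eq_one (res_ps_isCharacter α 1)
  rw [classInner_res_ps, if_pos rfl, if_neg, add_zero]
  rwa [← pow_two]

theorem classInner_res_ps_self_of_sq {α : MulChar F ℂ} (h : α ^ 2 = 1) :
    Cfsg.classInner (res (ps α 1)) (res (ps α 1)) = 2 := by
  classical
  rw [classInner_res_ps, if_pos rfl, if_pos (by rwa [← pow_two])]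
  norm_num

omit [Fintype F] [DecidableEq F] in
theorem res_detChar (γ : MulChar F ℂ) : res (detChar γ) = fun _ => 1 := by
  ext s
  unfold res detChar
  rw [toGL_det, map_one]

theorem res_st (γ : MulChar F ℂ) : res (st γ) = res (st 1) := by
  rw [← res_mul_detChar (st γ) γ⁻¹, st_mul_detChar, mul_inv_cancel]

theorem res_st_irr : Cfsg.IsIrrCharacter (SpecialLinearGroup (Fin 2) F) (res (st (1 : MulChar F ℂ))) := by
  classical
  have : Fintype (MulChar F ℂ) := Fintype.ofFinite _
  apply isIrrCharacter_of_classInner_self_eq_one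
    (res_isCharacter (IsIrrCharacter.isCharacter (st_isIrrCharacter 1)))
  rw [classInner_res]
  simp only [st_mul_detChar, one_mul]
  rw [Finset.sum_eq_single (1 : MulChar F ℂ)]
  · exact classInner_irrCharacter_self ⟨st 1, st_isIrrCharacter 1⟩
  · intro γ _ hγ
    apply classInner_irrCharacter_ne (χ := ⟨st γ, st_isIrrCharacter γ⟩)
      (ψ := ⟨st 1, st_isIrrCharacter 1⟩)
    intro h
    exact hγ (st_injective (congrArg Subtype.val h))
  · intro h; exact absurd (Finset.mem_univ _) h

end Cfsg.Agent.Lib.Helper14
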