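import Mathlib
import Cfsg.Agent.Lib.Helper14.SL2PS

/-!
# Classification of the irreducible characters of `SL₂(F)` via restriction from `GL₂(F)`
-/

set_option autoImplicit false

namespace Cfsg.Agent.Lib.Helper14

open Matrix Cfsg.Agent.Lib.Helper2
open scoped ComplexConjugate

theorem one_isIrrCharacter (K : Type*) [Group K] : Cfsg.IsIrrCharacter K (fun _ => (1 : ℂ)) := by
  have h := isIrrCharacter_of_monoidHom (1 : K →* ℂˣ)
  simpa using h

variable {F : Type*} [Field F] [Fintype F] [DecidableEq F]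

/-- Classification of the irreducible characters of `SL₂(F)`. -/
theorem irrSL_cases {θ : SpecialLinearGroup (Fin 2) F → ℂ}
    (hθ : Cfsg.IsIrrCharacter (SpecialLinearGroup (Fin 2) F) θ) :
    (θ = fun _ => 1) ∨
    (θ = res (st (1 : MulChar F ℂ))) ∨
    (∃ δ : MulChar F ℂ, δ ^ 2 ≠ 1 ∧ θ = res (ps δ 1)) ∨
    (∃ (δ : MulChar F ℂ) (θ' : SpecialLinearGroup (Fin 2) F → ℂ), δ ^ 2 = 1 ∧ δ ≠ 1 ∧
      Cfsg.IsIrrCharacter (SpecialLinearGroup (Fin 2) F) θ' ∧ θ' ≠ θ ∧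
      res (ps δ 1) = θ + θ' ∧ 2 * θ 1 = (Fintype.card F : ℂ) + 1 ∧
      ∃ x : GL (Fin 2) F, θ' ∘ conjSL x = θ) ∨
    (∃ χ : Cfsg.IrrCharacter (GL (Fin 2) F), IsCusp (χ : GL (Fin 2) F → ℂ) ∧
      res (χ : GL (Fin 2) F → ℂ) = θ) ∨
    (∃ (χ : Cfsg.IrrCharacter (GL (Fin 2) F)) (θ' : SpecialLinearGroup (Fin 2) F → ℂ),
      IsCusp (χ : GL (Fin 2) F → ℂ) ∧
      Cfsg.IsIrrCharacter (SpecialLinearGroup (Fin 2) F) θ' ∧ θ' ≠ θ ∧
      res (χ : GL (Fin 2) F → ℂ) = θ + θ' ∧ 2 * θ 1 = (Fintype.card F : ℂ) - 1 ∧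
      ∃ x : GL (Fin 2) F, θ' ∘ conjSL x = θ) := by
  classical
  obtain ⟨χ, hχ⟩ := exists_constituent_res hθ
  by_cases hc : IsCusp (χ : GL (Fin 2) F → ℂ)
  · have hdeg := (cusp_main.1 χ hc).1
    rcases constituent_cases χ hθ hχ with ⟨_, h1⟩ | ⟨_, θ', h1, h2, h3, h4, _, h6⟩
    · right; right; right; right; left
      exact ⟨χ, hc, h1⟩
    · right; right; right; right; right
      exact ⟨χ, θ', hc, h1, h2, h3, by rw [h4, hdeg], h6⟩
  · rcases not_cusp_cases χ hc with ⟨α, hα⟩ | ⟨α, hα⟩ | ⟨α, β, hab, hα⟩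
    · left
      rw [hα, res_detChar] at hχ
      exact eq_of_irr_of_classInner_ne_zero (one_isIrrCharacter _) hθ hχ
    · right; left
      rw [hα, res_st] at hχ
      exact eq_of_irr_of_classInner_ne_zero res_st_irr hθ hχ
    · have hres : res (χ : GL (Fin 2) F → ℂ) = res (ps (α * β⁻¹) 1) := by
        rw [hα, res_ps_eq]
      have hδ1 : α * β⁻¹ ≠ 1 := by
        intro h
        exact hab (mul_inv_eq_one.mp h)
      have hdeg : (χ : GL (Fin 2) F → ℂ) 1 = (Fintype.card F : ℂ) + 1 := by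
        rw [hα, ps_one]
      rcases constituent_cases χ hθ hχ with ⟨h0, h1⟩ | ⟨h0, θ', h1, h2, h3, h4, _, h6⟩
      · right; right; left
        refine ⟨α * β⁻¹, ?_, by rw [← h1, hres]⟩
        intro hsq
        rw [hres, classInner_res_ps_self_of_sq hsq] at h0
        norm_num at h0
      · right; right; right; left
        refine ⟨α * β⁻¹, θ', ?_, hδ1, h1, h2, by rw [← hres, h3], by rw [h4, hdeg], h6⟩
        by_contra hsq
        have := res_ps_irr hsq
        rw [hres] at h0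
        rw [classInner_irrCharacter_self ⟨_, this⟩] at h0
        norm_num at h0

end Cfsg.Agent.Lib.Helper14
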