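import Mathlib
import Cfsg.Agent.Lib.Helper14.SL2Irr

/-!
# Some values of the restrictions to `SL₂(F)` of characters of `GL₂(F)`
-/

set_option autoImplicit false

namespace Cfsg.Agent.Lib.Helper14

open Matrix Cfsg.Agent.Lib.Helper2
open scoped ComplexConjugate

variable {F : Type*} [Field F] [Fintype F] [DecidableEq F]

/-- Value of a principal series character at an upper triangular element with equal diagonal
entries and non-zero upper right entry. -/
theorem indTheta_unip' (α β : MulChar F ℂ) (g : GL (Fin 2) F)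
    (h10 : (g : Matrix (Fin 2) (Fin 2) F) 1 0 = 0)
    (heq : (g : Matrix (Fin 2) (Fin 2) F) 0 0 = (g : Matrix (Fin 2) (Fin 2) F) 1 1)
    (h01 : (g : Matrix (Fin 2) (Fin 2) F) 0 1 ≠ 0) :
    Cfsg.indFun (Cfsg.upperTriangularGL 2 F) (thetaFun α β) g =
      α ((g : Matrix (Fin 2) (Fin 2) F) 0 0) * β ((g : Matrix (Fin 2) (Fin 2) F) 1 1) := by
  rw [indTheta_apply, if_neg h01, zero_add, Finset.sum_eq_single (0 : F)]
  · simp [h10]
  · intro s _ hs
    rw [if_neg]
    rw [h10, heq]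
    intro h
    have : (g : Matrix (Fin 2) (Fin 2) F) 0 1 * (s * s) = 0 := by linear_combination -h
    rcases mul_eq_zero.mp this with h1 | h1
    · exact h01 h1
    · exact hs (mul_self_eq_zero.mp h1)
  · intro h
    exact absurd (Finset.mem_univ _) h

omit [Fintype F] [DecidableEq F] in
theorem SL_det_eq (g : SpecialLinearGroup (Fin 2) F) :
    (g : Matrix (Fin 2) (Fin 2) F) 0 0 * (g : Matrix (Fin 2) (Fin 2) F) 1 1 -
      (g : Matrix (Fin 2) (Fin 2) F) 0 1 * (g : Matrix (Fin 2) (Fin 2) F) 1 0 = 1 := by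
  have := g.2
  rw [Matrix.det_fin_two] at this
  exact this

omit [Fintype F] [DecidableEq F] in
theorem toGL_coe (g : SpecialLinearGroup (Fin 2) F) :
    ((SpecialLinearGroup.toGL g : GL (Fin 2) F) : Matrix (Fin 2) (Fin 2) F) =
      (g : Matrix (Fin 2) (Fin 2) F) := rfl

omit [Fintype F] [DecidableEq F] in
theorem res_detChar_one_apply (g : SpecialLinearGroup (Fin 2) F) :
    res (detChar (1 : MulChar F ℂ)) g = 1 := by
  rw [res_detChar]

/-- Value of `res (ps α β)` at a diagonal element `diag(a, a⁻¹)` with `a² ≠ 1`. -/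
theorem res_ps_diag (α β : MulChar F ℂ) (g : SpecialLinearGroup (Fin 2) F)
    (h01 : (g : Matrix (Fin 2) (Fin 2) F) 0 1 = 0) (h10 : (g : Matrix (Fin 2) (Fin 2) F) 1 0 = 0)
    (hne : (g : Matrix (Fin 2) (Fin 2) F) 0 0 ^ 2 ≠ 1) :
    res (ps α β) g = α ((g : Matrix (Fin 2) (Fin 2) F) 0 0) * β ((g : Matrix (Fin 2) (Fin 2) F) 1 1) +
      α ((g : Matrix (Fin 2) (Fin 2) F) 1 1) * β ((g : Matrix (Fin 2) (Fin 2) F) 0 0) := by
  have hdet := SL_det_eq g
  rw [h01, zero_mul, sub_zero] at hdet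
  unfold res ps
  apply indTheta_diag α β _ h01 h10
  rw [toGL_coe]
  intro h
  apply hne
  rw [pow_two]
  rw [← h] at hdet
  exact hdet

theorem res_ps_elliptic (α β : MulChar F ℂ) (g : SpecialLinearGroup (Fin 2) F)
    (h : ∀ (c : F) (v : Fin 2 → F), v ≠ 0 → (g : Matrix (Fin 2) (Fin 2) F).mulVec v ≠ c • v) :
    res (ps α β) g = 0 :=
  indTheta_elliptic α β _ h

theorem res_ps_unip (α β : MulChar F ℂ) (g : SpecialLinearGroup (Fin 2) F)
    (h10 : (g : Matrix (Fin 2) (Fin 2) F) 1 0 = 0)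
    (heq : (g : Matrix (Fin 2) (Fin 2) F) 0 0 = (g : Matrix (Fin 2) (Fin 2) F) 1 1)
    (h01 : (g : Matrix (Fin 2) (Fin 2) F) 0 1 ≠ 0) :
    res (ps α β) g =
      α ((g : Matrix (Fin 2) (Fin 2) F) 0 0) * β ((g : Matrix (Fin 2) (Fin 2) F) 1 1) :=
  indTheta_unip' α β _ h10 heq h01

/-- Values of the Steinberg character of `SL₂`. -/
theorem res_st_diag (g : SpecialLinearGroup (Fin 2) F)
    (h01 : (g : Matrix (Fin 2) (Fin 2) F) 0 1 = 0) (h10 : (g : Matrix (Fin 2) (Fin 2) F) 1 0 = 0)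
    (hne : (g : Matrix (Fin 2) (Fin 2) F) 0 0 ^ 2 ≠ 1) :
    res (st (1 : MulChar F ℂ)) g = 1 := by
  have hdet := SL_det_eq g
  rw [h01, zero_mul, sub_zero] at hdet
  have h0 : (g : Matrix (Fin 2) (Fin 2) F) 0 0 ≠ 0 := by
    intro h; rw [h, zero_mul] at hdet; exact zero_ne_one hdet
  have h1 : (g : Matrix (Fin 2) (Fin 2) F) 1 1 ≠ 0 := by
    intro h; rw [h, mul_zero] at hdet; exact zero_ne_one hdet
  unfold st
  rw [res_sub, Pi.sub_apply, res_ps_diag 1 1 g h01 h10 hne, res_detChar_one_apply,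
    MulChar.one_apply (isUnit_iff_ne_zero.mpr h0), MulChar.one_apply (isUnit_iff_ne_zero.mpr h1)]
  norm_num

theorem res_st_elliptic (g : SpecialLinearGroup (Fin 2) F)
    (h : ∀ (c : F) (v : Fin 2 → F), v ≠ 0 → (g : Matrix (Fin 2) (Fin 2) F).mulVec v ≠ c • v) :
    res (st (1 : MulChar F ℂ)) g = -1 := by
  unfold st
  rw [res_sub, Pi.sub_apply, res_ps_elliptic 1 1 g h, res_detChar_one_apply]
  norm_num

theorem res_st_unip (g : SpecialLinearGroup (Fin 2) F)
    (h10 : (g : Matrix (Fin 2) (Fin 2) F) 1 0 = 0)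
    (heq : (g : Matrix (Fin 2) (Fin 2) F) 0 0 = (g : Matrix (Fin 2) (Fin 2) F) 1 1)
    (h01 : (g : Matrix (Fin 2) (Fin 2) F) 0 1 ≠ 0) :
    res (st (1 : MulChar F ℂ)) g = 0 := by
  have hdet := SL_det_eq g
  rw [h10, mul_zero, sub_zero] at hdet
  have h0 : (g : Matrix (Fin 2) (Fin 2) F) 0 0 ≠ 0 := by
    intro h; rw [h, zero_mul] at hdet; exact zero_ne_one hdet
  have h1 : (g : Matrix (Fin 2) (Fin 2) F) 1 1 ≠ 0 := by
    intro h; rw [h, mul_zero] at hdet; exact zero_ne_one hdet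
  unfold st
  rw [res_sub, Pi.sub_apply, res_ps_unip 1 1 g h10 heq h01, res_detChar_one_apply,
    MulChar.one_apply (isUnit_iff_ne_zero.mpr h0), MulChar.one_apply (isUnit_iff_ne_zero.mpr h1)]
  norm_num

/-- Degrees in the classification. -/
theorem res_ps_one (α β : MulChar F ℂ) : res (ps α β) 1 = (Fintype.card F : ℂ) + 1 := by
  rw [res_one, ps_one]

theorem res_st_one : res (st (1 : MulChar F ℂ)) 1 = (Fintype.card F : ℂ) := by
  rw [res_one, st_one]

theorem res_cusp_one (χ : Cfsg.IrrCharacter (GL (Fin 2) F)) (hc : IsCusp (χ : GL (Fin 2) F → ℂ)) :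
    res (χ : GL (Fin 2) F → ℂ) 1 = (Fintype.card F : ℂ) - 1 := by
  rw [res_one, (cusp_main.1 χ hc).1]

omit [Fintype F] [DecidableEq F] in
/-- The element `u = [[1, 1], [0, 1]]` of `SL₂` maps to `uel 1`. -/
theorem toGL_eq_uel_one (u : SpecialLinearGroup (Fin 2) F)
    (hu : (u : Matrix (Fin 2) (Fin 2) F) = !![1, 1; 0, 1]) :
    SpecialLinearGroup.toGL u = uel 1 := by
  apply Units.ext
  rw [toGL_coe, hu]
  simp [uel]

theorem res_ps_u (α β : MulChar F ℂ) (u : SpecialLinearGroup (Fin 2) F)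
    (hu : (u : Matrix (Fin 2) (Fin 2) F) = !![1, 1; 0, 1]) : res (ps α β) u = 1 := by
  unfold res
  rw [toGL_eq_uel_one u hu, ps_uel_one]

theorem res_cusp_u (χ : Cfsg.IrrCharacter (GL (Fin 2) F)) (hc : IsCusp (χ : GL (Fin 2) F → ℂ))
    (u : SpecialLinearGroup (Fin 2) F)
    (hu : (u : Matrix (Fin 2) (Fin 2) F) = !![1, 1; 0, 1]) :
    res (χ : GL (Fin 2) F → ℂ) u = -1 := by
  unfold res
  rw [toGL_eq_uel_one u hu, (cusp_main.1 χ hc).2]

end Cfsg.Agent.Lib.Helper14
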