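import Mathlib
import Cfsg.Agent.Lib.Helper14.SL2Values
import Cfsg.Agent.Lib.Helper14.SL2Unip
import Cfsg.Agent.Lib.Helper14.SL2Odd

/-!
# Conjugacy in `SL₂(F)` versus `GL₂(F)`, and vanishing of characters of `SL₂(F)`
-/

set_option autoImplicit false

namespace Cfsg.Agent.Lib.Helper14

open Matrix Cfsg.Agent.Lib.Helper2
open scoped ComplexConjugate

section projector

/-- If the values of a character on the image of a homomorphism from a finite additive group sum
to zero, then the character vanishes at every element `g` all of whose translates `g * u a` are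
conjugate to `g`. -/
theorem char_eq_zero_of_sum_hom_eq_zero {K A V : Type*} [Group K] [AddGroup A] [Fintype A]
    [AddCommGroup V] [Module ℂ V] [FiniteDimensional ℂ V] (ρ : Representation ℂ K V)
    (u : A → K) (hu : ∀ x y : A, u x * u y = u (x + y))
    (h0 : ∑ a : A, ρ.character (u a) = 0) (g : K) (hg : ∀ a : A, IsConj (g * u a) g) :
    ρ.character g = 0 := by
  obtain ⟨P, hP⟩ : ∃ P : V →ₗ[ℂ] V, P = ∑ c : A, ρ (u c) := ⟨_, rfl⟩
  have hq0 : (Fintype.card A : ℂ) ≠ 0 := by
    have : 0 < Fintype.card A := Fintype.card_pos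
    exact_mod_cast this.ne'
  have hP1 : ∀ y : A, ρ (u y) * P = P := by
    intro y
    rw [hP, Finset.mul_sum]
    exact Fintype.sum_equiv (Equiv.addLeft y) _ _ (fun c => by
      rw [← map_mul, hu]; rfl)
  have hP2 : P * P = (Fintype.card A : ℂ) • P := by
    nth_rewrite 1 [hP]
    rw [Finset.sum_mul]
    simp only [hP1]
    rw [Finset.sum_const, Finset.card_univ, ← Nat.cast_smul_eq_nsmul ℂ]
  have htr : LinearMap.trace ℂ V P = 0 := by
    rw [hP, map_sum]
    exact h0
  have hE : IsIdempotentElem ((Fintype.card A : ℂ)⁻¹ • P) := by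
    show ((Fintype.card A : ℂ)⁻¹ • P) * ((Fintype.card A : ℂ)⁻¹ • P) = _
    rw [smul_mul_smul_comm, hP2, smul_smul, mul_assoc, inv_mul_cancel₀ hq0, mul_one]
  have hE0 : (Fintype.card A : ℂ)⁻¹ • P = 0 := by
    apply LinearMap.IsIdempotentElem.eq_zero_of_trace_eq_zero hE
    rw [map_smul, htr, smul_zero]
  have hP0 : P = 0 := by
    rcases smul_eq_zero.mp hE0 with h | h
    · exact absurd (inv_eq_zero.mp h) hq0
    · exact h
  have hsum : ∑ c : A, ρ.character (g * u c) = 0 := by
    have : ∑ c : A, ρ.character (g * u c) = LinearMap.trace ℂ V (ρ g * P) := by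
      rw [hP, Finset.mul_sum, map_sum]
      apply Finset.sum_congr rfl
      intro c _
      rw [← map_mul]
      rfl
    rw [this, hP0, mul_zero, map_zero]
  have hconst : ∀ c : A, ρ.character (g * u c) = ρ.character g := by
    intro c
    obtain ⟨x, hx⟩ := isConj_iff.mp (hg c)
    have := Representation.char_conj ρ (g * u c) x
    rw [hx] at this
    exact this.symm
  simp only [hconst, Finset.sum_const, Finset.card_univ, nsmul_eq_mul] at hsum
  rcases mul_eq_zero.mp hsum with h | h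
  · exact absurd h hq0
  · exact h

end projector

variable {F : Type*} [Field F]

theorem upperSL_one_mul (x y : F) :
    upperSL 1 x (one_mul 1) * upperSL 1 y (one_mul 1) = upperSL 1 (x + y) (one_mul 1) := by
  apply Subtype.ext
  show (!![1, x; 0, 1] : Matrix (Fin 2) (Fin 2) F) * !![1, y; 0, 1] = !![1, x + y; 0, 1]
  rw [Matrix.mul_fin_two]
  apply mat2_mk_eq' <;> ring

/-- The unipotent radical as a homomorphism from the additive group of `F`. -/
def unipHom : Multiplicative F →* SpecialLinearGroup (Fin 2) F where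
  toFun c := upperSL 1 (Multiplicative.toAdd c) (one_mul 1)
  map_one' := by
    apply Subtype.ext
    show (!![1, 0; 0, 1] : Matrix (Fin 2) (Fin 2) F) = 1
    rw [Matrix.one_fin_two]
  map_mul' x y := (upperSL_one_mul _ _).symm

theorem toGL_upperSL_one (c : F) :
    SpecialLinearGroup.toGL (upperSL 1 c (one_mul 1)) = uel c := by
  apply Units.ext
  show (!![1, c; 0, 1] : Matrix (Fin 2) (Fin 2) F) = _
  simp [uel]

section fin

variable [Fintype F]

/-- The sum of the values of a character of `SL₂` on the unipotent radical is `q` times a natural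
number. -/
theorem sum_unip_nat {θ : SpecialLinearGroup (Fin 2) F → ℂ}
    (hθ : Cfsg.IsCharacter (SpecialLinearGroup (Fin 2) F) θ) :
    ∃ n : ℕ, ∑ c : F, θ (upperSL 1 c (one_mul 1)) = (Fintype.card F : ℂ) * n := by
  classical
  have h1 : Cfsg.IsCharacter (Multiplicative F) (fun c => θ (unipHom c)) :=
    IsCharacter.comp hθ unipHom
  have h2 : Cfsg.IsCharacter (Multiplicative F) (fun _ => (1 : ℂ)) :=
    IsIrrCharacter.isCharacter (one_isIrrCharacter _)
  obtain ⟨n, hn⟩ := classInner_isCharacter_nat h1 h2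
  refine ⟨n, ?_⟩
  rw [classInner_def] at hn
  simp only [map_one, mul_one] at hn
  have h3 : ∑ g : Multiplicative F, θ (unipHom g) = ∑ c : F, θ (upperSL 1 c (one_mul 1)) :=
    Fintype.sum_equiv Multiplicative.toAdd _ _ (fun c => rfl)
  rw [h3] at hn
  have h4 : (Nat.card (Multiplicative F) : ℂ) = (Fintype.card F : ℂ) := by
    rw [Nat.card_congr Multiplicative.toAdd, Nat.card_eq_fintype_card]
  rw [h4] at hn
  have hq0 : (Fintype.card F : ℂ) ≠ 0 := by
    have : 0 < Fintype.card F := Fintype.card_pos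
    exact_mod_cast this.ne'
  rw [← hn]
  field_simp

theorem sum_unip_res (Φ : GL (Fin 2) F → ℂ) :
    ∑ c : F, res Φ (upperSL 1 c (one_mul 1)) = ∑ c : F, Φ (uel c) := by
  apply Finset.sum_congr rfl
  intro c _
  unfold res
  rw [toGL_upperSL_one]

/-- A regular diagonal element of `SL₂` times an upper unitriangular element is conjugate to the
diagonal element. -/
theorem isConj_mul_upperSL (g : SpecialLinearGroup (Fin 2) F)
    (h01 : (g : Matrix (Fin 2) (Fin 2) F) 0 1 = 0) (h10 : (g : Matrix (Fin 2) (Fin 2) F) 1 0 = 0)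
    (hne : (g : Matrix (Fin 2) (Fin 2) F) 0 0 ^ 2 ≠ 1) (c : F) :
    IsConj (g * upperSL 1 c (one_mul 1)) g := by
  have hdet := SL_det_eq g
  rw [h01, zero_mul, sub_zero] at hdet
  have hprod : ((g * upperSL 1 c (one_mul 1) : SpecialLinearGroup (Fin 2) F) :
      Matrix (Fin 2) (Fin 2) F) =
      !![(g : Matrix (Fin 2) (Fin 2) F) 0 0, (g : Matrix (Fin 2) (Fin 2) F) 0 0 * c; 0,
        (g : Matrix (Fin 2) (Fin 2) F) 1 1] := by
    show (g : Matrix (Fin 2) (Fin 2) F) * !![1, c; 0, 1] = _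
    conv_lhs => rw [Matrix.eta_fin_two (g : Matrix (Fin 2) (Fin 2) F)]
    rw [Matrix.mul_fin_two, h01, h10]
    apply mat2_mk_eq' <;> ring
  have hne' : (g : Matrix (Fin 2) (Fin 2) F) 0 0 ≠ (g : Matrix (Fin 2) (Fin 2) F) 1 1 := by
    intro h
    apply hne
    rw [pow_two]
    rw [← h] at hdet
    exact hdet
  have htr : (g : Matrix (Fin 2) (Fin 2) F).trace ^ 2 ≠ 4 := by
    rw [Matrix.trace_fin_two]
    intro h
    apply hne'
    have : ((g : Matrix (Fin 2) (Fin 2) F) 0 0 - (g : Matrix (Fin 2) (Fin 2) F) 1 1) ^ 2 = 0 := by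
      linear_combination h - 4 * hdet
    exact sub_eq_zero.mp ((pow_eq_zero_iff (two_ne_zero)).mp this)
  have hg1 : ¬ IsScalar2 (g : Matrix (Fin 2) (Fin 2) F) := fun h => hne' h.2.2
  have hg2 : ¬ IsScalar2 ((g * upperSL 1 c (one_mul 1) : SpecialLinearGroup (Fin 2) F) :
      Matrix (Fin 2) (Fin 2) F) := by
    rw [hprod]
    intro h
    apply hne'
    simpa using h.2.2
  have htr2 : ((g * upperSL 1 c (one_mul 1) : SpecialLinearGroup (Fin 2) F) :
      Matrix (Fin 2) (Fin 2) F).trace = (g : Matrix (Fin 2) (Fin 2) F).trace := by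
    rw [hprod, Matrix.trace_fin_two, Matrix.trace_fin_two]
    simp
  have c1 := isConj_comp2SL _ hg2 (by rw [htr2]; exact htr)
  have c2 := isConj_comp2SL _ hg1 htr
  rw [htr2] at c1
  exact c1.trans c2.symm

/-- A character of `SL₂` whose values on the unipotent radical sum to zero vanishes at the regular
diagonal elements. -/
theorem char_eq_zero_diag_SL {θ : SpecialLinearGroup (Fin 2) F → ℂ}
    (hθ : Cfsg.IsCharacter (SpecialLinearGroup (Fin 2) F) θ)
    (h0 : ∑ c : F, θ (upperSL 1 c (one_mul 1)) = 0) (g : SpecialLinearGroup (Fin 2) F)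
    (h01 : (g : Matrix (Fin 2) (Fin 2) F) 0 1 = 0) (h10 : (g : Matrix (Fin 2) (Fin 2) F) 1 0 = 0)
    (hne : (g : Matrix (Fin 2) (Fin 2) F) 0 0 ^ 2 ≠ 1) : θ g = 0 := by
  obtain ⟨n, ρ, rfl⟩ := hθ
  exact char_eq_zero_of_sum_hom_eq_zero ρ (fun c : F => upperSL 1 c (one_mul 1))
    upperSL_one_mul h0 g (isConj_mul_upperSL g h01 h10 hne)

end fin

/-- An element without eigenvectors is not scalar. -/
theorem elliptic_not_scalar (g : SpecialLinearGroup (Fin 2) F)
    (h : ∀ (c : F) (v : Fin 2 → F), v ≠ 0 → (g : Matrix (Fin 2) (Fin 2) F).mulVec v ≠ c • v) :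
    ¬ IsScalar2 (g : Matrix (Fin 2) (Fin 2) F) := by
  rintro ⟨_, h10, _⟩
  apply h ((g : Matrix (Fin 2) (Fin 2) F) 0 0) ![1, 0]
  · intro h0
    have := congrFun h0 0
    simp at this
  · ext i
    fin_cases i
    · simp [Matrix.mulVec, dotProduct, Fin.sum_univ_two]
    · simp [Matrix.mulVec, dotProduct, Fin.sum_univ_two, h10]

/-- An element of `SL₂` without eigenvectors has `tr² ≠ 4` (odd characteristic). -/
theorem elliptic_trace_sq_ne_four (h2 : (2 : F) ≠ 0) (g : SpecialLinearGroup (Fin 2) F)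
    (h : ∀ (c : F) (v : Fin 2 → F), v ≠ 0 → (g : Matrix (Fin 2) (Fin 2) F).mulVec v ≠ c • v) :
    (g : Matrix (Fin 2) (Fin 2) F).trace ^ 2 ≠ 4 := by
  intro ht
  rw [Matrix.trace_fin_two] at ht
  have hdet := SL_det_eq g
  by_cases hb : (g : Matrix (Fin 2) (Fin 2) F) 0 1 = 0
  · apply h ((g : Matrix (Fin 2) (Fin 2) F) 1 1) ![0, 1]
    · intro h0
      have := congrFun h0 1
      simp at this
    · ext i
      fin_cases i
      · simp [Matrix.mulVec, dotProduct, Fin.sum_univ_two, hb]
      · simp [Matrix.mulVec, dotProduct, Fin.sum_univ_two]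
  · apply h (((g : Matrix (Fin 2) (Fin 2) F) 0 0 + (g : Matrix (Fin 2) (Fin 2) F) 1 1) / 2)
      ![(g : Matrix (Fin 2) (Fin 2) F) 0 1,
        ((g : Matrix (Fin 2) (Fin 2) F) 0 0 + (g : Matrix (Fin 2) (Fin 2) F) 1 1) / 2 -
          (g : Matrix (Fin 2) (Fin 2) F) 0 0]
    · intro h0
      have := congrFun h0 0
      simp at this
      exact hb this
    · ext i
      fin_cases i
      · simp [Matrix.mulVec, dotProduct, Fin.sum_univ_two]
        field_simp
        ring
      · simp [Matrix.mulVec, dotProduct, Fin.sum_univ_two]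
        field_simp
        linear_combination (-4 : F) * hdet + ht

section fin2

variable [Fintype F]

/-- A non-scalar element of `SL₂` with `tr² ≠ 4` is `SL₂`-conjugate to all its
`GL₂`-conjugates. -/
theorem isConj_conjSL (x : GL (Fin 2) F) (s : SpecialLinearGroup (Fin 2) F)
    (hs : ¬ IsScalar2 (s : Matrix (Fin 2) (Fin 2) F))
    (ht : (s : Matrix (Fin 2) (Fin 2) F).trace ^ 2 ≠ 4) : IsConj (conjSL x s) s := by
  have hc : IsConj (SpecialLinearGroup.toGL (conjSL x s)) (SpecialLinearGroup.toGL s) := by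
    rw [isConj_iff]
    refine ⟨x⁻¹, ?_⟩
    rw [toGL_conjSL]
    group
  have hs' : ¬ IsScalar2 ((conjSL x s : SpecialLinearGroup (Fin 2) F) :
      Matrix (Fin 2) (Fin 2) F) := by
    intro h
    exact hs (isScalar2_conj hc h)
  have htr : ((conjSL x s : SpecialLinearGroup (Fin 2) F) : Matrix (Fin 2) (Fin 2) F).trace =
      (s : Matrix (Fin 2) (Fin 2) F).trace := trace_conj hc
  have c1 := isConj_comp2SL _ hs' (by rw [htr]; exact ht)
  have c2 := isConj_comp2SL _ hs ht
  rw [htr] at c1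
  exact c1.trans c2.symm

end fin2

/-- Conjugation by an element of `GL₂` whose determinant is a square fixes the class functions
of `SL₂`. -/
theorem classFun_conjSL_of_det_sq {φ : SpecialLinearGroup (Fin 2) F → ℂ}
    (hφ : Cfsg.IsClassFunction (SpecialLinearGroup (Fin 2) F) φ) (y : GL (Fin 2) F)
    (hy : IsSquare (y : Matrix (Fin 2) (Fin 2) F).det) (t : SpecialLinearGroup (Fin 2) F) :
    φ (conjSL y t) = φ t := by
  obtain ⟨e, he⟩ := hy
  have he0 : e ≠ 0 := by
    rintro rfl
    rw [mul_zero] at he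
    exact det_ne_zero_GL y he
  set z : GL (Fin 2) F := bmk (Units.mk0 e⁻¹ (inv_ne_zero he0)) (Units.mk0 e⁻¹ (inv_ne_zero he0)) 0
    with hz
  have hzc := bmk_scalar_mem_center (Units.mk0 e⁻¹ (inv_ne_zero he0))
  rw [← hz, Subgroup.mem_center_iff] at hzc
  have hdet : ((z * y : GL (Fin 2) F) : Matrix (Fin 2) (Fin 2) F).det = 1 := by
    rw [Units.val_mul, Matrix.det_mul, he, hz, bmk_coe, Matrix.det_fin_two_of]
    simp
    field_simp
  obtain ⟨s, hs⟩ : ∃ s : SpecialLinearGroup (Fin 2) F, SpecialLinearGroup.toGL s = z * y :=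
    ⟨⟨((z * y : GL (Fin 2) F) : Matrix (Fin 2) (Fin 2) F), hdet⟩, by apply Units.ext; rfl⟩
  have h1 : conjSL y t = s * t * s⁻¹ := by
    apply SpecialLinearGroup.toGL_injective
    rw [toGL_conjSL, map_mul, map_mul, map_inv, hs]
    have e1 : z * y * SpecialLinearGroup.toGL t * (z * y)⁻¹ =
        z * (y * SpecialLinearGroup.toGL t * y⁻¹) * z⁻¹ := by group
    rw [e1, ← hzc, mul_inv_cancel_right]
  rw [h1, hφ]

omit [Field F] in
theorem conjSL_mul [Field F] (a b : GL (Fin 2) F) (t : SpecialLinearGroup (Fin 2) F) :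
    conjSL (a * b) t = conjSL a (conjSL b t) := by
  apply SpecialLinearGroup.toGL_injective
  rw [toGL_conjSL, toGL_conjSL, toGL_conjSL]
  group

theorem isClassFunction_comp_conjSL {φ : SpecialLinearGroup (Fin 2) F → ℂ}
    (hφ : Cfsg.IsClassFunction (SpecialLinearGroup (Fin 2) F) φ) (y : GL (Fin 2) F) :
    Cfsg.IsClassFunction (SpecialLinearGroup (Fin 2) F) (φ ∘ conjSL y) := by
  intro g h
  show φ (conjSL y (h * g * h⁻¹)) = φ (conjSL y g)
  rw [map_mul, map_mul, map_inv, hφ]

section fin3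

variable [Fintype F]

/-- If some element of `GL₂` maps `θ'` to `θ ≠ θ'` then so does every element whose determinant
is not a square. -/
theorem comp_conjSL_of_not_isSquare {θ θ' : SpecialLinearGroup (Fin 2) F → ℂ}
    (hθ' : Cfsg.IsClassFunction (SpecialLinearGroup (Fin 2) F) θ') (hne : θ' ≠ θ)
    (x : GL (Fin 2) F) (hx : θ' ∘ conjSL x = θ) (y : GL (Fin 2) F)
    (hy : ¬ IsSquare (y : Matrix (Fin 2) (Fin 2) F).det) : θ' ∘ conjSL y = θ := by
  have hxns : ¬ IsSquare (x : Matrix (Fin 2) (Fin 2) F).det := by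
    intro hsq
    apply hne
    rw [← hx]
    ext t
    exact (classFun_conjSL_of_det_sq hθ' x hsq t).symm
  have hsq : IsSquare ((y⁻¹ * x : GL (Fin 2) F) : Matrix (Fin 2) (Fin 2) F).det := by
    rw [Units.val_mul, Matrix.det_mul, Matrix.coe_units_inv, Matrix.det_nonsing_inv,
      Ring.inverse_eq_inv']
    apply isSquare_mul_of_not_isSquare _ hxns
    intro h
    apply hy
    have := h.inv
    rwa [inv_inv] at this
  rw [← hx]
  ext t
  have h1 : x = y * (y⁻¹ * x) := by group
  have h2 := classFun_conjSL_of_det_sq (isClassFunction_comp_conjSL hθ' y) _ hsq t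
  simp only [Function.comp_apply] at h2 ⊢
  rw [← h2, ← conjSL_mul, ← h1]

end fin3

/-- The diagonal element `diag(ν, 1)` of `GL₂`. -/
theorem conjSL_bmk_upperSL (ν : Fˣ) (ε c : F) (hε : ε * ε = 1) :
    conjSL (bmk ν 1 0) (upperSL ε c hε) = upperSL ε ((ν : F) * c) hε := by
  apply SpecialLinearGroup.toGL_injective
  rw [toGL_conjSL, mul_inv_eq_iff_eq_mul]
  apply Units.ext
  show (!![(ν : F), 0; 0, ((1 : Fˣ) : F)] : Matrix (Fin 2) (Fin 2) F) * !![ε, c; 0, ε] =
    !![ε, (ν : F) * c; 0, ε] * !![(ν : F), 0; 0, ((1 : Fˣ) : F)]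
  rw [Matrix.mul_fin_two, Matrix.mul_fin_two, Units.val_one]
  apply mat2_mk_eq' <;> ring

theorem det_bmk (a d : Fˣ) (c : F) :
    ((bmk a d c : GL (Fin 2) F) : Matrix (Fin 2) (Fin 2) F).det = (a : F) * (d : F) := by
  rw [bmk_coe, Matrix.det_fin_two_of, mul_zero, sub_zero]

end Cfsg.Agent.Lib.Helper14
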