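import Mathlib
import Cfsg.Prelude.Def_GeometricClasses
import Cfsg.Agent.Lib.Helper7.AschDefs

/-!
# S5630 CORE-AB (helper14): a commutative group is not absolutely irreducible in dimension `≥ 2`
-/

set_option autoImplicit false

namespace Cfsg.Agent.Lib.Helper14.S5630Core

open Matrix Cfsg.Geo Cfsg.Agent.Lib.Helper7.Asch

variable {F : Type*} [Field F] {n : ℕ}

/-- **CORE-AB** a commutative group is not absolutely irreducible in dimension `≥ 2` -/
theorem not_absIrr_of_comm (hn : 2 ≤ n) (A : Subgroup (GL (Fin n) F)) (hA : ∀ x ∈ A, ∀ y ∈ A, x * y = y * x) :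
    ¬ AbsIrr A := by
  rintro ⟨hirr, hcent⟩
  -- every element of `A` is scalar
  have hsc : ∀ s ∈ matrixSet A, ∃ c : F, s = c • (1 : Matrix (Fin n) (Fin n) F) := by
    rintro s ⟨a, ha, rfl⟩
    apply hcent
    rintro t ⟨b, hb, rfl⟩
    have := hA a ha b hb
    have h2 := congrArg (fun g : GL (Fin n) F => (g : Matrix (Fin n) (Fin n) F)) this
    simpa using h2
  let i0 : Fin n := ⟨0, by omega⟩
  let i1 : Fin n := ⟨1, by omega⟩
  have h01 : i1 ≠ i0 := by
    intro h
    have := congrArg Fin.val h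
    simp [i0, i1] at this
  let W : Submodule F (Fin n → F) := LinearMap.ker (LinearMap.proj i0 : (Fin n → F) →ₗ[F] F)
  have hW := hirr W (by
    intro s hs w hw
    obtain ⟨u, hu, rfl⟩ := hw
    obtain ⟨c, rfl⟩ := hsc s hs
    have hu0 : u i0 = 0 := by simpa [W] using hu
    show (LinearMap.proj i0 : (Fin n → F) →ₗ[F] F) (Matrix.toLin' (c • (1 : Matrix (Fin n) (Fin n) F)) u) = 0
    simp [Matrix.smul_mulVec, hu0])
  rcases hW with hb | ht
  · have hmem : (Pi.single i1 1 : Fin n → F) ∈ W := by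
      show (LinearMap.proj i0 : (Fin n → F) →ₗ[F] F) (Pi.single i1 1) = 0
      simp [Pi.single_apply, h01.symm]
    rw [hb, Submodule.mem_bot] at hmem
    have := congrFun hmem i1
    simp at this
  · have hmem : (Pi.single i0 1 : Fin n → F) ∈ W := by rw [ht]; trivial
    have h0 : (LinearMap.proj i0 : (Fin n → F) →ₗ[F] F) (Pi.single i0 1) = 0 := hmem
    simp at h0

end Cfsg.Agent.Lib.Helper14.S5630Core
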