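import Mathlib
import Cfsg.Prelude.Def_GeometricClasses
import Cfsg.Agent.Lib.Helper7.AschDefs

/-!
# S5630 CORE-F4 / CORE-F5 (helper14): polar forms in characteristic 2, symplectic forms live in even dimension
-/

set_option autoImplicit false

namespace Cfsg.Agent.Lib.Helper14.S5630Core

open Matrix Cfsg.Geo

variable {F : Type*} [Field F] {n : ℕ}

/-- **CORE-F4** in characteristic 2 the polar form of a non-degenerate quadratic form is symplectic -/
theorem isSymplecticForm_polar [Fintype F] (Q : (Fin n → F) → F) (hQ : IsNondegenerateQuadraticForm Q)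
    (ho : ¬ Odd (Fintype.card F)) : IsSymplecticForm (QuadraticMap.polar Q) := by
  have h2 : ringChar F = 2 := by
    rw [FiniteField.even_card_iff_char_two]
    rcases Nat.even_or_odd (Fintype.card F) with he | hod
    · exact Nat.even_iff.mp he
    · exact absurd hod ho
  have : CharP F 2 := ringChar.of_eq h2
  have hQ0 : Q 0 = 0 := by
    have := hQ.smul 0 0
    simpa using this
  refine ⟨hQ.polar_bilinear, ?_, ?_, hQ.nondegenerate⟩
  · intro v w
    rw [CharTwo.neg_eq, QuadraticMap.polar_comm]
  · intro v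
    have hvv : v + v = 0 := by
      funext i
      exact CharTwo.add_self_eq_zero (v i)
    unfold QuadraticMap.polar
    rw [hvv, hQ0, zero_sub, sub_eq_add_neg, ← neg_add, CharTwo.add_self_eq_zero, neg_zero]

/-- **CORE-F4** the polar form is fixed by whoever fixes the quadratic form -/
theorem fixesForm_polar (S : Set (Matrix (Fin n) (Fin n) F)) (Q : (Fin n → F) → F)
    (hfix : FixesQuadForm S Q) : FixesForm S (QuadraticMap.polar Q) := by
  intro s hs u v
  unfold QuadraticMap.polar
  rw [← Matrix.mulVec_add, hfix s hs, hfix s hs, hfix s hs]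

/-- an alternating matrix of odd size is singular (all characteristics) -/
theorem det_eq_zero_of_alt_of_odd (hn : Odd n) (M : Matrix (Fin n) (Fin n) F) (h0 : ∀ i, M i i = 0)
    (hs : ∀ i j, M i j = - M j i) : M.det = 0 := by
  rw [Matrix.det_apply]
  refine Finset.sum_involution (fun σ _ => σ⁻¹) ?_ ?_ (fun _ _ => Finset.mem_univ _) (fun σ _ => inv_inv σ)
  · intro σ _
    have h1 : ∏ i, M ((σ⁻¹ : Equiv.Perm (Fin n)) i) i = ∏ j, M j (σ j) := by
      rw [← Equiv.prod_comp σ (fun i => M ((σ⁻¹ : Equiv.Perm (Fin n)) i) i)]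
      simp
    have h2 : ∏ j, M j (σ j) = - ∏ j, M (σ j) j := by
      have : ∀ j, M j (σ j) = (-1 : F) * M (σ j) j := fun j => by rw [hs j (σ j)]; ring
      simp_rw [this]
      rw [Finset.prod_mul_distrib, Finset.prod_const, Finset.card_univ, Fintype.card_fin, hn.neg_one_pow]
      ring
    rw [Equiv.Perm.sign_inv, h1, h2, smul_neg, add_neg_cancel]
  · intro σ _ hne hinv
    apply hne
    have hsq : σ ^ 2 ^ 1 = 1 := by
      rw [pow_one, sq]
      calc σ * σ = σ⁻¹ * σ := by rw [hinv]
        _ = 1 := inv_mul_cancel σ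
    have : Fact (Nat.Prime 2) := ⟨Nat.prime_two⟩
    obtain ⟨a, ha⟩ := Equiv.Perm.exists_fixed_point_of_prime (p := 2) (n := 1)
      (by rw [Fintype.card_fin]; exact fun h => (Nat.not_even_iff_odd.mpr hn) (even_iff_two_dvd.mpr h)) hsq
    have : ∏ i, M (σ i) i = 0 := Finset.prod_eq_zero (Finset.mem_univ a) (by rw [ha, h0])
    rw [this, smul_zero]

/-- **CORE-F5** a symplectic form lives in even dimension -/
theorem even_of_isSymplecticForm (f : (Fin n → F) → (Fin n → F) → F) (hf : IsSymplecticForm f) : Even n := by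
  by_contra hne
  have hodd : Odd n := Nat.not_even_iff_odd.mp hne
  let B : LinearMap.BilinForm F (Fin n → F) :=
    LinearMap.mk₂ F f hf.bilinear.add_left hf.bilinear.smul_left hf.bilinear.add_right hf.bilinear.smul_right
  have hB : ∀ u v, B u v = f u v := fun u v => rfl
  let M : Matrix (Fin n) (Fin n) F := LinearMap.BilinForm.toMatrix' B
  have hM : ∀ i j, M i j = f (Pi.single i 1) (Pi.single j 1) := by
    intro i j
    simp [M, LinearMap.BilinForm.toMatrix'_apply, hB]
  have hdet : M.det = 0 := by
    apply det_eq_zero_of_alt_of_odd hodd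
    · intro i; rw [hM]; exact hf.alternating _
    · intro i j; rw [hM, hM]; exact hf.skew _ _
  obtain ⟨v, hv0, hv⟩ := Matrix.exists_mulVec_eq_zero_iff.mpr hdet
  obtain ⟨⟨x, hx⟩, -⟩ := hf.nondegenerate v hv0
  apply hx
  have : B x v = x ⬝ᵥ M *ᵥ v := by
    have h1 : B = Matrix.toBilin' M := (Matrix.toBilin'_toMatrix' B).symm
    rw [h1, Matrix.toBilin'_apply']
  rw [← hB, this, hv, dotProduct_zero]

end Cfsg.Agent.Lib.Helper14.S5630Core
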