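import Mathlib

/-!
# Exchange systems: groups generated by involutions with a length function satisfying the
exchange condition.  Deletion, reduced subwords, descents, the element of full descent.
-/

set_option autoImplicit false

namespace Cfsg.Agent.Lib.Helper14.BNSt

variable {W : Type*} [Group W] {ι : Type*}

/-- the product of a word -/
def wprod (s : ι → W) (l : List ι) : W := (l.map s).prod

@[simp] theorem wprod_nil (s : ι → W) : wprod s [] = 1 := by simp [wprod]

@[simp] theorem wprod_cons (s : ι → W) (i : ι) (l : List ι) :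
    wprod s (i :: l) = s i * wprod s l := by simp [wprod]

@[simp] theorem wprod_append (s : ι → W) (l l' : List ι) :
    wprod s (l ++ l') = wprod s l * wprod s l' := by simp [wprod]

theorem wprod_singleton (s : ι → W) (i : ι) : wprod s [i] = s i := by simp [wprod]

/-- an exchange system -/
structure ExSys (s : ι → W) (ℓ : W → ℕ) : Prop where
  sq : ∀ i, s i * s i = 1
  len_le : ∀ l : List ι, ℓ (wprod s l) ≤ l.length
  exists_word : ∀ w, ∃ l : List ι, wprod s l = w ∧ l.length = ℓ w
  len_ne : ∀ i w, ℓ (s i * w) ≠ ℓ w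
  exch : ∀ i (l : List ι), ℓ (s i * wprod s l) < ℓ (wprod s l) →
    ∃ l1 j l2, l = l1 ++ j :: l2 ∧ s i * wprod s l1 = wprod s l1 * s j

namespace ExSys

variable {s : ι → W} {ℓ : W → ℕ} (E : ExSys s ℓ)

include E

theorem s_inv (i : ι) : (s i)⁻¹ = s i := inv_eq_of_mul_eq_one_left (E.sq i)

theorem len_one : ℓ 1 = 0 := by
  have := E.len_le []
  simpa using this

theorem eq_one_of_len_eq_zero {w : W} (h : ℓ w = 0) : w = 1 := by
  obtain ⟨l, hl, hlen⟩ := E.exists_word w
  rw [h, List.length_eq_zero_iff] at hlen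
  subst hlen
  simpa using hl.symm

theorem len_smul_le (i : ι) (w : W) : ℓ (s i * w) ≤ ℓ w + 1 := by
  obtain ⟨l, hl, hlen⟩ := E.exists_word w
  have := E.len_le (i :: l)
  rw [wprod_cons, hl, List.length_cons, hlen] at this
  exact this

theorem len_le_smul (i : ι) (w : W) : ℓ w ≤ ℓ (s i * w) + 1 := by
  have := E.len_smul_le i (s i * w)
  rwa [← mul_assoc, E.sq, one_mul] at this

theorem len_smul (i : ι) (w : W) : ℓ (s i * w) = ℓ w + 1 ∨ ℓ (s i * w) + 1 = ℓ w := by
  have h1 := E.len_smul_le i w
  have h2 := E.len_le_smul i w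
  have h3 := E.len_ne i w
  omega

theorem wprod_reverse (l : List ι) : wprod s l.reverse = (wprod s l)⁻¹ := by
  induction l with
  | nil => simp
  | cons i l ih =>
    rw [List.reverse_cons, wprod_append, ih, wprod_singleton, wprod_cons, mul_inv_rev, E.s_inv]

theorem len_inv_le (w : W) : ℓ w⁻¹ ≤ ℓ w := by
  obtain ⟨l, hl, hlen⟩ := E.exists_word w
  have := E.len_le l.reverse
  rw [E.wprod_reverse, hl, List.length_reverse, hlen] at this
  exact this

theorem len_inv (w : W) : ℓ w⁻¹ = ℓ w := by
  apply le_antisymm (E.len_inv_le w)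
  have := E.len_inv_le w⁻¹
  rwa [inv_inv] at this

theorem len_mul_s (w : W) (i : ι) : ℓ (w * s i) = ℓ w + 1 ∨ ℓ (w * s i) + 1 = ℓ w := by
  have h := E.len_smul i w⁻¹
  have e : (s i * w⁻¹) = (w * s i)⁻¹ := by rw [mul_inv_rev, E.s_inv]
  rw [e, E.len_inv, E.len_inv] at h
  exact h

theorem len_mul_le (a b : W) : ℓ (a * b) ≤ ℓ a + ℓ b := by
  obtain ⟨l, hl, hlen⟩ := E.exists_word a
  obtain ⟨l', hl', hlen'⟩ := E.exists_word b
  have := E.len_le (l ++ l')
  rw [wprod_append, hl, hl', List.length_append, hlen, hlen'] at this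
  exact this

/-- deletion form of the exchange condition -/
theorem exch_del (i : ι) (l : List ι) (h : ℓ (s i * wprod s l) < ℓ (wprod s l)) :
    ∃ l1 j l2, l = l1 ++ j :: l2 ∧ s i * wprod s l = wprod s (l1 ++ l2) := by
  obtain ⟨l1, j, l2, e, hc⟩ := E.exch i l h
  refine ⟨l1, j, l2, e, ?_⟩
  rw [e, wprod_append, wprod_cons, ← mul_assoc, hc, wprod_append, mul_assoc (wprod s l1),
    ← mul_assoc (s j), E.sq, one_mul]

/-- a word is reduced -/
def Red (s : ι → W) (ℓ : W → ℕ) (l : List ι) : Prop := ℓ (wprod s l) = l.length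

omit E in
theorem red_nil_of (h : ℓ 1 = 0) : Red s ℓ [] := by simp [Red, h]

theorem red_tail {i : ι} {l : List ι} (h : Red s ℓ (i :: l)) : Red s ℓ l := by
  unfold Red at *
  have h1 := E.len_le l
  have h2 := E.len_smul_le i (wprod s l)
  rw [wprod_cons, List.length_cons] at h
  omega

/-- every word contains a reduced subword with the same product -/
theorem exists_reduced_sublist (l : List ι) :
    ∃ l' : List ι, l'.Sublist l ∧ wprod s l' = wprod s l ∧ Red s ℓ l' := by
  induction l with
  | nil => exact ⟨[], List.Sublist.refl _, rfl, by simp [Red, E.len_one]⟩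
  | cons i l ih =>
    obtain ⟨l', hsub, hprod, hred⟩ := ih
    rcases E.len_smul i (wprod s l') with h | h
    · refine ⟨i :: l', List.Sublist.cons_cons i hsub, by simp [hprod], ?_⟩
      unfold Red at *
      rw [wprod_cons, h, hred, List.length_cons]
    · have hlt : ℓ (s i * wprod s l') < ℓ (wprod s l') := by omega
      obtain ⟨l1, j, l2, e, hd⟩ := E.exch_del i l' hlt
      refine ⟨l1 ++ l2, ?_, ?_, ?_⟩
      · apply List.Sublist.trans _ (List.Sublist.cons i hsub)
        rw [e]
        exact List.Sublist.append (List.Sublist.refl _) (List.sublist_cons_self j l2)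
      · rw [← hd, wprod_cons, hprod]
      · unfold Red at *
        have h1 := E.len_le (l1 ++ l2)
        rw [← hd]
        rw [← hd] at h1
        have h3 : l'.length = (l1 ++ l2).length + 1 := by rw [e]; simp; omega
        omega

/-- left descent -/
def DL (s : ι → W) (ℓ : W → ℕ) (w : W) (i : ι) : Prop := ℓ (s i * w) < ℓ w

/-- right descent -/
def DR (s : ι → W) (ℓ : W → ℕ) (w : W) (i : ι) : Prop := ℓ (w * s i) < ℓ w

theorem dR_iff_dL_inv (w : W) (i : ι) : DR s ℓ w i ↔ DL s ℓ w⁻¹ i := by
  unfold DR DL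
  have e : (s i * w⁻¹) = (w * s i)⁻¹ := by rw [mul_inv_rev, E.s_inv]
  rw [e, E.len_inv, E.len_inv]

theorem not_dL_iff (w : W) (i : ι) : ¬ DL s ℓ w i ↔ ℓ w < ℓ (s i * w) := by
  unfold DL
  have := E.len_ne i w
  omega

theorem not_dR_iff (w : W) (i : ι) : ¬ DR s ℓ w i ↔ ℓ w < ℓ (w * s i) := by
  unfold DR
  have := E.len_mul_s w i
  omega

/-- if every generator is a left descent of `w`, every reduced word is a prefix of `w` -/
theorem full_descent_prefix {w : W} (hw : ∀ i, DL s ℓ w i) (l : List ι) (hl : Red s ℓ l) :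
    ℓ w = l.length + ℓ ((wprod s l)⁻¹ * w) := by
  induction l with
  | nil => simp
  | cons i l' ih =>
    have hl' := E.red_tail hl
    have ih' := ih hl'
    obtain ⟨b, hb, hblen⟩ := E.exists_word ((wprod s l')⁻¹ * w)
    have hw' : w = wprod s (l' ++ b) := by rw [wprod_append, hb]; group
    have hdesc : ℓ (s i * wprod s (l' ++ b)) < ℓ (wprod s (l' ++ b)) := by
      rw [← hw']; exact hw i
    obtain ⟨l1, j, l2, e, hc⟩ := E.exch i _ hdesc
    rw [List.append_eq_append_iff] at e
    have key : ∀ b1 b2 : List ι, b = b1 ++ j :: b2 →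
        s i * wprod s (l' ++ b1) = wprod s (l' ++ b1) * s j →
        ℓ w = (i :: l').length + ℓ ((wprod s (i :: l'))⁻¹ * w) := by
      intro b1 b2 hb12 hc'
      have h1 : (wprod s (i :: l'))⁻¹ * w = wprod s (b1 ++ b2) := by
        rw [hw', wprod_cons, mul_inv_rev, E.s_inv, wprod_append, hb12, wprod_append, wprod_cons,
          wprod_append]
        rw [wprod_append] at hc'
        have h2 : s i * (wprod s l' * (wprod s b1 * (s j * wprod s b2))) =
            (s i * (wprod s l' * wprod s b1)) * (s j * wprod s b2) := by group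
        rw [mul_assoc, h2, hc', mul_assoc (wprod s l' * wprod s b1), ← mul_assoc (s j), E.sq,
          one_mul]
        group
      have h3 : ℓ (wprod s (b1 ++ b2)) ≤ (b1 ++ b2).length := E.len_le _
      have h4 : b.length = (b1 ++ b2).length + 1 := by rw [hb12]; simp; omega
      have h5 := E.len_mul_le (wprod s (i :: l')) ((wprod s (i :: l'))⁻¹ * w)
      rw [mul_inv_cancel_left] at h5
      have h6 : ℓ (wprod s (i :: l')) = (i :: l').length := hl
      rw [h1] at h5 ⊢
      rw [List.length_cons] at h6 ⊢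
      omega
    rcases e with ⟨a', e1, e2⟩ | ⟨c', e1, e2⟩
    · -- split inside `b`
      subst e1
      exact key a' l2 e2 hc
    · cases c' with
      | nil =>
        simp only [List.append_nil, List.nil_append] at e1 e2
        subst e1
        have := key [] l2 e2.symm (by simpa using hc)
        exact this
      | cons j' c'' =>
        exfalso
        simp only [List.cons_append, List.cons.injEq] at e2
        obtain ⟨rfl, e2⟩ := e2
        -- `l' = l1 ++ j :: c''`, so `s i * wprod l'` is shorter, contradicting reducedness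
        have h1 : s i * wprod s l' = wprod s (l1 ++ c'') := by
          rw [e1, wprod_append, wprod_cons, ← mul_assoc, hc, wprod_append, mul_assoc (wprod s l1),
            ← mul_assoc (s j), E.sq, one_mul]
        have h2 := E.len_le (l1 ++ c'')
        have h3 : ℓ (wprod s (i :: l')) = (i :: l').length := hl
        rw [wprod_cons, h1, List.length_cons] at h3
        have h4 : l'.length = (l1 ++ c'').length + 1 := by rw [e1]; simp; omega
        omega

theorem full_descent_len {w : W} (hw : ∀ i, DL s ℓ w i) (v : W) :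
    ℓ w = ℓ v + ℓ (v⁻¹ * w) := by
  obtain ⟨l, hl, hlen⟩ := E.exists_word v
  have := E.full_descent_prefix hw l (by unfold Red; rw [hl, hlen])
  rw [hl, hlen] at this
  exact this

theorem full_descent_unique {w w' : W} (hw : ∀ i, DL s ℓ w i) (hw' : ∀ i, DL s ℓ w' i) :
    w = w' := by
  have h1 := E.full_descent_len hw w'
  have h2 := E.full_descent_len hw' w
  have h3 : ℓ (w'⁻¹ * w) = 0 := by omega
  have := E.eq_one_of_len_eq_zero h3
  rw [inv_mul_eq_one] at this
  exact this.symm

theorem exists_full_descent [Finite W] :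
    ∃ w : W, (∀ i, DL s ℓ w i) ∧ (∀ i, DR s ℓ w i) := by
  obtain ⟨w, hw⟩ := Finite.exists_max ℓ
  refine ⟨w, fun i => ?_, fun i => ?_⟩
  · unfold DL
    have h1 := hw (s i * w)
    have h2 := E.len_ne i w
    omega
  · unfold DR
    have h1 := hw (w * s i)
    have h2 := E.len_mul_s w i
    omega

/-- the element of full descent: unique with full left descent set, unique with full right
descent set -/
theorem existsUnique_full_DL [Finite W] : ∃! w : W, ∀ i, DL s ℓ w i := by
  obtain ⟨w, hw, _⟩ := E.exists_full_descent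
  exact ⟨w, hw, fun w' hw' => E.full_descent_unique hw' hw⟩

theorem existsUnique_full_DR [Finite W] : ∃! w : W, ∀ i, DR s ℓ w i := by
  obtain ⟨w, _, hw⟩ := E.exists_full_descent
  refine ⟨w, hw, fun w' hw' => ?_⟩
  have h1 : ∀ i, DL s ℓ w'⁻¹ i := fun i => (E.dR_iff_dL_inv w' i).1 (hw' i)
  have h2 : ∀ i, DL s ℓ w⁻¹ i := fun i => (E.dR_iff_dL_inv w i).1 (hw i)
  have := E.full_descent_unique h1 h2
  exact inv_injective this

end ExSys

end Cfsg.Agent.Lib.Helper14.BNSt
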