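import Mathlib
import Cfsg.Agent.Lib.Helper14.BNSt1

/-!
# Exchange systems: parabolic subgroups and distinguished double coset representatives
-/

set_option autoImplicit false

namespace Cfsg.Agent.Lib.Helper14.BNSt

variable {W : Type*} [Group W] {ι : Type*}

namespace ExSys

variable {s : ι → W} {ℓ : W → ℕ} (E : ExSys s ℓ)

/-- the parabolic subgroup `W_J` -/
def WJ (s : ι → W) (J : Set ι) : Subgroup W := Subgroup.closure (s '' J)

omit E in
theorem wprod_mem_WJ {J : Set ι} {l : List ι} (hl : ∀ i ∈ l, i ∈ J) : wprod s l ∈ WJ s J := by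
  unfold wprod
  apply Subgroup.list_prod_mem
  intro x hx
  rw [List.mem_map] at hx
  obtain ⟨i, hi, rfl⟩ := hx
  exact Subgroup.subset_closure ⟨i, hl i hi, rfl⟩

include E

theorem exists_word_of_mem_WJ {J : Set ι} {x : W} (hx : x ∈ WJ s J) :
    ∃ l : List ι, (∀ i ∈ l, i ∈ J) ∧ wprod s l = x := by
  unfold WJ at hx
  induction hx using Subgroup.closure_induction'' with
  | mem x hx =>
    obtain ⟨i, hi, rfl⟩ := hx
    exact ⟨[i], by simpa using hi, by simp⟩
  | inv_mem x hx =>
    obtain ⟨i, hi, rfl⟩ := hx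
    exact ⟨[i], by simpa using hi, by simp [E.s_inv]⟩
  | one => exact ⟨[], by simp, by simp⟩
  | mul x y _ _ ihx ihy =>
    obtain ⟨lx, hlx, rfl⟩ := ihx
    obtain ⟨ly, hly, rfl⟩ := ihy
    refine ⟨lx ++ ly, ?_, by simp⟩
    intro i hi
    rcases List.mem_append.1 hi with h | h
    · exact hlx i h
    · exact hly i h

/-- `(J, K)`-reduced elements -/
def IsRed (s : ι → W) (ℓ : W → ℕ) (J K : Set ι) (w : W) : Prop :=
  (∀ i ∈ J, ¬ DL s ℓ w i) ∧ (∀ i ∈ K, ¬ DR s ℓ w i)

/-- the double coset relation -/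
def DC (s : ι → W) (J K : Set ι) (w w' : W) : Prop :=
  ∃ x ∈ WJ s J, ∃ y ∈ WJ s K, w' = x * w * y

omit E in
theorem DC.refl (J K : Set ι) (w : W) : DC s J K w w :=
  ⟨1, one_mem _, 1, one_mem _, by simp⟩

omit E in
theorem DC.symm {J K : Set ι} {w w' : W} (h : DC s J K w w') : DC s J K w' w := by
  obtain ⟨x, hx, y, hy, rfl⟩ := h
  exact ⟨x⁻¹, inv_mem hx, y⁻¹, inv_mem hy, by group⟩

omit E in
theorem DC.trans {J K : Set ι} {w w' w'' : W} (h : DC s J K w w') (h' : DC s J K w' w'') :
    DC s J K w w'' := by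
  obtain ⟨x, hx, y, hy, rfl⟩ := h
  obtain ⟨x', hx', y', hy', rfl⟩ := h'
  exact ⟨x' * x, mul_mem hx' hx, y * y', mul_mem hy hy', by group⟩

/-- an element of minimal length in each double coset -/
theorem exists_min (J K : Set ι) (w : W) :
    ∃ d, DC s J K w d ∧ ∀ v, DC s J K w v → ℓ d ≤ ℓ v := by
  classical
  let A : Set ℕ := {k | ∃ v, DC s J K w v ∧ ℓ v = k}
  have hA : A.Nonempty := ⟨ℓ w, w, DC.refl J K w, rfl⟩
  obtain ⟨d, hd, hdk⟩ := Nat.sInf_mem hA
  refine ⟨d, hd, fun v hv => ?_⟩
  rw [hdk]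
  exact Nat.sInf_le ⟨v, hv, rfl⟩

theorem isRed_of_min {J K : Set ι} {w d : W} (hd : DC s J K w d)
    (hmin : ∀ v, DC s J K w v → ℓ d ≤ ℓ v) : IsRed s ℓ J K d := by
  constructor
  · intro i hi
    rw [E.not_dL_iff]
    have h1 : DC s J K w (s i * d) := by
      apply hd.trans
      exact ⟨s i, Subgroup.subset_closure ⟨i, hi, rfl⟩, 1, one_mem _, by simp⟩
    have h2 := hmin _ h1
    have h3 := E.len_ne i d
    omega
  · intro i hi
    rw [E.not_dR_iff]
    have h1 : DC s J K w (d * s i) := by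
      apply hd.trans
      exact ⟨1, one_mem _, s i, Subgroup.subset_closure ⟨i, hi, rfl⟩, by simp⟩
    have h2 := hmin _ h1
    have h3 := E.len_mul_s d i
    omega

/-- a reduced element of a double coset is the element of minimal length -/
theorem eq_of_isRed_of_min {J K : Set ι} {d v : W} (hv : DC s J K d v)
    (hmin : ∀ u, DC s J K d u → ℓ d ≤ ℓ u) (hred : IsRed s ℓ J K v) : v = d := by
  obtain ⟨x, hx, y, hy, rfl⟩ := hv
  obtain ⟨a, ha, rfl⟩ := E.exists_word_of_mem_WJ hx
  obtain ⟨b, hb, rfl⟩ := E.exists_word_of_mem_WJ hy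
  obtain ⟨c, hc, hclen⟩ := E.exists_word d
  obtain ⟨l', hsub, hprod, hl'red⟩ := E.exists_reduced_sublist (a ++ (c ++ b))
  obtain ⟨a', r, e1, ha', hr⟩ := List.sublist_append_iff.1 hsub
  obtain ⟨c', b', e2, hc', hb'⟩ := List.sublist_append_iff.1 hr
  subst e2
  subst e1
  have ha'J : ∀ i ∈ a', i ∈ J := fun i hi => ha i (ha'.subset hi)
  have hb'K : ∀ i ∈ b', i ∈ K := fun i hi => hb i (hb'.subset hi)
  -- the middle part is in the double coset
  have hv_eq : wprod s a * d * wprod s b = wprod s a' * wprod s c' * wprod s b' := by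
    rw [wprod_append, wprod_append, wprod_append, wprod_append, hc] at hprod
    rw [mul_assoc, mul_assoc, hprod]
  have hmid : DC s J K d (wprod s c') := by
    refine ⟨(wprod s a')⁻¹ * wprod s a, mul_mem (inv_mem (wprod_mem_WJ ha'J)) (wprod_mem_WJ ha),
      wprod s b * (wprod s b')⁻¹, mul_mem (wprod_mem_WJ hb) (inv_mem (wprod_mem_WJ hb'K)), ?_⟩
    have : (wprod s a')⁻¹ * wprod s a * d * (wprod s b * (wprod s b')⁻¹) =
        (wprod s a')⁻¹ * (wprod s a * d * wprod s b) * (wprod s b')⁻¹ := by group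
    rw [this, hv_eq]
    group
  have h1 := hmin _ hmid
  have h2 := E.len_le c'
  have h3 := hc'.length_le
  have hc'eq : c' = c := hc'.eq_of_length_le (by omega)
  subst hc'eq
  -- now `v = wprod a' * d * wprod b'` with additive lengths
  have hlen : ℓ (wprod s a * d * wprod s b) = a'.length + c'.length + b'.length := by
    have : ℓ (wprod s (a' ++ (c' ++ b'))) = (a' ++ (c' ++ b')).length := hl'red
    rw [hprod, wprod_append, wprod_append, hc, ← mul_assoc] at this
    rw [this]
    simp only [List.length_append]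
    omega
  -- `a'` is empty
  have ha'nil : a' = [] := by
    cases a' with
    | nil => rfl
    | cons i a'' =>
      exfalso
      have hiJ : i ∈ J := ha'J i (by simp)
      have h4 := hred.1 i hiJ
      rw [E.not_dL_iff] at h4
      have h5 : s i * (wprod s a * d * wprod s b) = wprod s (a'' ++ (c' ++ b')) := by
        rw [hv_eq, wprod_cons, wprod_append, wprod_append, hc]
        rw [← mul_assoc (s i), ← mul_assoc (s i), ← mul_assoc (s i), E.sq, one_mul, mul_assoc]
      have h6 := E.len_le (a'' ++ (c' ++ b'))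
      rw [← h5] at h6
      simp only [List.length_append, List.length_cons] at h6 hlen
      omega
  subst ha'nil
  have hb'nil : b' = [] := by
    rcases List.eq_nil_or_concat b' with h | ⟨b'', k, h⟩
    · exact h
    · exfalso
      rw [List.concat_eq_append] at h
      subst h
      have hkK : k ∈ K := hb'K k (by simp)
      have h4 := hred.2 k hkK
      rw [E.not_dR_iff] at h4
      have h5 : (wprod s a * d * wprod s b) * s k = wprod s (c' ++ b'') := by
        rw [hv_eq, wprod_nil, one_mul, wprod_append, wprod_singleton, wprod_append, hc]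
        rw [mul_assoc, mul_assoc, E.sq, mul_one]
      have h6 := E.len_le (c' ++ b'')
      rw [← h5] at h6
      simp only [List.length_append, List.length_cons, List.length_nil] at h6 hlen
      omega
  subst hb'nil
  rw [hv_eq, hc]
  simp

/-- uniqueness of the reduced element of a double coset -/
theorem isRed_unique {J K : Set ι} {d d' : W} (h : DC s J K d d') (hd : IsRed s ℓ J K d)
    (hd' : IsRed s ℓ J K d') : d = d' := by
  obtain ⟨m, hm, hmin⟩ := E.exists_min J K d
  have hmin' : ∀ u, DC s J K m u → ℓ m ≤ ℓ u := fun u hu => hmin u (hm.trans hu)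
  have h1 := E.eq_of_isRed_of_min hm.symm hmin' hd
  have h2 := E.eq_of_isRed_of_min (hm.symm.trans h) hmin' hd'
  rw [h1, h2]

theorem exists_isRed (J K : Set ι) (w : W) : ∃ d, DC s J K w d ∧ IsRed s ℓ J K d := by
  obtain ⟨d, hd, hmin⟩ := E.exists_min J K w
  exact ⟨d, hd, E.isRed_of_min hd hmin⟩

theorem existsUnique_isRed (J K : Set ι) (w : W) : ∃! d, DC s J K w d ∧ IsRed s ℓ J K d := by
  obtain ⟨d, hd, hred⟩ := E.exists_isRed J K w
  refine ⟨d, ⟨hd, hred⟩, fun d' hd' => ?_⟩
  exact (E.isRed_unique (hd.symm.trans hd'.1) hred hd'.2).symm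

end ExSys

end Cfsg.Agent.Lib.Helper14.BNSt
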