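import Mathlib
import Cfsg.Agent.Lib.Helper14.BNSt2

/-!
# Exchange systems: Solomon's alternating sums over descent sets
-/

set_option autoImplicit false

namespace Cfsg.Agent.Lib.Helper14.BNSt

open Finset

section Collapse

variable {W : Type*} [Fintype W] {ι : Type*} [Fintype ι] [DecidableEq ι]
variable {R : Type*} [CommRing R]

theorem sum_powerset_neg_one_pow_card_ring (x : Finset ι) :
    (∑ m ∈ x.powerset, (-1 : R) ^ m.card) = if x = ∅ then 1 else 0 := by
  have h := Finset.sum_powerset_neg_one_pow_card (x := x)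
  have h2 := congrArg (Int.cast : ℤ → R) h
  push_cast at h2
  rw [h2]

/-- the alternating sum over subsets `K` of sums over `{w | K ⊆ A w}` collapses to `{w | A w = ∅}` -/
theorem collapse (A : W → Finset ι) (f : W → R) :
    ∑ K ∈ (Finset.univ : Finset ι).powerset,
        (-1 : R) ^ K.card * ∑ w ∈ Finset.univ.filter (fun w => K ⊆ A w), f w =
      ∑ w ∈ Finset.univ.filter (fun w => A w = ∅), f w := by
  classical
  have h1 : ∀ K : Finset ι, (-1 : R) ^ K.card * ∑ w ∈ Finset.univ.filter (fun w => K ⊆ A w), f w =
      ∑ w : W, (if K ⊆ A w then (-1 : R) ^ K.card * f w else 0) := by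
    intro K
    rw [Finset.mul_sum, Finset.sum_filter]
  rw [Finset.sum_congr rfl (fun K _ => h1 K), Finset.sum_comm, Finset.sum_filter]
  apply Finset.sum_congr rfl
  intro w _
  have h2 : ∑ K ∈ (Finset.univ : Finset ι).powerset,
      (if K ⊆ A w then (-1 : R) ^ K.card * f w else 0) =
      ∑ K ∈ (A w).powerset, (-1 : R) ^ K.card * f w := by
    rw [← Finset.sum_filter]
    apply Finset.sum_congr
    · ext K
      simp [Finset.mem_powerset]
    · intro K _; rfl
  rw [h2, ← Finset.sum_mul, sum_powerset_neg_one_pow_card_ring]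
  split_ifs <;> simp

end Collapse

namespace ExSys

variable {W : Type*} [Group W] [Fintype W] {ι : Type*} [Fintype ι] [DecidableEq ι]
variable {s : ι → W} {ℓ : W → ℕ} (E : ExSys s ℓ)
variable {R : Type*} [CommRing R]

open Classical in
/-- the left ascent set -/
noncomputable def ascL (s : ι → W) (ℓ : W → ℕ) (w : W) : Finset ι :=
  Finset.univ.filter (fun i => ¬ DL s ℓ w i)

open Classical in
/-- the right ascent set -/
noncomputable def ascR (s : ι → W) (ℓ : W → ℕ) (w : W) : Finset ι :=
  Finset.univ.filter (fun i => ¬ DR s ℓ w i)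

omit [Fintype W] [DecidableEq ι] in
theorem isRed_iff (J K : Finset ι) (w : W) :
    IsRed s ℓ (↑J) (↑K) w ↔ J ⊆ ascL s ℓ w ∧ K ⊆ ascR s ℓ w := by
  classical
  unfold IsRed ascL ascR
  simp only [Finset.mem_coe, Finset.subset_iff, Finset.mem_filter, Finset.mem_univ, true_and]

/-- the element of full descent -/
noncomputable def w0 (E : ExSys s ℓ) : W := Classical.choose E.exists_full_descent

theorem w0_DL (i : ι) : DL s ℓ E.w0 i := (Classical.choose_spec E.exists_full_descent).1 i

theorem w0_DR (i : ι) : DR s ℓ E.w0 i := (Classical.choose_spec E.exists_full_descent).2 i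

omit [DecidableEq ι] in
theorem ascL_eq_empty_iff (w : W) : ascL s ℓ w = ∅ ↔ w = E.w0 := by
  classical
  unfold ascL
  rw [Finset.filter_eq_empty_iff]
  constructor
  · intro h
    apply E.full_descent_unique _ E.w0_DL
    intro i
    have := h (Finset.mem_univ i)
    exact not_not.1 this
  · rintro rfl i _
    exact not_not.2 (E.w0_DL i)

omit [DecidableEq ι] in
theorem ascR_eq_empty_iff (w : W) : ascR s ℓ w = ∅ ↔ w = E.w0 := by
  classical
  unfold ascR
  rw [Finset.filter_eq_empty_iff]
  constructor
  · intro h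
    apply E.existsUnique_full_DR.unique _ E.w0_DR
    intro i
    have := h (Finset.mem_univ i)
    exact not_not.1 this
  · rintro rfl i _
    exact not_not.2 (E.w0_DR i)

open Classical in
/-- right collapse: the alternating sum over `K` of sums over `(∅, K)`-reduced elements -/
theorem collapse_right (f : W → R) :
    ∑ K ∈ (Finset.univ : Finset ι).powerset,
        (-1 : R) ^ K.card *
          ∑ w ∈ Finset.univ.filter (fun w => IsRed s ℓ (∅ : Set ι) (↑K) w), f w = f E.w0 := by
  have h1 : ∀ K : Finset ι, (Finset.univ.filter (fun w => IsRed s ℓ (∅ : Set ι) (↑K) w)) =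
      Finset.univ.filter (fun w => K ⊆ ascR s ℓ w) := by
    intro K
    apply Finset.filter_congr
    intro w _
    have := isRed_iff (s := s) (ℓ := ℓ) ∅ K w
    simp only [Finset.coe_empty, Finset.empty_subset, true_and] at this
    exact this
  simp_rw [h1]
  rw [collapse]
  have h2 : Finset.univ.filter (fun w => ascR s ℓ w = ∅) = {E.w0} := by
    ext w
    simp [E.ascR_eq_empty_iff]
  rw [h2, Finset.sum_singleton]

open Classical in
/-- left collapse -/
theorem collapse_left (f : W → R) :
    ∑ J ∈ (Finset.univ : Finset ι).powerset,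
        (-1 : R) ^ J.card *
          ∑ w ∈ Finset.univ.filter (fun w => IsRed s ℓ (↑J) (∅ : Set ι) w), f w = f E.w0 := by
  have h1 : ∀ J : Finset ι, (Finset.univ.filter (fun w => IsRed s ℓ (↑J) (∅ : Set ι) w)) =
      Finset.univ.filter (fun w => J ⊆ ascL s ℓ w) := by
    intro J
    apply Finset.filter_congr
    intro w _
    have := isRed_iff (s := s) (ℓ := ℓ) J ∅ w
    simp only [Finset.coe_empty, Finset.empty_subset, and_true] at this
    exact this
  simp_rw [h1]
  rw [collapse]
  have h2 : Finset.univ.filter (fun w => ascL s ℓ w = ∅) = {E.w0} := by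
    ext w
    simp [E.ascL_eq_empty_iff]
  rw [h2, Finset.sum_singleton]

include E in
open Classical in
/-- Solomon's identity: the double alternating sum of the numbers of `(J, K)`-reduced elements -/
theorem solomon :
    ∑ J ∈ (Finset.univ : Finset ι).powerset, ∑ K ∈ (Finset.univ : Finset ι).powerset,
        (-1 : R) ^ J.card * (-1 : R) ^ K.card *
          ((Finset.univ.filter (fun w => IsRed s ℓ (↑J) (↑K) w)).card : R) = 1 := by
  have h1 : ∀ J K : Finset ι,
      ((Finset.univ.filter (fun w => IsRed s ℓ (↑J) (↑K) w)).card : R) =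
      ∑ w ∈ Finset.univ.filter (fun w => K ⊆ ascR s ℓ w),
        (if J ⊆ ascL s ℓ w then (1 : R) else 0) := by
    intro J K
    rw [Finset.sum_ite, Finset.sum_const_zero, add_zero, Finset.sum_const, nsmul_eq_mul, mul_one,
      Finset.filter_filter]
    congr 2
    apply Finset.filter_congr
    intro w _
    rw [isRed_iff]
    exact and_comm
  have h2 : ∀ J : Finset ι, ∑ K ∈ (Finset.univ : Finset ι).powerset,
        (-1 : R) ^ J.card * (-1 : R) ^ K.card *
          ((Finset.univ.filter (fun w => IsRed s ℓ (↑J) (↑K) w)).card : R) =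
      (-1 : R) ^ J.card * (if J ⊆ ascL s ℓ E.w0 then (1 : R) else 0) := by
    intro J
    simp_rw [h1 J, mul_assoc]
    rw [← Finset.mul_sum, collapse]
    have h3 : Finset.univ.filter (fun w => ascR s ℓ w = ∅) = {E.w0} := by
      ext w
      simp [E.ascR_eq_empty_iff]
    rw [h3, Finset.sum_singleton]
  rw [Finset.sum_congr rfl (fun J _ => h2 J)]
  have h4 : ascL s ℓ E.w0 = ∅ := (E.ascL_eq_empty_iff _).2 rfl
  rw [h4]
  simp_rw [Finset.subset_empty]
  rw [Finset.sum_eq_single ∅]
  · simp
  · intro J _ hJ
    simp [hJ]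
  · intro h
    exact absurd (Finset.empty_mem_powerset _) h

end ExSys

end Cfsg.Agent.Lib.Helper14.BNSt
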