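import Mathlib
import Cfsg.Agent.Lib.Helper8.BNCox
import Cfsg.Agent.Lib.Helper14.BNSt3

/-!
# The Weyl group of a `(B, N)`-pair as an exchange system; Bruhat cells
-/

set_option autoImplicit false

namespace Cfsg.Agent.Lib.Helper14.BNSt

open Cfsg.Agent.Lib.Helper3 Cfsg.Agent.Lib.Helper8.Weyl Cfsg.Agent.Lib.Helper8.BNCox

variable {G : Type*} [Group G] (P : Cfsg.BNPair G)

/-- `B ∩ N` is normal in `N` -/
theorem tNormal : (T P).Normal := by
  constructor
  intro n hn g
  rw [Subgroup.mem_subgroupOf, Subgroup.mem_inf] at hn ⊢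
  have := P.conj_mem g g.2 n ⟨hn.1, n.2⟩
  exact ⟨by simpa using this, (g * n * g⁻¹).2⟩

variable [hN : (T P).Normal]

/-- the projection `N → W` -/
def proj : P.N →* WG P := QuotientGroup.mk' (T P)

theorem proj_eq_iff (a b : P.N) : proj P a = proj P b ↔ BN.Rel P (a : G) (b : G) :=
  mk_eq_mk_iff P a b

theorem proj_surjective : Function.Surjective (proj P) := QuotientGroup.mk'_surjective _

theorem ell_proj (n : P.N) : ell P (proj P n) = BN.len P (n : G) := rfl

theorem proj_S (i : P.S) : proj P ⟨(i : G), P.subset i.2⟩ = sW P i := rfl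

/-- lifting a list of elements of `S` -/
theorem exists_lift_list {X : Set G} (hX : X ⊆ P.S) (l : List G) (hl : ∀ x ∈ l, x ∈ X) :
    ∃ l' : List P.S, l'.map (fun i : P.S => (i : G)) = l ∧ ∀ i ∈ l', (i : G) ∈ X := by
  induction l with
  | nil => exact ⟨[], rfl, by simp⟩
  | cons x l ih =>
    obtain ⟨l', h1, h2⟩ := ih (fun y hy => hl y (by simp [hy]))
    have hx : x ∈ X := hl x (by simp)
    refine ⟨⟨x, hX hx⟩ :: l', by simp [h1], ?_⟩
    intro i hi
    rcases List.mem_cons.1 hi with rfl | hi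
    · exact hx
    · exact h2 i hi

theorem wprod_eq_proj (l : List P.S) : wprod (sW P) l = proj P (wordN P l) :=
  wp_eq_mk P l

theorem coe_wordN (l : List P.S) : ((wordN P l : P.N) : G) = (l.map (fun i : P.S => (i : G))).prod :=
  rfl

/-- the Weyl group is an exchange system -/
theorem exSys : ExSys (sW P) (ell P) where
  sq := sW_mul_self P
  len_le := by
    intro l
    rw [wprod_eq_proj, ell_proj, coe_wordN]
    have h := (BN.isWord_prod P (l := l.map (fun i : P.S => (i : G))) (by
      intro x hx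
      rw [List.mem_map] at hx
      obtain ⟨i, _, rfl⟩ := hx
      exact i.2)).len_le
    simpa using h
  exists_word := by
    intro w
    obtain ⟨n, rfl⟩ := proj_surjective P w
    obtain ⟨l, hl, hlen⟩ := BN.exists_word_len P n.2
    obtain ⟨l', h1, _⟩ := exists_lift_list P (le_refl _) l hl.1
    refine ⟨l', ?_, ?_⟩
    · rw [wprod_eq_proj, proj_eq_iff, coe_wordN, h1]
      exact hl.2.symm
    · rw [ell_proj, ← hlen, ← h1, List.length_map]
  len_ne := by
    intro i w
    rcases ell_sW_mul P i w with h | h <;> omega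
  exch := fun i l h => exchange_left P i l h

/-- the Bruhat cell of an element -/
noncomputable def cell (g : G) : WG P :=
  proj P ⟨Classical.choose (BN.bruhat_exists P g), (Classical.choose_spec (BN.bruhat_exists P g)).1⟩

theorem cell_eq {g n : G} (hn : n ∈ P.N) (hg : g ∈ BN.C P n) : cell P g = proj P ⟨n, hn⟩ := by
  unfold cell
  rw [proj_eq_iff]
  have h1 := (Classical.choose_spec (BN.bruhat_exists P g)).1
  have h2 := (Classical.choose_spec (BN.bruhat_exists P g)).2
  apply BN.bruhat_unique P h1 hn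
  rw [← BN.C_eq_of_mem P h2, BN.C_eq_of_mem P hg]

theorem exists_rep (g : G) : ∃ n, ∃ hn : n ∈ P.N, g ∈ BN.C P n ∧ cell P g = proj P ⟨n, hn⟩ := by
  obtain ⟨n, hn, hg⟩ := BN.bruhat_exists P g
  exact ⟨n, hn, hg, cell_eq P hn hg⟩

theorem cell_coe (n : P.N) : cell P (n : G) = proj P n :=
  cell_eq P n.2 (BN.self_mem_C P _)

theorem cell_inv (g : G) : cell P g⁻¹ = (cell P g)⁻¹ := by
  obtain ⟨n, hn, hg, hc⟩ := exists_rep P g
  rw [hc, cell_eq P (P.N.inv_mem hn) (BN.inv_mem_C P hg), ← map_inv]
  rfl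

theorem cell_mul_left {b : G} (hb : b ∈ P.B) (g : G) : cell P (b * g) = cell P g := by
  obtain ⟨n, hn, hg, hc⟩ := exists_rep P g
  rw [hc, cell_eq P hn (BN.mul_left_mem_C P hb hg)]

theorem cell_mul_right {b : G} (hb : b ∈ P.B) (g : G) : cell P (g * b) = cell P g := by
  obtain ⟨n, hn, hg, hc⟩ := exists_rep P g
  rw [hc, cell_eq P hn (BN.mul_right_mem_C P hb hg)]

/-- multiplying a cell on the left by a word: the result lies in the cell of a subword -/
theorem word_mul_mem (l : List G) (hl : ∀ x ∈ l, x ∈ P.S) {n g : G} (hn : n ∈ P.N)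
    (hg : g ∈ BN.C P n) : ∃ l' : List G, l'.Sublist l ∧ l.prod * g ∈ BN.C P (l'.prod * n) := by
  induction l with
  | nil => exact ⟨[], List.Sublist.refl _, by simpa using hg⟩
  | cons x l ih =>
    obtain ⟨l', hsub, h⟩ := ih (fun y hy => hl y (by simp [hy]))
    have hx : x ∈ P.S := hl x (by simp)
    have hl' : ∀ y ∈ l', y ∈ P.S := fun y hy => hl y (by simp [hsub.subset hy])
    have hN : l'.prod * n ∈ P.N := P.N.mul_mem (BN.prod_mem_N P hl') hn
    rcases BN.smul_mem P hx hN h with h1 | h1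
    · refine ⟨x :: l', List.Sublist.cons_cons x hsub, ?_⟩
      rw [List.prod_cons, List.prod_cons, mul_assoc, mul_assoc]
      exact h1
    · refine ⟨l', List.Sublist.cons x hsub, ?_⟩
      rw [List.prod_cons, mul_assoc]
      exact h1

end Cfsg.Agent.Lib.Helper14.BNSt
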