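import Mathlib
import Cfsg.Agent.Lib.Helper15.PairOrbits
import Cfsg.Agent.Lib.Helper14.BNSt4

/-!
# Double cosets of parabolic subgroups of a `(B, N)`-pair and reduced elements of the Weyl group
-/

set_option autoImplicit false

namespace Cfsg.Agent.Lib.Helper14.BNSt

open Cfsg.Agent.Lib.Helper3 Cfsg.Agent.Lib.Helper8.Weyl Cfsg.Agent.Lib.Helper8.BNCox

variable {G : Type*} [Group G] (P : Cfsg.BNPair G)

/-- the parabolic subgroup attached to a set of distinguished generators -/
def par (J : Set P.S) : Subgroup G := P.parabolic (Subtype.val '' J)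

theorem image_subset_S (J : Set P.S) : Subtype.val '' J ⊆ P.S := by
  rintro _ ⟨i, _, rfl⟩
  exact i.2

theorem B_le_par (J : Set P.S) : P.B ≤ par P J := le_sup_left

theorem closure_le_par (J : Set P.S) : Subgroup.closure (Subtype.val '' J) ≤ par P J := le_sup_right

theorem par_empty : par P ∅ = P.B := by
  unfold par
  rw [Set.image_empty]
  exact BN.parabolic_empty P

variable [hN : (T P).Normal]

/-- words in `J` project into `W_J` -/
theorem proj_list_mem_WJ (J : Set P.S) (l : List G) (hl : ∀ x ∈ l, x ∈ Subtype.val '' J) :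
    proj P ⟨l.prod, BN.prod_mem_N P (fun x hx => image_subset_S P J (hl x hx))⟩ ∈
      ExSys.WJ (sW P) J := by
  obtain ⟨l', h1, h2⟩ := exists_lift_list P (image_subset_S P J) l hl
  have h3 : ∀ i ∈ l', i ∈ J := by
    intro i hi
    obtain ⟨j, hj, e⟩ := h2 i hi
    have : j = i := Subtype.ext e
    rw [← this]; exact hj
  have h4 := ExSys.wprod_mem_WJ (s := sW P) h3
  rw [wprod_eq_proj] at h4
  convert h4 using 2
  apply Subtype.ext
  rw [coe_wordN, h1]

/-- elements of `W_J` have representatives in the subgroup generated by `J` -/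
theorem exists_rep_of_mem_WJ (J : Set P.S) {x : WG P} (hx : x ∈ ExSys.WJ (sW P) J) :
    ∃ m : P.N, (m : G) ∈ Subgroup.closure (Subtype.val '' J) ∧ proj P m = x := by
  obtain ⟨l, hl, rfl⟩ := (exSys P).exists_word_of_mem_WJ hx
  refine ⟨wordN P l, ?_, (wprod_eq_proj P l).symm⟩
  rw [coe_wordN]
  apply Subgroup.list_prod_mem
  intro y hy
  rw [List.mem_map] at hy
  obtain ⟨i, hi, rfl⟩ := hy
  exact Subgroup.subset_closure ⟨i, hl i hi, rfl⟩

/-- left multiplication by an element of a parabolic subgroup moves the cell inside `W_J w` -/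
theorem cell_par_mul (J : Set P.S) {p : G} (hp : p ∈ par P J) (g : G) :
    ∃ x ∈ ExSys.WJ (sW P) J, cell P (p * g) = x * cell P g := by
  obtain ⟨m, hm, hpm⟩ := (BN.mem_parabolic_iff P (image_subset_S P J) p).1 hp
  obtain ⟨l, hl, hrel⟩ := BN.exists_Xword P (image_subset_S P J) hm
  rw [hrel.C_eq] at hpm
  obtain ⟨b1, hb1, b2, hb2, rfl⟩ := (BN.mem_C P).1 hpm
  obtain ⟨n, hn, hg, hc⟩ := exists_rep P g
  have hlS : ∀ x ∈ l, x ∈ P.S := fun x hx => image_subset_S P J (hl x hx)
  obtain ⟨l', hsub, h⟩ := word_mul_mem P l hlS hn (BN.mul_left_mem_C P hb2 hg)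
  have hl' : ∀ x ∈ l', x ∈ Subtype.val '' J := fun x hx => hl x (hsub.subset hx)
  have hl'N : l'.prod ∈ P.N := BN.prod_mem_N P (fun x hx => image_subset_S P J (hl' x hx))
  refine ⟨proj P ⟨l'.prod, hl'N⟩, proj_list_mem_WJ P J l' hl', ?_⟩
  have e : b1 * l.prod * b2 * g = b1 * (l.prod * (b2 * g)) := by group
  rw [e, cell_mul_left P hb1, cell_eq P (P.N.mul_mem hl'N hn) h, hc, ← map_mul]
  rfl

/-- right multiplication by an element of a parabolic subgroup -/
theorem cell_mul_par (K : Set P.S) {p : G} (hp : p ∈ par P K) (g : G) :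
    ∃ y ∈ ExSys.WJ (sW P) K, cell P (g * p) = cell P g * y := by
  obtain ⟨x, hx, h⟩ := cell_par_mul P K (inv_mem hp) g⁻¹
  refine ⟨x⁻¹, inv_mem hx, ?_⟩
  have e : g * p = (p⁻¹ * g⁻¹)⁻¹ := by group
  rw [e, cell_inv, h, cell_inv, mul_inv_rev, inv_inv]

theorem cell_DC (J K : Set P.S) {h k : G} (hh : h ∈ par P J) (hk : k ∈ par P K) (g : G) :
    ExSys.DC (sW P) J K (cell P g) (cell P (h * g * k)) := by
  obtain ⟨y, hy, e1⟩ := cell_mul_par P K hk (h * g)
  obtain ⟨x, hx, e2⟩ := cell_par_mul P J hh g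
  exact ⟨x, hx, y, hy, by rw [e1, e2]⟩

theorem mem_of_DC (J K : Set P.S) {g g' : G}
    (h : ExSys.DC (sW P) J K (cell P g) (cell P g')) :
    ∃ p ∈ par P J, ∃ p' ∈ par P K, g' = p * g * p' := by
  obtain ⟨x, hx, y, hy, e⟩ := h
  obtain ⟨m, hm, rfl⟩ := exists_rep_of_mem_WJ P J hx
  obtain ⟨m', hm', rfl⟩ := exists_rep_of_mem_WJ P K hy
  obtain ⟨n, hn, hg, hc⟩ := exists_rep P g
  obtain ⟨n', hn', hg', hc'⟩ := exists_rep P g'
  rw [hc, hc', ← map_mul, ← map_mul, proj_eq_iff] at e
  have hg'' : g' ∈ BN.C P ((m : G) * n * (m' : G)) := by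
    have e' : BN.Rel P n' ((m : G) * n * (m' : G)) := e
    rw [← e'.C_eq]; exact hg'
  obtain ⟨b1, hb1, b2, hb2, rfl⟩ := (BN.mem_C P).1 hg''
  obtain ⟨c1, hc1, c2, hc2, rfl⟩ := (BN.mem_C P).1 hg
  refine ⟨b1 * (m : G) * c1⁻¹, ?_, c2⁻¹ * (m' : G) * b2, ?_, by group⟩
  · exact mul_mem (mul_mem (B_le_par P J hb1) (closure_le_par P J hm))
      (inv_mem (B_le_par P J hc1))
  · exact mul_mem (mul_mem (inv_mem (B_le_par P K hc2)) (closure_le_par P K hm'))
      (B_le_par P K hb2)

/-- the reduced element of the double coset of `w` -/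
noncomputable def redW (J K : Set P.S) (w : WG P) : WG P :=
  Classical.choose ((exSys P).exists_isRed J K w)

theorem redW_DC (J K : Set P.S) (w : WG P) : ExSys.DC (sW P) J K w (redW P J K w) :=
  (Classical.choose_spec ((exSys P).exists_isRed J K w)).1

theorem redW_isRed (J K : Set P.S) (w : WG P) : ExSys.IsRed (sW P) (ell P) J K (redW P J K w) :=
  (Classical.choose_spec ((exSys P).exists_isRed J K w)).2

theorem redW_eq_of_DC {J K : Set P.S} {w w' : WG P} (h : ExSys.DC (sW P) J K w w') :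
    redW P J K w = redW P J K w' :=
  (exSys P).isRed_unique (((redW_DC P J K w).symm.trans h).trans (redW_DC P J K w'))
    (redW_isRed P J K w) (redW_isRed P J K w')

theorem redW_of_isRed {J K : Set P.S} {w : WG P} (h : ExSys.IsRed (sW P) (ell P) J K w) :
    redW P J K w = w :=
  (exSys P).isRed_unique (redW_DC P J K w).symm (redW_isRed P J K w) h

/-- the number of orbits of `G` on pairs of cosets of parabolic subgroups -/
theorem card_orbits_par (J K : Set P.S) :
    Nat.card (MulAction.orbitRel.Quotient G ((G ⧸ par P J) × (G ⧸ par P K))) =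
      Nat.card {w : WG P // ExSys.IsRed (sW P) (ell P) J K w} := by
  rw [Cfsg.Agent.Lib.Helper15.Bru.card_orbits_eq_card_range (par P J) (par P K)
    (fun g => redW P J K (cell P g))]
  · apply Nat.card_congr
    apply Equiv.setCongr
    ext w
    constructor
    · rintro ⟨g, rfl⟩
      exact redW_isRed P J K _
    · intro hw
      obtain ⟨n, rfl⟩ := proj_surjective P w
      refine ⟨(n : G), ?_⟩
      show redW P J K (cell P (n : G)) = proj P n
      rw [cell_coe, redW_of_isRed P hw]
  · intro h hh k hk g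
    exact (redW_eq_of_DC P (cell_DC P J K hh hk g)).symm
  · intro g g' h
    have h1 : ExSys.DC (sW P) J K (cell P g) (cell P g') := by
      have a := redW_DC P J K (cell P g)
      have b := redW_DC P J K (cell P g')
      change redW P J K (cell P g) = redW P J K (cell P g') at h
      rw [h] at a
      exact a.trans b.symm
    obtain ⟨p, hp, p', hp', e⟩ := mem_of_DC P J K h1
    exact ⟨p, hp, p', hp', e⟩

end Cfsg.Agent.Lib.Helper14.BNSt
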