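import Mathlib
import Cfsg.Agent.Lib.Helper2.PermChar
import Cfsg.Agent.Lib.Helper2.Orthogonality
import Cfsg.Agent.Lib.Helper2.BurnsidePQ
import Cfsg.Agent.Lib.Helper11.GenChar
import Cfsg.Agent.Lib.Helper14.BNSt5

/-!
# The Steinberg character of a finite group with a `(B, N)`-pair is irreducible
-/

set_option autoImplicit false

namespace Cfsg.Agent.Lib.Helper14.BNSt

open Cfsg.Agent.Lib.Helper2 Cfsg.Agent.Lib.Helper11
open Cfsg.Agent.Lib.Helper3 Cfsg.Agent.Lib.Helper8.Weyl Cfsg.Agent.Lib.Helper8.BNCox
open scoped ComplexConjugate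

section General

variable {G : Type*} [Group G] [Fintype G]

/-- permutation characters on cosets are characters -/
theorem isCharacter_fpc (H : Subgroup G) : Cfsg.IsCharacter G (Cfsg.fixedPointCharacter H) := by
  have h := permChar_eq_indFun (G := G) (G ⧸ H) ((1 : G) : G ⧸ H)
  unfold Cfsg.fixedPointCharacter
  rw [h]
  exact indFun_isCharacter _ _ (IsIrrCharacter.isCharacter isIrrCharacter_one)

theorem classInner_fpc (H K : Subgroup G) :
    Cfsg.classInner (Cfsg.fixedPointCharacter H) (Cfsg.fixedPointCharacter K) =
      (Nat.card (MulAction.orbitRel.Quotient G ((G ⧸ H) × (G ⧸ K))) : ℂ) := by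
  rw [← Cfsg.Agent.Lib.Helper15.Bru.inner_fixedPointCharacter H K, classInner_def]
  congr 1
  apply Finset.sum_congr rfl
  intro g _
  unfold Cfsg.fixedPointCharacter
  rw [Complex.conj_natCast]

end General

variable {G : Type*} [Group G] [Fintype G] (P : Cfsg.BNPair G) [Fintype P.S]

/-- the alternating sum of the permutation characters on the parabolic subgroups -/
noncomputable def stBN : G → ℂ :=
  fun g => ∑ J ∈ (Finset.univ : Finset P.S).powerset,
    (-1 : ℂ) ^ J.card * Cfsg.fixedPointCharacter (par P (↑J : Set P.S)) g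

theorem stBN_eq_sum : stBN P = ∑ J ∈ (Finset.univ : Finset P.S).powerset,
    ((-1 : ℂ) ^ J.card) • Cfsg.fixedPointCharacter (par P (↑J : Set P.S)) := by
  ext g
  unfold stBN
  rw [Finset.sum_apply]
  rfl

variable [hN : (T P).Normal]

noncomputable instance : Fintype (WG P) := Fintype.ofFinite _

open Classical in
theorem classInner_par (J K : Set P.S) :
    Cfsg.classInner (Cfsg.fixedPointCharacter (par P J)) (Cfsg.fixedPointCharacter (par P K)) =
      ((Finset.univ.filter (fun w : WG P => ExSys.IsRed (sW P) (ell P) J K w)).card : ℂ) := by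
  rw [classInner_fpc, card_orbits_par, Nat.card_eq_fintype_card, Fintype.card_subtype]

theorem conj_neg_one_pow (k : ℕ) : conj ((-1 : ℂ) ^ k) = (-1 : ℂ) ^ k := by
  rw [map_pow, map_neg, map_one]

/-- the Steinberg character has norm one -/
theorem classInner_stBN_self : Cfsg.classInner (stBN P) (stBN P) = 1 := by
  classical
  rw [stBN_eq_sum, classInner_sum_left]
  simp_rw [classInner_sum_right, classInner_smul_left, classInner_smul_right, conj_neg_one_pow,
    classInner_par]
  have h := (exSys P).solomon (R := ℂ)
  refine Eq.trans ?_ h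
  apply Finset.sum_congr rfl
  intro J _
  apply Finset.sum_congr rfl
  intro K _
  ring

/-- the multiplicity of the Steinberg character in `1_B^G` is one -/
theorem classInner_stBN_B :
    Cfsg.classInner (stBN P) (Cfsg.fixedPointCharacter P.B) = 1 := by
  classical
  rw [stBN_eq_sum, classInner_sum_left]
  simp_rw [classInner_smul_left]
  have h := (exSys P).collapse_left (R := ℂ) (fun _ => 1)
  refine Eq.trans ?_ h
  apply Finset.sum_congr rfl
  intro J _
  congr 1
  have := classInner_par P (↑J : Set P.S) (∅ : Set P.S)
  rw [par_empty] at this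
  rw [this, Finset.sum_const, nsmul_eq_mul, mul_one]

theorem isGenChar_stBN : Cfsg.IsGeneralizedCharacter G (stBN P) := by
  classical
  refine ⟨∑ J ∈ (Finset.univ : Finset P.S).powerset,
      (if Even J.card then Cfsg.fixedPointCharacter (par P (↑J : Set P.S)) else 0),
    ∑ J ∈ (Finset.univ : Finset P.S).powerset,
      (if Even J.card then 0 else Cfsg.fixedPointCharacter (par P (↑J : Set P.S))), ?_, ?_, ?_⟩
  · apply isCharacter_sum
    intro J _
    split_ifs
    · exact isCharacter_fpc _
    · exact isCharacter_zero
  · apply isCharacter_sum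
    intro J _
    split_ifs
    · exact isCharacter_zero
    · exact isCharacter_fpc _
  · rw [stBN_eq_sum, ← Finset.sum_sub_distrib]
    apply Finset.sum_congr rfl
    intro J _
    by_cases h : Even J.card
    · rw [if_pos h, if_pos h, h.neg_one_pow, one_smul, sub_zero]
    · rw [if_neg h, if_neg h, (Nat.not_even_iff_odd.1 h).neg_one_pow, neg_one_smul, zero_sub]

/-- the Steinberg character of a finite group with a `(B, N)`-pair is irreducible -/
theorem isIrr_stBN : Cfsg.IsIrrCharacter G (stBN P) := by
  rcases IsGeneralizedCharacter.isSignedIrr_of_norm_one (isGenChar_stBN P) (classInner_stBN_self P)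
    with h | h
  · exact h
  · exfalso
    obtain ⟨n, hn⟩ := classInner_isCharacter_nat (IsIrrCharacter.isCharacter h)
      (isCharacter_fpc P.B)
    rw [classInner_neg_left, classInner_stBN_B] at hn
    have h1 : ((-1 : ℂ)).re = ((n : ℕ) : ℂ).re := by rw [hn]
    rw [Complex.natCast_re] at h1
    simp at h1
    have : (0 : ℝ) ≤ n := Nat.cast_nonneg n
    linarith

end Cfsg.Agent.Lib.Helper14.BNSt
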