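import Mathlib
import Cfsg.Agent.Lib.Helper14.BNSt2

/-!
# Exchange systems: additivity of lengths for minimal coset representatives
-/

set_option autoImplicit false

namespace Cfsg.Agent.Lib.Helper14.BNSt

variable {W : Type*} [Group W] {ι : Type*}

namespace ExSys

variable {s : ι → W} {ℓ : W → ℕ} (E : ExSys s ℓ)

include E

/-- elements of `W_K` have reduced words in `K` -/
theorem exists_reduced_word_of_mem_WJ {K : Set ι} {y : W} (hy : y ∈ WJ s K) :
    ∃ b : List ι, (∀ i ∈ b, i ∈ K) ∧ wprod s b = y ∧ b.length = ℓ y := by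
  obtain ⟨b0, hb0, rfl⟩ := E.exists_word_of_mem_WJ hy
  obtain ⟨b, hsub, hprod, hred⟩ := E.exists_reduced_sublist b0
  refine ⟨b, fun i hi => hb0 i (hsub.subset hi), hprod, ?_⟩
  rw [← hprod]
  exact hred.symm

/-- a reduced element has minimal length in its double coset -/
theorem len_le_of_isRed {J K : Set ι} {w v : W} (hw : IsRed s ℓ J K w) (hv : DC s J K w v) :
    ℓ w ≤ ℓ v := by
  obtain ⟨d, hd, hmin⟩ := E.exists_min J K w
  have hdred := E.isRed_of_min hd hmin
  have := E.isRed_unique hd hw hdred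
  rw [this]
  exact hmin v hv

/-- for `w` without right descents in `K` and `y ∈ W_K`, lengths add -/
theorem len_mul_of_isRed {K : Set ι} {w y : W} (hw : IsRed s ℓ (∅ : Set ι) K w)
    (hy : y ∈ WJ s K) : ℓ (w * y) = ℓ w + ℓ y := by
  obtain ⟨c, hc, hclen⟩ := E.exists_word w
  obtain ⟨b, hb, hby, hblen⟩ := E.exists_reduced_word_of_mem_WJ hy
  obtain ⟨l', hsub, hprod, hred⟩ := E.exists_reduced_sublist (c ++ b)
  obtain ⟨c', b', e, hc', hb'⟩ := List.sublist_append_iff.1 hsub
  subst e
  have hb'K : ∀ i ∈ b', i ∈ K := fun i hi => hb i (hb'.subset hi)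
  rw [wprod_append, wprod_append, hc, hby] at hprod
  -- `wprod c'` is in the coset `w W_K`
  have hmid : DC s (∅ : Set ι) K w (wprod s c') := by
    refine ⟨1, one_mem _, y * (wprod s b')⁻¹, mul_mem hy (inv_mem (wprod_mem_WJ hb'K)), ?_⟩
    rw [one_mul, ← mul_assoc, ← hprod]
    group
  have h1 := E.len_le_of_isRed hw hmid
  have h2 := E.len_le c'
  have h3 := hc'.length_le
  have hc'eq : c' = c := hc'.eq_of_length_le (by omega)
  subst hc'eq
  rw [hc] at hprod
  have hby' : wprod s b' = y := mul_left_cancel hprod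
  have h4 := E.len_le b'
  rw [hby'] at h4
  have h5 := hb'.length_le
  have hb'eq : b' = b := hb'.eq_of_length_le (by omega)
  subst hb'eq
  have h6 : ℓ (wprod s (c' ++ b')) = (c' ++ b').length := hred
  rw [wprod_append, hc, hby, List.length_append, hclen, hblen] at h6
  exact h6

end ExSys

end Cfsg.Agent.Lib.Helper14.BNSt
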