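import Mathlib
import Cfsg.Agent.Lib.Helper14.BNSt5
import Cfsg.Agent.Lib.Helper14.BNSt8

/-!
# `(B, N)`-pairs: `B ∩ ⁿP_K = B ∩ ⁿB` for minimal coset representatives
-/

set_option autoImplicit false

namespace Cfsg.Agent.Lib.Helper14.BNSt

open Cfsg.Agent.Lib.Helper3 Cfsg.Agent.Lib.Helper8.Weyl Cfsg.Agent.Lib.Helper8.BNCox

variable {G : Type*} [Group G] (P : Cfsg.BNPair G) [hN : (T P).Normal]

theorem len_eq_ell {n : G} (hn : n ∈ P.N) : BN.len P n = ell P (proj P ⟨n, hn⟩) := rfl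

/-- right multiplication by a generator that lengthens -/
theorem mul_s_mem_of_len_le {n s g : G} (hn : n ∈ P.N) (hs : s ∈ P.S)
    (hle : BN.len P n ≤ BN.len P (n * s)) (hg : g ∈ BN.C P n) : g * s ∈ BN.C P (n * s) := by
  have hsN := BN.S_mem_N P hs
  have hninv := P.N.inv_mem hn
  have h1 : BN.len P n⁻¹ ≤ BN.len P (s * n⁻¹) := by
    rw [len_eq_ell P hninv, len_eq_ell P (P.N.mul_mem hsN hninv)]
    rw [len_eq_ell P hn, len_eq_ell P (P.N.mul_mem hn hsN)] at hle
    have e1 : proj P ⟨n⁻¹, hninv⟩ = (proj P ⟨n, hn⟩)⁻¹ := by rw [← map_inv]; rfl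
    have e2 : proj P ⟨s * n⁻¹, P.N.mul_mem hsN hninv⟩ = (proj P ⟨n * s, P.N.mul_mem hn hsN⟩)⁻¹ := by
      rw [← map_inv, proj_eq_iff]
      show BN.Rel P (s * n⁻¹) (n * s)⁻¹
      have : (n * s)⁻¹ = s⁻¹ * n⁻¹ := by group
      rw [this]
      have h := (BN.rel_inv_self P hs).symm
      exact h.mul_right hsN (P.N.inv_mem hsN) hninv
    rw [e1, e2, (exSys P).len_inv, (exSys P).len_inv]
    exact hle
  have h2 := BN.smul_mem_of_len_le P hninv hs h1 (BN.inv_mem_C P hg)
  have h3 : (s * s)⁻¹ * (s * g⁻¹) ∈ BN.C P (s * n⁻¹) :=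
    BN.mul_left_mem_C P (P.B.inv_mem (P.sq_mem s hs)) h2
  have h4 := BN.inv_mem_C P h3
  have e3 : ((s * s)⁻¹ * (s * g⁻¹))⁻¹ = g * s := by group
  have e4 : (s * n⁻¹)⁻¹ = n * s⁻¹ := by group
  rw [e3, e4] at h4
  have h5 : BN.Rel P (n * s⁻¹) (n * s) := (BN.rel_inv_self P hs).mul_left n
  rw [← h5.C_eq]
  exact h4

/-- right multiplication by a word along which lengths add -/
theorem mul_word_mem (b : List P.S) : ∀ (n : P.N) (g : G), g ∈ BN.C P (n : G) →
    ell P (proj P n * wprod (sW P) b) = ell P (proj P n) + b.length →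
    g * ((wordN P b : P.N) : G) ∈ BN.C P ((n : G) * ((wordN P b : P.N) : G)) := by
  induction b with
  | nil =>
    intro n g hg _
    simpa [coe_wordN] using hg
  | cons i b ih =>
    intro n g hg hlen
    have hi : (i : G) ∈ P.S := i.2
    have hiN : (i : G) ∈ P.N := P.subset hi
    let n' : P.N := n * ⟨(i : G), hiN⟩
    have hproj : proj P n' = proj P n * sW P i := by
      show proj P (n * ⟨(i : G), hiN⟩) = _
      rw [map_mul]; rfl
    rw [wprod_cons, ← mul_assoc, ← hproj, List.length_cons] at hlen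
    have h1 := (exSys P).len_le b
    have h2 := (exSys P).len_mul_le (proj P n') (wprod (sW P) b)
    have h3 := (exSys P).len_mul_s (proj P n) i
    rw [← hproj] at h3
    have h4 : ell P (proj P n') = ell P (proj P n) + 1 := by omega
    have hg' : g * (i : G) ∈ BN.C P ((n : G) * (i : G)) := by
      apply mul_s_mem_of_len_le P n.2 hi _ hg
      rw [len_eq_ell P n.2, len_eq_ell P (P.N.mul_mem n.2 hiN)]
      show ell P (proj P n) ≤ ell P (proj P n')
      omega
    have := ih n' (g * (i : G)) hg' (by omega)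
    have e : ((wordN P (i :: b) : P.N) : G) = (i : G) * ((wordN P b : P.N) : G) := by
      rw [coe_wordN, coe_wordN, List.map_cons, List.prod_cons]
    rw [e, ← mul_assoc, ← mul_assoc]
    exact this

/-- for `w` without right descents in `K`: `B ∩ ⁿP_K ≤ ⁿB` -/
theorem conj_mem_B_of_isRed (K : Set P.S) (n : P.N)
    (hred : ExSys.IsRed (sW P) (ell P) (∅ : Set P.S) K (proj P n)) {β : G} (hβ : β ∈ P.B)
    (h : (n : G)⁻¹ * β * (n : G) ∈ par P K) : (n : G)⁻¹ * β * (n : G) ∈ P.B := by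
  obtain ⟨m, hm, hmem⟩ := (BN.mem_parabolic_iff P (image_subset_S P K) _).1 h
  have hmN := BN.closure_le_N P (image_subset_S P K) hm
  -- the image of `m` in `W_K`
  have hy : proj P ⟨m, hmN⟩ ∈ ExSys.WJ (sW P) K := by
    obtain ⟨l, hl, hrel⟩ := BN.exists_Xword P (image_subset_S P K) hm
    have := proj_list_mem_WJ P K l hl
    convert this using 1
    rw [proj_eq_iff]
    exact hrel
  obtain ⟨b, hb, hby, hblen⟩ := (exSys P).exists_reduced_word_of_mem_WJ hy
  have hrel : BN.Rel P m ((wordN P b : P.N) : G) := by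
    have := hby
    rw [wprod_eq_proj, proj_eq_iff] at this
    exact this.symm
  rw [hrel.C_eq] at hmem
  obtain ⟨b1, hb1, b2, hb2, e⟩ := (BN.mem_C P).1 hmem
  have hlen := (exSys P).len_mul_of_isRed hred hy
  rw [← hby, hby] at hlen
  have hlen' : ell P (proj P n * wprod (sW P) b) = ell P (proj P n) + b.length := by
    rw [hby, hlen, hblen]
  have h1 : (n : G) * b1 ∈ BN.C P (n : G) := BN.mul_right_mem_C P hb1 (BN.self_mem_C P _)
  have h2 := mul_word_mem P b n _ h1 hlen'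
  -- but `n b1 (wordN b) = β n b2⁻¹ ∈ C(n)`
  have e2 : (n : G) * b1 * ((wordN P b : P.N) : G) = β * (n : G) * b2⁻¹ := by
    have : (n : G) * b1 * ((wordN P b : P.N) : G) =
        (n : G) * (b1 * ((wordN P b : P.N) : G) * b2) * b2⁻¹ := by group
    rw [this, ← e]
    group
  rw [e2] at h2
  have h3 : β * (n : G) * b2⁻¹ ∈ BN.C P (n : G) :=
    BN.mul_right_mem_C P (P.B.inv_mem hb2) (BN.mul_left_mem_C P hβ (BN.self_mem_C P _))
  have hC : BN.C P (n : G) = BN.C P ((n : G) * ((wordN P b : P.N) : G)) := by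
    rw [← BN.C_eq_of_mem P h3, BN.C_eq_of_mem P h2]
  have hrel2 := BN.bruhat_unique P n.2 (P.N.mul_mem n.2 (wordN P b).2) hC
  have hwB : ((wordN P b : P.N) : G) ∈ P.B := by
    have : (n : G)⁻¹ * ((n : G) * ((wordN P b : P.N) : G)) ∈ P.B := hrel2
    simpa using this
  rw [e]
  exact P.B.mul_mem (P.B.mul_mem hb1 hwB) hb2

end Cfsg.Agent.Lib.Helper14.BNSt
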