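import Mathlib
import Cfsg.Agent.Lib.Helper14.BNSt6
import Cfsg.Agent.Lib.Helper14.BNSt9

/-!
# Restriction of the Steinberg character of a `(B, N)`-pair to `B`
-/

set_option autoImplicit false

namespace Cfsg.Agent.Lib.Helper14.BNSt

open Cfsg.Agent.Lib.Helper3 Cfsg.Agent.Lib.Helper8.Weyl Cfsg.Agent.Lib.Helper8.BNCox
open MulAction

section General

variable {Γ : Type*} [Group Γ] {X : Type*} [MulAction Γ X]

/-- fixed points of `b` on an orbit are the fixed points of `b` on the cosets of a stabiliser -/
theorem card_fixed_orbit (b : Γ) (y : X) :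
    Nat.card {y' : X // y' ∈ orbit Γ y ∧ b • y' = y'} =
      Nat.card (fixedBy (Γ ⧸ stabilizer Γ y) b) := by
  symm
  apply Nat.card_congr
  refine Equiv.ofBijective (fun q => ⟨ofQuotientStabilizer Γ y q.1,
    ofQuotientStabilizer_mem_orbit Γ y q.1, ?_⟩) ⟨?_, ?_⟩
  · rw [← ofQuotientStabilizer_smul]
    exact congrArg _ q.2
  · intro q q' h
    apply Subtype.ext
    apply injective_ofQuotientStabilizer Γ y
    exact congrArg Subtype.val h
  · rintro ⟨y', ⟨g, rfl⟩, hfix⟩
    refine ⟨⟨(g : Γ ⧸ stabilizer Γ y), ?_⟩, ?_⟩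
    · show b • (g : Γ ⧸ stabilizer Γ y) = g
      apply injective_ofQuotientStabilizer Γ y
      rw [ofQuotientStabilizer_smul, ofQuotientStabilizer_mk]
      exact hfix
    · apply Subtype.ext
      exact ofQuotientStabilizer_mk Γ y g

end General

variable {G : Type*} [Group G] (P : Cfsg.BNPair G) [hN : (T P).Normal]

/-- a representative in `N` of an element of the Weyl group -/
noncomputable def repN (w : WG P) : P.N := Classical.choose (proj_surjective P w)

theorem proj_repN (w : WG P) : proj P (repN P w) = w := Classical.choose_spec (proj_surjective P w)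

/-- the invariant of a coset of `P_K`: the reduced element of its `(B, P_K)`-double coset -/
noncomputable def cosetInv (K : Set P.S) (y : G ⧸ par P K) : WG P :=
  redW P ∅ K (cell P y.out)

theorem cosetInv_mk (K : Set P.S) (x : G) :
    cosetInv P K (x : G ⧸ par P K) = redW P ∅ K (cell P x) := by
  unfold cosetInv
  obtain ⟨h, e⟩ := QuotientGroup.mk_out_eq_mul (par P K) x
  rw [e]
  obtain ⟨y, hy, e2⟩ := cell_mul_par P K h.2 x
  rw [e2]
  apply redW_eq_of_DC
  exact ⟨1, one_mem _, y⁻¹, inv_mem hy, by group⟩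

theorem cosetInv_isRed (K : Set P.S) (y : G ⧸ par P K) :
    ExSys.IsRed (sW P) (ell P) (∅ : Set P.S) K (cosetInv P K y) := redW_isRed P _ _ _

/-- the cosets with a given reduced invariant form one `B`-orbit -/
theorem cosetInv_eq_iff (K : Set P.S) (n : P.N)
    (hred : ExSys.IsRed (sW P) (ell P) (∅ : Set P.S) K (proj P n)) (y : G ⧸ par P K) :
    cosetInv P K y = proj P n ↔ y ∈ orbit ↥P.B (((n : G) : G ⧸ par P K)) := by
  induction y using QuotientGroup.induction_on with
  | H x =>
    rw [cosetInv_mk]
    constructor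
    · intro h
      have h1 : ExSys.DC (sW P) (∅ : Set P.S) K (cell P (n : G)) (cell P x) := by
        have a := redW_DC P ∅ K (cell P x)
        rw [h, ← cell_coe] at a
        exact a.symm
      obtain ⟨p, hp, p', hp', e⟩ := mem_of_DC P ∅ K h1
      rw [par_empty] at hp
      refine ⟨⟨p, hp⟩, ?_⟩
      show (((p * (n : G) : G)) : G ⧸ par P K) = (x : G ⧸ par P K)
      rw [QuotientGroup.eq, e]
      have : (p * (n : G))⁻¹ * (p * (n : G) * p') = p' := by group
      rw [this]
      exact hp'
    · rintro ⟨β, hβ⟩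
      have e : ((((β : G) * (n : G) : G)) : G ⧸ par P K) = (x : G ⧸ par P K) := hβ
      rw [← cosetInv_mk, ← e, cosetInv_mk, cell_mul_left P β.2, cell_coe, redW_of_isRed P hred]

/-- the stabiliser in `B` of the coset `n P_K`, for `n` without right descents in `K` -/
theorem stabilizer_eq (K : Set P.S) (n : P.N)
    (hred : ExSys.IsRed (sW P) (ell P) (∅ : Set P.S) K (proj P n)) :
    stabilizer ↥P.B (((n : G) : G ⧸ par P K)) =
      (P.B ⊓ P.B.map (MulAut.conj (n : G)).toMonoidHom).subgroupOf P.B := by
  ext β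
  rw [mem_stabilizer_iff, Subgroup.mem_subgroupOf, Subgroup.mem_inf]
  have hsmul : β • (((n : G) : G ⧸ par P K)) = ((((β : G) * (n : G) : G)) : G ⧸ par P K) := rfl
  rw [hsmul, QuotientGroup.eq]
  have e1 : ((β : G) * (n : G))⁻¹ * (n : G) = (n : G)⁻¹ * (β : G)⁻¹ * (n : G) := by group
  rw [e1]
  constructor
  · intro h
    refine ⟨β.2, ?_⟩
    have h1 := conj_mem_B_of_isRed P K n hred (P.B.inv_mem β.2) h
    refine ⟨(n : G)⁻¹ * (β : G) * (n : G), ?_, ?_⟩
    · have := P.B.inv_mem h1
      have e2 : ((n : G)⁻¹ * (β : G)⁻¹ * (n : G))⁻¹ = (n : G)⁻¹ * (β : G) * (n : G) := by group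
      rwa [e2] at this
    · show (n : G) * ((n : G)⁻¹ * (β : G) * (n : G)) * (n : G)⁻¹ = β
      group
  · rintro ⟨_, c, hc, e⟩
    have e' : (n : G) * c * (n : G)⁻¹ = β := e
    apply B_le_par P K
    have : (n : G)⁻¹ * (β : G)⁻¹ * (n : G) = c⁻¹ := by
      rw [← e']; group
    rw [this]
    exact P.B.inv_mem hc

variable [Fintype G]

open Classical in
/-- the permutation character on `G / P_K`, restricted to `B`, as a sum over the minimal coset
representatives -/
theorem fpc_par_restrict (K : Set P.S) (b : ↥P.B) :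
    Cfsg.fixedPointCharacter (par P K) (b : G) =
      ∑ w ∈ Finset.univ.filter
          (fun w : WG P => ExSys.IsRed (sW P) (ell P) (∅ : Set P.S) K w),
        Cfsg.fixedPointCharacter
          ((P.B ⊓ P.B.map (MulAut.conj ((repN P w : P.N) : G)).toMonoidHom).subgroupOf P.B) b := by
  unfold Cfsg.fixedPointCharacter
  rw [← Nat.cast_sum]
  congr 1
  have hfix : Nat.card (fixedBy (G ⧸ par P K) (b : G)) =
      (Finset.univ.filter (fun y : G ⧸ par P K => (b : G) • y = y)).card := by
    rw [Nat.card_eq_fintype_card, Fintype.card_subtype]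
    rfl
  rw [hfix, Finset.card_eq_sum_card_fiberwise (f := cosetInv P K) (t := Finset.univ)
    (fun _ _ => Finset.mem_coe.2 (Finset.mem_univ _))]
  rw [← Finset.sum_filter_of_ne (p := fun w => ExSys.IsRed (sW P) (ell P) (∅ : Set P.S) K w)]
  · apply Finset.sum_congr rfl
    intro w hw
    rw [Finset.mem_filter] at hw
    have hred : ExSys.IsRed (sW P) (ell P) (∅ : Set P.S) K (proj P (repN P w)) := by
      rw [proj_repN]; exact hw.2
    rw [← stabilizer_eq P K (repN P w) hred, ← card_fixed_orbit, Nat.card_eq_fintype_card,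
      Fintype.card_subtype]
    congr 1
    ext y
    simp only [Finset.mem_filter, Finset.mem_univ, true_and]
    rw [← cosetInv_eq_iff P K (repN P w) hred, proj_repN]
    exact and_comm
  · intro w _ hne
    obtain ⟨y, hy⟩ := Finset.card_ne_zero.1 hne
    rw [Finset.mem_filter] at hy
    rw [← hy.2]
    exact cosetInv_isRed P K y

variable [Fintype P.S]

/-- the Steinberg character restricted to `B` is the permutation character on `B / (B ∩ ⁿB)`,
`n` a representative of the element of full descent -/
theorem stBN_restrict (b : ↥P.B) :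
    stBN P (b : G) = Cfsg.fixedPointCharacter
      ((P.B ⊓ P.B.map (MulAut.conj ((repN P (exSys P).w0 : P.N) : G)).toMonoidHom).subgroupOf P.B)
        b := by
  classical
  unfold stBN
  simp_rw [fpc_par_restrict P _ b]
  exact (exSys P).collapse_right (R := ℂ) (fun w => Cfsg.fixedPointCharacter
    ((P.B ⊓ P.B.map (MulAut.conj ((repN P w : P.N) : G)).toMonoidHom).subgroupOf P.B) b)

end Cfsg.Agent.Lib.Helper14.BNSt
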