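import Mathlib
import Cfsg.Agent.Lib.Helper14.BNSt10

/-!
# The Steinberg character of a finite group with a split `(B, N)`-pair: values on `U`
-/

set_option autoImplicit false
set_option linter.unusedSectionVars false

namespace Cfsg.Agent.Lib.Helper14.BNChar

open Cfsg.Agent.Lib.Helper3 Cfsg.Agent.Lib.Helper8.Weyl Cfsg.Agent.Lib.Helper8.BNCox
open Cfsg.Agent.Lib.Helper14.BNSt

section fpc

/-- the permutation character at an element acting trivially -/
theorem fpc_eq_card_of_forall {Γ : Type*} [Group Γ] (H : Subgroup Γ) (c : Γ)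
    (hc : ∀ x : Γ ⧸ H, c • x = x) : Cfsg.fixedPointCharacter H c = (Nat.card (Γ ⧸ H) : ℂ) := by
  unfold Cfsg.fixedPointCharacter
  congr 1
  apply Nat.card_congr
  exact Equiv.subtypeUnivEquiv (fun x => by rw [MulAction.mem_fixedBy]; exact hc x)

/-- the permutation character at an element without fixed points -/
theorem fpc_eq_zero_of_forall {Γ : Type*} [Group Γ] (H : Subgroup Γ) (c : Γ)
    (hc : ∀ x : Γ ⧸ H, c • x ≠ x) : Cfsg.fixedPointCharacter H c = 0 := by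
  unfold Cfsg.fixedPointCharacter
  have : IsEmpty (MulAction.fixedBy (Γ ⧸ H) c) := ⟨fun x => hc x.1 x.2⟩
  rw [Nat.card_of_isEmpty]
  simp

theorem fpc_one' {Γ : Type*} [Group Γ] (H : Subgroup Γ) :
    Cfsg.fixedPointCharacter H 1 = (Nat.card (Γ ⧸ H) : ℂ) :=
  fpc_eq_card_of_forall H 1 (fun x => one_smul _ x)

theorem smul_mk_eq_iff {Γ : Type*} [Group Γ] (H : Subgroup Γ) (c x : Γ) :
    c • (x : Γ ⧸ H) = (x : Γ ⧸ H) ↔ x⁻¹ * c * x ∈ H := by
  rw [MulAction.Quotient.smul_mk, QuotientGroup.eq]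
  constructor
  · intro h
    have := H.inv_mem h
    have e : ((c • x)⁻¹ * x)⁻¹ = x⁻¹ * c * x := by
      rw [smul_eq_mul]; group
    rwa [e] at this
  · intro h
    have := H.inv_mem h
    have e : (x⁻¹ * c * x)⁻¹ = (c • x)⁻¹ * x := by
      rw [smul_eq_mul]; group
    rwa [e] at this

end fpc

section Restrict

variable {G : Type*} [Group G] (P : Cfsg.BNPair G)

theorem map_conj_eq_of_rel' {n n' : G} (h : BN.Rel P n n') :
    P.B.map (MulAut.conj n).toMonoidHom = P.B.map (MulAut.conj n').toMonoidHom := by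
  have key : ∀ {a a' : G}, BN.Rel P a a' →
      P.B.map (MulAut.conj a).toMonoidHom ≤ P.B.map (MulAut.conj a').toMonoidHom := by
    intro a a' h
    rintro x ⟨y, hy, rfl⟩
    have ht : a⁻¹ * a' ∈ P.B := h
    refine ⟨(a⁻¹ * a')⁻¹ * y * (a⁻¹ * a'), P.B.mul_mem (P.B.mul_mem (P.B.inv_mem ht) hy) ht, ?_⟩
    show a' * ((a⁻¹ * a')⁻¹ * y * (a⁻¹ * a')) * a'⁻¹ = a * y * a⁻¹
    group
  exact le_antisymm (key h) (key h.symm)

variable [hN : (T P).Normal] [Fintype G] [Fintype P.S]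

/-- a transportable form of the restriction formula -/
theorem stBN_restrict'' (n0 : P.N) (hn0 : proj P n0 = (exSys P).w0) (B' H' : Subgroup G)
    (hB : P.B = B') (hH : P.B ⊓ P.B.map (MulAut.conj (n0 : G)).toMonoidHom = H') (b : ↥B') :
    stBN P (b : G) = Cfsg.fixedPointCharacter (H'.subgroupOf B') b := by
  subst hB
  subst hH
  rw [stBN_restrict P b]
  have hrel : BN.Rel P ((repN P (exSys P).w0 : P.N) : G) (n0 : G) := by
    rw [← proj_eq_iff, proj_repN, hn0]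
  rw [map_conj_eq_of_rel' P hrel]

/-- a criterion for an element of `N` to represent the element of full descent -/
theorem proj_eq_w0_of' (n0 : P.N)
    (h : ∀ s ∈ P.S, ∃ a ∈ P.B, s * (a * (n0 : G)) ∈ BN.C P (n0 : G)) :
    proj P n0 = (exSys P).w0 := by
  classical
  apply (exSys P).full_descent_unique _ (exSys P).w0_DL
  intro i
  unfold ExSys.DL
  obtain ⟨a, ha, hmem⟩ := h (i : G) i.2
  have hiN : (i : G) ∈ P.N := P.subset i.2
  have e : sW P i * proj P n0 = proj P ⟨(i : G) * (n0 : G), P.N.mul_mem hiN n0.2⟩ := by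
    rw [← proj_S, ← map_mul]; rfl
  rw [e, ell_proj, ell_proj]
  by_contra hcon
  push Not at hcon
  have h1 : a * (n0 : G) ∈ BN.C P (n0 : G) := BN.mul_left_mem_C P ha (BN.self_mem_C P _)
  have h2 := BN.smul_mem_of_len_le P n0.2 i.2 hcon h1
  have h3 : BN.C P ((i : G) * (n0 : G)) = BN.C P (n0 : G) := by
    rw [← BN.C_eq_of_mem P h2, BN.C_eq_of_mem P hmem]
  exact BN.not_rel_smul P i.2 n0.2 (BN.bruhat_unique P (P.N.mul_mem hiN n0.2) n0.2 h3)

end Restrict

variable {G : Type*} [Group G] [Fintype G] (P : Cfsg.BNPair G) [Fintype P.S]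
variable [hN : (T P).Normal]

/-- the subgroup `B ∩ n₀ B n₀⁻¹` inside `B` -/
def Cw (n0 : P.N) : Subgroup ↥P.B :=
  (P.B ⊓ P.B.map (MulAut.conj (n0 : G)).toMonoidHom).subgroupOf P.B

theorem mem_Cw (n0 : P.N) (x : ↥P.B) :
    x ∈ Cw P n0 ↔ (n0 : G)⁻¹ * (x : G) * (n0 : G) ∈ P.B := by
  unfold Cw
  rw [Subgroup.mem_subgroupOf, Subgroup.mem_inf, Subgroup.mem_map]
  constructor
  · rintro ⟨-, y, hy, e⟩
    rw [← e]
    show (n0 : G)⁻¹ * ((n0 : G) * y * (n0 : G)⁻¹) * (n0 : G) ∈ P.B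
    have : (n0 : G)⁻¹ * ((n0 : G) * y * (n0 : G)⁻¹) * (n0 : G) = y := by group
    rw [this]
    exact hy
  · intro h
    refine ⟨x.2, _, h, ?_⟩
    show (n0 : G) * ((n0 : G)⁻¹ * (x : G) * (n0 : G)) * (n0 : G)⁻¹ = x
    group

theorem stBN_eq_fpc (n0 : P.N) (hn0 : proj P n0 = (exSys P).w0) (b : ↥P.B) :
    stBN P (b : G) = Cfsg.fixedPointCharacter (Cw P n0) b :=
  stBN_restrict'' P n0 hn0 P.B _ rfl rfl b

variable (U : Subgroup G) (n0 : P.N) (hn0 : proj P n0 = (exSys P).w0)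
  (hUB : U ≤ P.B)
  (hUn : ∀ b ∈ P.B, ∀ u ∈ U, b⁻¹ * u * b ∈ U)
  (hUT : ∀ b ∈ P.B, ∃ u ∈ U, ∃ t ∈ P.B ⊓ P.N, b = u * t)
  (hw0 : ∀ u ∈ U, (n0 : G)⁻¹ * u * (n0 : G) ∈ P.B → u = 1)

include hn0 hUB hUn hw0 in
/-- the Steinberg character vanishes on the nontrivial elements of `U` -/
theorem stBN_eq_zero {u : G} (hu : u ∈ U) (hu1 : u ≠ 1) : stBN P u = 0 := by
  have h := stBN_eq_fpc P n0 hn0 ⟨u, hUB hu⟩
  rw [show ((⟨u, hUB hu⟩ : ↥P.B) : G) = u from rfl] at h
  rw [h]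
  apply fpc_eq_zero_of_forall
  intro x hx
  induction x using QuotientGroup.induction_on with
  | H b =>
    rw [smul_mk_eq_iff, mem_Cw] at hx
    have hv : (b : G)⁻¹ * u * (b : G) ∈ U := hUn _ b.2 _ hu
    have h1 := hw0 _ hv (by simpa using hx)
    apply hu1
    have : u = (b : G) * ((b : G)⁻¹ * u * (b : G)) * (b : G)⁻¹ := by group
    rw [this, h1]
    group

include hn0 hUB hUT hw0 in
/-- the degree of the Steinberg character is `|U|` -/
theorem stBN_one : stBN P 1 = (Nat.card ↥U : ℂ) := by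
  have h := stBN_eq_fpc P n0 hn0 1
  rw [Subgroup.coe_one] at h
  rw [h, fpc_one']
  congr 1
  symm
  let f : ↥U → ↥P.B ⧸ Cw P n0 := fun u => ((⟨(u : G), hUB u.2⟩ : ↥P.B) : ↥P.B ⧸ Cw P n0)
  apply Nat.card_congr
  refine Equiv.ofBijective f ⟨?_, ?_⟩
  · intro u v huv
    have h1 : (⟨(u : G), hUB u.2⟩ : ↥P.B)⁻¹ * ⟨(v : G), hUB v.2⟩ ∈ Cw P n0 := QuotientGroup.eq.mp huv
    rw [mem_Cw] at h1
    have h2 : (u : G)⁻¹ * (v : G) ∈ U := U.mul_mem (U.inv_mem u.2) v.2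
    have h3 := hw0 _ h2 (by simpa using h1)
    apply Subtype.ext
    exact inv_mul_eq_one.mp h3
  · intro x
    induction x using QuotientGroup.induction_on with
    | H b =>
      obtain ⟨u, hu, t, ht, e⟩ := hUT _ b.2
      refine ⟨⟨u, hu⟩, ?_⟩
      show ((⟨u, hUB hu⟩ : ↥P.B) : ↥P.B ⧸ Cw P n0) = (b : ↥P.B ⧸ Cw P n0)
      rw [QuotientGroup.eq, mem_Cw]
      have e1 : ((⟨u, hUB hu⟩ : ↥P.B)⁻¹ * b : ↥P.B) = (⟨t, ht.1⟩ : ↥P.B) := by
        apply Subtype.ext
        show u⁻¹ * (b : G) = t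
        rw [e]; group
      rw [e1]
      exact BN.conj_mem' P n0.2 ht.1 ht.2

include hn0 in
/-- the centre acts trivially -/
theorem stBN_center {z : G} (hz : z ∈ Subgroup.center G) : stBN P z = stBN P 1 := by
  have hzB : z ∈ P.B := by
    rw [← BN.parabolic_empty P]
    apply BN.mem_of_conj' P z _ le_sup_left
    intro b hb
    have : z * b * z⁻¹ = b := by
      rw [Subgroup.mem_center_iff] at hz
      rw [← hz b]; group
    rw [this]
    exact (le_sup_left : P.B ≤ P.parabolic ∅) hb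
  have h := stBN_eq_fpc P n0 hn0 ⟨z, hzB⟩
  rw [show ((⟨z, hzB⟩ : ↥P.B) : G) = z from rfl] at h
  have h1 := stBN_eq_fpc P n0 hn0 1
  rw [Subgroup.coe_one] at h1
  rw [h, h1, fpc_one']
  apply fpc_eq_card_of_forall
  intro x
  induction x using QuotientGroup.induction_on with
  | H b =>
    rw [smul_mk_eq_iff, mem_Cw]
    have e : ((b⁻¹ * ⟨z, hzB⟩ * b : ↥P.B) : G) = z := by
      show (b : G)⁻¹ * z * (b : G) = z
      rw [Subgroup.mem_center_iff] at hz
      rw [mul_assoc, ← hz (b : G)]; group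
    rw [e]
    have e2 : (n0 : G)⁻¹ * z * (n0 : G) = z := by
      rw [Subgroup.mem_center_iff] at hz
      rw [mul_assoc, ← hz (n0 : G)]; group
    rw [e2]
    exact hzB

end Cfsg.Agent.Lib.Helper14.BNChar
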