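import Mathlib
import Cfsg.Agent.Lib.Helper14.BNChar1
import Cfsg.Agent.Lib.Helper25.Kernel

/-!
# The unipotent radical of a split `(B, N)`-pair is a Sylow subgroup; the Steinberg character
of the central quotient
-/

set_option autoImplicit false
set_option linter.unusedSectionVars false

namespace Cfsg.Agent.Lib.Helper14.BNChar

open Cfsg.Agent.Lib.Helper3 Cfsg.Agent.Lib.Helper8.BNCox Cfsg.Agent.Lib.Helper14.BNSt

variable {G : Type*} [Group G] [Fintype G] (P : Cfsg.BNPair G)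
variable (p : ℕ) [hp : Fact p.Prime] (U : Subgroup G)
  (hUB : U ≤ P.B)
  (hUn : ∀ b ∈ P.B, ∀ u ∈ U, b⁻¹ * u * b ∈ U)
  (hUT : ∀ b ∈ P.B, ∃ u ∈ U, ∃ t ∈ P.B ⊓ P.N, b = u * t)
  (hUp : IsPGroup p U)
  (hT : ∀ t ∈ P.B ⊓ P.N, ¬ p ∣ orderOf t)
  (hS : ∀ s ∈ P.S, ∃ u ∈ U, s * u * s⁻¹ ∉ P.B)

include hUn in
theorem normal_subgroupOf : (U.subgroupOf P.B).Normal := by
  refine ⟨fun x hx g => ?_⟩
  rw [Subgroup.mem_subgroupOf] at hx ⊢
  have := hUn _ (P.B.inv_mem g.2) _ hx
  simpa using this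

include hUn hUT hT in
/-- every element of `B / U` has order prime to `p` -/
theorem not_dvd_orderOf_quot (hn : (U.subgroupOf P.B).Normal) (x : ↥P.B ⧸ U.subgroupOf P.B) :
    ¬ p ∣ orderOf x := by
  induction x using QuotientGroup.induction_on with
  | H b =>
    obtain ⟨u, hu, t, ht, e⟩ := hUT _ b.2
    have e1 : ((b : ↥P.B) : ↥P.B ⧸ U.subgroupOf P.B) = ((⟨t, ht.1⟩ : ↥P.B) : ↥P.B ⧸ U.subgroupOf P.B) := by
      rw [QuotientGroup.eq, Subgroup.mem_subgroupOf]
      have : ((b⁻¹ * (⟨t, ht.1⟩ : ↥P.B) : ↥P.B) : G) = t⁻¹ * u⁻¹ * t := by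
        show (b : G)⁻¹ * t = t⁻¹ * u⁻¹ * t
        rw [e]; group
      rw [this]
      have := hUn _ ht.1 _ (U.inv_mem hu)
      exact this
    rw [e1]
    intro hdvd
    apply hT t ht
    have h1 : orderOf (((⟨t, ht.1⟩ : ↥P.B) : ↥P.B ⧸ U.subgroupOf P.B)) ∣ orderOf (⟨t, ht.1⟩ : ↥P.B) :=
      orderOf_map_dvd (QuotientGroup.mk' (U.subgroupOf P.B)) _
    have h2 : orderOf (⟨t, ht.1⟩ : ↥P.B) = orderOf t := Subgroup.orderOf_mk t ht.1
    rw [h2] at h1
    exact hdvd.trans h1

include hUn hUT hT in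
/-- `p`-elements of `B` lie in `U` -/
theorem mem_U_of_pow {v : G} (hv : v ∈ P.B) (k : ℕ) (hk : v ^ (p ^ k) = 1) : v ∈ U := by
  have hn := normal_subgroupOf P U hUn
  have h1 := not_dvd_orderOf_quot P p U hUn hUT hT hn ((⟨v, hv⟩ : ↥P.B) : ↥P.B ⧸ U.subgroupOf P.B)
  have h2 : orderOf (((⟨v, hv⟩ : ↥P.B) : ↥P.B ⧸ U.subgroupOf P.B)) ∣ p ^ k := by
    apply orderOf_dvd_of_pow_eq_one
    rw [← QuotientGroup.mk_pow]
    have : (⟨v, hv⟩ : ↥P.B) ^ (p ^ k) = 1 := by
      apply Subtype.ext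
      simpa using hk
    rw [this]
    rfl
  obtain ⟨j, -, hj⟩ := (Nat.dvd_prime_pow hp.out).mp h2
  have hj0 : j = 0 := by
    by_contra hne
    apply h1
    rw [hj]
    exact dvd_pow_self p hne
  rw [hj0, pow_zero, orderOf_eq_one_iff, QuotientGroup.eq_one_iff, Subgroup.mem_subgroupOf] at hj
  exact hj

include hUn hUT hT in
/-- the index of `U` in `B` is prime to `p` -/
theorem not_dvd_relindex : ¬ p ∣ U.relIndex P.B := by
  have hn := normal_subgroupOf P U hUn
  intro hdvd
  have hdvd' : p ∣ Nat.card (↥P.B ⧸ U.subgroupOf P.B) := hdvd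
  obtain ⟨x, hx⟩ := exists_prime_orderOf_dvd_card' p hdvd'
  apply not_dvd_orderOf_quot P p U hUn hUT hT hn x
  rw [hx]

include hUB hUn hUT hUp hT hS in
/-- `B` is the only coset fixed by `U` -/
theorem fixed_coset (g : G) (hg : ∀ u ∈ U, g⁻¹ * u * g ∈ P.B) : g ∈ P.B := by
  classical
  -- conjugation by `g⁻¹` maps `U` into `U`
  have h1 : ∀ u ∈ U, g⁻¹ * u * g ∈ U := by
    intro u hu
    obtain ⟨k, hk⟩ := (IsPGroup.iff_orderOf.mp hUp) ⟨u, hu⟩
    apply mem_U_of_pow P p U hUn hUT hT (hg u hu) k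
    have e : (g⁻¹ * u * g) ^ (p ^ k) = g⁻¹ * u ^ (p ^ k) * g := by
      have := conj_pow (a := g⁻¹) (b := u) (i := p ^ k)
      rw [inv_inv] at this
      exact this
    rw [e]
    have : u ^ (p ^ k) = 1 := by
      have h2 : (⟨u, hu⟩ : ↥U) ^ (p ^ k) = 1 := by
        rw [← hk]; exact pow_orderOf_eq_one _
      have := congrArg Subtype.val h2
      simpa using this
    rw [this]; group
  let φ : ↥U → ↥U := fun u => ⟨g⁻¹ * u * g, h1 _ u.2⟩
  have hφi : Function.Injective φ := by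
    intro a b hab
    have : g⁻¹ * (a : G) * g = g⁻¹ * (b : G) * g := congrArg Subtype.val hab
    apply Subtype.ext
    have h3 := congrArg (fun x => g * x * g⁻¹) this
    simpa [mul_assoc] using h3
  have hφs : Function.Surjective φ := Finite.injective_iff_surjective.mp hφi
  -- `g` normalises `U`
  set M : Subgroup G := Subgroup.normalizer (U : Set G) with hM
  have hgM : g ∈ M := by
    rw [hM, Subgroup.mem_normalizer_iff]
    intro h
    constructor
    · intro hh
      obtain ⟨a, ha⟩ := hφs ⟨h, hh⟩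
      have : g⁻¹ * (a : G) * g = h := congrArg Subtype.val ha
      rw [← this]
      have e : g * (g⁻¹ * (a : G) * g) * g⁻¹ = a := by group
      rw [e]
      exact a.2
    · intro hh
      have := h1 _ hh
      have e : g⁻¹ * (g * h * g⁻¹) * g = h := by group
      rw [e] at this
      exact this
  have hBM : P.B ≤ M := by
    intro b hb
    rw [hM, Subgroup.mem_normalizer_iff]
    intro h
    constructor
    · intro hh
      have := hUn _ (P.B.inv_mem hb) _ hh
      simpa using this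
    · intro hh
      have := hUn _ hb _ hh
      have e : b⁻¹ * (b * h * b⁻¹) * b = h := by group
      rw [e] at this
      exact this
  have hMeq := BN.eq_parabolic_gens P M hBM
  have hgens : BN.gens P M = ∅ := by
    apply Set.eq_empty_of_forall_notMem
    rintro s ⟨hsS, hsM⟩
    obtain ⟨u, hu, hnot⟩ := hS s hsS
    apply hnot
    apply hUB
    rw [hM, Subgroup.mem_normalizer_iff] at hsM
    exact (hsM u).mp hu
  rw [hgens, BN.parabolic_empty] at hMeq
  rw [← hMeq]
  exact hgM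

include hUB hUn hUT hUp hT hS in
/-- the index of `B` is `1` modulo `p` -/
theorem index_B_modEq : P.B.index ≡ 1 [MOD p] := by
  have h := hUp.card_modEq_card_fixedPoints (G ⧸ P.B)
  have h2 : Nat.card (MulAction.fixedPoints ↥U (G ⧸ P.B)) = 1 := by
    rw [Nat.card_eq_one_iff_unique]
    refine ⟨⟨?_⟩, ⟨⟨((1 : G) : G ⧸ P.B), ?_⟩⟩⟩
    · rintro ⟨x, hx⟩ ⟨y, hy⟩
      apply Subtype.ext
      show x = y
      have key : ∀ z : G ⧸ P.B, z ∈ MulAction.fixedPoints ↥U (G ⧸ P.B) → z = ((1 : G) : G ⧸ P.B) := by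
        intro z hz
        induction z using QuotientGroup.induction_on with
        | H g =>
          have hgB : g ∈ P.B := by
            apply fixed_coset P p U hUB hUn hUT hUp hT hS g
            intro u hu
            have := hz ⟨u, hu⟩
            have this' : u • (g : G ⧸ P.B) = (g : G ⧸ P.B) := this
            exact (smul_mk_eq_iff P.B u g).mp this'
          rw [eq_comm, QuotientGroup.eq]
          simpa using hgB
      rw [key x hx, key y hy]
    · intro u
      show (u : G) • (((1 : G) : G ⧸ P.B)) = (((1 : G) : G ⧸ P.B))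
      rw [smul_mk_eq_iff]
      simpa using hUB u.2
  rw [h2] at h
  exact h

include hUB hUn hUT hUp hT hS in
/-- the index of `U` is prime to `p` -/
theorem not_dvd_index : ¬ p ∣ U.index := by
  rw [← Subgroup.relIndex_mul_index hUB]
  intro hdvd
  rcases (Nat.Prime.dvd_mul hp.out).mp hdvd with h | h
  · exact not_dvd_relindex P p U hUn hUT hT h
  · have h1 := index_B_modEq P p U hUB hUn hUT hUp hT hS
    have h2 : P.B.index % p = 0 := Nat.mod_eq_zero_of_dvd h
    have h3 : P.B.index % p = 1 % p := h1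
    rw [h2, Nat.mod_eq_of_lt hp.out.one_lt] at h3
    exact absurd h3 (by norm_num)

end Cfsg.Agent.Lib.Helper14.BNChar
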