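import Mathlib
import Cfsg.Agent.Lib.Helper14.BNChar2
import Cfsg.Agent.Lib.Helper14.BNSt6

/-!
# The Steinberg character of the central quotient of a finite group with a split `(B, N)`-pair
-/

set_option autoImplicit false
set_option linter.unusedSectionVars false

namespace Cfsg.Agent.Lib.Helper14.BNChar

open Cfsg.Agent.Lib.Helper3 Cfsg.Agent.Lib.Helper8.BNCox Cfsg.Agent.Lib.Helper14.BNSt

/-- irreducible characters are class functions -/
theorem isIrr_conj {Γ : Type*} [Group Γ] {χ : Γ → ℂ} (h : Cfsg.IsIrrCharacter Γ χ) (g x : Γ) :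
    χ (x * g * x⁻¹) = χ g := by
  obtain ⟨n, ρ, -, rfl⟩ := h
  exact ρ.char_conj g x

variable {G : Type*} [Group G] [Fintype G] (P : Cfsg.BNPair G) [Fintype P.S]

/-- **The Steinberg character of the central quotient.**  Let `G` be a finite group with a
`(B, N)`-pair, `U` a normal `p`-subgroup of `B` with `B = U (B ∩ N)`, `B ∩ N` a `p'`-group,
`U ∩ n₀ B n₀⁻¹ = 1` for a representative `n₀` of the longest element, and no `s ∈ S` normalising
`U`.  Then `G / Z(G)` has an irreducible character of degree the order of a Sylow `p`-subgroup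
vanishing on its nontrivial elements. -/
theorem exists_steinberg_quotient (p : ℕ) [hp : Fact p.Prime] (U : Subgroup G)
    (hUB : U ≤ P.B)
    (hUn : ∀ b ∈ P.B, ∀ u ∈ U, b⁻¹ * u * b ∈ U)
    (hUT : ∀ b ∈ P.B, ∃ u ∈ U, ∃ t ∈ P.B ⊓ P.N, b = u * t)
    (hUp : IsPGroup p U)
    (hT : ∀ t ∈ P.B ⊓ P.N, ¬ p ∣ orderOf t)
    (hS : ∀ s ∈ P.S, ∃ u ∈ U, s * u * s⁻¹ ∉ P.B)
    (hw : ∃ n0 : P.N, (∀ s ∈ P.S, ∃ a ∈ P.B, s * (a * (n0 : G)) ∈ BN.C P (n0 : G)) ∧
      ∀ u ∈ U, (n0 : G)⁻¹ * u * (n0 : G) ∈ P.B → u = 1) :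
    ∃ χ : G ⧸ Subgroup.center G → ℂ, Cfsg.IsIrrCharacter (G ⧸ Subgroup.center G) χ ∧
      ∀ Q : Sylow p (G ⧸ Subgroup.center G), χ 1 = Nat.card Q ∧
        ∀ x : G ⧸ Subgroup.center G, x ∈ Q → x ≠ 1 → χ x = 0 := by
  classical
  have hN := tNormal P
  obtain ⟨n0, hcrit, hw0⟩ := hw
  have hn0 := proj_eq_w0_of' P n0 hcrit
  have hirr := isIrr_stBN P
  obtain ⟨ψ, hψ, hψe⟩ := Cfsg.Agent.Lib.Helper25.exists_deflation (Subgroup.center G) hirr
    (fun z hz => stBN_center P n0 hn0 hz)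
  have hsurj : Function.Surjective (QuotientGroup.mk' (Subgroup.center G)) :=
    QuotientGroup.mk'_surjective _
  set Ub : Subgroup (G ⧸ Subgroup.center G) := U.map (QuotientGroup.mk' (Subgroup.center G)) with hUb
  have hUbp : IsPGroup p Ub := hUp.map _
  have hidx : ¬ p ∣ Ub.index := fun h =>
    not_dvd_index P p U hUB hUn hUT hUp hT hS (h.trans (Subgroup.index_map_dvd U hsurj))
  have hcard : Nat.card ↥Ub = Nat.card ↥U := by
    symm
    apply Nat.card_congr
    refine Equiv.ofBijective (fun u : ↥U => (⟨QuotientGroup.mk' (Subgroup.center G) (u : G),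
      Subgroup.mem_map_of_mem _ u.2⟩ : ↥Ub)) ⟨?_, ?_⟩
    · intro a b hab
      have h1 : QuotientGroup.mk' (Subgroup.center G) (a : G) =
          QuotientGroup.mk' (Subgroup.center G) (b : G) := congrArg Subtype.val hab
      have h2 : (a : G)⁻¹ * (b : G) ∈ Subgroup.center G := QuotientGroup.eq.mp h1
      have h3 : (a : G)⁻¹ * (b : G) ∈ U := U.mul_mem (U.inv_mem a.2) b.2
      have h4 : (n0 : G)⁻¹ * ((a : G)⁻¹ * (b : G)) * (n0 : G) = (a : G)⁻¹ * (b : G) := by
        rw [Subgroup.mem_center_iff] at h2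
        rw [mul_assoc, ← h2 (n0 : G)]; group
      have h5 := hw0 _ h3 (by rw [h4]; exact hUB h3)
      apply Subtype.ext
      exact inv_mul_eq_one.mp h5
    · rintro ⟨x, hx⟩
      obtain ⟨u, hu, rfl⟩ := hx
      exact ⟨⟨u, hu⟩, rfl⟩
  let S0 : Sylow p (G ⧸ Subgroup.center G) := hUbp.toSylow hidx
  have hS0 : ∀ y, y ∈ S0 ↔ y ∈ Ub := fun y => IsPGroup.mem_toSylow hUbp hidx
  have hcardS0 : Nat.card ↥S0 = Nat.card ↥U := by
    rw [← hcard]
    apply Nat.card_congr
    exact Equiv.subtypeEquivRight hS0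
  refine ⟨ψ, hψ, fun Q => ⟨?_, ?_⟩⟩
  · have h1 := hψe 1
    rw [stBN_one P U n0 hn0 hUB hUT hw0] at h1
    have h2 : ((1 : G) : G ⧸ Subgroup.center G) = 1 := rfl
    rw [h2] at h1
    rw [← h1, ← hcardS0]
    have a := Sylow.card_eq_multiplicity S0
    have b := Sylow.card_eq_multiplicity Q
    congr 1
    exact a.trans b.symm
  · intro x hxQ hx1
    obtain ⟨g, hg⟩ := MulAction.exists_smul_eq (G ⧸ Subgroup.center G) S0 Q
    have hxQ' : x ∈ (Q : Subgroup (G ⧸ Subgroup.center G)) := hxQ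
    rw [← hg, Sylow.coe_subgroup_smul, Subgroup.mem_pointwise_smul_iff_inv_smul_mem] at hxQ'
    have e : (MulAut.conj g)⁻¹ • x = g⁻¹ * x * g := by
      rw [MulAut.smul_def, ← map_inv, MulAut.conj_apply, inv_inv]
    rw [e] at hxQ'
    have hxU : g⁻¹ * x * g ∈ Ub := (hS0 _).mp hxQ'
    obtain ⟨u, hu, hue⟩ := hxU
    have hu1 : u ≠ 1 := by
      rintro rfl
      apply hx1
      rw [map_one] at hue
      have : x = g * (g⁻¹ * x * g) * g⁻¹ := by group
      rw [this, ← hue]; group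
    have h1 : ψ x = ψ (g⁻¹ * x * g) := by
      have := isIrr_conj hψ x g⁻¹
      rw [inv_inv] at this
      exact this.symm
    rw [h1, ← hue]
    have h2 := hψe u
    have h3 : ((u : G) : G ⧸ Subgroup.center G) = QuotientGroup.mk' (Subgroup.center G) u := rfl
    rw [h3] at h2
    rw [← h2]
    exact stBN_eq_zero P U n0 hn0 hUB hUn hw0 hu hu1

end Cfsg.Agent.Lib.Helper14.BNChar
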