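import Mathlib

/-!
# Monomial and triangular matrices

`IsMono A π`: column `j` of `A` is supported in row `π j`.  Conjugation of a matrix by a monomial
matrix, triangular monomial matrices are diagonal, unitriangular matrices in characteristic `p` have
`p`-power order, diagonal matrices over a finite field have order prime to `p`.
-/

set_option autoImplicit false

namespace Cfsg.Agent.Lib.Helper14.TriMono

open Matrix

variable {ι : Type*} [Fintype ι] [DecidableEq ι] {F : Type*} [Field F]

/-- monomial with respect to a permutation: column `j` is supported in row `π j` -/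
def IsMono (A : Matrix ι ι F) (π : Equiv.Perm ι) : Prop := ∀ i j, i ≠ π j → A i j = 0

theorem isMono_one : IsMono (1 : Matrix ι ι F) 1 := by
  intro i j hij
  exact Matrix.one_apply_ne (by simpa using hij)

theorem IsMono.mul {A A' : Matrix ι ι F} {π π' : Equiv.Perm ι} (h : IsMono A π)
    (h' : IsMono A' π') : IsMono (A * A') (π * π') := by
  intro i j hij
  rw [Matrix.mul_apply]
  apply Finset.sum_eq_zero
  intro k _
  by_cases hk : k = π' j
  · subst hk
    rw [h i (π' j) (by simpa using hij), zero_mul]
  · rw [h' k j hk, mul_zero]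

theorem IsMono.mul_apply_eq {A : Matrix ι ι F} {π : Equiv.Perm ι} (h : IsMono A π)
    (A' : Matrix ι ι F) (j k : ι) : (A' * A) j k = A' j (π k) * A (π k) k := by
  rw [Matrix.mul_apply]
  apply Finset.sum_eq_single (π k)
  · intro b _ hb
    rw [h b k hb, mul_zero]
  · intro h
    exact absurd (Finset.mem_univ _) h

theorem IsMono.entry {A A' : Matrix ι ι F} {π : Equiv.Perm ι} (h : IsMono A π)
    (hinv : A' * A = 1) (k : ι) : A' k (π k) * A (π k) k = 1 := by
  have := congrFun (congrFun hinv k) k
  rwa [h.mul_apply_eq, Matrix.one_apply_eq] at this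

theorem IsMono.entry_ne_zero {A A' : Matrix ι ι F} {π : Equiv.Perm ι} (h : IsMono A π)
    (hinv : A' * A = 1) (k : ι) : A (π k) k ≠ 0 :=
  right_ne_zero_of_mul (by rw [h.entry hinv k]; exact one_ne_zero)

theorem IsMono.inv {A A' : Matrix ι ι F} {π : Equiv.Perm ι} (h : IsMono A π)
    (hinv : A' * A = 1) : IsMono A' π⁻¹ := by
  intro j a hja
  have hjk : j ≠ π⁻¹ a := hja
  have h1 := congrFun (congrFun hinv j) (π⁻¹ a)
  rw [h.mul_apply_eq, Matrix.one_apply_ne hjk] at h1
  have h2 := h.entry_ne_zero hinv (π⁻¹ a)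
  have h3 : π (π⁻¹ a) = a := by simp
  rw [h3] at h1 h2
  exact (mul_eq_zero.mp h1).resolve_right h2

/-- entries of a conjugate by a monomial matrix -/
theorem IsMono.conj_entry {A A' : Matrix ι ι F} {π : Equiv.Perm ι} (h : IsMono A π)
    (hinv : A' * A = 1) (X : Matrix ι ι F) (j k : ι) :
    (A' * X * A) j k = A' j (π j) * X (π j) (π k) * A (π k) k := by
  rw [h.mul_apply_eq]
  congr 1
  rw [Matrix.mul_apply]
  apply Finset.sum_eq_single (π j)
  · intro b _ hb
    have : j ≠ π⁻¹ b := by
      intro hj
      apply hb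
      rw [hj]
      simp
    rw [h.inv hinv j b this, zero_mul]
  · intro h
    exact absurd (Finset.mem_univ _) h

theorem IsMono.unique {A A' : Matrix ι ι F} {π π' : Equiv.Perm ι} (h : IsMono A π)
    (h' : IsMono A π') (hinv : A' * A = 1) : π = π' := by
  ext k
  by_contra hne
  exact h.entry_ne_zero hinv k (h' (π k) k hne)

section Tri

variable (ρ : ι → ℕ)

theorem blockTriangular_of_isMono_one {A : Matrix ι ι F} (h : IsMono A 1) :
    A.BlockTriangular ρ := by
  intro i j hij
  apply h
  intro hij'
  rw [Equiv.Perm.one_apply] at hij'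
  rw [hij'] at hij
  exact lt_irrefl _ hij

theorem IsMono.eq_one_of_blockTriangular {A A' : Matrix ι ι F} {π : Equiv.Perm ι}
    (hρ : Function.Injective ρ) (h : IsMono A π) (hinv : A' * A = 1)
    (hA : A.BlockTriangular ρ) : π = 1 := by
  have hle : ∀ k, ρ (π k) ≤ ρ k := by
    intro k
    by_contra hlt
    push Not at hlt
    exact h.entry_ne_zero hinv k (hA hlt)
  have hsum : ∑ k, ρ (π k) = ∑ k, ρ k := Equiv.sum_comp π ρ
  have heq := (Finset.sum_eq_sum_iff_of_le (fun k _ => hle k)).mp hsum
  ext k
  exact hρ (heq k (Finset.mem_univ k))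

/-- conjugation by a monomial matrix: a sufficient condition for triangularity -/
theorem IsMono.blockTriangular_conj {A A' : Matrix ι ι F} {π : Equiv.Perm ι} (h : IsMono A π)
    (hinv : A' * A = 1) {X : Matrix ι ι F}
    (hX : ∀ j k, ρ k < ρ j → X (π j) (π k) = 0) : (A' * X * A).BlockTriangular ρ := by
  intro j k hjk
  rw [h.conj_entry hinv, hX j k hjk, mul_zero, zero_mul]

end Tri

end Cfsg.Agent.Lib.Helper14.TriMono
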