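import Mathlib
import Cfsg.Agent.Lib.Helper14.TriMono1

/-!
# Unitriangular matrices have `p`-power order, diagonal matrices have order dividing `q - 1`
-/

set_option autoImplicit false
set_option linter.unusedSectionVars false

namespace Cfsg.Agent.Lib.Helper14.TriMono

open Matrix

variable {ι : Type*} [Fintype ι] [DecidableEq ι] {F : Type*} [Field F]

section Tri

variable (ρ : ι → ℕ)

/-- the diagonal of a product of triangular matrices -/
theorem mul_diag_of_blockTriangular (hρ : Function.Injective ρ) {A B : Matrix ι ι F}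
    (hA : A.BlockTriangular ρ) (hB : B.BlockTriangular ρ) (i : ι) :
    (A * B) i i = A i i * B i i := by
  rw [Matrix.mul_apply]
  apply Finset.sum_eq_single i
  · intro j _ hji
    rcases lt_or_gt_of_ne (fun h => hji (hρ h)) with h | h
    · rw [hA h, zero_mul]
    · rw [hB h, mul_zero]
  · intro h
    exact absurd (Finset.mem_univ _) h

/-- powers of a strictly triangular matrix -/
theorem strict_pow {N : Matrix ι ι F} (hN : ∀ i j, N i j ≠ 0 → ρ i < ρ j) (k : ℕ) :
    ∀ i j, (N ^ k) i j ≠ 0 → ρ i + k ≤ ρ j := by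
  induction k with
  | zero =>
    intro i j h
    rw [pow_zero] at h
    have : i = j := by
      by_contra hne
      exact h (Matrix.one_apply_ne hne)
    rw [this]
    exact le_refl _
  | succ k ih =>
    intro i j h
    rw [pow_succ, Matrix.mul_apply] at h
    obtain ⟨l, -, hl⟩ := Finset.exists_ne_zero_of_sum_ne_zero h
    have h1 := ih i l (left_ne_zero_of_mul hl)
    have h2 := hN l j (right_ne_zero_of_mul hl)
    omega

theorem strict_pow_eq_zero {N : Matrix ι ι F} (hN : ∀ i j, N i j ≠ 0 → ρ i < ρ j) (R : ℕ)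
    (hR : ∀ i, ρ i < R) : N ^ R = 0 := by
  ext i j
  by_contra h
  have h1 := strict_pow ρ hN R i j h
  have h2 := hR j
  omega

/-- a unitriangular matrix in characteristic `p` has `p`-power order -/
theorem unitri_pow_eq_one (hρ : Function.Injective ρ) (p : ℕ) [Fact p.Prime] [CharP F p]
    {A : Matrix ι ι F} (hA : A.BlockTriangular ρ) (hd : ∀ i, A i i = 1) :
    ∃ k : ℕ, A ^ (p ^ k) = 1 := by
  have hp : p.Prime := Fact.out
  obtain ⟨R, hR⟩ : ∃ R : ℕ, ∀ i, ρ i < R := by
    refine ⟨(Finset.univ.sup ρ) + 1, fun i => ?_⟩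
    exact Nat.lt_succ_of_le (Finset.le_sup (f := ρ) (Finset.mem_univ i))
  set N : Matrix ι ι F := A - 1 with hNdef
  have hN : ∀ i j, N i j ≠ 0 → ρ i < ρ j := by
    intro i j h
    by_contra hle
    push Not at hle
    apply h
    rcases eq_or_lt_of_le hle with h1 | h1
    · have : j = i := hρ h1
      subst this
      rw [hNdef, Matrix.sub_apply, hd, Matrix.one_apply_eq, sub_self]
    · rw [hNdef, Matrix.sub_apply, hA h1, Matrix.one_apply_ne, sub_zero]
      rintro rfl
      exact lt_irrefl _ h1
  obtain ⟨k, hk⟩ : ∃ k : ℕ, R ≤ p ^ k := ⟨R, (Nat.lt_pow_self hp.one_lt).le⟩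
  refine ⟨k, ?_⟩
  have hA' : A = N + 1 := by rw [hNdef]; abel
  have hcomm : Commute N 1 := Commute.one_right N
  have : CharP (Matrix ι ι F) p ∨ IsEmpty ι := by
    by_cases hne : Nonempty ι
    · left; infer_instance
    · right; exact not_nonempty_iff.mp hne
  rcases this with hch | hemp
  · rw [hA', add_pow_char_pow_of_commute (p := p) (n := k) hcomm, one_pow]
    have : N ^ (p ^ k) = 0 := by
      have e : p ^ k = R + (p ^ k - R) := by omega
      rw [e, pow_add, strict_pow_eq_zero ρ hN R hR, zero_mul]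
    rw [this, zero_add]
  · ext i
    exact (hemp.false i).elim

end Tri

/-- powers of a diagonal matrix -/
theorem IsMono.pow_one {A : Matrix ι ι F} (h : IsMono A 1) (k : ℕ) :
    IsMono (A ^ k) 1 ∧ ∀ i, (A ^ k) i i = (A i i) ^ k := by
  induction k with
  | zero =>
    refine ⟨by rw [pow_zero]; exact isMono_one, fun i => ?_⟩
    rw [pow_zero, pow_zero, Matrix.one_apply_eq]
  | succ k ih =>
    refine ⟨?_, fun i => ?_⟩
    · rw [pow_succ]
      have := ih.1.mul h
      rwa [mul_one] at this
    · rw [pow_succ, h.mul_apply_eq, Equiv.Perm.one_apply, ih.2, pow_succ]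

/-- an invertible diagonal matrix over a finite field has order dividing `q - 1` -/
theorem IsMono.pow_card_sub_one [Fintype F] {A A' : Matrix ι ι F} (h : IsMono A 1)
    (hinv : A' * A = 1) : A ^ (Fintype.card F - 1) = 1 := by
  obtain ⟨h1, h2⟩ := h.pow_one (Fintype.card F - 1)
  ext i j
  by_cases hij : i = j
  · subst hij
    rw [h2, Matrix.one_apply_eq]
    have hne : A i i ≠ 0 := by
      have := h.entry_ne_zero hinv i
      rwa [Equiv.Perm.one_apply] at this
    exact FiniteField.pow_card_sub_one_eq_one _ hne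
  · rw [Matrix.one_apply_ne hij]
    exact h1 i j (by rwa [Equiv.Perm.one_apply])

end Cfsg.Agent.Lib.Helper14.TriMono
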