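import Mathlib
import Cfsg.Agent.Lib.Helper14.MatBN1
import Cfsg.Agent.Lib.Helper14.TriMono2
import Cfsg.Agent.Lib.Helper14.BNChar3

/-!
# The Steinberg character of a matrix group with rank one data
-/

set_option autoImplicit false
set_option linter.unusedSectionVars false

namespace Cfsg.Agent.Lib.Helper14.MatBN

open Matrix Cfsg.Agent.Lib.Helper14.TriMono
open Cfsg.Agent.Lib.Helper3 Cfsg.Agent.Lib.Helper8.BNCox Cfsg.Agent.Lib.Helper14.BNSt

variable {G : Type*} [Group G] {ι : Type*} [Fintype ι] [DecidableEq ι] {F : Type*} [Field F]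
  {K : Type*}

/-- a map reversing adjacent pairs reverses all pairs -/
theorem reverse_of_adj (ρ : ι → ℕ) (τ : ι → ι)
    (hconn : ∀ u v, ρ u < ρ v → ∃ w, ρ w = ρ u + 1)
    (h : ∀ u v, ρ v = ρ u + 1 → ρ (τ v) < ρ (τ u)) :
    ∀ u v, ρ u < ρ v → ρ (τ v) < ρ (τ u) := by
  have key : ∀ d : ℕ, ∀ u v, ρ v = ρ u + d + 1 → ρ (τ v) < ρ (τ u) := by
    intro d
    induction d with
    | zero =>
      intro u v huv
      exact h u v (by omega)
    | succ d ih =>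
      intro u v huv
      obtain ⟨w, hw⟩ := hconn u v (by omega)
      have h1 := h u w hw
      have h2 := ih w v (by omega)
      exact h2.trans h1
  intro u v huv
  exact key (ρ v - ρ u - 1) u v (by omega)

namespace Setup

variable (D : Setup G ι F K)

/-- the unitriangular subgroup -/
def Uu : Subgroup G where
  carrier := {g | (D.mat g).BlockTriangular D.ρ ∧ ∀ i, D.mat g i i = 1}
  mul_mem' := by
    rintro a b ⟨ha, ha1⟩ ⟨hb, hb1⟩
    refine ⟨D.Bor.mul_mem ha hb, fun i => ?_⟩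
    rw [map_mul, mul_diag_of_blockTriangular D.ρ D.ρ_inj ha hb, ha1, hb1, mul_one]
  one_mem' := by
    refine ⟨D.Bor.one_mem, fun i => ?_⟩
    rw [map_one, Matrix.one_apply_eq]
  inv_mem' := by
    rintro a ⟨ha, ha1⟩
    have hinv : a⁻¹ ∈ D.Bor := D.Bor.inv_mem ha
    refine ⟨hinv, fun i => ?_⟩
    have h1 := mul_diag_of_blockTriangular D.ρ D.ρ_inj hinv ha i
    rw [D.mat_inv_mul, Matrix.one_apply_eq, ha1, mul_one] at h1
    exact h1.symm

theorem mem_Uu (g : G) : g ∈ D.Uu ↔ (D.mat g).BlockTriangular D.ρ ∧ ∀ i, D.mat g i i = 1 :=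
  Iff.rfl

theorem Uu_le_Bor : D.Uu ≤ D.Bor := fun _ h => h.1

theorem X_sub_Uu (k : K) {x : G} (hx : x ∈ D.X k) : x ∈ D.Uu :=
  ⟨D.X_upper k x hx, D.X_diag k x hx⟩

theorem Uu_conj {b u : G} (hb : b ∈ D.Bor) (hu : u ∈ D.Uu) : b⁻¹ * u * b ∈ D.Uu := by
  have hinv : b⁻¹ ∈ D.Bor := D.Bor.inv_mem hb
  refine ⟨D.Bor.mul_mem (D.Bor.mul_mem hinv hu.1) hb, fun i => ?_⟩
  rw [map_mul, mul_diag_of_blockTriangular D.ρ D.ρ_inj (D.Bor.mul_mem hinv hu.1) hb, map_mul,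
    mul_diag_of_blockTriangular D.ρ D.ρ_inj hinv hu.1, hu.2, mul_one,
    ← mul_diag_of_blockTriangular D.ρ D.ρ_inj hinv hb, D.mat_inv_mul, Matrix.one_apply_eq]

theorem Uu_isPGroup (p : ℕ) [Fact p.Prime] [CharP F p] : IsPGroup p D.Uu := by
  rintro ⟨u, hu⟩
  obtain ⟨k, hk⟩ := unitri_pow_eq_one D.ρ D.ρ_inj p hu.1 hu.2
  refine ⟨k, ?_⟩
  apply Subtype.ext
  apply D.mat_inj
  show D.mat (u ^ (p ^ k)) = D.mat 1
  rw [map_pow, hk, map_one]

theorem Hd_pow [Fintype F] {t : G} (ht : t ∈ D.Hd) : t ^ (Fintype.card F - 1) = 1 := by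
  apply D.mat_inj
  rw [map_pow, map_one]
  exact IsMono.pow_card_sub_one ht (D.mat_inv_mul t)

theorem Hd_not_dvd [Fintype F] (p : ℕ) [hp : Fact p.Prime] [CharP F p] {t : G} (ht : t ∈ D.Hd) :
    ¬ p ∣ orderOf t := by
  intro hdvd
  have h1 : orderOf t ∣ Fintype.card F - 1 := orderOf_dvd_of_pow_eq_one (D.Hd_pow ht)
  have h2 : p ∣ Fintype.card F - 1 := hdvd.trans h1
  obtain ⟨n, hn⟩ := FiniteField.card F p
  have hpq : p ∣ Fintype.card F := by
    rw [hn.2]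
    exact dvd_pow_self p n.pos.ne'
  have h4 : p ∣ 1 := (Nat.dvd_sub_iff_right Fintype.card_pos hpq).mp h2
  exact hp.out.one_lt.ne' (Nat.dvd_one.mp h4)

/-- `B = U H` -/
theorem Bor_eq_mul (hdiag : ∀ b ∈ D.Bor, ∃ h : G, D.mat h = Matrix.diagonal (fun i => D.mat b i i))
    {b : G} (hb : b ∈ D.Bor) : ∃ u ∈ D.Uu, ∃ t ∈ D.Hd, b = u * t := by
  obtain ⟨h, hh⟩ := hdiag b hb
  have hH : h ∈ D.Hd := by
    rw [mem_Hd, hh]
    intro i j hij
    rw [Equiv.Perm.one_apply] at hij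
    exact Matrix.diagonal_apply_ne _ hij
  have hinvB : h⁻¹ ∈ D.Bor := D.Bor.inv_mem (D.Hd_le_Bor hH)
  refine ⟨b * h⁻¹, ⟨D.Bor.mul_mem hb hinvB, fun i => ?_⟩, h, hH, by group⟩
  rw [map_mul, mul_diag_of_blockTriangular D.ρ D.ρ_inj hb hinvB]
  have h1 := mul_diag_of_blockTriangular D.ρ D.ρ_inj (D.Hd_le_Bor hH) hinvB i
  rw [D.mat_mul_inv, Matrix.one_apply_eq, hh, Matrix.diagonal_apply_eq] at h1
  exact h1.symm

/-- no reflection normalises `U` -/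
theorem exists_conj_not_mem (k : K) : ∃ u ∈ D.Uu, D.s k * u * (D.s k)⁻¹ ∉ D.Bor := by
  obtain ⟨x, hx, hx1⟩ := D.X_ne k
  refine ⟨x, D.X_sub_Uu k hx, fun h2 => ?_⟩
  rcases D.condC k x hx with h | ⟨b₁, hb₁, x₁, hx₁, e⟩
  · exact hx1 h
  · apply D.s_not_mem_Bor k
    rw [e] at h2
    have h3 : D.s k = b₁⁻¹ * (b₁ * D.s k * x₁) * x₁⁻¹ := by group
    rw [h3]
    exact D.Bor.mul_mem (D.Bor.mul_mem (D.Bor.inv_mem hb₁) h2)
      (D.Bor.inv_mem (D.X_sub_Bor k hx₁))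

/-- a unitriangular matrix whose conjugate by an order reversing monomial matrix is triangular
is the identity -/
theorem eq_one_of_reverse {n u : G} {σ : Equiv.Perm ι} (hn : IsMono (D.mat n) σ)
    (hrev : ∀ a b, D.ρ a < D.ρ b → D.ρ (σ⁻¹ b) < D.ρ (σ⁻¹ a))
    (hu : u ∈ D.Uu) (h : n⁻¹ * u * n ∈ D.Bor) : u = 1 := by
  apply D.mat_inj
  rw [map_one]
  rw [mem_Bor, map_mul, map_mul] at h
  ext a b
  by_cases hab : a = b
  · subst hab
    rw [hu.2, Matrix.one_apply_eq]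
  · rw [Matrix.one_apply_ne hab]
    rcases lt_or_gt_of_ne (fun e => hab (D.ρ_inj e)) with hlt | hlt
    · have h1 := h (hrev a b hlt)
      rw [hn.conj_entry (D.mat_inv_mul n)] at h1
      have e1 : σ (σ⁻¹ a) = a := by simp
      have e2 : σ (σ⁻¹ b) = b := by simp
      rw [e1, e2] at h1
      have h2 : D.mat n b (σ⁻¹ b) ≠ 0 := by
        have := hn.entry_ne_zero (D.mat_inv_mul n) (σ⁻¹ b)
        rwa [e2] at this
      have h3 : D.mat n⁻¹ (σ⁻¹ a) a ≠ 0 := by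
        have := hn.entry (D.mat_inv_mul n) (σ⁻¹ a)
        rw [e1] at this
        exact left_ne_zero_of_mul (by rw [this]; exact one_ne_zero)
      rcases mul_eq_zero.mp h1 with h4 | h4
      · rcases mul_eq_zero.mp h4 with h5 | h5
        · exact absurd h5 h3
        · exact h5
      · exact absurd h4 h2
    · exact hu.1 hlt

variable [Fintype G]

/-- a representative of the longest element and its properties -/
theorem exists_w0 (hgen : D.Bor ⊔ D.Nn = ⊤)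
    (hadj : ∀ u v, D.ρ v = D.ρ u + 1 → ∃ k, InPi D.ρ (D.π k) u v)
    (hconn : ∀ u v, D.ρ u < D.ρ v → ∃ w, D.ρ w = D.ρ u + 1) :
    ∃ n0 : (D.bn hgen).N,
      (∀ s ∈ (D.bn hgen).S, ∃ a ∈ (D.bn hgen).B, s * (a * (n0 : G)) ∈ BN.C (D.bn hgen) (n0 : G)) ∧
      ∀ u ∈ D.Uu, (n0 : G)⁻¹ * u * (n0 : G) ∈ (D.bn hgen).B → u = 1 := by
  classical
  set P := D.bn hgen with hP
  have hN := tNormal P
  have : Fintype P.S := Fintype.ofFinite _
  set n0 : P.N := repN P (exSys P).w0 with hn0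
  have hcrit : ∀ s ∈ P.S, ∃ a ∈ P.B, s * (a * (n0 : G)) ∈ BN.C P (n0 : G) := by
    intro s hs
    have hsN : s ∈ P.N := P.subset hs
    have hdl := (exSys P).w0_DL ⟨s, hs⟩
    unfold ExSys.DL at hdl
    have e : sW P ⟨s, hs⟩ * (exSys P).w0 = proj P ⟨s * (n0 : G), P.N.mul_mem hsN n0.2⟩ := by
      rw [← proj_repN P (exSys P).w0, ← proj_S, ← map_mul]
      rfl
    rw [e, ← proj_repN P (exSys P).w0, ell_proj, ell_proj] at hdl
    have hrel : BN.Rel P (n0 : G) (s * (s * (n0 : G))) := (BN.rel_sq_mul P hs n0.2).symm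
    obtain ⟨g, hg, b, hb, hmem⟩ := BN.exists_smul_mem_of_reduction P n0.2 hs
      (P.N.mul_mem hsN n0.2) hrel hdl
    obtain ⟨b1, hb1, b2, hb2, rfl⟩ := (BN.mem_C P).mp hg
    refine ⟨b * b1, P.B.mul_mem hb hb1, ?_⟩
    have := BN.mul_right_mem_C P (P.B.inv_mem hb2) hmem
    have e2 : s * b * (b1 * (n0 : G) * b2) * b2⁻¹ = s * (b * b1 * (n0 : G)) := by group
    rw [e2] at this
    exact this
  refine ⟨n0, hcrit, ?_⟩
  obtain ⟨σ, hσW, hσ⟩ := D.Nn_le_Mon n0.2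
  have hrevk : ∀ k, ∀ u v, InPi D.ρ (D.π k) u v → D.ρ (σ⁻¹ v) < D.ρ (σ⁻¹ u) := by
    intro k
    rcases D.orient σ⁻¹ (D.W.inv_mem hσW) k with h | h
    · exfalso
      have h1 := D.conj_mem_of_orient hσ k h
      have hs : D.s k ∈ P.S := ⟨k, rfl⟩
      have hsN : D.s k ∈ P.N := P.subset hs
      obtain ⟨a, ha, hmem⟩ := hcrit (D.s k) hs
      have h2 := mul_mem_of_case1 D.Bor (D.s k) (n0 : G) (D.X k) (D.condA k) h1 a ha
      rw [mul_assoc] at h2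
      have h3 : BN.C P (D.s k * (n0 : G)) = BN.C P (n0 : G) := by
        rw [← BN.C_eq_of_mem P h2, BN.C_eq_of_mem P hmem]
      exact BN.not_rel_smul P hs n0.2 (BN.bruhat_unique P (P.N.mul_mem hsN n0.2) n0.2 h3)
    · exact h
  have hrev : ∀ a b, D.ρ a < D.ρ b → D.ρ (σ⁻¹ b) < D.ρ (σ⁻¹ a) := by
    apply reverse_of_adj D.ρ (fun x => σ⁻¹ x) hconn
    intro u v huv
    obtain ⟨k, hk⟩ := hadj u v huv
    exact hrevk k u v hk
  intro u hu h
  exact D.eq_one_of_reverse hσ hrev hu h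

/-- **The Steinberg character** of the central quotient of a finite matrix group with rank one
data. -/
theorem exists_steinberg [Fintype F] (p : ℕ) [Fact p.Prime] [CharP F p]
    (hgen : D.Bor ⊔ D.Nn = ⊤)
    (hadj : ∀ u v, D.ρ v = D.ρ u + 1 → ∃ k, InPi D.ρ (D.π k) u v)
    (hconn : ∀ u v, D.ρ u < D.ρ v → ∃ w, D.ρ w = D.ρ u + 1)
    (hdiag : ∀ b ∈ D.Bor, ∃ h : G, D.mat h = Matrix.diagonal (fun i => D.mat b i i)) :
    ∃ χ : G ⧸ Subgroup.center G → ℂ, Cfsg.IsIrrCharacter (G ⧸ Subgroup.center G) χ ∧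
      ∀ Q : Sylow p (G ⧸ Subgroup.center G), χ 1 = Nat.card Q ∧
        ∀ x : G ⧸ Subgroup.center G, x ∈ Q → x ≠ 1 → χ x = 0 := by
  classical
  have : Fintype (D.bn hgen).S := Fintype.ofFinite _
  have hBN : (D.bn hgen).B ⊓ (D.bn hgen).N = D.Hd := D.Bor_inf_Nn
  apply BNChar.exists_steinberg_quotient (D.bn hgen) p D.Uu D.Uu_le_Bor
  · intro b hb u hu
    exact D.Uu_conj hb hu
  · intro b hb
    obtain ⟨u, hu, t, ht, e⟩ := D.Bor_eq_mul hdiag hb
    exact ⟨u, hu, t, by rw [hBN]; exact ht, e⟩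
  · exact D.Uu_isPGroup p
  · intro t ht
    rw [hBN] at ht
    exact D.Hd_not_dvd p ht
  · rintro _ ⟨k, rfl⟩
    exact D.exists_conj_not_mem k
  · exact D.exists_w0 hgen hadj hconn

end Setup

end Cfsg.Agent.Lib.Helper14.MatBN
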