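import Mathlib

/-!
# Block embedding of small matrices

`blk c M` acts as `M` on the coordinates in the range of the injection `c` and as the identity on
the others.
-/

set_option autoImplicit false
set_option linter.unusedSectionVars false

namespace Cfsg.Agent.Lib.Helper14.SpBN

open Matrix

variable {n : Type*} [Fintype n] [DecidableEq n] {κ : Type*} [Fintype κ] [DecidableEq κ]
  {F : Type*} [Field F]

/-- the inclusion matrix of `c` -/
def incl (F : Type*) [Field F] (c : κ → n) : Matrix n κ F :=
  Matrix.of fun x i => if x = c i then 1 else 0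

theorem incl_transpose_mul (c : κ → n) (hc : Function.Injective c) :
    (incl F c)ᵀ * incl F c = 1 := by
  ext i j
  rw [Matrix.mul_apply]
  simp only [incl, Matrix.transpose_apply, Matrix.of_apply]
  by_cases hij : i = j
  · subst hij
    rw [Matrix.one_apply_eq]
    rw [Finset.sum_eq_single (c i)]
    · simp
    · intro x _ hx
      simp [hx]
    · intro h
      exact absurd (Finset.mem_univ _) h
  · rw [Matrix.one_apply_ne hij]
    apply Finset.sum_eq_zero
    intro x _
    by_cases h1 : x = c i
    · have : x ≠ c j := by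
        rw [h1]
        exact fun h => hij (hc h)
      simp [this]
    · simp [h1]

/-- the block embedding -/
def blk (c : κ → n) (M : Matrix κ κ F) : Matrix n n F := 1 + incl F c * (M - 1) * (incl F c)ᵀ

theorem blk_one (c : κ → n) : blk c (1 : Matrix κ κ F) = 1 := by
  unfold blk
  rw [sub_self, Matrix.mul_zero, Matrix.zero_mul, add_zero]

theorem blk_mul (c : κ → n) (hc : Function.Injective c) (M M' : Matrix κ κ F) :
    blk c (M * M') = blk c M * blk c M' := by
  unfold blk
  have h := incl_transpose_mul (F := F) c hc
  have e : incl F c * (M - 1) * (incl F c)ᵀ * (incl F c * (M' - 1) * (incl F c)ᵀ) =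
      incl F c * ((M - 1) * (M' - 1)) * (incl F c)ᵀ := by
    calc incl F c * (M - 1) * (incl F c)ᵀ * (incl F c * (M' - 1) * (incl F c)ᵀ)
        = incl F c * (M - 1) * ((incl F c)ᵀ * incl F c) * (M' - 1) * (incl F c)ᵀ := by
          simp only [Matrix.mul_assoc]
      _ = incl F c * ((M - 1) * (M' - 1)) * (incl F c)ᵀ := by
          rw [h, Matrix.mul_one]
          simp only [Matrix.mul_assoc]
  rw [mul_add, add_mul, add_mul, one_mul, mul_one, one_mul, e]
  have e2 : M * M' - 1 = (M - 1) + (M' - 1) + (M - 1) * (M' - 1) := by noncomm_ring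
  rw [e2, Matrix.mul_add, Matrix.mul_add, Matrix.add_mul, Matrix.add_mul]
  abel

theorem blk_transpose (c : κ → n) (M : Matrix κ κ F) : (blk c M)ᵀ = blk c Mᵀ := by
  unfold blk
  rw [Matrix.transpose_add, Matrix.transpose_one, Matrix.transpose_mul, Matrix.transpose_mul,
    Matrix.transpose_transpose, Matrix.transpose_sub, Matrix.transpose_one, Matrix.mul_assoc]

theorem incl_mul_apply (c : κ → n) (hc : Function.Injective c) (X : Matrix κ κ F) (i j : κ) :
    (incl F c * X * (incl F c)ᵀ) (c i) (c j) = X i j := by
  rw [Matrix.mul_apply]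
  rw [Finset.sum_eq_single j]
  · rw [Matrix.mul_apply, Finset.sum_eq_single i]
    · simp [incl]
    · intro k _ hk
      have : c i ≠ c k := fun h => hk (hc h).symm
      simp [incl, this]
    · intro h
      exact absurd (Finset.mem_univ _) h
  · intro k _ hk
    have : c j ≠ c k := fun h => hk (hc h).symm
    simp [incl, this]
  · intro h
    exact absurd (Finset.mem_univ _) h

theorem incl_mul_apply_left (c : κ → n) (X : Matrix κ κ F) (x y : n) (hx : ∀ i, x ≠ c i) :
    (incl F c * X * (incl F c)ᵀ) x y = 0 := by
  rw [Matrix.mul_apply]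
  apply Finset.sum_eq_zero
  intro k _
  rw [Matrix.mul_apply]
  have : ∑ j, incl F c x j * X j k = 0 := by
    apply Finset.sum_eq_zero
    intro j _
    simp [incl, hx j]
  rw [this, zero_mul]

theorem incl_mul_apply_right (c : κ → n) (X : Matrix κ κ F) (x y : n) (hy : ∀ i, y ≠ c i) :
    (incl F c * X * (incl F c)ᵀ) x y = 0 := by
  rw [Matrix.mul_apply]
  apply Finset.sum_eq_zero
  intro k _
  simp [incl, hy k]

/-- entries in the range of `c` -/
theorem blk_apply (c : κ → n) (hc : Function.Injective c) (M : Matrix κ κ F) (i j : κ) :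
    blk c M (c i) (c j) = M i j := by
  unfold blk
  rw [Matrix.add_apply, incl_mul_apply c hc, Matrix.sub_apply]
  by_cases hij : i = j
  · subst hij
    rw [Matrix.one_apply_eq, Matrix.one_apply_eq]
    ring
  · rw [Matrix.one_apply_ne hij, Matrix.one_apply_ne (fun h => hij (hc h))]
    ring

/-- rows outside the range of `c` -/
theorem blk_apply_left (c : κ → n) (M : Matrix κ κ F) (x y : n) (hx : ∀ i, x ≠ c i) :
    blk c M x y = (1 : Matrix n n F) x y := by
  unfold blk
  rw [Matrix.add_apply, incl_mul_apply_left c _ x y hx, add_zero]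

/-- columns outside the range of `c` -/
theorem blk_apply_right (c : κ → n) (M : Matrix κ κ F) (x y : n) (hy : ∀ i, y ≠ c i) :
    blk c M x y = (1 : Matrix n n F) x y := by
  unfold blk
  rw [Matrix.add_apply, incl_mul_apply_right c _ x y hy, add_zero]

end Cfsg.Agent.Lib.Helper14.SpBN
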