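import Mathlib
import Cfsg.Agent.Lib.Helper14.SpBN1

/-!
# Rank one subgroups of the symplectic group

`sht a b : GL₂ → Sp` (short roots, inside the Levi factor `GL_m`) and `lng i : SL₂ → Sp`
(long roots).
-/

set_option autoImplicit false
set_option linter.unusedSectionVars false

namespace Cfsg.Agent.Lib.Helper14.SpBN

open Matrix

variable {m : ℕ} {F : Type*} [Field F]

/-- the pair of indices `a, b` -/
def cab (a b : Fin m) : Fin 2 → Fin m := ![a, b]

@[simp] theorem cab_zero (a b : Fin m) : cab a b 0 = a := rfl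
@[simp] theorem cab_one (a b : Fin m) : cab a b 1 = b := rfl

theorem cab_inj {a b : Fin m} (hab : a ≠ b) : Function.Injective (cab a b) := by
  intro i j h
  fin_cases i <;> fin_cases j
  · rfl
  · exact absurd h hab
  · exact absurd h.symm hab
  · rfl

theorem forall_ne_cab {a b x : Fin m} (hxa : x ≠ a) (hxb : x ≠ b) : ∀ i, x ≠ cab a b i := by
  intro i
  fin_cases i
  · exact hxa
  · exact hxb

/-- the matrix of `sht` -/
def shtMat (a b : Fin m) (M : GL (Fin 2) F) : Matrix (Fin m ⊕ Fin m) (Fin m ⊕ Fin m) F :=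
  fromBlocks (blk (cab a b) (M : Matrix (Fin 2) (Fin 2) F)) 0 0
    (blk (cab a b) ((M⁻¹ : GL (Fin 2) F) : Matrix (Fin 2) (Fin 2) F))ᵀ

theorem shtMat_mem {a b : Fin m} (hab : a ≠ b) (M : GL (Fin 2) F) :
    shtMat a b M ∈ Matrix.symplecticGroup (Fin m) F := by
  unfold shtMat
  rw [SymplecticGroup.fromBlocks_mem_iff]
  refine ⟨by simp, by simp, ?_⟩
  rw [transpose_zero, Matrix.zero_mul, sub_zero, ← transpose_mul, ← blk_mul _ (cab_inj hab),
    ← Units.val_mul, inv_mul_cancel, Units.val_one, blk_one, transpose_one]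

/-- the short root homomorphism `GL₂ → Sp` -/
def sht (a b : Fin m) (hab : a ≠ b) : GL (Fin 2) F →* ↥(Matrix.symplecticGroup (Fin m) F) where
  toFun M := ⟨shtMat a b M, shtMat_mem hab M⟩
  map_one' := by
    apply Subtype.ext
    show shtMat a b (1 : GL (Fin 2) F) = 1
    unfold shtMat
    rw [inv_one, Units.val_one, blk_one, transpose_one, fromBlocks_one]
  map_mul' M M' := by
    apply Subtype.ext
    show shtMat a b (M * M') = shtMat a b M * shtMat a b M'
    unfold shtMat
    rw [fromBlocks_multiply, Units.val_mul, blk_mul _ (cab_inj hab), _root_.mul_inv_rev,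
      Units.val_mul, blk_mul _ (cab_inj hab), transpose_mul]
    simp

theorem coe_sht (a b : Fin m) (hab : a ≠ b) (M : GL (Fin 2) F) :
    ((sht a b hab M : ↥(Matrix.symplecticGroup (Fin m) F)) :
      Matrix (Fin m ⊕ Fin m) (Fin m ⊕ Fin m) F) = shtMat a b M := rfl

/-- the matrix of `lng` -/
def lngMat (i : Fin m) (M : Matrix (Fin 2) (Fin 2) F) : Matrix (Fin m ⊕ Fin m) (Fin m ⊕ Fin m) F :=
  fromBlocks (diagonal (Function.update 1 i (M 0 0))) (diagonal (Function.update 0 i (M 0 1)))
    (diagonal (Function.update 0 i (M 1 0))) (diagonal (Function.update 1 i (M 1 1)))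

theorem lngMat_mem (i : Fin m) (M : Matrix (Fin 2) (Fin 2) F) (hM : M.det = 1) :
    lngMat i M ∈ Matrix.symplecticGroup (Fin m) F := by
  unfold lngMat
  rw [SymplecticGroup.fromBlocks_mem_iff]
  simp only [diagonal_transpose, diagonal_mul_diagonal]
  refine ⟨?_, ?_, ?_⟩
  · congr 1
    funext x
    exact mul_comm _ _
  · congr 1
    funext x
    exact mul_comm _ _
  · rw [diagonal_sub, ← diagonal_one]
    congr 1
    funext x
    rw [Matrix.det_fin_two] at hM
    by_cases hx : x = i
    · subst hx
      simp only [Function.update_self]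
      rw [← hM]; ring
    · simp [Function.update_of_ne hx]

theorem lngMat_one (i : Fin m) : lngMat i (1 : Matrix (Fin 2) (Fin 2) F) = 1 := by
  unfold lngMat
  simp only [Matrix.one_apply_eq, Matrix.one_apply_ne, ne_eq, zero_ne_one, one_ne_zero,
    not_false_eq_true]
  have h1 : Function.update (1 : Fin m → F) i 1 = 1 := Function.update_eq_self i 1
  have h0 : Function.update (0 : Fin m → F) i 0 = 0 := Function.update_eq_self i 0
  rw [h1, h0, show (diagonal (1 : Fin m → F)) = 1 from diagonal_one,
    show (diagonal (0 : Fin m → F)) = 0 from diagonal_zero, fromBlocks_one]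

theorem lngMat_mul (i : Fin m) (M M' : Matrix (Fin 2) (Fin 2) F) :
    lngMat i (M * M') = lngMat i M * lngMat i M' := by
  unfold lngMat
  rw [fromBlocks_multiply]
  simp only [diagonal_mul_diagonal, diagonal_add, Matrix.mul_apply, Fin.sum_univ_two]
  congr 1 <;>
  · congr 1
    funext x
    by_cases hx : x = i
    · subst hx
      simp only [Function.update_self]
    · simp [Function.update_of_ne hx]

/-- the long root homomorphism `SL₂ → Sp` -/
def lng (i : Fin m) : Matrix.SpecialLinearGroup (Fin 2) F →* ↥(Matrix.symplecticGroup (Fin m) F) where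
  toFun M := ⟨lngMat i M.1, lngMat_mem i M.1 M.2⟩
  map_one' := by
    apply Subtype.ext
    show lngMat i (1 : Matrix.SpecialLinearGroup (Fin 2) F).1 = 1
    rw [Matrix.SpecialLinearGroup.coe_one, lngMat_one]
  map_mul' M M' := by
    apply Subtype.ext
    show lngMat i (M * M').1 = lngMat i M.1 * lngMat i M'.1
    rw [Matrix.SpecialLinearGroup.coe_mul, lngMat_mul]

theorem coe_lng (i : Fin m) (M : Matrix.SpecialLinearGroup (Fin 2) F) :
    ((lng i M : ↥(Matrix.symplecticGroup (Fin m) F)) :
      Matrix (Fin m ⊕ Fin m) (Fin m ⊕ Fin m) F) = lngMat i M.1 := rfl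

end Cfsg.Agent.Lib.Helper14.SpBN
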