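import Mathlib
import Cfsg.Agent.Lib.Helper14.SpBN2

/-!
# Elements of `GL₂` and `SL₂` and the rank one identities
-/

set_option autoImplicit false
set_option linter.unusedSectionVars false

namespace Cfsg.Agent.Lib.Helper14.SpBN

open Matrix

variable {F : Type*} [Field F]

/-- upper unitriangular element of `GL₂` -/
def gT (t : F) : GL (Fin 2) F :=
  ⟨!![1, t; 0, 1], !![1, -t; 0, 1], by
    ext i j; fin_cases i <;> fin_cases j <;> simp [Matrix.mul_apply, Fin.sum_univ_two], by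
    ext i j; fin_cases i <;> fin_cases j <;> simp [Matrix.mul_apply, Fin.sum_univ_two]⟩

/-- the permutation matrix in `GL₂` -/
def gW : GL (Fin 2) F :=
  ⟨!![0, 1; 1, 0], !![0, 1; 1, 0], by
    ext i j; fin_cases i <;> fin_cases j <;> simp [Matrix.mul_apply, Fin.sum_univ_two], by
    ext i j; fin_cases i <;> fin_cases j <;> simp [Matrix.mul_apply, Fin.sum_univ_two]⟩

/-- an upper triangular element of `GL₂` -/
def gB (u v w : F) (hu : u ≠ 0) (hv : v ≠ 0) : GL (Fin 2) F :=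
  ⟨!![u, w; 0, v], !![u⁻¹, -(u⁻¹ * w * v⁻¹); 0, v⁻¹], by
    ext i j; fin_cases i <;> fin_cases j <;>
      simp [Matrix.mul_apply, Fin.sum_univ_two, hu, hv]
    field_simp
    ring, by
    ext i j; fin_cases i <;> fin_cases j <;>
      simp [Matrix.mul_apply, Fin.sum_univ_two, hu, hv]⟩

theorem coe_gT (t : F) : ((gT t : GL (Fin 2) F) : Matrix (Fin 2) (Fin 2) F) = !![1, t; 0, 1] := rfl
theorem coe_gT_inv (t : F) :
    (((gT t)⁻¹ : GL (Fin 2) F) : Matrix (Fin 2) (Fin 2) F) = !![1, -t; 0, 1] := rfl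
theorem coe_gW : ((gW : GL (Fin 2) F) : Matrix (Fin 2) (Fin 2) F) = !![0, 1; 1, 0] := rfl
theorem coe_gW_inv : (((gW)⁻¹ : GL (Fin 2) F) : Matrix (Fin 2) (Fin 2) F) = !![0, 1; 1, 0] := rfl
theorem coe_gB (u v w : F) (hu : u ≠ 0) (hv : v ≠ 0) :
    ((gB u v w hu hv : GL (Fin 2) F) : Matrix (Fin 2) (Fin 2) F) = !![u, w; 0, v] := rfl
theorem coe_gB_inv (u v w : F) (hu : u ≠ 0) (hv : v ≠ 0) :
    (((gB u v w hu hv)⁻¹ : GL (Fin 2) F) : Matrix (Fin 2) (Fin 2) F) =
      !![u⁻¹, -(u⁻¹ * w * v⁻¹); 0, v⁻¹] := rfl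

theorem gT_inv (t : F) : (gT t)⁻¹ = gT (-t) := by
  apply Units.ext
  rw [coe_gT_inv, coe_gT]

theorem gT_zero : gT (0 : F) = 1 := by
  apply Units.ext
  rw [coe_gT]
  ext i j; fin_cases i <;> fin_cases j <;> simp

/-- the rank one identity in `GL₂` -/
theorem gl2_identity (t : F) (ht : t ≠ 0) :
    gW * gT t * gW⁻¹ = gB (-t⁻¹) t 1 (neg_ne_zero.mpr (inv_ne_zero ht)) ht * gW * gT t⁻¹ := by
  apply Units.ext
  simp only [Units.val_mul, coe_gW, coe_gT, coe_gW_inv, coe_gB]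
  ext i j; fin_cases i <;> fin_cases j <;> simp [Matrix.mul_apply, Fin.sum_univ_two, ht]

/-- upper unitriangular element of `SL₂` -/
def sT (t : F) : Matrix.SpecialLinearGroup (Fin 2) F :=
  ⟨!![1, t; 0, 1], by simp [Matrix.det_fin_two]⟩

/-- the Weyl element of `SL₂` -/
def sW : Matrix.SpecialLinearGroup (Fin 2) F :=
  ⟨!![0, 1; -1, 0], by simp [Matrix.det_fin_two]⟩

/-- an upper triangular element of `SL₂` -/
def sB (u w : F) (hu : u ≠ 0) : Matrix.SpecialLinearGroup (Fin 2) F :=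
  ⟨!![u, w; 0, u⁻¹], by simp [Matrix.det_fin_two, hu]⟩

theorem coe_sT (t : F) : (sT t : Matrix.SpecialLinearGroup (Fin 2) F).1 = !![1, t; 0, 1] := rfl
theorem coe_sW : (sW : Matrix.SpecialLinearGroup (Fin 2) F).1 = !![0, 1; -1, 0] := rfl
theorem coe_sB (u w : F) (hu : u ≠ 0) :
    (sB u w hu : Matrix.SpecialLinearGroup (Fin 2) F).1 = !![u, w; 0, u⁻¹] := rfl

theorem sT_zero : sT (0 : F) = 1 := by
  apply Subtype.ext
  rw [coe_sT, Matrix.SpecialLinearGroup.coe_one]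
  ext i j; fin_cases i <;> fin_cases j <;> simp

theorem sT_mul (t t' : F) : sT t * sT t' = sT (t + t') := by
  apply Subtype.ext
  rw [Matrix.SpecialLinearGroup.coe_mul, coe_sT, coe_sT, coe_sT]
  ext i j; fin_cases i <;> fin_cases j <;> simp [Matrix.mul_apply, Fin.sum_univ_two, add_comm]

theorem sT_inv (t : F) : (sT t)⁻¹ = sT (-t) := by
  rw [inv_eq_iff_mul_eq_one, sT_mul, add_neg_cancel, sT_zero]

/-- the rank one identity in `SL₂` -/
theorem sl2_identity (t : F) (ht : t ≠ 0) :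
    sW * sT t = sB t⁻¹ (-1) (inv_ne_zero ht) * sW * sT (-t⁻¹) * sW := by
  apply Subtype.ext
  simp only [Matrix.SpecialLinearGroup.coe_mul, coe_sW, coe_sT, coe_sB]
  ext i j; fin_cases i <;> fin_cases j <;> simp [Matrix.mul_apply, Fin.sum_univ_two, ht]

end Cfsg.Agent.Lib.Helper14.SpBN
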