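import Mathlib
import Cfsg.Agent.Lib.Helper14.SpBN3

/-!
# Entries of the rank one elements of the symplectic group
-/

set_option autoImplicit false
set_option linter.unusedSectionVars false

namespace Cfsg.Agent.Lib.Helper14.SpBN

open Matrix

variable {m : ℕ} {F : Type*} [Field F]

/-- explicit entries of the embedding of a `2 × 2` block -/
theorem blk_cab_apply {a b : Fin m} (hab : a ≠ b) (M : Matrix (Fin 2) (Fin 2) F) (i j : Fin m) :
    blk (cab a b) M i j =
      if i = a then (if j = a then M 0 0 else if j = b then M 0 1 else 0)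
      else if i = b then (if j = a then M 1 0 else if j = b then M 1 1 else 0)
      else if i = j then 1 else 0 := by
  have hc := cab_inj hab
  by_cases hia : i = a
  · rw [if_pos hia, hia]
    by_cases hja : j = a
    · rw [if_pos hja, hja]
      exact blk_apply (cab a b) hc M 0 0
    · rw [if_neg hja]
      by_cases hjb : j = b
      · rw [if_pos hjb, hjb]
        exact blk_apply (cab a b) hc M 0 1
      · rw [if_neg hjb, blk_apply_right _ _ _ _ (forall_ne_cab hja hjb),
          Matrix.one_apply_ne (Ne.symm hja)]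
  · rw [if_neg hia]
    by_cases hib : i = b
    · rw [if_pos hib, hib]
      by_cases hja : j = a
      · rw [if_pos hja, hja]
        exact blk_apply (cab a b) hc M 1 0
      · rw [if_neg hja]
        by_cases hjb : j = b
        · rw [if_pos hjb, hjb]
          exact blk_apply (cab a b) hc M 1 1
        · rw [if_neg hjb, blk_apply_right _ _ _ _ (forall_ne_cab hja hjb),
            Matrix.one_apply_ne (Ne.symm hjb)]
    · rw [if_neg hib, blk_apply_left _ _ _ _ (forall_ne_cab hia hib), Matrix.one_apply]

/-- an upper triangular block gives an upper triangular matrix -/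
theorem blk_upper {a b : Fin m} (hab : a < b) (M : Matrix (Fin 2) (Fin 2) F) (h : M 1 0 = 0)
    (i j : Fin m) (hji : j < i) : blk (cab a b) M i j = 0 := by
  rw [blk_cab_apply hab.ne]
  split_ifs with h1 h2 h3 h4 h5 h6 h7
  · subst h1 h2
    exact absurd hji (lt_irrefl _)
  · subst h1 h3
    exact absurd hji (not_lt.mpr hab.le)
  · rfl
  · exact h
  · subst h4 h6
    exact absurd hji (lt_irrefl _)
  · rfl
  · subst h7
    exact absurd hji (lt_irrefl _)
  · rfl

/-- the off-diagonal entries of the embedding of an upper triangular block -/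
theorem blk_offdiag {a b : Fin m} (hab : a ≠ b) (M : Matrix (Fin 2) (Fin 2) F) (h : M 1 0 = 0)
    (i j : Fin m) (hij : i ≠ j) (hne : blk (cab a b) M i j ≠ 0) : i = a ∧ j = b := by
  rw [blk_cab_apply hab] at hne
  by_cases h1 : i = a
  · by_cases h2 : j = b
    · exact ⟨h1, h2⟩
    · exfalso
      apply hne
      have h3 : j ≠ a := fun h3 => hij (h1.trans h3.symm)
      simp [h1, h2, h3]
  · by_cases h4 : i = b
    · exfalso
      apply hne
      have h5 : j ≠ b := fun h5 => hij (h4.trans h5.symm)
      simp [h4, h5, hab.symm, h]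
    · exfalso
      apply hne
      simp [h1, h4, hij]

/-- the diagonal entries -/
theorem blk_diag {a b : Fin m} (hab : a ≠ b) (M : Matrix (Fin 2) (Fin 2) F) (h0 : M 0 0 = 1)
    (h1 : M 1 1 = 1) (i : Fin m) : blk (cab a b) M i i = 1 := by
  rw [blk_cab_apply hab]
  by_cases h2 : i = a
  · simp [h2, h0]
  · by_cases h3 : i = b
    · simp [h3, hab.symm, h1]
    · simp [h2, h3]

/-- the embedding of the permutation matrix is a permutation matrix -/
theorem blk_W {a b : Fin m} (hab : a ≠ b) (i j : Fin m)
    (hne : blk (cab a b) (!![0, 1; 1, 0] : Matrix (Fin 2) (Fin 2) F) i j ≠ 0) :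
    i = Equiv.swap a b j := by
  rw [blk_cab_apply hab] at hne
  by_cases h1 : i = a
  · by_cases h2 : j = b
    · rw [h1, h2, Equiv.swap_apply_right]
    · exfalso; apply hne; simp [h1, h2]
  · by_cases h4 : i = b
    · by_cases h5 : j = a
      · rw [h4, h5, Equiv.swap_apply_left]
      · exfalso; apply hne; simp [h4, h5, hab.symm]
    · by_cases h7 : i = j
      · rw [← h7, Equiv.swap_apply_of_ne_of_ne h1 h4]
      · exfalso; apply hne; simp [h1, h4, h7]

section Sht

variable (a b : Fin m) (M : GL (Fin 2) F)

theorem shtMat_ll (i j : Fin m) :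
    shtMat a b M (Sum.inl i) (Sum.inl j) = blk (cab a b) (M : Matrix (Fin 2) (Fin 2) F) i j := rfl

theorem shtMat_lr (i j : Fin m) : shtMat a b M (Sum.inl i) (Sum.inr j) = 0 := rfl

theorem shtMat_rl (i j : Fin m) : shtMat a b M (Sum.inr i) (Sum.inl j) = 0 := rfl

theorem shtMat_rr (i j : Fin m) :
    shtMat a b M (Sum.inr i) (Sum.inr j) =
      blk (cab a b) ((M⁻¹ : GL (Fin 2) F) : Matrix (Fin 2) (Fin 2) F) j i := rfl

end Sht

/-- the embedding of a unitriangular block -/
theorem blk_T {a b : Fin m} (hab : a ≠ b) (t : F) :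
    blk (cab a b) (!![1, t; 0, 1] : Matrix (Fin 2) (Fin 2) F) = 1 + Matrix.single a b t := by
  ext i j
  rw [blk_cab_apply hab, Matrix.add_apply, Matrix.single_apply, Matrix.one_apply]
  by_cases h1 : i = a
  · by_cases h2 : j = a
    · simp [h1, h2, hab.symm]
    · by_cases h3 : j = b
      · simp [h1, h3, hab, hab.symm]
      · simp [h1, h2, h3, Ne.symm h2, Ne.symm h3]
  · by_cases h4 : i = b
    · by_cases h2 : j = a
      · simp [h4, h2, hab, hab.symm]
      · by_cases h3 : j = b
        · simp [h4, h3, hab, hab.symm]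
        · simp [h4, h2, h3, hab, hab.symm, Ne.symm h3]
    · simp [h1, h4, Ne.symm h1]

/-- the short root elements as matrices -/
theorem shtMat_gT {a b : Fin m} (hab : a ≠ b) (t : F) :
    shtMat a b (gT t) = 1 + Matrix.single (Sum.inl a) (Sum.inl b) t -
      Matrix.single (Sum.inr b) (Sum.inr a) t := by
  ext x y
  rcases x with i | i <;> rcases y with j | j
  · rw [shtMat_ll, coe_gT, blk_T hab]
    simp [Matrix.add_apply, Matrix.sub_apply, Matrix.single_apply, Matrix.one_apply]
  · rw [shtMat_lr]
    simp [Matrix.add_apply, Matrix.sub_apply]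
  · rw [shtMat_rl]
    simp [Matrix.add_apply, Matrix.sub_apply]
  · rw [shtMat_rr, coe_gT_inv, blk_T hab]
    simp only [Matrix.add_apply, Matrix.sub_apply, Matrix.single_apply, Matrix.one_apply,
      Sum.inr.injEq, reduceCtorEq, false_and, if_false, add_zero]
    by_cases h1 : a = j ∧ b = i
    · obtain ⟨h2, h3⟩ := h1
      subst h2 h3
      simp [hab, hab.symm]
    · have h2 : ¬ (b = i ∧ a = j) := fun h => h1 ⟨h.2, h.1⟩
      rw [if_neg h1, if_neg h2]
      by_cases h3 : j = i
      · subst h3; simp
      · simp [h3, Ne.symm h3]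

section Lng

variable (i : Fin m) (M : Matrix (Fin 2) (Fin 2) F)

theorem lngMat_ll (x y : Fin m) :
    lngMat i M (Sum.inl x) (Sum.inl y) = diagonal (Function.update 1 i (M 0 0)) x y := rfl

theorem lngMat_lr (x y : Fin m) :
    lngMat i M (Sum.inl x) (Sum.inr y) = diagonal (Function.update 0 i (M 0 1)) x y := rfl

theorem lngMat_rl (x y : Fin m) :
    lngMat i M (Sum.inr x) (Sum.inl y) = diagonal (Function.update 0 i (M 1 0)) x y := rfl

theorem lngMat_rr (x y : Fin m) :
    lngMat i M (Sum.inr x) (Sum.inr y) = diagonal (Function.update 1 i (M 1 1)) x y := rfl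

end Lng

/-- the long root elements as matrices -/
theorem lngMat_sT (i : Fin m) (t : F) :
    lngMat i (sT t).1 = 1 + Matrix.single (Sum.inl i) (Sum.inr i) t := by
  ext x y
  rw [Matrix.add_apply, Matrix.single_apply, Matrix.one_apply, coe_sT]
  rcases x with x | x <;> rcases y with y | y
  · rw [lngMat_ll]
    simp only [Sum.inl.injEq, reduceCtorEq, and_false, if_false, add_zero]
    have : Function.update (1 : Fin m → F) i ((!![1, t; 0, 1] : Matrix (Fin 2) (Fin 2) F) 0 0) = 1 := by
      simp
    rw [this, show (diagonal (1 : Fin m → F)) = 1 from diagonal_one, Matrix.one_apply]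
  · rw [lngMat_lr, Matrix.diagonal_apply]
    simp only [Sum.inl.injEq, Sum.inr.injEq, reduceCtorEq, if_false, zero_add]
    by_cases hxy : x = y
    · subst hxy
      by_cases hx : x = i
      · subst hx; simp
      · simp [hx, Ne.symm hx]
    · have : ¬ (i = x ∧ i = y) := fun h => hxy (h.1.symm.trans h.2)
      simp [hxy, this]
  · rw [lngMat_rl, Matrix.diagonal_apply]
    simp
  · rw [lngMat_rr]
    simp only [Sum.inr.injEq, reduceCtorEq, false_and, if_false, add_zero]
    have : Function.update (1 : Fin m → F) i ((!![1, t; 0, 1] : Matrix (Fin 2) (Fin 2) F) 1 1) = 1 := by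
      simp
    rw [this, show (diagonal (1 : Fin m → F)) = 1 from diagonal_one, Matrix.one_apply]

end Cfsg.Agent.Lib.Helper14.SpBN
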