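import Mathlib
import Cfsg.Agent.Lib.Helper14.SpBN4
import Cfsg.Agent.Lib.Helper14.MatBN1

/-!
# Combinatorial data for the `(B, N)`-pair of the symplectic group
-/

set_option autoImplicit false
set_option linter.unusedSectionVars false

namespace Cfsg.Agent.Lib.Helper14.SpBN

open Matrix Cfsg.Agent.Lib.Helper14.MatBN

/-- the index type -/
abbrev Idx (n : ℕ) := Fin (n + 1) ⊕ Fin (n + 1)

variable {n : ℕ}

/-- the order on the indices: `e₀ < e₁ < … < eₙ < fₙ < … < f₀` -/
def rho (n : ℕ) : Idx n → ℕ := Sum.elim (fun i => i.val) (fun i => 2 * n + 1 - i.val)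

@[simp] theorem rho_inl (i : Fin (n + 1)) : rho n (Sum.inl i) = i.val := rfl
@[simp] theorem rho_inr (i : Fin (n + 1)) : rho n (Sum.inr i) = 2 * n + 1 - i.val := rfl

theorem rho_inj : Function.Injective (rho n) := by
  rintro (i | i) (j | j) h <;> simp only [rho_inl, rho_inr] at h
  · exact congrArg _ (Fin.ext h)
  · exfalso
    have := i.2
    have := j.2
    omega
  · exfalso
    have := i.2
    have := j.2
    omega
  · congr 1
    apply Fin.ext
    have := i.2
    have := j.2
    omega

theorem rho_swap (x : Idx n) : rho n x.swap = 2 * n + 1 - rho n x := by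
  rcases x with i | i
  · rfl
  · simp only [Sum.swap_inr, rho_inl, rho_inr]
    have := i.2
    omega

theorem rho_le (x : Idx n) : rho n x ≤ 2 * n + 1 := by
  rcases x with i | i
  · simp only [rho_inl]
    have := i.2
    omega
  · simp only [rho_inr]
    omega

/-- the permutations commuting with the swap of the two halves -/
def Wg (n : ℕ) : Subgroup (Equiv.Perm (Idx n)) where
  carrier := {σ | ∀ x, σ x.swap = (σ x).swap}
  mul_mem' := by
    intro σ τ hσ hτ x
    simp only [Equiv.Perm.coe_mul, Function.comp]
    rw [hτ, hσ]
  one_mem' := fun x => rfl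
  inv_mem' := by
    intro σ hσ x
    apply σ.injective
    rw [hσ]
    simp

theorem mem_Wg (σ : Equiv.Perm (Idx n)) : σ ∈ Wg n ↔ ∀ x, σ x.swap = (σ x).swap := Iff.rfl

/-- the short reflections -/
def piS (k : Fin n) : Equiv.Perm (Idx n) :=
  Equiv.sumCongr (Equiv.swap k.castSucc k.succ) (Equiv.swap k.castSucc k.succ)

/-- the long reflection -/
def piL (n : ℕ) : Equiv.Perm (Idx n) := Equiv.swap (Sum.inl (Fin.last n)) (Sum.inr (Fin.last n))

theorem piS_inl (k : Fin n) (i : Fin (n + 1)) :
    piS k (Sum.inl i) = Sum.inl (Equiv.swap k.castSucc k.succ i) := rfl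

theorem piS_inr (k : Fin n) (i : Fin (n + 1)) :
    piS k (Sum.inr i) = Sum.inr (Equiv.swap k.castSucc k.succ i) := rfl

theorem castSucc_ne_succ (k : Fin n) : k.castSucc ≠ k.succ := by
  intro h
  have := congrArg Fin.val h
  simp at this

theorem castSucc_lt_succ' (k : Fin n) : k.castSucc < k.succ := by
  rw [Fin.lt_def]
  simp

theorem swap_val (k : Fin n) (i : Fin (n + 1)) :
    (Equiv.swap k.castSucc k.succ i).val =
      if i.val = k.val then k.val + 1 else if i.val = k.val + 1 then k.val else i.val := by
  rw [Equiv.swap_apply_def]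
  by_cases h1 : i = k.castSucc
  · rw [if_pos h1, if_pos (by rw [h1]; rfl)]
    rfl
  · have h1' : i.val ≠ k.val := fun h => h1 (Fin.ext h)
    rw [if_neg h1, if_neg h1']
    by_cases h2 : i = k.succ
    · rw [if_pos h2, if_pos (by rw [h2]; rfl)]
      rfl
    · have h2' : i.val ≠ k.val + 1 := fun h => h2 (Fin.ext h)
      rw [if_neg h2, if_neg h2']

theorem piS_sq (k : Fin n) : piS k * piS k = 1 := by
  ext x
  rcases x with i | i
  · simp [piS_inl]
  · simp [piS_inr]

theorem piL_sq : piL n * piL n = 1 := Equiv.swap_mul_self _ _

theorem piS_mem (k : Fin n) : piS k ∈ Wg n := by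
  intro x
  rcases x with i | i <;> rfl

theorem piL_mem : piL n ∈ Wg n := by
  intro x
  unfold piL
  rcases x with i | i
  · by_cases h : i = Fin.last n
    · subst h
      simp
    · have h1 : (Sum.inl i : Idx n) ≠ Sum.inl (Fin.last n) := fun e => h (Sum.inl_injective e)
      have h2 : (Sum.inr i : Idx n) ≠ Sum.inr (Fin.last n) := fun e => h (Sum.inr_injective e)
      rw [Sum.swap_inl, Equiv.swap_apply_of_ne_of_ne (by simp) h2,
        Equiv.swap_apply_of_ne_of_ne h1 (by simp)]
      rfl
  · by_cases h : i = Fin.last n
    · subst h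
      simp
    · have h1 : (Sum.inl i : Idx n) ≠ Sum.inl (Fin.last n) := fun e => h (Sum.inl_injective e)
      have h2 : (Sum.inr i : Idx n) ≠ Sum.inr (Fin.last n) := fun e => h (Sum.inr_injective e)
      rw [Sum.swap_inr, Equiv.swap_apply_of_ne_of_ne h1 (by simp),
        Equiv.swap_apply_of_ne_of_ne (by simp) h2]
      rfl

/-- the reflections -/
def piK : Fin n ⊕ Unit → Equiv.Perm (Idx n) := Sum.elim piS (fun _ => piL n)

theorem piK_sq (k : Fin n ⊕ Unit) : piK k * piK k = 1 := by
  rcases k with k | k
  · exact piS_sq k
  · exact piL_sq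

theorem piK_mem (k : Fin n ⊕ Unit) : piK k ∈ Wg n := by
  rcases k with k | k
  · exact piS_mem k
  · exact piL_mem

theorem piK_ne (k : Fin n ⊕ Unit) : piK k ≠ 1 := by
  rcases k with k | k
  · intro h
    have := congrArg (fun f : Equiv.Perm (Idx n) => f (Sum.inl k.castSucc)) h
    simp only [piK, Sum.elim_inl, piS_inl, Equiv.swap_apply_left, Equiv.Perm.one_apply] at this
    exact castSucc_ne_succ k (Sum.inl_injective this).symm
  · intro h
    have := congrArg (fun f : Equiv.Perm (Idx n) => f (Sum.inl (Fin.last n))) h
    simp [piK, piL] at this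

theorem piK_inj : Function.Injective (piK (n := n)) := by
  rintro (k | k) (k' | k') h
  · congr 1
    have h1 := congrArg (fun f : Equiv.Perm (Idx n) => f (Sum.inl k.castSucc)) h
    simp only [piK, Sum.elim_inl, piS_inl, Equiv.swap_apply_left] at h1
    have h2 := congrArg Fin.val (Sum.inl_injective h1)
    rw [swap_val] at h2
    simp only [Fin.val_succ, Fin.val_castSucc] at h2
    apply Fin.ext
    split_ifs at h2 <;> omega
  · exfalso
    have h1 := congrArg (fun f : Equiv.Perm (Idx n) => f (Sum.inl (Fin.last n))) h
    simp [piK, piL, piS_inl] at h1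
  · exfalso
    have h1 := congrArg (fun f : Equiv.Perm (Idx n) => f (Sum.inl (Fin.last n))) h
    simp [piK, piL, piS_inl] at h1
  · rfl

/-- the pairs inverted by a short reflection -/
theorem inPi_piS (k : Fin n) (u v : Idx n) :
    InPi (rho n) (piS k) u v ↔
      (u = Sum.inl k.castSucc ∧ v = Sum.inl k.succ) ∨
        (u = Sum.inr k.succ ∧ v = Sum.inr k.castSucc) := by
  unfold InPi
  constructor
  · rintro ⟨h1, h2⟩
    rcases u with i | i <;> rcases v with j | j <;>
      simp only [piS_inl, piS_inr, rho_inl, rho_inr, swap_val] at h1 h2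
    · left
      have hi := i.2
      have hj := j.2
      have hk := k.2
      have : i.val = k.val ∧ j.val = k.val + 1 := by
        split_ifs at h2 <;> omega
      exact ⟨congrArg _ (Fin.ext this.1), congrArg _ (Fin.ext (by simpa using this.2))⟩
    · exfalso
      have hi := i.2
      have hj := j.2
      have hk := k.2
      split_ifs at h2 <;> omega
    · exfalso
      have hi := i.2
      have hj := j.2
      have hk := k.2
      split_ifs at h2 <;> omega
    · right
      have hi := i.2
      have hj := j.2
      have hk := k.2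
      have : i.val = k.val + 1 ∧ j.val = k.val := by
        split_ifs at h2 <;> omega
      exact ⟨congrArg _ (Fin.ext (by simpa using this.1)), congrArg _ (Fin.ext this.2)⟩
  · rintro (⟨rfl, rfl⟩ | ⟨rfl, rfl⟩)
    · simp only [piS_inl, rho_inl, Equiv.swap_apply_left, Equiv.swap_apply_right,
        Fin.val_succ, Fin.val_castSucc]
      omega
    · simp only [piS_inr, rho_inr, Equiv.swap_apply_left, Equiv.swap_apply_right,
        Fin.val_succ, Fin.val_castSucc]
      have hk := k.2
      omega

theorem piL_inl (i : Fin (n + 1)) :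
    piL n (Sum.inl i) = if i = Fin.last n then Sum.inr (Fin.last n) else Sum.inl i := by
  unfold piL
  by_cases h : i = Fin.last n
  · subst h
    simp
  · have h1 : (Sum.inl i : Idx n) ≠ Sum.inl (Fin.last n) := fun e => h (Sum.inl_injective e)
    rw [if_neg h, Equiv.swap_apply_of_ne_of_ne h1 (by simp)]

theorem piL_inr (i : Fin (n + 1)) :
    piL n (Sum.inr i) = if i = Fin.last n then Sum.inl (Fin.last n) else Sum.inr i := by
  unfold piL
  by_cases h : i = Fin.last n
  · subst h
    simp
  · have h2 : (Sum.inr i : Idx n) ≠ Sum.inr (Fin.last n) := fun e => h (Sum.inr_injective e)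
    rw [if_neg h, Equiv.swap_apply_of_ne_of_ne (by simp) h2]

/-- the pair inverted by the long reflection -/
theorem inPi_piL (u v : Idx n) :
    InPi (rho n) (piL n) u v ↔ u = Sum.inl (Fin.last n) ∧ v = Sum.inr (Fin.last n) := by
  unfold InPi
  constructor
  · rintro ⟨h1, h2⟩
    rcases u with i | i <;> rcases v with j | j <;>
      simp only [piL_inl, piL_inr] at h2
    · exfalso
      simp only [rho_inl] at h1
      have hi := i.2
      have hj := j.2
      by_cases hi' : i = Fin.last n <;> by_cases hj' : j = Fin.last n
      · subst hi' hj'; exact lt_irrefl _ h1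
      · subst hi'
        have : j.val ≠ n := fun h => hj' (Fin.ext h)
        simp only [Fin.val_last] at h1
        omega
      · subst hj'
        rw [if_neg hi', if_pos rfl] at h2
        simp only [rho_inl, rho_inr, Fin.val_last] at h2
        omega
      · rw [if_neg hi', if_neg hj'] at h2
        simp only [rho_inl] at h2
        omega
    · have hi := i.2
      have hj := j.2
      by_cases hi' : i = Fin.last n <;> by_cases hj' : j = Fin.last n
      · exact ⟨congrArg _ hi', congrArg _ hj'⟩
      · exfalso
        subst hi'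
        rw [if_pos rfl, if_neg hj'] at h2
        have : j.val ≠ n := fun h => hj' (Fin.ext h)
        simp only [rho_inr, Fin.val_last] at h2
        omega
      · exfalso
        subst hj'
        rw [if_neg hi', if_pos rfl] at h2
        have : i.val ≠ n := fun h => hi' (Fin.ext h)
        simp only [rho_inl, Fin.val_last] at h2
        omega
      · exfalso
        rw [if_neg hi', if_neg hj'] at h2
        simp only [rho_inl, rho_inr] at h1 h2
        omega
    · exfalso
      simp only [rho_inl, rho_inr] at h1
      have hi := i.2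
      have hj := j.2
      omega
    · exfalso
      simp only [rho_inr] at h1
      have hi := i.2
      have hj := j.2
      by_cases hi' : i = Fin.last n <;> by_cases hj' : j = Fin.last n
      · subst hi' hj'; exact lt_irrefl _ h1
      · subst hi'
        rw [if_pos rfl, if_neg hj'] at h2
        simp only [rho_inl, rho_inr, Fin.val_last] at h2
        omega
      · subst hj'
        have : i.val ≠ n := fun h => hi' (Fin.ext h)
        simp only [Fin.val_last] at h1
        omega
      · rw [if_neg hi', if_neg hj'] at h2
        simp only [rho_inr] at h2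
        omega
  · rintro ⟨rfl, rfl⟩
    simp only [piL_inl, piL_inr, if_pos, rho_inl, rho_inr, Fin.val_last]
    omega

end Cfsg.Agent.Lib.Helper14.SpBN
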