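import Mathlib
import Cfsg.Agent.Lib.Helper14.SpBN5

/-!
# Triangular and monomial rank one elements of the symplectic group; the symplectic relations
-/

set_option autoImplicit false
set_option linter.unusedSectionVars false

namespace Cfsg.Agent.Lib.Helper14.SpBN

open Matrix Cfsg.Agent.Lib.Helper14.MatBN Cfsg.Agent.Lib.Helper14.TriMono

variable {n : ℕ} {F : Type*} [Field F]

/-- the row relations of a symplectic matrix -/
theorem sp_rel {m : ℕ} {A : Matrix (Fin m ⊕ Fin m) (Fin m ⊕ Fin m) F}
    (hA : A ∈ Matrix.symplecticGroup (Fin m) F) (i j : Fin m) :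
    ∑ l, (A (Sum.inl i) (Sum.inl l) * A (Sum.inr j) (Sum.inr l) -
      A (Sum.inl i) (Sum.inr l) * A (Sum.inr j) (Sum.inl l)) = if i = j then 1 else 0 := by
  have h1 := SymplecticGroup.transpose_mem hA
  rw [← Matrix.fromBlocks_toBlocks A, Matrix.fromBlocks_transpose,
    SymplecticGroup.fromBlocks_mem_iff] at h1
  have h2 := h1.2.2
  simp only [Matrix.transpose_transpose] at h2
  have h3 := congrFun (congrFun h2 i) j
  rw [Matrix.sub_apply, Matrix.mul_apply, Matrix.mul_apply, Matrix.one_apply,
    ← Finset.sum_sub_distrib] at h3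
  exact h3

/-- for a triangular symplectic matrix only the middle terms survive -/
theorem sp_rel_upper {A : Matrix (Idx n) (Idx n) F}
    (hA : A ∈ Matrix.symplecticGroup (Fin (n + 1)) F) (hU : A.BlockTriangular (rho n))
    (i j : Fin (n + 1)) :
    ∑ l, A (Sum.inl i) (Sum.inl l) * A (Sum.inr j) (Sum.inr l) = if i = j then 1 else 0 := by
  rw [← sp_rel hA i j]
  apply Finset.sum_congr rfl
  intro l _
  have : A (Sum.inr j) (Sum.inl l) = 0 := by
    apply hU
    simp only [rho_inl, rho_inr]
    have := l.2
    have := j.2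
    omega
  rw [this, mul_zero, sub_zero]

theorem upper_ll {A : Matrix (Idx n) (Idx n) F} (hU : A.BlockTriangular (rho n))
    {i l : Fin (n + 1)} (h : l < i) : A (Sum.inl i) (Sum.inl l) = 0 := by
  apply hU
  simpa using h

theorem upper_rr {A : Matrix (Idx n) (Idx n) F} (hU : A.BlockTriangular (rho n))
    {j l : Fin (n + 1)} (h : j < l) : A (Sum.inr j) (Sum.inr l) = 0 := by
  apply hU
  simp only [rho_inr]
  have := l.2
  have := j.2
  have : j.val < l.val := h
  omega

/-- the diagonal relation -/
theorem sp_diag {A : Matrix (Idx n) (Idx n) F}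
    (hA : A ∈ Matrix.symplecticGroup (Fin (n + 1)) F) (hU : A.BlockTriangular (rho n))
    (i : Fin (n + 1)) : A (Sum.inl i) (Sum.inl i) * A (Sum.inr i) (Sum.inr i) = 1 := by
  have h := sp_rel_upper hA hU i i
  rw [if_pos rfl, Finset.sum_eq_single i] at h
  · exact h
  · intro l _ hl
    rcases lt_or_gt_of_ne hl with h1 | h1
    · rw [upper_ll hU h1, zero_mul]
    · rw [upper_rr hU h1, mul_zero]
  · intro h
    exact absurd (Finset.mem_univ _) h

/-- the relation between adjacent rows -/
theorem sp_adj {A : Matrix (Idx n) (Idx n) F}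
    (hA : A ∈ Matrix.symplecticGroup (Fin (n + 1)) F) (hU : A.BlockTriangular (rho n))
    (k : Fin n) :
    A (Sum.inl k.castSucc) (Sum.inl k.castSucc) * A (Sum.inr k.succ) (Sum.inr k.castSucc) +
      A (Sum.inl k.castSucc) (Sum.inl k.succ) * A (Sum.inr k.succ) (Sum.inr k.succ) = 0 := by
  have h := sp_rel_upper hA hU k.castSucc k.succ
  rw [if_neg (castSucc_ne_succ k),
    Finset.sum_eq_add k.castSucc k.succ (castSucc_ne_succ k)] at h
  · exact h
  · intro l _ hl
    have h1 : l.val ≠ k.val := fun e => hl.1 (Fin.ext e)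
    have h2 : l.val ≠ k.val + 1 := fun e => hl.2 (Fin.ext (by simpa using e))
    rcases lt_or_ge l.val k.val with h3 | h3
    · rw [upper_ll hU (show l < k.castSucc from h3), zero_mul]
    · have h4 : k.succ < l := by
        rw [Fin.lt_def]
        simp only [Fin.val_succ]
        omega
      rw [upper_rr hU h4, mul_zero]
  · intro h
    exact absurd (Finset.mem_univ _) h
  · intro h
    exact absurd (Finset.mem_univ _) h

/-- triangular short elements -/
theorem shtMat_upper {a b : Fin (n + 1)} (hab : a < b) (M : GL (Fin 2) F)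
    (h1 : (M : Matrix (Fin 2) (Fin 2) F) 1 0 = 0)
    (h2 : ((M⁻¹ : GL (Fin 2) F) : Matrix (Fin 2) (Fin 2) F) 1 0 = 0) :
    (shtMat a b M).BlockTriangular (rho n) := by
  intro x y hxy
  rcases x with i | i <;> rcases y with j | j
  · rw [shtMat_ll]
    exact blk_upper hab _ h1 i j (by simpa using hxy)
  · rfl
  · rfl
  · rw [shtMat_rr]
    apply blk_upper hab _ h2 j i
    simp only [rho_inr] at hxy
    have := i.2
    have := j.2
    rw [Fin.lt_def]
    omega

/-- triangular long elements -/
theorem lngMat_upper (i : Fin (n + 1)) (M : Matrix (Fin 2) (Fin 2) F) (h : M 1 0 = 0) :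
    (lngMat i M).BlockTriangular (rho n) := by
  intro x y hxy
  rcases x with x | x <;> rcases y with y | y
  · rw [lngMat_ll]
    apply Matrix.diagonal_apply_ne
    rintro rfl
    exact lt_irrefl _ hxy
  · exfalso
    simp only [rho_inl, rho_inr] at hxy
    have := x.2
    have := y.2
    omega
  · rw [lngMat_rl, h]
    have : Function.update (0 : Fin (n + 1) → F) i 0 = 0 := Function.update_eq_self i 0
    rw [this, show (diagonal (0 : Fin (n + 1) → F)) = 0 from diagonal_zero]
    rfl
  · rw [lngMat_rr]
    apply Matrix.diagonal_apply_ne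
    rintro rfl
    exact lt_irrefl _ hxy

/-- the short reflection is monomial -/
theorem shtMat_gW_mono (k : Fin n) :
    IsMono (shtMat k.castSucc k.succ (gW : GL (Fin 2) F)) (piS k) := by
  intro x y hxy
  rcases x with i | i <;> rcases y with j | j
  · rw [shtMat_ll, coe_gW]
    by_contra hne
    apply hxy
    rw [piS_inl, blk_W (castSucc_ne_succ k) i j hne]
  · rfl
  · rfl
  · rw [shtMat_rr, coe_gW_inv]
    by_contra hne
    apply hxy
    rw [piS_inr, blk_W (castSucc_ne_succ k) j i hne, Equiv.swap_apply_self]

/-- the long reflection is monomial -/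
theorem lngMat_sW_mono : IsMono (lngMat (Fin.last n) (sW : Matrix.SpecialLinearGroup (Fin 2) F).1)
    (piL n) := by
  intro x y hxy
  rw [coe_sW]
  rcases x with x | x <;> rcases y with y | y
  · rw [lngMat_ll, Matrix.diagonal_apply]
    by_cases h : x = y
    · subst h
      rw [if_pos rfl]
      by_cases hx : x = Fin.last n
      · subst hx
        simp
      · exfalso
        apply hxy
        rw [piL_inl, if_neg hx]
    · rw [if_neg h]
  · rw [lngMat_lr, Matrix.diagonal_apply]
    by_cases h : x = y
    · subst h
      rw [if_pos rfl]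
      by_cases hx : x = Fin.last n
      · exfalso
        apply hxy
        rw [piL_inr, if_pos hx, hx]
      · simp [Function.update_of_ne hx]
    · rw [if_neg h]
  · rw [lngMat_rl, Matrix.diagonal_apply]
    by_cases h : x = y
    · subst h
      rw [if_pos rfl]
      by_cases hx : x = Fin.last n
      · exfalso
        apply hxy
        rw [piL_inl, if_pos hx, hx]
      · simp [Function.update_of_ne hx]
    · rw [if_neg h]
  · rw [lngMat_rr, Matrix.diagonal_apply]
    by_cases h : x = y
    · subst h
      rw [if_pos rfl]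
      by_cases hx : x = Fin.last n
      · subst hx
        simp
      · exfalso
        apply hxy
        rw [piL_inr, if_neg hx]
    · rw [if_neg h]

end Cfsg.Agent.Lib.Helper14.SpBN
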