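import Mathlib
import Cfsg.Agent.Lib.Helper14.SpBN6

/-!
# The rank one data of the symplectic group
-/

set_option autoImplicit false
set_option linter.unusedSectionVars false

namespace Cfsg.Agent.Lib.Helper14.SpBN

open Matrix Cfsg.Agent.Lib.Helper14.MatBN Cfsg.Agent.Lib.Helper14.TriMono

variable {n : ℕ} {F : Type*} [Field F]

/-- the symplectic group of rank `n + 1` -/
abbrev SpG (n : ℕ) (F : Type*) [Field F] : Type _ := ↥(Matrix.symplecticGroup (Fin (n + 1)) F)

/-- the matrix of an element -/
def matHom (n : ℕ) (F : Type*) [Field F] : SpG n F →* Matrix (Idx n) (Idx n) F :=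
  (Matrix.symplecticGroup (Fin (n + 1)) F).subtype

theorem matHom_apply (g : SpG n F) : matHom n F g = (g : Matrix (Idx n) (Idx n) F) := rfl

/-- short root elements -/
def xS (k : Fin n) (t : F) : SpG n F := sht k.castSucc k.succ (castSucc_ne_succ k) (gT t)

/-- long root elements -/
def xL (n : ℕ) (t : F) : SpG n F := lng (Fin.last n) (sT t)

/-- the reflections -/
def sK : Fin n ⊕ Unit → SpG n F :=
  Sum.elim (fun k => sht k.castSucc k.succ (castSucc_ne_succ k) gW) (fun _ => lng (Fin.last n) sW)

/-- the root subgroups -/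
def XK : Fin n ⊕ Unit → Set (SpG n F) :=
  Sum.elim (fun k => Set.range (xS k)) (fun _ => Set.range (xL n))

theorem mat_xS (k : Fin n) (t : F) :
    matHom n F (xS k t) = 1 + Matrix.single (Sum.inl k.castSucc) (Sum.inl k.succ) t -
      Matrix.single (Sum.inr k.succ) (Sum.inr k.castSucc) t :=
  shtMat_gT (castSucc_ne_succ k) t

theorem mat_xL (t : F) :
    matHom n F (xL n t) = 1 + Matrix.single (Sum.inl (Fin.last n)) (Sum.inr (Fin.last n)) t :=
  lngMat_sT (Fin.last n) t

theorem xS_inv (k : Fin n) (t : F) : (xS k t : SpG n F)⁻¹ = xS k (-t) := by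
  unfold xS
  rw [← map_inv, gT_inv]

theorem xL_inv (t : F) : (xL n t : SpG n F)⁻¹ = xL n (-t) := by
  unfold xL
  rw [← map_inv, sT_inv]

theorem xS_zero (k : Fin n) : (xS k 0 : SpG n F) = 1 := by
  unfold xS
  rw [gT_zero, map_one]

theorem xL_zero : (xL n 0 : SpG n F) = 1 := by
  unfold xL
  rw [sT_zero, map_one]

theorem xS_upper (k : Fin n) (t : F) : (matHom n F (xS k t)).BlockTriangular (rho n) :=
  shtMat_upper (castSucc_lt_succ' k) (gT t) (by rw [coe_gT]; simp) (by rw [coe_gT_inv]; simp)

theorem xL_upper (t : F) : (matHom n F (xL n t)).BlockTriangular (rho n) :=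
  lngMat_upper (Fin.last n) _ (by rw [coe_sT]; simp)

theorem mem_sp (g : SpG n F) : matHom n F g ∈ Matrix.symplecticGroup (Fin (n + 1)) F := g.2

theorem diag_ne_zero {b : SpG n F} (hb : (matHom n F b).BlockTriangular (rho n))
    (i : Fin (n + 1)) : matHom n F b (Sum.inl i) (Sum.inl i) ≠ 0 :=
  left_ne_zero_of_mul (by rw [sp_diag (mem_sp b) hb i]; exact one_ne_zero)

/-- the data -/
def spSetup (n : ℕ) (F : Type*) [Field F] : Setup (SpG n F) (Idx n) F (Fin n ⊕ Unit) where
  mat := matHom n F
  ρ := rho n
  W := Wg n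
  s := sK
  π := piK
  X := XK
  mat_inj := Subtype.val_injective
  ρ_inj := rho_inj
  π_mem := piK_mem
  π_sq := piK_sq
  π_ne := piK_ne
  π_inj := piK_inj
  s_mono := by
    rintro (k | k)
    · exact shtMat_gW_mono k
    · exact lngMat_sW_mono
  X_upper := by
    rintro (k | k) x ⟨t, rfl⟩
    · exact xS_upper k t
    · exact xL_upper t
  X_diag := by
    rintro (k | k) x ⟨t, rfl⟩ i
    · show matHom n F (xS k t) i i = 1
      rw [mat_xS]
      rcases i with i | i
      · simp only [Matrix.add_apply, Matrix.sub_apply, Matrix.single_apply, Matrix.one_apply_eq,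
          Sum.inl.injEq, reduceCtorEq, false_and, if_false, sub_zero]
        rw [if_neg (fun h => castSucc_ne_succ k (h.1.trans h.2.symm)), add_zero]
      · simp only [Matrix.add_apply, Matrix.sub_apply, Matrix.single_apply, Matrix.one_apply_eq,
          Sum.inr.injEq, reduceCtorEq, false_and, if_false, add_zero]
        rw [if_neg (fun h => castSucc_ne_succ k (h.2.trans h.1.symm)), sub_zero]
    · show matHom n F (xL n t) i i = 1
      rw [mat_xL]
      rcases i with i | i
      · simp [Matrix.add_apply]
      · simp [Matrix.add_apply]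
  X_supp := by
    rintro (k | k) x ⟨t, rfl⟩ u v huv hne
    · show InPi (rho n) (piS k) u v
      rw [inPi_piS]
      have hne' : matHom n F (xS k t) u v ≠ 0 := hne
      rw [mat_xS, Matrix.sub_apply, Matrix.add_apply, Matrix.one_apply_ne huv, zero_add,
        Matrix.single_apply, Matrix.single_apply] at hne'
      by_cases h1 : Sum.inl k.castSucc = u ∧ Sum.inl k.succ = v
      · exact Or.inl ⟨h1.1.symm, h1.2.symm⟩
      · by_cases h2 : Sum.inr k.succ = u ∧ Sum.inr k.castSucc = v
        · exact Or.inr ⟨h2.1.symm, h2.2.symm⟩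
        · rw [if_neg h1, if_neg h2, sub_zero] at hne'
          exact absurd rfl hne'
    · show InPi (rho n) (piL n) u v
      rw [inPi_piL]
      have hne' : matHom n F (xL n t) u v ≠ 0 := hne
      rw [mat_xL, Matrix.add_apply, Matrix.one_apply_ne huv, zero_add,
        Matrix.single_apply] at hne'
      by_cases h1 : Sum.inl (Fin.last n) = u ∧ Sum.inr (Fin.last n) = v
      · exact ⟨h1.1.symm, h1.2.symm⟩
      · rw [if_neg h1] at hne'
        exact absurd rfl hne'
  X_ne := by
    rintro (k | k)
    · refine ⟨xS k 1, ⟨1, rfl⟩, fun h => ?_⟩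
      have h1 := congrArg (fun g : SpG n F => matHom n F g (Sum.inl k.castSucc) (Sum.inl k.succ)) h
      simp only [mat_xS, map_one] at h1
      simp [Matrix.add_apply, Matrix.sub_apply, castSucc_ne_succ k] at h1
    · refine ⟨xL n 1, ⟨1, rfl⟩, fun h => ?_⟩
      have h1 := congrArg (fun g : SpG n F =>
        matHom n F g (Sum.inl (Fin.last n)) (Sum.inr (Fin.last n))) h
      simp only [mat_xL, map_one] at h1
      simp [Matrix.add_apply] at h1
  orient := by
    intro σ hσ k
    rcases k with k | k
    · have e1 : rho n (σ (Sum.inr k.succ)) = 2 * n + 1 - rho n (σ (Sum.inl k.succ)) := by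
        have := hσ (Sum.inl k.succ)
        rw [Sum.swap_inl] at this
        rw [this, rho_swap]
      have e2 : rho n (σ (Sum.inr k.castSucc)) = 2 * n + 1 - rho n (σ (Sum.inl k.castSucc)) := by
        have := hσ (Sum.inl k.castSucc)
        rw [Sum.swap_inl] at this
        rw [this, rho_swap]
      have hA := rho_le (σ (Sum.inl k.castSucc))
      have hB := rho_le (σ (Sum.inl k.succ))
      have hne : rho n (σ (Sum.inl k.castSucc)) ≠ rho n (σ (Sum.inl k.succ)) := by
        intro h
        have := σ.injective (rho_inj h)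
        exact castSucc_ne_succ k (Sum.inl_injective this)
      rcases lt_or_gt_of_ne hne with h | h
      · left
        intro u v huv
        rcases (inPi_piS k u v).mp huv with ⟨rfl, rfl⟩ | ⟨rfl, rfl⟩
        · exact h
        · rw [e1, e2]
          omega
      · right
        intro u v huv
        rcases (inPi_piS k u v).mp huv with ⟨rfl, rfl⟩ | ⟨rfl, rfl⟩
        · exact h
        · rw [e1, e2]
          omega
    · have hne : rho n (σ (Sum.inl (Fin.last n))) ≠ rho n (σ (Sum.inr (Fin.last n))) := by
        intro h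
        have := σ.injective (rho_inj h)
        exact Sum.inl_ne_inr this
      rcases lt_or_gt_of_ne hne with h | h
      · left
        intro u v huv
        obtain ⟨rfl, rfl⟩ := (inPi_piL u v).mp huv
        exact h
      · right
        intro u v huv
        obtain ⟨rfl, rfl⟩ := (inPi_piL u v).mp huv
        exact h
  hA := by
    rintro (k | k) b hb
    · set t : F := matHom n F b (Sum.inl k.castSucc) (Sum.inl k.succ) /
        matHom n F b (Sum.inl k.castSucc) (Sum.inl k.castSucc) with ht
      have hd := diag_ne_zero hb k.castSucc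
      have hd' := diag_ne_zero hb k.succ
      refine ⟨xS k t, ⟨t, rfl⟩, ?_⟩
      intro u v huv
      rw [xS_inv, map_mul, mat_xS, Matrix.mul_sub, Matrix.mul_add, Matrix.mul_one,
        Matrix.sub_apply, Matrix.add_apply]
      rcases (inPi_piS k u v).mp huv with ⟨rfl, rfl⟩ | ⟨rfl, rfl⟩
      · rw [Matrix.mul_single_apply_same, Matrix.mul_single_apply_of_ne (i := Sum.inr k.succ)
          (j := Sum.inr k.castSucc) (a := Sum.inl k.castSucc) (b := Sum.inl k.succ)
          (hbj := by simp), sub_zero, ht]
        field_simp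
        ring
      · rw [Matrix.mul_single_apply_of_ne (i := Sum.inl k.castSucc) (j := Sum.inl k.succ)
          (a := Sum.inr k.succ) (b := Sum.inr k.castSucc) (hbj := by simp),
          Matrix.mul_single_apply_same, add_zero, ht]
        have hrel := sp_adj (mem_sp b) hb k
        have hd2 := sp_diag (mem_sp b) hb k.succ
        field_simp
        linear_combination hrel
    · set t : F := matHom n F b (Sum.inl (Fin.last n)) (Sum.inr (Fin.last n)) /
        matHom n F b (Sum.inl (Fin.last n)) (Sum.inl (Fin.last n)) with ht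
      have hd := diag_ne_zero hb (Fin.last n)
      refine ⟨xL n t, ⟨t, rfl⟩, ?_⟩
      intro u v huv
      rw [xL_inv, map_mul, mat_xL, Matrix.mul_add, Matrix.mul_one, Matrix.add_apply]
      obtain ⟨rfl, rfl⟩ := (inPi_piL u v).mp huv
      rw [Matrix.mul_single_apply_same, ht]
      field_simp
      ring
  hC := by
    rintro (k | k) x ⟨t, rfl⟩
    · by_cases ht : t = 0
      · left
        rw [ht]
        exact xS_zero k
      · right
        refine ⟨sht k.castSucc k.succ (castSucc_ne_succ k)
          (gB (-t⁻¹) t 1 (neg_ne_zero.mpr (inv_ne_zero ht)) ht), ?_, xS k t⁻¹, ⟨t⁻¹, rfl⟩, ?_⟩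
        · exact shtMat_upper (castSucc_lt_succ' k) _ (by rw [coe_gB]; simp)
            (by rw [coe_gB_inv]; simp)
        · show sht k.castSucc k.succ _ gW * sht k.castSucc k.succ _ (gT t) *
            (sht k.castSucc k.succ _ gW)⁻¹ = _ * sht k.castSucc k.succ _ gW *
              sht k.castSucc k.succ _ (gT t⁻¹)
          rw [← map_inv, ← map_mul, ← map_mul, ← map_mul, ← map_mul, gl2_identity t ht]
    · by_cases ht : t = 0
      · left
        rw [ht]
        exact xL_zero
      · right
        refine ⟨lng (Fin.last n) (sB t⁻¹ (-1) (inv_ne_zero ht)), ?_, xL n (-t⁻¹), ⟨-t⁻¹, rfl⟩, ?_⟩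
        · exact lngMat_upper (Fin.last n) _ (by rw [coe_sB]; simp)
        · show lng (Fin.last n) sW * lng (Fin.last n) (sT t) * (lng (Fin.last n) sW)⁻¹ =
            lng (Fin.last n) (sB t⁻¹ (-1) (inv_ne_zero ht)) * lng (Fin.last n) sW *
              lng (Fin.last n) (sT (-t⁻¹))
          rw [← map_mul, sl2_identity t ht, map_mul, map_mul, map_mul]
          group

end Cfsg.Agent.Lib.Helper14.SpBN
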