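import Mathlib
import Cfsg.Agent.Lib.Helper14.SpBN7
import Cfsg.Agent.Lib.Helper14.MatBN2

/-!
# Adjacent pairs, the torus, and some elements of the Borel subgroup of the symplectic group
-/

set_option autoImplicit false
set_option linter.unusedSectionVars false

namespace Cfsg.Agent.Lib.Helper14.SpBN

open Matrix Cfsg.Agent.Lib.Helper14.MatBN Cfsg.Agent.Lib.Helper14.TriMono

variable {n : ℕ} {F : Type*} [Field F]

theorem sp_hadj (u v : Idx n) (h : rho n v = rho n u + 1) :
    ∃ k, InPi (rho n) (piK k) u v := by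
  rcases u with i | i <;> rcases v with j | j <;> simp only [rho_inl, rho_inr] at h
  · have hj := j.2
    refine ⟨Sum.inl ⟨i.val, by omega⟩, ?_⟩
    show InPi (rho n) (piS _) _ _
    rw [inPi_piS]
    left
    exact ⟨congrArg _ (Fin.ext rfl), congrArg _ (Fin.ext (by simpa using h))⟩
  · have hi := i.2
    have hj := j.2
    refine ⟨Sum.inr (), ?_⟩
    show InPi (rho n) (piL n) _ _
    rw [inPi_piL]
    exact ⟨congrArg _ (Fin.ext (by simp only [Fin.val_last]; omega)),
      congrArg _ (Fin.ext (by simp only [Fin.val_last]; omega))⟩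
  · exfalso
    have hi := i.2
    have hj := j.2
    omega
  · have hi := i.2
    have hj := j.2
    refine ⟨Sum.inl ⟨j.val, by omega⟩, ?_⟩
    show InPi (rho n) (piS _) _ _
    rw [inPi_piS]
    right
    exact ⟨congrArg _ (Fin.ext (by simp only [Fin.val_succ]; omega)), congrArg _ (Fin.ext rfl)⟩

theorem sp_hconn (u v : Idx n) (h : rho n u < rho n v) : ∃ w, rho n w = rho n u + 1 := by
  have hv := rho_le v
  by_cases h1 : rho n u + 1 ≤ n
  · exact ⟨Sum.inl ⟨rho n u + 1, by omega⟩, rfl⟩
  · refine ⟨Sum.inr ⟨2 * n + 1 - (rho n u + 1), by omega⟩, ?_⟩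
    simp only [rho_inr]
    omega

/-- the diagonal part of a triangular symplectic matrix is symplectic -/
theorem sp_hdiag (b : SpG n F) (hb : (matHom n F b).BlockTriangular (rho n)) :
    ∃ h : SpG n F, matHom n F h = Matrix.diagonal (fun i => matHom n F b i i) := by
  have hmem : Matrix.diagonal (fun i => matHom n F b i i) ∈
      Matrix.symplecticGroup (Fin (n + 1)) F := by
    have e : Matrix.diagonal (fun i : Idx n => matHom n F b i i) =
        fromBlocks (diagonal fun i => matHom n F b (Sum.inl i) (Sum.inl i)) 0 0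
          (diagonal fun i => matHom n F b (Sum.inr i) (Sum.inr i)) := by
      rw [Matrix.fromBlocks_diagonal]
      congr 1
      funext i
      rcases i with i | i <;> rfl
    rw [e, SymplecticGroup.fromBlocks_mem_iff]
    refine ⟨by simp, by simp, ?_⟩
    rw [diagonal_transpose, diagonal_mul_diagonal, transpose_zero, Matrix.zero_mul, sub_zero,
      ← diagonal_one]
    congr 1
    funext i
    exact sp_diag (mem_sp b) hb i
  exact ⟨⟨_, hmem⟩, rfl⟩

/-- elements of the Levi factor: `1 + c dᵀ` with `dᵀ c = 0` -/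
def g1Mat (c d : Fin (n + 1) → F) : Matrix (Idx n) (Idx n) F :=
  fromBlocks (1 + vecMulVec c d) 0 0 (1 - vecMulVec d c)

theorem g1Mat_mem (c d : Fin (n + 1) → F) (hcd : d ⬝ᵥ c = 0) :
    g1Mat c d ∈ Matrix.symplecticGroup (Fin (n + 1)) F := by
  unfold g1Mat
  rw [SymplecticGroup.fromBlocks_mem_iff]
  refine ⟨by simp, by simp, ?_⟩
  rw [transpose_zero, Matrix.zero_mul, sub_zero, transpose_add, transpose_one,
    transpose_vecMulVec, add_mul, mul_sub, mul_sub, one_mul, one_mul, mul_one,
    vecMulVec_mul_vecMulVec, dotProduct_comm, hcd, zero_smul]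
  have : vecMulVec d (0 : Fin (n + 1) → F) = 0 := by
    ext i j
    simp [vecMulVec_apply]
  rw [this]
  abel

theorem g1Mat_mulVec (c d a b : Fin (n + 1) → F) :
    g1Mat c d *ᵥ Sum.elim a b = Sum.elim (a + (d ⬝ᵥ a) • c) (b - (c ⬝ᵥ b) • d) := by
  unfold g1Mat
  rw [fromBlocks_mulVec]
  simp only [Sum.elim_comp_inl, Sum.elim_comp_inr, zero_mulVec, add_zero, zero_add, add_mulVec,
    sub_mulVec, one_mulVec, vecMulVec_mulVec]
  congr 1
  · ext i
    simp [mul_comm]
  · ext i
    simp [mul_comm]

theorem g1Mat_upper (c d : Fin (n + 1) → F) (h : ∀ l l' : Fin (n + 1), l' < l → c l * d l' = 0) :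
    (g1Mat c d).BlockTriangular (rho n) := by
  intro x y hxy
  unfold g1Mat
  rcases x with x | x <;> rcases y with y | y
  · simp only [rho_inl] at hxy
    rw [fromBlocks_apply₁₁, Matrix.add_apply, vecMulVec_apply, h x y hxy, add_zero,
      Matrix.one_apply_ne (fun e => by rw [e] at hxy; exact lt_irrefl _ hxy)]
  · rfl
  · rfl
  · simp only [rho_inr] at hxy
    have hx := x.2
    have hy := y.2
    have hlt : x < y := by
      rw [Fin.lt_def]
      omega
    rw [fromBlocks_apply₂₂, Matrix.sub_apply, vecMulVec_apply, mul_comm, h y x hlt, sub_zero,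
      Matrix.one_apply_ne (fun e => by rw [e] at hlt; exact lt_irrefl _ hlt)]

/-- elements of the unipotent radical of the Siegel parabolic -/
def g2Mat (C : Matrix (Fin (n + 1)) (Fin (n + 1)) F) : Matrix (Idx n) (Idx n) F :=
  fromBlocks 1 C 0 1

theorem g2Mat_mem (C : Matrix (Fin (n + 1)) (Fin (n + 1)) F) (hC : Cᵀ = C) :
    g2Mat C ∈ Matrix.symplecticGroup (Fin (n + 1)) F := by
  unfold g2Mat
  rw [SymplecticGroup.fromBlocks_mem_iff]
  refine ⟨by simp, by simp [hC], by simp⟩

theorem g2Mat_mulVec (C : Matrix (Fin (n + 1)) (Fin (n + 1)) F) (a b : Fin (n + 1) → F) :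
    g2Mat C *ᵥ Sum.elim a b = Sum.elim (a + C *ᵥ b) b := by
  unfold g2Mat
  rw [fromBlocks_mulVec]
  simp only [Sum.elim_comp_inl, Sum.elim_comp_inr, zero_mulVec, zero_add, one_mulVec]

theorem g2Mat_upper (C : Matrix (Fin (n + 1)) (Fin (n + 1)) F) :
    (g2Mat C).BlockTriangular (rho n) := by
  intro x y hxy
  unfold g2Mat
  rcases x with x | x <;> rcases y with y | y
  · rw [fromBlocks_apply₁₁]
    exact Matrix.one_apply_ne (fun e => by rw [e] at hxy; exact lt_irrefl _ hxy)
  · exfalso
    simp only [rho_inl, rho_inr] at hxy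
    have hx := x.2
    have hy := y.2
    omega
  · rfl
  · rw [fromBlocks_apply₂₂]
    exact Matrix.one_apply_ne (fun e => by rw [e] at hxy; exact lt_irrefl _ hxy)

end Cfsg.Agent.Lib.Helper14.SpBN
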