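import Cfsg.Agent.Lib.Helper14.GUConj5

set_option autoImplicit false
set_option linter.unusedSectionVars false

/-! # Matrices similar to unitary matrices -/

namespace Cfsg.Agent.Lib.Helper14.GUConj

open Matrix Cfsg Cfsg.Agent.Lib.Helper6 Cfsg.Agent.S0779 Module Polynomial
open Cfsg.Agent.Lib.Helper14.HSemi (sigQ sigQ_apply)
open Cfsg.Agent.Lib.Helper14.HCount (sigQ_sigQ herm_mul_mul)

variable {F : Type*} [Field F] [Fintype F] {q : ℕ} (hF : Fintype.card F = q ^ 2) {n : ℕ}

/-- the twisted self-duality of the characteristic polynomial of `s` when `s^♯ ~ s⁻¹` -/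
theorem charpoly_selfdual (s t : Matrix (Fin n) (Fin n) F) (hs : IsUnit s.det)
    (hst : sharp hF s = t * s⁻¹ * t⁻¹) (ht : IsUnit t.det) :
    s.charpoly.map (sigQ hF : F →+* F) =
      C ((-1) ^ n * (s.det)⁻¹) * s.charpoly.reverse := by
  have h1 : (s.map (sigQ hF)).charpoly = s.charpoly.map (sigQ hF : F →+* F) :=
    Matrix.charpoly_map s (sigQ hF : F →+* F)
  have h2 : s.map (sigQ hF) = (sharp hF s)ᵀ := by
    rw [sharp_eq, Matrix.transpose_transpose]
  have hsu : IsUnit s := (Matrix.isUnit_iff_isUnit_det s).mpr hs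
  rw [← h1, h2, Matrix.charpoly_transpose, hst, Matrix.mul_assoc, Matrix.charpoly_mul_comm,
    Matrix.mul_assoc, Matrix.nonsing_inv_mul _ ht, Matrix.mul_one, Matrix.charpoly_inv _ hsu,
    ← Matrix.reverse_charpoly, Ring.inverse_eq_inv', Fintype.card_fin, C_mul, map_pow, map_neg,
    map_one]

/-- an invertible `t` with `A^♯ t A = t` can be replaced by a hermitian one -/
theorem exists_herm_invariant (A t : Matrix (Fin n) (Fin n) F) (ht : IsUnit t.det)
    (h : sharp hF A * t * A = t) :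
    ∃ H : Matrix (Fin n) (Fin n) F, IsUnit H.det ∧ sharp hF H = H ∧ sharp hF A * H * A = H := by
  set σ := sigQ hF with hσ
  set ts := sharp hF t with hts
  have htsd : IsUnit ts.det := by
    rw [hts, det_sharp]
    exact ht.map σ
  have h' : sharp hF A * ts * A = ts := by
    have := congrArg (sharp hF) h
    rw [sharp_mul, sharp_mul, sharp_sharp, ← Matrix.mul_assoc] at this
    exact this
  have hAd : IsUnit A.det := by
    have := congrArg Matrix.det h
    rw [Matrix.det_mul, Matrix.det_mul] at this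
    have hu : IsUnit ((sharp hF A).det * t.det * A.det) := by rw [this]; exact ht
    exact isUnit_of_mul_isUnit_right hu
  set s := t⁻¹ * ts with hs
  have hsd : IsUnit s.det := by
    rw [hs, Matrix.det_mul, Matrix.det_nonsing_inv, Ring.inverse_eq_inv']
    exact ht.inv.mul htsd
  have hts' : t * s = ts := by
    rw [hs, ← Matrix.mul_assoc, Matrix.mul_nonsing_inv _ ht, Matrix.one_mul]
  have hsA : s * A = A * s := by
    set L := sharp hF A * t with hL
    have hLd : IsUnit L.det := by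
      rw [hL, Matrix.det_mul, det_sharp]
      exact (hAd.map σ).mul ht
    have e1 : L * (s * A) = ts := by
      rw [hL, Matrix.mul_assoc, ← Matrix.mul_assoc t, hts', ← Matrix.mul_assoc]
      exact h'
    have e2 : L * (A * s) = ts := by
      rw [hL, ← Matrix.mul_assoc, h, hts']
    calc s * A = L⁻¹ * (L * (s * A)) := (Matrix.nonsing_inv_mul_cancel_left _ _ hLd).symm
      _ = L⁻¹ * (L * (A * s)) := by rw [e1, e2]
      _ = A * s := Matrix.nonsing_inv_mul_cancel_left _ _ hLd
  have hss : sharp hF s = t * s⁻¹ * t⁻¹ := by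
    have e1 : sharp hF s = t * ts⁻¹ := by
      rw [hs, sharp_mul, sharp_inv hF t ht, hts, sharp_sharp]
    have e2 : s⁻¹ = ts⁻¹ * t := by
      rw [hs, Matrix.mul_inv_rev, Matrix.nonsing_inv_nonsing_inv _ ht]
    rw [e1, e2, Matrix.mul_assoc, Matrix.mul_assoc, Matrix.mul_nonsing_inv _ ht, Matrix.mul_one]
  have hint : sharp hF s * ts = ts * s⁻¹ := by
    have e2 : s⁻¹ = ts⁻¹ * t := by
      rw [hs, Matrix.mul_inv_rev, Matrix.nonsing_inv_nonsing_inv _ ht]
    have e1 : sharp hF s = t * ts⁻¹ := by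
      rw [hs, sharp_mul, sharp_inv hF t ht, hts, sharp_sharp]
    rw [e1, e2, Matrix.mul_assoc, Matrix.nonsing_inv_mul _ htsd, Matrix.mul_one,
      ← Matrix.mul_assoc, Matrix.mul_nonsing_inv _ htsd, Matrix.one_mul]
  -- the polynomial ring
  set μ := s.charpoly with hμ
  have hμσ := charpoly_selfdual hF s t hsd hss ht
  have hμ0 : μ ≠ 0 := (Matrix.charpoly_monic s).ne_zero
  have hc0 : μ.coeff 0 ≠ 0 := by
    intro h0
    have h1 := Matrix.det_eq_sign_charpoly_coeff s
    rw [← hμ, h0, mul_zero] at h1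
    rw [h1] at hsd
    exact not_isUnit_zero hsd
  have hfin : Finite (AdjoinRoot μ) := finite_adjoinRoot μ hμ0
  obtain ⟨τ, hττ, hτof, hτroot, hτmk⟩ := exists_tau_inv σ (sigQ_sigQ hF) μ hc0 _ hμσ
  obtain ⟨a, ha⟩ := sig_ne hF
  have he : IsUnit (AdjoinRoot.of μ a - τ (AdjoinRoot.of μ a)) := by
    rw [hτof, ← map_sub]
    have hu : IsUnit (a - σ a) := by
      rw [isUnit_iff_ne_zero]
      exact sub_ne_zero.mpr (Ne.symm ha)
    exact hu.map (AdjoinRoot.of μ)
  obtain ⟨z, hzu, hz⟩ := hilbert90_ring τ hττ _ he (AdjoinRoot.root μ) (by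
    rw [hτroot]; exact root_mul_rinv μ hc0)
  obtain ⟨P, rfl⟩ := AdjoinRoot.mk_surjective z
  -- evaluation at `s`
  let ev : AdjoinRoot μ →+* Matrix (Fin n) (Fin n) F :=
    Ideal.Quotient.lift (Ideal.span {μ})
      ((aeval s : F[X] →ₐ[F] Matrix (Fin n) (Fin n) F) : F[X] →+* Matrix (Fin n) (Fin n) F) (by
        intro b hb
        rw [Ideal.mem_span_singleton] at hb
        obtain ⟨d, rfl⟩ := hb
        rw [RingHom.coe_coe, map_mul, hμ, Matrix.aeval_self_charpoly, zero_mul])
  have hev_mk : ∀ Q : F[X], ev (AdjoinRoot.mk μ Q) = aeval s Q := fun Q => rfl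
  have hev_root : ev (AdjoinRoot.root μ) = s := by
    rw [← AdjoinRoot.mk_X, hev_mk, aeval_X]
  have hev_rinv : ev (rinv μ) = s⁻¹ := by
    symm
    apply Matrix.inv_eq_right_inv
    rw [← hev_root, ← map_mul, root_mul_rinv μ hc0, map_one]
  have hev_aeval : ∀ (y : AdjoinRoot μ) (Q : F[X]), ev (aeval y Q) = aeval (ev y) Q := by
    intro y Q
    rw [aeval_def, aeval_def, Polynomial.hom_eval₂]
    congr 1
    ext b
    rw [RingHom.comp_apply, AdjoinRoot.algebraMap_eq, ← AdjoinRoot.mk_C, hev_mk, aeval_C]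
  set Z := aeval s P with hZdef
  have hZ : Z = s * aeval s⁻¹ (P.map (σ : F →+* F)) := by
    have := congrArg ev hz
    rw [hev_mk, map_mul, hev_root, hτmk, hev_aeval, hev_rinv] at this
    exact this
  have hZu : IsUnit Z.det := by
    have : IsUnit (ev (AdjoinRoot.mk μ P)) := hzu.map ev
    rw [hev_mk] at this
    exact (Matrix.isUnit_iff_isUnit_det _).mp this
  have hZA : Z * A = A * Z := aeval_intertwine hsA P
  refine ⟨t * Z, ?_, ?_, ?_⟩
  · rw [Matrix.det_mul]
    exact ht.mul hZu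
  · rw [sharp_mul, hZdef, sharp_aeval, ← hts, aeval_intertwine hint, ← hts', Matrix.mul_assoc,
      ← hZ]
  · rw [Matrix.mul_assoc, Matrix.mul_assoc, hZA, ← Matrix.mul_assoc, ← Matrix.mul_assoc, h]

/-- a matrix `A` with `A^♯ t A = t` for an invertible `t` is similar to a unitary matrix -/
theorem exists_unitary_conj (A t : Matrix (Fin n) (Fin n) F) (ht : IsUnit t.det)
    (h : sharp hF A * t * A = t) :
    ∃ W : Matrix (Fin n) (Fin n) F, IsUnit W.det ∧
      sharp hF (W * A * W⁻¹) * (W * A * W⁻¹) = 1 := by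
  obtain ⟨H, hHd, hHs, hHA⟩ := exists_herm_invariant hF A t ht h
  obtain ⟨P, hP⟩ := exists_sharp_root hF H hHs hHd
  set W := aeval H P with hW
  have hWs : sharp hF W = aeval H (P.map (sigQ hF : F →+* F)) := by
    rw [hW, sharp_aeval, hHs]
  have hWc : sharp hF W * W = H := by rw [hWs]; exact hP
  have hWdet : IsUnit W.det := by
    have h3 : (sharp hF W).det * W.det = H.det := by rw [← Matrix.det_mul, hWc]
    rw [← h3] at hHd
    exact isUnit_of_mul_isUnit_right hHd
  have hsd : IsUnit (sharp hF W).det := by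
    rw [det_sharp]; exact hWdet.map (sigQ hF)
  refine ⟨W, hWdet, ?_⟩
  rw [sharp_mul, sharp_mul, sharp_inv hF W hWdet]
  calc (sharp hF W)⁻¹ * (sharp hF A * sharp hF W) * (W * A * W⁻¹)
      = (sharp hF W)⁻¹ * (sharp hF A * (sharp hF W * W) * A) * W⁻¹ := by
        simp only [Matrix.mul_assoc]
    _ = (sharp hF W)⁻¹ * (sharp hF W * W) * W⁻¹ := by rw [hWc, hHA]
    _ = 1 := by
        rw [← Matrix.mul_assoc (sharp hF W)⁻¹, Matrix.nonsing_inv_mul _ hsd, Matrix.one_mul,
          Matrix.mul_nonsing_inv _ hWdet]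

end Cfsg.Agent.Lib.Helper14.GUConj
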