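import Mathlib
set_option autoImplicit false
namespace Cfsg.Agent.Lib.Helper14
open Polynomial Matrix

section general
variable {K : Type*} [Field K] {V : Type*} [AddCommGroup V] [Module K V] [FiniteDimensional K V]

/-- A non-unit factor of the minimal polynomial kills a nonzero vector. -/
theorem exists_ker_of_dvd_minpoly (f : Module.End K V) (p : K[X]) (hp : ¬ IsUnit p)
    (hd : p ∣ minpoly K f) : ∃ v : V, v ≠ 0 ∧ aeval f p v = 0 := by
  obtain ⟨r, hr⟩ := hd
  have hm : minpoly K f ≠ 0 := minpoly.ne_zero (LinearMap.isIntegral f)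
  have hrne : r ≠ 0 := by
    rintro rfl
    rw [mul_zero] at hr
    exact hm hr
  have hr0 : aeval f r ≠ 0 := by
    intro h0
    have h1 := minpoly.dvd K f h0
    rw [hr] at h1
    have h2 : p * r ∣ 1 * r := by rwa [one_mul]
    exact hp (isUnit_of_dvd_one ((mul_dvd_mul_iff_right hrne).mp h2))
  obtain ⟨u, hu⟩ : ∃ u, aeval f r u ≠ 0 := by
    by_contra h
    push Not at h
    exact hr0 (LinearMap.ext h)
  refine ⟨aeval f r u, hu, ?_⟩
  rw [← Module.End.mul_apply, ← map_mul, ← hr, minpoly.aeval]
  rfl

/-- An irreducible factor of the characteristic polynomial of a matrix divides the minimal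
polynomial. -/
theorem irreducible_dvd_minpoly_matrix {n : Type*} [Fintype n] [DecidableEq n]
    (A : Matrix n n K) (p : K[X]) (hp : Irreducible p) (hd : p ∣ A.charpoly) :
    p ∣ minpoly K A := by
  have : Fact (Irreducible p) := ⟨hp⟩
  let L := AdjoinRoot p
  let α : L := AdjoinRoot.root p
  let AL : Matrix n n L := A.map (algebraMap K L)
  have h1 : (AL.charpoly).eval α = 0 := by
    have h2 : AL.charpoly = A.charpoly.map (algebraMap K L) := Matrix.charpoly_map A (algebraMap K L)
    obtain ⟨s, hs⟩ := hd
    rw [h2, hs, Polynomial.map_mul, eval_mul, eval_map,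
      ← aeval_def, AdjoinRoot.aeval_eq, AdjoinRoot.mk_self, zero_mul]
  rw [Matrix.eval_charpoly] at h1
  obtain ⟨v, hv0, hv⟩ := Matrix.exists_mulVec_eq_zero_iff.mpr h1
  have hev : AL *ᵥ v = α • v := by
    rw [Matrix.sub_mulVec] at hv
    have h3 := sub_eq_zero.mp hv
    rw [← h3]
    ext i
    simp [Matrix.mulVec, dotProduct, Matrix.scalar_apply, Matrix.diagonal_apply]
  have hpow : ∀ k : ℕ, (AL ^ k) *ᵥ v = α ^ k • v := by
    intro k
    induction k with
    | zero => simp
    | succ k ih =>
      rw [pow_succ, ← Matrix.mulVec_mulVec, hev, Matrix.mulVec_smul, ih, smul_smul, pow_succ,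
        mul_comm]
  have key : ∀ r : K[X], (aeval AL r) *ᵥ v = (aeval α r) • v := by
    intro r
    induction r using Polynomial.induction_on' with
    | add a b ha hb => rw [map_add, map_add, Matrix.add_mulVec, add_smul, ha, hb]
    | monomial k c =>
      rw [aeval_monomial, aeval_monomial, Algebra.algebraMap_eq_smul_one, smul_mul_assoc, one_mul,
        Matrix.smul_mulVec, hpow, Algebra.algebraMap_eq_smul_one, smul_mul_assoc, one_mul,
        smul_assoc]
  have h4 : aeval AL (minpoly K A) = 0 := by
    have h5 : AL = (Algebra.ofId K L).mapMatrix A := rfl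
    rw [h5, aeval_algHom_apply, minpoly.aeval, map_zero]
  have h6 := key (minpoly K A)
  rw [h4, Matrix.zero_mulVec] at h6
  have h0 : aeval α (minpoly K A) = 0 := by
    by_contra hne
    exact hv0 ((smul_eq_zero.mp h6.symm).resolve_left hne)
  rw [AdjoinRoot.aeval_eq, AdjoinRoot.mk_eq_zero] at h0
  exact h0

/-- An irreducible factor of the characteristic polynomial of an endomorphism divides the minimal
polynomial. -/
theorem irreducible_dvd_minpoly (f : Module.End K V) (p : K[X]) (hp : Irreducible p)
    (hd : p ∣ f.charpoly) : p ∣ minpoly K f := by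
  classical
  let b := Module.finBasis K V
  rw [← LinearMap.charpoly_toMatrix f b] at hd
  rw [← LinearMap.minpoly_toMatrix b f]
  exact irreducible_dvd_minpoly_matrix _ p hp hd

/-- The orbit map `r ↦ r(f) v`. -/
noncomputable def cyc (f : Module.End K V) (v : V) : K[X] →ₗ[K] V :=
  (LinearMap.applyₗ v) ∘ₗ (aeval f).toLinearMap

theorem cyc_apply (f : Module.End K V) (v : V) (r : K[X]) : cyc f v r = aeval f r v := rfl

theorem cyc_X_mul (f : Module.End K V) (v : V) (r : K[X]) : cyc f v (X * r) = f (cyc f v r) := by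
  rw [cyc_apply, cyc_apply, map_mul, aeval_X, Module.End.mul_apply]

theorem cyc_eq_zero_iff (f : Module.End K V) (v : V) (hv : v ≠ 0) (p : K[X]) (hp : Irreducible p)
    (hpv : aeval f p v = 0) (r : K[X]) : cyc f v r = 0 ↔ p ∣ r := by
  constructor
  · intro h
    by_contra hnd
    have hco : IsCoprime p r := (hp.coprime_iff_not_dvd).mpr hnd
    obtain ⟨a, b, hab⟩ := hco
    apply hv
    have h1 : aeval f (a * p + b * r) v = v := by rw [hab, map_one, Module.End.one_apply]
    rw [map_add, LinearMap.add_apply, map_mul, map_mul, Module.End.mul_apply, Module.End.mul_apply,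
      hpv, map_zero, zero_add] at h1
    rw [cyc_apply] at h
    rw [h, map_zero] at h1
    exact h1.symm
  · rintro ⟨s, rfl⟩
    rw [cyc_apply, mul_comm, map_mul, Module.End.mul_apply, hpv, map_zero]

theorem range_cyc_mem_invtSubmodule (f : Module.End K V) (v : V) :
    LinearMap.range (cyc f v) ∈ f.invtSubmodule := by
  rw [Module.End.mem_invtSubmodule]
  rintro x ⟨r, rfl⟩
  exact ⟨X * r, cyc_X_mul f v r⟩

theorem self_mem_range_cyc (f : Module.End K V) (v : V) : v ∈ LinearMap.range (cyc f v) :=
  ⟨1, by rw [cyc_apply, map_one, Module.End.one_apply]⟩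

/-- Characteristic polynomial over complementary invariant subspaces. -/
theorem charpoly_of_isCompl (f : Module.End K V) (U U' : Submodule K V)
    (hU : U ∈ f.invtSubmodule) (hU' : U' ∈ f.invtSubmodule) (hc : IsCompl U U') :
    f.charpoly = (f.restrict hU).charpoly * (f.restrict hU').charpoly := by
  let e := Submodule.prodEquivOfIsCompl U U' hc
  have h1 : f = e.conj ((f.restrict hU).prodMap (f.restrict hU')) := by
    apply LinearMap.ext
    intro x
    obtain ⟨y, rfl⟩ := e.surjective x
    rw [LinearEquiv.conj_apply_apply, LinearEquiv.symm_apply_apply]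
    obtain ⟨u, u'⟩ := y
    simp only [e, Submodule.coe_prodEquivOfIsCompl', LinearMap.prodMap_apply, map_add]
    rfl
  conv_lhs => rw [h1]
  rw [LinearEquiv.charpoly_conj, LinearMap.charpoly_prodMap]

end general

section main
universe u
variable {K : Type*} [Field K]

/-- The isomorphism between two cyclic submodules with the same irreducible annihilator. -/
noncomputable def cycEquiv {V W : Type*} [AddCommGroup V] [Module K V] [AddCommGroup W] [Module K W]
    (f : Module.End K V) (g : Module.End K W) (v : V) (w : W)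
    (hker : LinearMap.ker (cyc f v) = LinearMap.ker (cyc g w)) :
    LinearMap.range (cyc f v) ≃ₗ[K] LinearMap.range (cyc g w) :=
  ((cyc f v).quotKerEquivRange).symm ≪≫ₗ (Submodule.quotEquivOfEq _ _ hker) ≪≫ₗ
    (cyc g w).quotKerEquivRange

theorem cycEquiv_apply {V W : Type*} [AddCommGroup V] [Module K V] [AddCommGroup W] [Module K W]
    (f : Module.End K V) (g : Module.End K W) (v : V) (w : W)
    (hker : LinearMap.ker (cyc f v) = LinearMap.ker (cyc g w)) (r : K[X])
    (h : cyc f v r ∈ LinearMap.range (cyc f v)) :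
    (cycEquiv f g v w hker ⟨cyc f v r, h⟩ : W) = cyc g w r := by
  unfold cycEquiv
  rw [LinearEquiv.trans_apply, LinearEquiv.trans_apply,
    LinearMap.quotKerEquivRange_symm_apply_image]
  rfl

theorem exists_conj_of_isSemisimple_aux (n : ℕ) :
    ∀ (V W : Type u) [AddCommGroup V] [Module K V] [FiniteDimensional K V] [AddCommGroup W]
      [Module K W] [FiniteDimensional K W] (f : Module.End K V) (g : Module.End K W),
      Module.finrank K V = n → f.IsSemisimple → g.IsSemisimple → f.charpoly = g.charpoly →
      ∃ e : V ≃ₗ[K] W, ∀ x, e (f x) = g (e x) := by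
  induction n using Nat.strong_induction_on with
  | _ n ih =>
    intro V W _ _ _ _ _ _ f g hn hf hg hc
    have hnW : Module.finrank K W = n := by
      rw [← LinearMap.charpoly_natDegree g, ← hc, LinearMap.charpoly_natDegree f, hn]
    rcases Nat.eq_zero_or_pos n with h0 | hpos
    · subst h0
      have hsW : Subsingleton W := Module.finrank_zero_iff.mp hnW
      exact ⟨LinearEquiv.ofFinrankEq V W (hn.trans hnW.symm), fun x => Subsingleton.elim _ _⟩
    · have hntV : Nontrivial V := Module.nontrivial_of_finrank_pos (R := K) (by omega)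
      have hnu : ¬ IsUnit (minpoly K f) := minpoly.not_isUnit K f
      have hm0 : minpoly K f ≠ 0 := minpoly.ne_zero (LinearMap.isIntegral f)
      obtain ⟨p, hp, hpd⟩ := WfDvdMonoid.exists_irreducible_factor hnu hm0
      obtain ⟨v, hv0, hv⟩ := exists_ker_of_dvd_minpoly f p hp.not_isUnit hpd
      have hpc : p ∣ g.charpoly := by
        rw [← hc]
        exact hpd.trans (LinearMap.minpoly_dvd_charpoly f)
      obtain ⟨w, hw0, hw⟩ := exists_ker_of_dvd_minpoly g p hp.not_isUnit
        (irreducible_dvd_minpoly g p hp hpc)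
      have hker : LinearMap.ker (cyc f v) = LinearMap.ker (cyc g w) := by
        ext r
        rw [LinearMap.mem_ker, LinearMap.mem_ker, cyc_eq_zero_iff f v hv0 p hp hv,
          cyc_eq_zero_iff g w hw0 p hp hw]
      have hU := range_cyc_mem_invtSubmodule f v
      have hU₂ := range_cyc_mem_invtSubmodule g w
      set U := LinearMap.range (cyc f v) with hUdef
      set U₂ := LinearMap.range (cyc g w) with hU₂def
      let eU : U ≃ₗ[K] U₂ := cycEquiv f g v w hker
      let fU : Module.End K U := LinearMap.restrict f hU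
      let gU : Module.End K U₂ := LinearMap.restrict g hU₂
      have heU : ∀ u : U, eU (fU u) = gU (eU u) := by
        rintro ⟨_, r, rfl⟩
        apply Subtype.ext
        have h1 : fU ⟨cyc f v r, ⟨r, rfl⟩⟩ = ⟨cyc f v (X * r), ⟨X * r, rfl⟩⟩ := by
          apply Subtype.ext
          exact (cyc_X_mul f v r).symm
        have h2 : ((gU (eU ⟨cyc f v r, ⟨r, rfl⟩⟩) : U₂) : W)
            = g ((eU ⟨cyc f v r, ⟨r, rfl⟩⟩ : U₂) : W) := rfl
        have e1 : ((eU ⟨cyc f v (X * r), ⟨X * r, rfl⟩⟩ : U₂) : W) = cyc g w (X * r) :=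
          cycEquiv_apply f g v w hker (X * r) _
        have e2 : ((eU ⟨cyc f v r, ⟨r, rfl⟩⟩ : U₂) : W) = cyc g w r :=
          cycEquiv_apply f g v w hker r _
        rw [h1, h2, e1, e2, cyc_X_mul]
      obtain ⟨U', hU', hcU⟩ := (Module.End.isSemisimple_iff.mp hf) U hU
      obtain ⟨U₂', hU₂', hcU₂⟩ := (Module.End.isSemisimple_iff.mp hg) U₂ hU₂
      have hcp1 : gU.charpoly = fU.charpoly := by
        have h2 : gU = eU.conj fU := by
          apply LinearMap.ext
          intro y
          rw [LinearEquiv.conj_apply_apply, heU, LinearEquiv.apply_symm_apply]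
        rw [h2, LinearEquiv.charpoly_conj]
      let fU' : Module.End K U' := LinearMap.restrict f hU'
      let gU' : Module.End K U₂' := LinearMap.restrict g hU₂'
      have hcp2 : fU'.charpoly = gU'.charpoly := by
        have h3 : f.charpoly = fU.charpoly * fU'.charpoly := charpoly_of_isCompl f U U' hU hU' hcU
        have h4 : g.charpoly = gU.charpoly * gU'.charpoly :=
          charpoly_of_isCompl g U₂ U₂' hU₂ hU₂' hcU₂
        rw [hc, h4, hcp1] at h3
        exact (mul_left_cancel₀ (LinearMap.charpoly_monic _).ne_zero h3).symm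
      have hdim : Module.finrank K U' < n := by
        have h5 := Submodule.finrank_add_eq_of_isCompl hcU
        have h6 : 0 < Module.finrank K U := by
          rw [Module.finrank_pos_iff_exists_ne_zero]
          exact ⟨⟨v, self_mem_range_cyc f v⟩, fun h => hv0 (congrArg Subtype.val h)⟩
        omega
      obtain ⟨e', he'⟩ := ih _ hdim U' U₂' fU' gU' rfl
        (hf.restrict hU') (hg.restrict hU₂') hcp2
      let E₁ := Submodule.prodEquivOfIsCompl U U' hcU
      let E₂ := Submodule.prodEquivOfIsCompl U₂ U₂' hcU₂
      refine ⟨E₁.symm ≪≫ₗ (LinearEquiv.prodCongr eU e') ≪≫ₗ E₂, ?_⟩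
      intro x
      obtain ⟨⟨u, u'⟩, rfl⟩ := E₁.surjective x
      have h7 : f (E₁ (u, u')) = E₁ (fU u, fU' u') := by
        simp only [E₁, Submodule.coe_prodEquivOfIsCompl', map_add]
        rfl
      rw [h7]
      simp only [LinearEquiv.trans_apply, LinearEquiv.symm_apply_apply, LinearEquiv.prodCongr_apply]
      rw [heU, he']
      simp only [E₂, Submodule.coe_prodEquivOfIsCompl', map_add]
      rfl

/-- Semisimple endomorphisms with the same characteristic polynomial are conjugate. -/
theorem exists_conj_of_isSemisimple {V W : Type u} [AddCommGroup V] [Module K V]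
    [FiniteDimensional K V] [AddCommGroup W] [Module K W] [FiniteDimensional K W]
    (f : Module.End K V) (g : Module.End K W) (hf : f.IsSemisimple) (hg : g.IsSemisimple)
    (hc : f.charpoly = g.charpoly) : ∃ e : V ≃ₗ[K] W, ∀ x, e (f x) = g (e x) :=
  exists_conj_of_isSemisimple_aux _ V W f g rfl hf hg hc

end main

end Cfsg.Agent.Lib.Helper14
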