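import Mathlib
import Cfsg.Agent.Lib.Helper14.SemiConj
import Cfsg.Agent.Lib.Helper15.SemiCent
set_option autoImplicit false
namespace Cfsg.Agent.Lib.Helper14
open Polynomial Matrix

section mat
variable {K : Type*} [Field K] {n : Type*} [Fintype n] [DecidableEq n]

/-- Matrices with semisimple action and the same characteristic polynomial are conjugate under
an invertible matrix. -/
theorem exists_matrix_conj_of_isSemisimple (A B : Matrix n n K)
    (hA : Module.End.IsSemisimple (Matrix.toLin' A))
    (hB : Module.End.IsSemisimple (Matrix.toLin' B))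
    (hc : A.charpoly = B.charpoly) :
    ∃ P Q : Matrix n n K, P * Q = 1 ∧ Q * P = 1 ∧ P * A = B * P := by
  have hc' : (Matrix.toLin' A).charpoly = (Matrix.toLin' B).charpoly := by
    rw [Matrix.charpoly_toLin', Matrix.charpoly_toLin', hc]
  obtain ⟨e, he⟩ := exists_conj_of_isSemisimple (Matrix.toLin' A) (Matrix.toLin' B) hA hB hc'
  refine ⟨LinearMap.toMatrix' e.toLinearMap, LinearMap.toMatrix' e.symm.toLinearMap, ?_, ?_, ?_⟩
  · rw [← LinearMap.toMatrix'_comp, LinearEquiv.comp_coe, LinearEquiv.symm_trans_self,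
      LinearEquiv.refl_toLinearMap, LinearMap.toMatrix'_id]
  · rw [← LinearMap.toMatrix'_comp, LinearEquiv.comp_coe, LinearEquiv.self_trans_symm,
      LinearEquiv.refl_toLinearMap, LinearMap.toMatrix'_id]
  · have h1 : A = LinearMap.toMatrix' (Matrix.toLin' A) := (LinearMap.toMatrix'_toLin' A).symm
    have h2 : B = LinearMap.toMatrix' (Matrix.toLin' B) := (LinearMap.toMatrix'_toLin' B).symm
    conv_lhs => rw [h1]
    conv_rhs => rw [h2]
    rw [← LinearMap.toMatrix'_comp, ← LinearMap.toMatrix'_comp]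
    congr 1
    apply LinearMap.ext
    intro x
    exact he x

theorem isSemisimple_toLin'_of_pow_eq_one (p : ℕ) [Fact p.Prime] [CharP K p] (A : Matrix n n K)
    (k : ℕ) (hk : k.Coprime p) (hA : A ^ k = 1) :
    Module.End.IsSemisimple (Matrix.toLin' A) := by
  have hk0 : (k : K) ≠ 0 := by
    intro h0
    rw [CharP.cast_eq_zero_iff K p] at h0
    have h1 : p ∣ Nat.gcd k p := Nat.dvd_gcd h0 dvd_rfl
    rw [hk] at h1
    exact (Fact.out : p.Prime).one_lt.ne' (Nat.dvd_one.mp h1)
  have hsep : Squarefree (X ^ k - 1 : K[X]) := by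
    have := separable_X_pow_sub_C (1 : K) hk0 one_ne_zero
    rw [map_one] at this
    exact this.squarefree
  apply Module.End.isSemisimple_of_squarefree_aeval_eq_zero hsep
  have h : Matrix.toLin' A = Matrix.toLinAlgEquiv' A := rfl
  rw [map_sub, map_pow, aeval_X, map_one, h, ← map_pow, hA, map_one, sub_self]

end mat

section fin
variable {F : Type*} [Field F] [Fintype F] {n : Type*} [Fintype n] [DecidableEq n]

theorem isSemisimple_of_orderOf_coprime (p : ℕ) [Fact p.Prime] [CharP F p] (g : GL n F)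
    (hg : (orderOf g).Coprime p) :
    Module.End.IsSemisimple (Matrix.toLin' (g : Matrix n n F)) := by
  apply isSemisimple_toLin'_of_pow_eq_one p _ (orderOf g) hg
  rw [← Units.val_pow_eq_pow_val, pow_orderOf_eq_one, Units.val_one]

/-- `p'`-elements of `GL_n(q)` with the same characteristic polynomial are conjugate. -/
theorem isConj_GL_of_charpoly_eq (p : ℕ) [Fact p.Prime] [CharP F p] (g h : GL n F)
    (hg : (orderOf g).Coprime p) (hh : (orderOf h).Coprime p)
    (hc : (g : Matrix n n F).charpoly = (h : Matrix n n F).charpoly) : IsConj g h := by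
  obtain ⟨P, Q, hPQ, hQP, hcomm⟩ := exists_matrix_conj_of_isSemisimple (g : Matrix n n F)
    (h : Matrix n n F) (isSemisimple_of_orderOf_coprime p g hg)
    (isSemisimple_of_orderOf_coprime p h hh) hc
  rw [isConj_iff]
  refine ⟨⟨P, Q, hPQ, hQP⟩, ?_⟩
  rw [mul_inv_eq_iff_eq_mul]
  apply Units.ext
  exact hcomm

/-- `p'`-elements of `SL_n(q)` with the same characteristic polynomial are conjugate in
`SL_n(q)`. -/
theorem isConj_SL_of_charpoly_eq (p : ℕ) [Fact p.Prime] [CharP F p]
    (g h : Matrix.SpecialLinearGroup n F)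
    (hg : (orderOf g).Coprime p) (hh : (orderOf h).Coprime p)
    (hc : (g : Matrix n n F).charpoly = (h : Matrix n n F).charpoly) : IsConj g h := by
  rcases isEmpty_or_nonempty n with hn | hn
  · have : g = h := by
      apply Subtype.ext
      exact Subsingleton.elim _ _
    rw [this]
  have hk : (g : Matrix n n F) ^ (orderOf g) = 1 := by
    have h1 := pow_orderOf_eq_one g
    have h2 := congrArg Subtype.val h1
    rwa [Matrix.SpecialLinearGroup.coe_pow, Matrix.SpecialLinearGroup.coe_one] at h2
  have hk' : (h : Matrix n n F) ^ (orderOf h) = 1 := by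
    have h1 := pow_orderOf_eq_one h
    have h2 := congrArg Subtype.val h1
    rwa [Matrix.SpecialLinearGroup.coe_pow, Matrix.SpecialLinearGroup.coe_one] at h2
  obtain ⟨P, Q, hPQ, hQP, hcomm⟩ := exists_matrix_conj_of_isSemisimple (g : Matrix n n F)
    (h : Matrix n n F) (isSemisimple_toLin'_of_pow_eq_one p _ _ hg hk)
    (isSemisimple_toLin'_of_pow_eq_one p _ _ hh hk') hc
  have hdetP : P.det * Q.det = 1 := by rw [← Matrix.det_mul, hPQ, Matrix.det_one]
  have hk0 : ((orderOf g : ℕ) : F) ≠ 0 := by
    intro h0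
    rw [CharP.cast_eq_zero_iff F p] at h0
    have h1 : p ∣ Nat.gcd (orderOf g) p := Nat.dvd_gcd h0 dvd_rfl
    rw [hg] at h1
    exact (Fact.out : p.Prime).one_lt.ne' (Nat.dvd_one.mp h1)
  have hφ : (Matrix.toLin' (g : Matrix n n F)) ^ (orderOf g) = 1 := by
    have h : Matrix.toLin' (g : Matrix n n F) = Matrix.toLinAlgEquiv' (g : Matrix n n F) := rfl
    rw [h, ← map_pow, hk, map_one]
  obtain ⟨c, hcc, hcd⟩ := Cfsg.Agent.Lib.Helper15.exists_comm_det
    (Matrix.toLin' (g : Matrix n n F)) (orderOf g) hk0 hφ Q.det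
  let C : Matrix n n F := LinearMap.toMatrix' c
  have hCdet : C.det = Q.det := by rw [← hcd]; exact LinearMap.det_toMatrix' c
  have hCcomm : C * (g : Matrix n n F) = (g : Matrix n n F) * C := by
    have h1 : (g : Matrix n n F) = LinearMap.toMatrix' (Matrix.toLin' (g : Matrix n n F)) :=
      (LinearMap.toMatrix'_toLin' _).symm
    rw [h1]
    have h2 := congrArg LinearMap.toMatrix' hcc
    rw [Module.End.mul_eq_comp, Module.End.mul_eq_comp, LinearMap.toMatrix'_comp,
      LinearMap.toMatrix'_comp] at h2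
    exact h2
  have hdet : (P * C).det = 1 := by rw [Matrix.det_mul, hCdet, hdetP]
  rw [isConj_iff]
  let R : Matrix.SpecialLinearGroup n F := ⟨P * C, hdet⟩
  refine ⟨R, ?_⟩
  rw [mul_inv_eq_iff_eq_mul]
  apply Subtype.ext
  show (P * C) * (g : Matrix n n F) = (h : Matrix n n F) * (P * C)
  rw [Matrix.mul_assoc, hCcomm, ← Matrix.mul_assoc, hcomm, Matrix.mul_assoc]

end fin

end Cfsg.Agent.Lib.Helper14
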