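import Cfsg.Agent.Lib.Helper14.OrdCount3
import Cfsg.Agent.Lib.Helper14.SemiConjFin

set_option autoImplicit false

/-! # Elements of prime order in finite classical groups: matrix lemmas and arithmetic -/

namespace Cfsg.Agent.Lib.Helper14.OrdCount

open Polynomial
open Cfsg.Agent.S2568 (cycFactors mem_cycFactors mem_T_iff)
open Cfsg.Agent.Lib.Helper14.HCount (dual)

section mat

variable {F : Type*} [Field F] {ι : Type*} [Fintype ι] [DecidableEq ι]

open scoped Classical in
theorem good_charpoly' [Fintype F] (r : ℕ) (hr : r.Prime) (A : Matrix ι ι F)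
    (hA : A ^ r = 1) (P : F[X]) (hPm : P.Monic) (hPi : Irreducible P) (hd : P ∣ A.charpoly) :
    P ∈ insert (X - 1 : F[X]) (cycFactors F r) := by
  classical
  rw [mem_T_iff r hr P hPm hPi]
  have h1 := irreducible_dvd_minpoly_matrix A P hPi hd
  refine h1.trans (minpoly.dvd F A ?_)
  simp [hA]

/-- a polynomial some power of which is divisible by the characteristic polynomial of a
semisimple matrix annihilates the matrix -/
theorem aeval_eq_zero_of_semisimple (A : Matrix ι ι F)
    (hss : Module.End.IsSemisimple (Matrix.toLin' A)) (g : F[X]) (M : ℕ)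
    (hdvd : A.charpoly ∣ g ^ M) : aeval A g = 0 := by
  have h1 : aeval A A.charpoly = 0 := Matrix.aeval_self_charpoly A
  have h2 : aeval A (g ^ M) = 0 := by
    obtain ⟨c, hc⟩ := hdvd
    rw [hc, map_mul, h1, zero_mul]
  have h3 : (aeval A g) ^ M = 0 := by rw [← map_pow, h2]
  have h4 : Matrix.toLin' (aeval A g) = aeval (Matrix.toLin' A) g := by
    have e1 : ∀ B : Matrix ι ι F, Matrix.toLin' B = Matrix.toLinAlgEquiv' B := fun _ => rfl
    rw [e1, e1, ← Polynomial.aeval_algHom_apply]
  have h5 : Module.End.IsSemisimple (Matrix.toLin' (aeval A g)) := by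
    rw [h4]
    exact hss.aeval _
  have h6 : IsNilpotent (Matrix.toLin' (aeval A g)) := by
    refine ⟨M, ?_⟩
    have e1 : Matrix.toLin' (aeval A g) = Matrix.toLinAlgEquiv' (aeval A g) := rfl
    rw [e1, ← map_pow, h3, map_zero]
  have h7 := Module.End.eq_zero_of_isNilpotent_isSemisimple h6 h5
  apply Matrix.toLin'.injective
  rw [h7, map_zero]

theorem pow_eq_one_of_charpoly (p : ℕ) [Fact p.Prime] [CharP F p] (A : Matrix ι ι F) (k : ℕ)
    (hk : k.Coprime p) (hAk : A ^ k = 1) (r M : ℕ)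
    (hdvd : A.charpoly ∣ (X ^ r - 1 : F[X]) ^ M) : A ^ r = 1 := by
  have hss := isSemisimple_toLin'_of_pow_eq_one p A k hk hAk
  have h := aeval_eq_zero_of_semisimple A hss (X ^ r - 1) M hdvd
  rw [map_sub, map_pow, aeval_X, map_one] at h
  exact sub_eq_zero.mp h

theorem eq_one_of_charpoly' (p : ℕ) [Fact p.Prime] [CharP F p] (A : Matrix ι ι F) (k : ℕ)
    (hk : k.Coprime p) (hAk : A ^ k = 1) (N : ℕ) (hc : A.charpoly = (X - 1 : F[X]) ^ N) :
    A = 1 := by
  have hss := isSemisimple_toLin'_of_pow_eq_one p A k hk hAk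
  have h := aeval_eq_zero_of_semisimple A hss (X - 1) N (by rw [hc])
  rw [map_sub, aeval_X, map_one] at h
  exact sub_eq_zero.mp h

end mat

section grp

/-- a suitable power of the order of the field kills the `p`-part of an element -/
theorem exists_pprime_pow {G : Type*} [Group G] [Finite G] (p : ℕ) [Fact p.Prime] (Q f : ℕ)
    (hf : 1 ≤ f) (hQ : Q = p ^ f) (g : G) : ∃ a : ℕ, (orderOf (g ^ (Q ^ a))).Coprime p := by
  have hp : p.Prime := Fact.out
  have hN : Nat.card G ≠ 0 := Nat.card_pos.ne'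
  obtain ⟨a, m, hm, hNm⟩ := Nat.exists_eq_pow_mul_and_not_dvd hN p hp.ne_one
  refine ⟨a, ?_⟩
  have h1 : (g ^ (Q ^ a)) ^ m = 1 := by
    rw [← pow_mul]
    have h2 : Nat.card G ∣ Q ^ a * m := by
      rw [hNm, hQ, ← pow_mul]
      apply Nat.mul_dvd_mul_right
      apply pow_dvd_pow
      calc a = 1 * a := (one_mul a).symm
        _ ≤ f * a := Nat.mul_le_mul_right a hf
    obtain ⟨c, hc⟩ := h2
    rw [hc, pow_mul, pow_card_eq_one', one_pow]
  have h3 : orderOf (g ^ (Q ^ a)) ∣ m := orderOf_dvd_of_pow_eq_one h1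
  exact Nat.Coprime.coprime_dvd_left h3 ((Nat.Prime.coprime_iff_not_dvd hp).mpr hm).symm

end grp

section dualfacts

variable {K : Type*} [Field K] (σ : K ≃+* K)

theorem dual_one : dual σ (1 : K[X]) = 1 := by
  unfold dual
  have h : (1 : K[X]).reverse = 1 := by
    rw [← C_1, reverse_C]
  simp [h]

theorem dual_X_sub_one : dual σ (X - 1 : K[X]) = X - 1 := by
  unfold dual
  have h1 : (X - 1 : K[X]).coeff 0 = -1 := by simp
  have h2 : (X - 1 : K[X]).map (σ : K →+* K) = X - 1 := by simp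
  have h3 : (X - 1 : K[X]).reverse = 1 - X := by
    have h4 : (X - 1 : K[X]) = 1 * X + C (-1) := by
      rw [one_mul, map_neg, map_one, sub_eq_add_neg]
    have h5 : (1 : K[X]).reverse = 1 := by
      rw [← C_1, reverse_C]
    rw [h4, reverse_add_C, reverse_mul_X, one_mul, natDegree_X, pow_one, map_neg, map_one, h5]
    ring
  rw [h1, h2, h3, map_neg, map_one, inv_neg, inv_one, map_neg, map_one]
  ring

end dualfacts

section arith

variable (r : ℕ) [Fact r.Prime]

theorem one_ne_neg_one (hr2 : r ≠ 2) : (1 : ZMod r) ≠ -1 := by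
  intro h
  have h2 : (2 : ZMod r) = 0 := by
    have : (1 : ZMod r) + 1 = 0 := by
      nth_rewrite 2 [h]
      ring
    rw [← this]
    norm_num
  have h3 : ((2 : ℕ) : ZMod r) = 0 := by exact_mod_cast h2
  rw [ZMod.natCast_eq_zero_iff] at h3
  have hr : r.Prime := Fact.out
  exact hr2 ((Nat.prime_dvd_prime_iff_eq hr Nat.prime_two).mp h3)

theorem orderOf_pos_of_ne_zero (a : ZMod r) (ha : a ≠ 0) : 0 < orderOf a := by
  rw [orderOf_pos_iff, isOfFinOrder_iff_pow_eq_one]
  have hr : r.Prime := Fact.out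
  exact ⟨r - 1, by have := hr.two_le; omega, ZMod.pow_card_sub_one_eq_one ha⟩

/-- half of an even order gives `-1` -/
theorem pow_half_eq_neg_one (a : ZMod r) (ha : a ≠ 0) (j : ℕ) (hj : orderOf a = j + j) :
    a ^ j = -1 := by
  have hpos := orderOf_pos_of_ne_zero r a ha
  have h1 : a ^ j * a ^ j = 1 := by rw [← pow_add, ← hj, pow_orderOf_eq_one]
  rcases mul_self_eq_one_iff.mp h1 with h | h
  · exfalso
    have h2 := orderOf_dvd_of_pow_eq_one h
    have h3 := Nat.le_of_dvd (by omega) h2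
    omega
  · exact h

theorem exists_pow_eq_neg_one_iff (hr2 : r ≠ 2) (a : ZMod r) (ha : a ≠ 0) :
    (∃ k, a ^ k = -1) ↔ Even (orderOf a) := by
  constructor
  · rintro ⟨k, hk⟩
    by_contra hodd
    rw [Nat.not_even_iff_odd] at hodd
    have h1 : (a ^ k) ^ orderOf a = 1 := by rw [← pow_mul, mul_comm, pow_mul, pow_orderOf_eq_one, one_pow]
    rw [hk, hodd.neg_one_pow] at h1
    exact one_ne_neg_one r hr2 h1.symm
  · rintro ⟨j, hj⟩
    exact ⟨j, pow_half_eq_neg_one r a ha j hj⟩

theorem exists_sq_pow_eq_neg_iff (hr2 : r ≠ 2) (a : ZMod r) (ha : a ≠ 0) :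
    (∃ k, (a ^ 2) ^ k = -a) ↔ orderOf a % 4 = 2 := by
  have hpos := orderOf_pos_of_ne_zero r a ha
  constructor
  · rintro ⟨k, hk⟩
    have heven : Even (orderOf a) := by
      by_contra hodd
      rw [Nat.not_even_iff_odd] at hodd
      have h1 : ((a ^ 2) ^ k) ^ orderOf a = 1 := by
        calc ((a ^ 2) ^ k) ^ orderOf a = (a ^ orderOf a) ^ (2 * k) := by
              rw [← pow_mul, ← pow_mul, ← pow_mul]
              ring_nf
          _ = 1 := by rw [pow_orderOf_eq_one, one_pow]
      rw [hk, neg_pow, hodd.neg_one_pow, pow_orderOf_eq_one, mul_one] at h1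
      exact one_ne_neg_one r hr2 h1.symm
    have h4 : ¬ 4 ∣ orderOf a := by
      intro h4
      let u : (ZMod r)ˣ := Units.mk0 a ha
      have hu : orderOf u = orderOf a := by
        rw [← orderOf_units]
        rfl
      have h1 : u ^ (4 * k) = u ^ 2 := by
        apply Units.ext
        rw [Units.val_pow_eq_pow_val, Units.val_pow_eq_pow_val]
        show a ^ (4 * k) = a ^ 2
        have : a ^ (4 * k) = ((a ^ 2) ^ k) ^ 2 := by rw [← pow_mul, ← pow_mul]; ring_nf
        rw [this, hk]
        ring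
      rw [pow_eq_pow_iff_modEq, hu] at h1
      have h2 := Nat.ModEq.of_dvd h4 h1
      have h3 : (4 * k) % 4 = 2 % 4 := h2
      omega
    obtain ⟨j, hj⟩ := heven
    omega
  · intro h
    have hj : orderOf a = (2 * (orderOf a / 4) + 1) + (2 * (orderOf a / 4) + 1) := by omega
    have h1 := pow_half_eq_neg_one r a ha _ hj
    refine ⟨orderOf a / 4 + 1, ?_⟩
    rw [← pow_mul]
    have : 2 * (orderOf a / 4 + 1) = (2 * (orderOf a / 4) + 1) + 1 := by ring
    rw [this, pow_succ, h1]
    ring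

end arith

end Cfsg.Agent.Lib.Helper14.OrdCount
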