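import Mathlib
set_option autoImplicit false
namespace Cfsg.Agent.Lib.Helper14
open Polynomial Matrix

section
variable {F : Type*} [Field F] [Fintype F]

/-- The companion block of a monic irreducible polynomial with nonzero constant term. -/
theorem exists_block_irreducible (p : ℕ) [Fact p.Prime] [CharP F p] (f : F[X])
    (hf : Irreducible f) (hm : f.Monic) (h0 : f.coeff 0 ≠ 0) :
    ∃ (ι : Type) (_ : Fintype ι) (_ : DecidableEq ι) (A : Matrix ι ι F) (k : ℕ),
      Fintype.card ι = f.natDegree ∧ k.Coprime p ∧ A ^ k = 1 ∧ A.charpoly = f := by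
  have : Fact (Irreducible f) := ⟨hf⟩
  let L := AdjoinRoot f
  let pb := AdjoinRoot.powerBasis hf.ne_zero
  have hfin : FiniteDimensional F L := pb.finite
  have hL : Finite L := Module.finite_of_finite F
  have : Fintype L := Fintype.ofFinite L
  have hroot : AdjoinRoot.root f ≠ 0 := by
    intro h
    have h1 : aeval (AdjoinRoot.root f) f = 0 := by
      rw [AdjoinRoot.aeval_eq, AdjoinRoot.mk_self]
    rw [h, ← Polynomial.coeff_zero_eq_aeval_zero'] at h1
    exact h0 ((map_eq_zero_iff _ (algebraMap F L).injective).mp h1)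
  have hcharL : CharP L p := charP_of_injective_algebraMap (algebraMap F L).injective p
  refine ⟨Fin pb.dim, inferInstance, inferInstance, Algebra.leftMulMatrix pb.basis pb.gen,
    Fintype.card L - 1, ?_, ?_, ?_, ?_⟩
  · rw [Fintype.card_fin, AdjoinRoot.powerBasis_dim]
  · -- p ∣ card L
    have hdvd : p ∣ Fintype.card L := by
      obtain ⟨n, hp, hc⟩ := FiniteField.card L p
      rw [hc]
      exact dvd_pow_self p n.ne_zero
    have hpos : 0 < Fintype.card L := Fintype.card_pos
    have hp : p.Prime := Fact.out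
    rw [Nat.coprime_comm, Nat.Prime.coprime_iff_not_dvd hp]
    intro h2
    have h3 : p ∣ 1 := by
      have h4 : Fintype.card L = (Fintype.card L - 1) + 1 := by omega
      rw [h4] at hdvd
      exact (Nat.dvd_add_right h2).mp hdvd
    exact hp.one_lt.ne' (Nat.dvd_one.mp h3)
  · rw [← map_pow, AdjoinRoot.powerBasis_gen, FiniteField.pow_card_sub_one_eq_one _ hroot,
      map_one]
  · rw [charpoly_leftMulMatrix, AdjoinRoot.minpoly_powerBasis_gen_of_monic hm]

/-- Every monic polynomial of degree `n` with nonzero constant term is the characteristic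
polynomial of a matrix of `p'`-order. -/
theorem exists_matrix_charpoly_aux (p : ℕ) [Fact p.Prime] [CharP F p] (n : ℕ) :
    ∀ f : F[X], f.Monic → f.natDegree = n → f.coeff 0 ≠ 0 →
      ∃ (ι : Type) (_ : Fintype ι) (_ : DecidableEq ι) (A : Matrix ι ι F) (k : ℕ),
        Fintype.card ι = n ∧ k.Coprime p ∧ A ^ k = 1 ∧ A.charpoly = f := by
  induction n using Nat.strong_induction_on with
  | _ n ih =>
    intro f hm hn h0
    rcases Nat.eq_zero_or_pos n with hz | hpos
    · subst hz
      have hf1 : f = 1 := (Polynomial.Monic.natDegree_eq_zero hm).mp hn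
      refine ⟨Fin 0, inferInstance, inferInstance, 1, 1, by simp, by simp, by simp, ?_⟩
      rw [hf1]
      exact Matrix.charpoly_isEmpty
    · have hu : ¬ IsUnit f := Polynomial.not_isUnit_of_natDegree_pos f (by omega)
      obtain ⟨g, hgm, hgi, s, hs⟩ := Polynomial.exists_monic_irreducible_factor f hu
      have hsm : s.Monic := hgm.of_mul_monic_left (hs ▸ hm)
      have hdeg : f.natDegree = g.natDegree + s.natDegree := by
        rw [hs, hgm.natDegree_mul hsm]
      have hgpos : 0 < g.natDegree := hgi.natDegree_pos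
      have hc0 : f.coeff 0 = g.coeff 0 * s.coeff 0 := by rw [hs, Polynomial.mul_coeff_zero]
      have hg0 : g.coeff 0 ≠ 0 := fun h => h0 (by rw [hc0, h, zero_mul])
      have hs0 : s.coeff 0 ≠ 0 := fun h => h0 (by rw [hc0, h, mul_zero])
      obtain ⟨ι₁, _, _, A₁, k₁, hcard₁, hk₁, hA₁, hc₁⟩ := exists_block_irreducible p g hgi hgm hg0
      obtain ⟨ι₂, _, _, A₂, k₂, hcard₂, hk₂, hA₂, hc₂⟩ := ih s.natDegree (by omega) s hsm rfl hs0
      refine ⟨ι₁ ⊕ ι₂, inferInstance, inferInstance, Matrix.fromBlocks A₁ 0 0 A₂,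
        k₁ * k₂, ?_, Nat.Coprime.mul_left hk₁ hk₂, ?_, ?_⟩
      · rw [Fintype.card_sum, hcard₁, hcard₂, ← hn, hdeg]
      · rw [Matrix.fromBlocks_diagonal_pow, pow_mul, hA₁, one_pow, mul_comm, pow_mul, hA₂, one_pow,
          Matrix.fromBlocks_one]
      · rw [Matrix.charpoly_fromBlocks_zero₁₂, hc₁, hc₂, hs]

/-- Every monic polynomial of degree `n` with nonzero constant term is the characteristic
polynomial of a matrix of `p'`-order in `GL_n(q)`. -/
theorem exists_matrix_charpoly (p : ℕ) [Fact p.Prime] [CharP F p] (n : ℕ) (f : F[X])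
    (hm : f.Monic) (hn : f.natDegree = n) (h0 : f.coeff 0 ≠ 0) :
    ∃ (A : Matrix (Fin n) (Fin n) F) (k : ℕ), k.Coprime p ∧ A ^ k = 1 ∧ A.charpoly = f := by
  obtain ⟨ι, _, _, A, k, hcard, hk, hA, hc⟩ := exists_matrix_charpoly_aux p n f hm hn h0
  let e : ι ≃ Fin n := Fintype.equivFinOfCardEq hcard
  refine ⟨Matrix.reindex e e A, k, hk, ?_, ?_⟩
  · have h1 : Matrix.reindex e e A = Matrix.reindexAlgEquiv F F e A := rfl
    rw [h1, ← map_pow, hA, map_one]
  · rw [Matrix.charpoly_reindex, hc]

end

end Cfsg.Agent.Lib.Helper14
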