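import Mathlib
import Cfsg.Agent.Lib.Helper15.QuadClassify
import Cfsg.Agent.Lib.Helper15.QuadCount7

/-!
# Value distributions of quadratic forms over finite fields and their signs

A function `Q : V → F` on a finite set `HasSign n ε` if it takes each value as often as a
nondegenerate quadratic form of dimension `2n` and sign `ε`. The sign is multiplicative for
orthogonal sums, and classifies the nondegenerate forms of even dimension.
-/

set_option autoImplicit false

namespace Cfsg.Agent.Lib.Helper14.OrthEven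

open Module QuadraticMap
open Cfsg.Agent.Lib.Helper15 (classify_even card_plus_value card_minus_shape binForm binForm_apply
  card_binForm_value nondegenerate_binForm exists_isometry_binForm binForm_eq_zero_iff)

universe u v

section count

variable {F : Type v} [Field F] [Fintype F]

/-- the number of points with a given value, as an integer -/
noncomputable def cnt {V : Type*} (Q : V → F) (c : F) : ℤ := (Nat.card {v : V // Q v = c} : ℤ)

open scoped Classical in
/-- the value distribution of a nondegenerate form of dimension `2n` and sign `ε` -/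
def HasSign {V : Type*} (Q : V → F) (n : ℕ) (ε : ℤ) : Prop :=
  ∀ c : F, (Fintype.card F : ℤ) * cnt Q c = (Fintype.card F : ℤ) ^ (2 * n) +
    ε * (Fintype.card F : ℤ) ^ n * ((Fintype.card F : ℤ) * (if c = 0 then 1 else 0) - 1)

theorem cnt_congr {V V' : Type*} (e : V ≃ V') (Q : V → F) (Q' : V' → F)
    (h : ∀ v, Q' (e v) = Q v) (c : F) : cnt Q' c = cnt Q c := by
  unfold cnt
  congr 1
  symm
  apply Nat.card_congr
  exact e.subtypeEquiv (fun v => by rw [h])

theorem HasSign.of_equiv {V V' : Type*} (e : V ≃ V') (Q : V → F) (Q' : V' → F)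
    (h : ∀ v, Q' (e v) = Q v) {n : ℕ} {ε : ℤ} (hs : HasSign Q n ε) : HasSign Q' n ε := by
  intro c
  rw [cnt_congr e Q Q' h]
  exact hs c

theorem card_pos_int : (0 : ℤ) < (Fintype.card F : ℤ) := by
  exact_mod_cast Fintype.card_pos

theorem HasSign.unique {V : Type*} {Q : V → F} {n : ℕ} {ε ε' : ℤ} (h : HasSign Q n ε)
    (h' : HasSign Q n ε') : ε = ε' := by
  classical
  have h1 := h 1
  have h2 := h' 1
  rw [if_neg one_ne_zero] at h1 h2
  have hq : (Fintype.card F : ℤ) ^ n ≠ 0 := pow_ne_zero _ (card_pos_int (F := F)).ne'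
  have h3 : ε * (Fintype.card F : ℤ) ^ n = ε' * (Fintype.card F : ℤ) ^ n := by
    linear_combination h1 - h2
  exact mul_right_cancel₀ hq h3

/-- the hyperbolic form has sign `1` -/
theorem hasSign_plus (m : ℕ) : HasSign (Cfsg.quadFormPlus m F) m 1 := by
  classical
  intro c
  unfold cnt
  rw [card_plus_value m c]
  have hq1 : 1 ≤ Fintype.card F ^ m := Nat.one_le_pow _ _ Fintype.card_pos
  rcases Nat.eq_zero_or_pos m with hm | hm
  · subst hm
    by_cases hc : c = 0
    · simp [hc]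
    · simp [hc]
  · obtain ⟨k, rfl⟩ : ∃ k, m = k + 1 := ⟨m - 1, by omega⟩
    rw [Nat.add_sub_cancel]
    by_cases hc : c = 0
    · rw [if_pos hc, if_pos hc]
      push_cast [Nat.cast_sub hq1]
      ring
    · rw [if_neg hc, if_neg hc]
      push_cast [Nat.cast_sub hq1]
      ring

/-- the elliptic form has sign `-1` -/
theorem hasSign_minus (k : ℕ) (a c : F)
    (hac : ∀ z₁ z₂ : F, z₁ ^ 2 + a * z₁ * z₂ + c * z₂ ^ 2 = 0 → z₁ = 0 ∧ z₂ = 0) :
    HasSign (Cfsg.quadFormMinus k F a c) (k + 1) (-1) := by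
  classical
  intro d
  unfold cnt
  have h1 := card_minus_shape (F := F) k (fun w : Fin 2 → F => binForm a c w) d
  have h2 : Nat.card {v : (Fin k ⊕ Fin k) ⊕ Fin 2 → F // Cfsg.quadFormMinus k F a c v = d} =
      Nat.card {v : (Fin k ⊕ Fin k) ⊕ Fin 2 → F //
        (∑ i : Fin k, v (Sum.inl (Sum.inl i)) * v (Sum.inl (Sum.inr i))) +
          (fun w : Fin 2 → F => binForm a c w) (fun i => v (Sum.inr i)) = d} := by
    apply Nat.card_congr
    apply Equiv.subtypeEquivRight
    intro v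
    show _ ↔ _ + binForm a c (fun i => v (Sum.inr i)) = d
    rw [binForm_apply]
    rfl
  rw [h2, h1, card_binForm_value a c hac d, Fintype.card_fin]
  have hq1 : 1 ≤ Fintype.card F ^ k := Nat.one_le_pow _ _ Fintype.card_pos
  rcases Nat.eq_zero_or_pos k with hk | hk
  · subst hk
    rw [pow_zero, Nat.sub_self, Nat.zero_mul, Nat.zero_mul, Nat.add_zero, Nat.one_mul]
    by_cases hd : d = 0
    · rw [if_pos hd, if_pos hd]
      push_cast
      ring
    · rw [if_neg hd, if_neg hd]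
      push_cast
      ring
  · obtain ⟨j, rfl⟩ : ∃ j, k = j + 1 := ⟨k - 1, by omega⟩
    rw [Nat.add_sub_cancel]
    by_cases hd : d = 0
    · rw [if_pos hd, if_pos hd]
      push_cast [Nat.cast_sub hq1]
      ring
    · rw [if_neg hd, if_neg hd]
      push_cast [Nat.cast_sub hq1]
      ring

end count

section prod

variable {F : Type v} [Field F] [Fintype F]

theorem cnt_prod {V₁ V₂ : Type*} [Finite V₁] [Finite V₂] (Q₁ : V₁ → F) (Q₂ : V₂ → F) (c : F) :
    cnt (fun p : V₁ × V₂ => Q₁ p.1 + Q₂ p.2) c = ∑ d : F, cnt Q₁ d * cnt Q₂ (c - d) := by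
  classical
  unfold cnt
  let E : {p : V₁ × V₂ // Q₁ p.1 + Q₂ p.2 = c} ≃
      Σ d : F, {v : V₁ // Q₁ v = d} × {w : V₂ // Q₂ w = c - d} :=
    { toFun := fun p => ⟨Q₁ p.1.1, ⟨p.1.1, rfl⟩, ⟨p.1.2, eq_sub_of_add_eq' p.2⟩⟩
      invFun := fun s => ⟨(s.2.1.1, s.2.2.1), by
        show Q₁ s.2.1.1 + Q₂ s.2.2.1 = c
        rw [s.2.1.2, s.2.2.2]
        ring⟩
      left_inv := fun p => rfl
      right_inv := fun s => by
        obtain ⟨d, ⟨v, hv⟩, ⟨w, hw⟩⟩ := s
        subst hv
        rfl }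
  rw [Nat.card_congr E, Nat.card_sigma]
  push_cast
  apply Finset.sum_congr rfl
  intro d _
  rw [Nat.card_prod]
  push_cast
  rfl

/-- the sign is multiplicative for orthogonal sums -/
theorem HasSign.prod {V₁ V₂ : Type*} [Finite V₁] [Finite V₂] {Q₁ : V₁ → F} {Q₂ : V₂ → F}
    {n₁ n₂ : ℕ} {ε₁ ε₂ : ℤ} (h₁ : HasSign Q₁ n₁ ε₁) (h₂ : HasSign Q₂ n₂ ε₂) :
    HasSign (fun p : V₁ × V₂ => Q₁ p.1 + Q₂ p.2) (n₁ + n₂) (ε₁ * ε₂) := by
  classical
  intro c
  set q : ℤ := (Fintype.card F : ℤ) with hq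
  have hq0 : q ≠ 0 := (card_pos_int (F := F)).ne'
  have hcardq : ((Finset.univ : Finset F).card : ℤ) = q := by rw [Finset.card_univ]
  have s1 : ∑ d : F, (if d = 0 then (1 : ℤ) else 0) = 1 := by
    rw [Finset.sum_ite_eq']
    simp
  have s2 : ∑ d : F, (if c - d = 0 then (1 : ℤ) else 0) = 1 := by
    have : ∀ d : F, (c - d = 0) ↔ d = c := fun d => by rw [sub_eq_zero, eq_comm]
    simp only [this]
    rw [Finset.sum_ite_eq']
    simp
  have s3 : ∑ d : F, (if d = 0 then (1 : ℤ) else 0) * (if c - d = 0 then 1 else 0) =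
      if c = 0 then 1 else 0 := by
    rw [Finset.sum_eq_single (0 : F)]
    · simp
    · intro b _ hb
      rw [if_neg hb, zero_mul]
    · intro h
      exact absurd (Finset.mem_univ _) h
  set A₁ : ℤ := q ^ (2 * n₁) with hA₁
  set A₂ : ℤ := q ^ (2 * n₂) with hA₂
  set E₁ : ℤ := ε₁ * q ^ n₁ with hE₁
  set E₂ : ℤ := ε₂ * q ^ n₂ with hE₂
  have key : q * (q * cnt (fun p : V₁ × V₂ => Q₁ p.1 + Q₂ p.2) c) =
      q * (A₁ * A₂ + E₁ * E₂ * (q * (if c = 0 then 1 else 0) - 1)) := by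
    rw [cnt_prod, Finset.mul_sum, Finset.mul_sum]
    have hterm : ∀ d : F, q * (q * (cnt Q₁ d * cnt Q₂ (c - d))) =
        (A₁ - E₁) * (A₂ - E₂) + (A₁ - E₁) * E₂ * q * (if c - d = 0 then 1 else 0) +
          E₁ * q * (A₂ - E₂) * (if d = 0 then 1 else 0) +
          E₁ * E₂ * q ^ 2 * ((if d = 0 then 1 else 0) * (if c - d = 0 then 1 else 0)) := by
      intro d
      have e1 : q * (q * (cnt Q₁ d * cnt Q₂ (c - d))) = (q * cnt Q₁ d) * (q * cnt Q₂ (c - d)) := by
        ring
      rw [e1, h₁ d, h₂ (c - d)]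
      ring
    rw [Finset.sum_congr rfl (fun d _ => hterm d), Finset.sum_add_distrib, Finset.sum_add_distrib,
      Finset.sum_add_distrib, Finset.sum_const, ← Finset.mul_sum, ← Finset.mul_sum,
      ← Finset.mul_sum, s1, s2, s3, nsmul_eq_mul, hcardq]
    ring
  have h3 := mul_left_cancel₀ hq0 key
  rw [h3, hA₁, hA₂, hE₁, hE₂]
  ring

end prod

section classify

variable {F : Type v} [Field F] [Fintype F]

/-- a nondegenerate form of even dimension is hyperbolic of sign `1` or elliptic of sign `-1` -/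
theorem sign_cases {V : Type u} [AddCommGroup V] [Module F V] [FiniteDimensional F V]
    (Q : QuadraticForm F V) (hQ : (polarBilin Q).Nondegenerate) (m : ℕ) (hm : 1 ≤ m)
    (hV : finrank F V = 2 * m) :
    (HasSign (⇑Q) m 1 ∧
      ∃ g : V ≃ₗ[F] (Fin m ⊕ Fin m → F), ∀ v, Q v = Cfsg.quadFormPlus m F (g v)) ∨
    (HasSign (⇑Q) m (-1) ∧ ∃ ζ : F,
      (∀ z₁ z₂ : F, z₁ ^ 2 + 1 * z₁ * z₂ + ζ * z₂ ^ 2 = 0 → z₁ = 0 ∧ z₂ = 0) ∧
      ∃ g : V ≃ₗ[F] ((Fin (m - 1) ⊕ Fin (m - 1)) ⊕ Fin 2 → F),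
        ∀ v, Q v = Cfsg.quadFormMinus (m - 1) F 1 ζ (g v)) := by
  rcases classify_even Q hQ m hm hV with ⟨g, hg⟩ | ⟨ζ, hζ, g, hg⟩
  · left
    refine ⟨?_, g, hg⟩
    exact (hasSign_plus m).of_equiv g.symm.toEquiv _ _ (fun v => by
      show Q (g.symm v) = _
      rw [hg, LinearEquiv.apply_symm_apply])
  · right
    have han : ∀ z₁ z₂ : F, z₁ ^ 2 + 1 * z₁ * z₂ + ζ * z₂ ^ 2 = 0 → z₁ = 0 ∧ z₂ = 0 := by
      intro z₁ z₂ h
      by_cases h2 : z₂ = 0
      · subst h2
        have h3 : z₁ ^ 2 = 0 := by linear_combination h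
        exact ⟨pow_eq_zero_iff (two_ne_zero) |>.1 h3, rfl⟩
      · exfalso
        apply hζ (z₁ / z₂)
        field_simp
        linear_combination h
    refine ⟨?_, ζ, han, g, hg⟩
    have h1 := hasSign_minus (m - 1) 1 ζ han
    rw [Nat.sub_add_cancel hm] at h1
    exact h1.of_equiv g.symm.toEquiv _ _ (fun v => by
      show Q (g.symm v) = _
      rw [hg, LinearEquiv.apply_symm_apply])

/-- any two elliptic forms of the same dimension are isometric -/
theorem minus_change (k : ℕ) (a c a' c' : F)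
    (hac : ∀ z₁ z₂ : F, z₁ ^ 2 + a * z₁ * z₂ + c * z₂ ^ 2 = 0 → z₁ = 0 ∧ z₂ = 0)
    (hac' : ∀ z₁ z₂ : F, z₁ ^ 2 + a' * z₁ * z₂ + c' * z₂ ^ 2 = 0 → z₁ = 0 ∧ z₂ = 0) :
    ∃ Θ : ((Fin k ⊕ Fin k) ⊕ Fin 2 → F) ≃ₗ[F] ((Fin k ⊕ Fin k) ⊕ Fin 2 → F),
      ∀ v, Cfsg.quadFormMinus k F a c (Θ v) = Cfsg.quadFormMinus k F a' c' v := by
  classical
  have hN : ∀ d : F, Nat.card {w : Fin 2 → F // binForm a c w = d} =
      Nat.card {z : Fin 2 → F // binForm a' c' z = d} := by
    intro d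
    rw [card_binForm_value a c hac d, card_binForm_value a' c' hac' d]
  have hd : finrank F (Fin 2 → F) = 2 := by
    rw [Module.finrank_fintype_fun_eq_card, Fintype.card_fin]
  obtain ⟨Φ, hΦ⟩ := exists_isometry_binForm a' c' hac' (binForm a c)
    (nondegenerate_binForm a c hac) hd hN
  let Θ₀ : ((Fin k ⊕ Fin k) ⊕ Fin 2 → F) →ₗ[F] ((Fin k ⊕ Fin k) ⊕ Fin 2 → F) :=
    LinearMap.pi (Sum.elim (fun l => LinearMap.proj (Sum.inl l))
      (fun t => (LinearMap.proj t).comp (Φ.comp (LinearMap.funLeft F F Sum.inr))))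
  have hl : ∀ (v : (Fin k ⊕ Fin k) ⊕ Fin 2 → F) (l : Fin k ⊕ Fin k),
      Θ₀ v (Sum.inl l) = v (Sum.inl l) := fun v l => rfl
  have hr : ∀ (v : (Fin k ⊕ Fin k) ⊕ Fin 2 → F) (t : Fin 2),
      Θ₀ v (Sum.inr t) = Φ (fun s => v (Sum.inr s)) t := fun v t => rfl
  have hQ : ∀ v, Cfsg.quadFormMinus k F a c (Θ₀ v) = Cfsg.quadFormMinus k F a' c' v := by
    intro v
    have h1 := hΦ (fun s => v (Sum.inr s))
    rw [binForm_apply, binForm_apply] at h1
    unfold Cfsg.quadFormMinus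
    simp only [hl, hr]
    rw [h1]
  have hinj : Function.Injective Θ₀ := by
    rw [← LinearMap.ker_eq_bot, LinearMap.ker_eq_bot']
    intro v hv
    have h1 : Φ (fun s => v (Sum.inr s)) = 0 := by
      funext t
      rw [← hr, hv]
      rfl
    have h2 : binForm a' c' (fun s => v (Sum.inr s)) = 0 := by
      rw [← hΦ, h1, map_zero]
    have h3 := (binForm_eq_zero_iff a' c' hac' _).1 h2
    funext j
    rcases j with l | t
    · rw [← hl v l, hv]
    · exact congrFun h3 t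
  exact ⟨LinearEquiv.ofInjectiveEndo Θ₀ hinj, hQ⟩

end classify

section orbit

variable {F : Type v} [Field F] [Fintype F]

/-- an isometry of prime order `r` without nonzero fixed vectors forces `q ^ n = ε` modulo `r` -/
theorem pow_eq_sign {V : Type*} [AddCommGroup V] [Module F V] [Finite V] (Q : QuadraticForm F V)
    {n : ℕ} {ε : ℤ} (hs : HasSign (⇑Q) n ε) (x : Module.End F V) (hx : ∀ v, Q (x v) = Q v)
    (r : ℕ) [Fact r.Prime] (hxr : x ^ r = 1) (hfix : ∀ v, x v = v → v = 0)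
    (hrq : ¬ r ∣ Fintype.card F) :
    ((Fintype.card F : ℕ) : ZMod r) ^ n = ((ε : ℤ) : ZMod r) := by
  classical
  have : Fintype V := Fintype.ofFinite V
  let f : Function.End {v : V // Q v = 1} := fun v => ⟨x v.1, by rw [hx]; exact v.2⟩
  have hfpow : ∀ (k : ℕ) (v : {v : V // Q v = 1}), ((f ^ k) v).1 = (x ^ k) v.1 := by
    intro k
    induction k with
    | zero =>
      intro v
      rfl
    | succ k ih =>
      intro v
      rw [pow_succ', pow_succ', Module.End.mul_apply, ← ih]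
      rfl
  have hfr : f ^ r ^ 1 = 1 := by
    rw [pow_one]
    funext v
    apply Subtype.ext
    rw [hfpow, hxr]
    rfl
  have hmod := Equiv.Perm.card_fixedPoints_modEq (f := f) (p := r) (n := 1) hfr
  have hempty : Fintype.card (Function.fixedPoints f) = 0 := by
    rw [Fintype.card_eq_zero_iff]
    refine ⟨fun v => ?_⟩
    have h1 : f v.1 = v.1 := v.2
    have h2 : x v.1.1 = v.1.1 := congrArg Subtype.val h1
    have h3 := hfix _ h2
    have h4 := v.1.2
    rw [h3, map_zero] at h4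
    exact zero_ne_one h4
  rw [hempty] at hmod
  have hdvd : r ∣ Fintype.card {v : V // Q v = 1} := (Nat.modEq_zero_iff_dvd).1 hmod
  have hc0 : ((Fintype.card {v : V // Q v = 1} : ℕ) : ZMod r) = 0 :=
    (ZMod.natCast_eq_zero_iff _ _).2 hdvd
  have h := congrArg (Int.cast : ℤ → ZMod r) (hs 1)
  rw [if_neg one_ne_zero] at h
  unfold cnt at h
  rw [Nat.card_eq_fintype_card] at h
  push_cast at h
  rw [hc0, mul_zero] at h
  have hq0 : ((Fintype.card F : ℕ) : ZMod r) ≠ 0 := by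
    intro h0
    exact hrq ((ZMod.natCast_eq_zero_iff _ _).1 h0)
  have hqn : ((Fintype.card F : ℕ) : ZMod r) ^ n ≠ 0 := pow_ne_zero _ hq0
  apply mul_right_cancel₀ hqn
  linear_combination -h

end orbit

end Cfsg.Agent.Lib.Helper14.OrthEven
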