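import Mathlib

/-!
# Kernel filtration of an endomorphism: the dimensions of `ker N^k`

`kd N k = dim ker N^k`, `nu N h = kd N (h+1) - kd N h`; behaviour under isomorphisms and under
restriction to the range of `N`.
-/

set_option autoImplicit false

namespace Cfsg.Agent.Lib.Helper14

open Module

variable {F : Type*} [Field F]

section kd

variable {V : Type*} [AddCommGroup V] [Module F V]

/-- The dimension of the kernel of `N ^ k`. -/
noncomputable def kd (N : V →ₗ[F] V) (k : ℕ) : ℕ := finrank F (LinearMap.ker (N ^ k))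

/-- The jumps of the kernel filtration. -/
noncomputable def nu (N : V →ₗ[F] V) (h : ℕ) : ℕ := kd N (h + 1) - kd N h

theorem kd_zero (N : V →ₗ[F] V) : kd N 0 = 0 := by
  unfold kd
  rw [pow_zero]
  have : LinearMap.ker (1 : V →ₗ[F] V) = ⊥ := by
    rw [LinearMap.ker_eq_bot']
    intro v hv
    simpa using hv
  rw [this, finrank_bot]

theorem ker_pow_le_succ (N : V →ₗ[F] V) (k : ℕ) :
    LinearMap.ker (N ^ k) ≤ LinearMap.ker (N ^ (k + 1)) := by
  intro v hv
  rw [LinearMap.mem_ker] at hv ⊢
  rw [pow_succ', Module.End.mul_apply, hv, map_zero]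

theorem kd_le_succ [FiniteDimensional F V] (N : V →ₗ[F] V) (k : ℕ) : kd N k ≤ kd N (k + 1) :=
  Submodule.finrank_mono (ker_pow_le_succ N k)

theorem kd_le_finrank [FiniteDimensional F V] (N : V →ₗ[F] V) (k : ℕ) : kd N k ≤ finrank F V :=
  Submodule.finrank_le _

theorem kd_add_nu [FiniteDimensional F V] (N : V →ₗ[F] V) (h : ℕ) :
    kd N h + nu N h = kd N (h + 1) := by
  unfold nu
  have := kd_le_succ N h
  omega

theorem sum_nu [FiniteDimensional F V] (N : V →ₗ[F] V) (m : ℕ) :
    ∑ h ∈ Finset.range m, nu N h = kd N m := by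
  induction m with
  | zero => simp [kd_zero]
  | succ m ih => rw [Finset.sum_range_succ, ih, kd_add_nu]

theorem kd_eq_finrank_of_pow_eq_zero (N : V →ₗ[F] V) {m k : ℕ} (h : N ^ m = 0) (hk : m ≤ k) :
    kd N k = finrank F V := by
  unfold kd
  have : N ^ k = 0 := by
    obtain ⟨c, rfl⟩ := Nat.exists_eq_add_of_le hk
    rw [pow_add, h, zero_mul]
  rw [this, LinearMap.ker_zero, finrank_top]

theorem pow_finrank_eq_zero [FiniteDimensional F V] (N : V →ₗ[F] V) {m : ℕ} (h : N ^ m = 0) :
    N ^ finrank F V = 0 := by
  have h1 := Module.End.ker_pow_le_ker_pow_finrank N m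
  rw [h, LinearMap.ker_zero, top_le_iff] at h1
  exact LinearMap.ker_eq_top.mp h1

/-- Invariance under isomorphisms. -/
theorem kd_eq_of_equiv {V' : Type*} [AddCommGroup V'] [Module F V'] (N : V →ₗ[F] V)
    (N' : V' →ₗ[F] V') (φ : V ≃ₗ[F] V') (h : ∀ v, φ (N v) = N' (φ v)) (k : ℕ) :
    kd N' k = kd N k := by
  have hk : ∀ k v, φ ((N ^ k) v) = (N' ^ k) (φ v) := by
    intro k
    induction k with
    | zero => intro v; simp
    | succ k ih =>
      intro v
      rw [pow_succ', pow_succ', Module.End.mul_apply, Module.End.mul_apply, h, ih]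
  unfold kd
  have : LinearMap.ker (N' ^ k) = (LinearMap.ker (N ^ k)).map (φ : V →ₗ[F] V') := by
    ext w
    rw [Submodule.mem_map, LinearMap.mem_ker]
    constructor
    · intro hw
      refine ⟨φ.symm w, ?_, by simp⟩
      rw [LinearMap.mem_ker]
      apply φ.injective
      rw [hk, LinearEquiv.apply_symm_apply, hw, map_zero]
    · rintro ⟨v, hv, rfl⟩
      rw [LinearMap.mem_ker] at hv
      show (N' ^ k) (φ v) = 0
      rw [← hk, hv, map_zero]
  rw [this]
  exact LinearEquiv.finrank_map_eq φ _

/-- The restriction of `N` to its range. -/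
noncomputable def restrictRange (N : V →ₗ[F] V) :
    ↥(LinearMap.range N) →ₗ[F] ↥(LinearMap.range N) :=
  N.restrict (fun w _ => LinearMap.mem_range_self N w)

theorem restrictRange_apply (N : V →ₗ[F] V) (w : ↥(LinearMap.range N)) :
    ((restrictRange N w : ↥(LinearMap.range N)) : V) = N (w : V) := rfl

theorem restrictRange_pow_apply (N : V →ₗ[F] V) (k : ℕ) (w : ↥(LinearMap.range N)) :
    (((restrictRange N) ^ k) w : V) = (N ^ k) (w : V) := by
  induction k generalizing w with
  | zero => simp
  | succ k ih =>
    rw [pow_succ', Module.End.mul_apply, restrictRange_apply, ih, pow_succ', Module.End.mul_apply]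

theorem restrictRange_pow_eq_zero (N : V →ₗ[F] V) {m : ℕ} (h : N ^ (m + 1) = 0) :
    (restrictRange N) ^ m = 0 := by
  apply LinearMap.ext
  intro w
  apply Subtype.ext
  obtain ⟨v, hv⟩ := w.2
  rw [restrictRange_pow_apply, ← hv]
  have : (N ^ m) (N v) = (N ^ (m + 1)) v := by rw [pow_succ, Module.End.mul_apply]
  rw [this, h]
  rfl

theorem kd_restrictRange [FiniteDimensional F V] (N : V →ₗ[F] V) (k : ℕ) :
    kd (restrictRange N) k + kd N 1 = kd N (k + 1) := by
  set K := LinearMap.ker (N ^ (k + 1)) with hK
  let f : ↥K →ₗ[F] ↥(LinearMap.range N) :=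
    (N.comp K.subtype).codRestrict (LinearMap.range N) (fun v => LinearMap.mem_range_self N v)
  have hf : ∀ v : ↥K, ((f v : ↥(LinearMap.range N)) : V) = N (v : V) := fun v => rfl
  have hrange : LinearMap.range f = LinearMap.ker ((restrictRange N) ^ k) := by
    ext w
    rw [LinearMap.mem_range, LinearMap.mem_ker]
    constructor
    · rintro ⟨v, rfl⟩
      apply Subtype.ext
      rw [restrictRange_pow_apply, hf]
      have h3 : (N ^ (k + 1)) (v : V) = 0 := LinearMap.mem_ker.mp v.2
      rw [pow_succ, Module.End.mul_apply] at h3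
      rw [h3]
      rfl
    · intro hw
      obtain ⟨v, hv⟩ := w.2
      have h0 : (N ^ k) (w : V) = 0 := by
        rw [← restrictRange_pow_apply, hw]
        rfl
      refine ⟨⟨v, ?_⟩, Subtype.ext hv⟩
      show v ∈ LinearMap.ker (N ^ (k + 1))
      rw [LinearMap.mem_ker, pow_succ, Module.End.mul_apply, hv, h0]
  have hker : LinearMap.ker f = (LinearMap.ker (N ^ 1)).comap K.subtype := by
    ext v
    rw [LinearMap.mem_ker, Submodule.mem_comap, LinearMap.mem_ker, pow_one]
    constructor
    · intro h
      have := congrArg Subtype.val h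
      exact this
    · intro h
      apply Subtype.ext
      exact h
  have hle : LinearMap.ker (N ^ 1) ≤ K := by
    intro v hv
    rw [LinearMap.mem_ker, pow_one] at hv
    show v ∈ LinearMap.ker (N ^ (k + 1))
    rw [LinearMap.mem_ker, pow_succ, Module.End.mul_apply, hv, map_zero]
  have h1 := LinearMap.finrank_range_add_finrank_ker f
  rw [hrange, hker, LinearEquiv.finrank_eq (Submodule.comapSubtypeEquivOfLe hle)] at h1
  exact h1

theorem nu_restrictRange [FiniteDimensional F V] (N : V →ₗ[F] V) (h : ℕ) :
    nu (restrictRange N) h = nu N (h + 1) := by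
  unfold nu
  have h1 := kd_restrictRange N h
  have h2 := kd_restrictRange N (h + 1)
  omega

/-- The kernel of the restriction to the range embeds in the kernel. -/
theorem nu_one_le_nu_zero [FiniteDimensional F V] (N : V →ₗ[F] V) : nu N 1 ≤ nu N 0 := by
  rw [← nu_restrictRange N 0]
  unfold nu
  rw [kd_zero, kd_zero, Nat.sub_zero, Nat.sub_zero, zero_add]
  unfold kd
  let g : ↥(LinearMap.ker ((restrictRange N) ^ 1)) →ₗ[F] ↥(LinearMap.ker (N ^ 1)) :=
    ((LinearMap.range N).subtype.comp (LinearMap.ker ((restrictRange N) ^ 1)).subtype).codRestrict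
      (LinearMap.ker (N ^ 1)) (by
        intro w
        have := w.2
        rw [LinearMap.mem_ker] at this
        rw [LinearMap.mem_ker]
        have h2 := restrictRange_pow_apply N 1 (w : ↥(LinearMap.range N))
        rw [this] at h2
        exact h2.symm)
  apply LinearMap.finrank_le_finrank_of_injective (f := g)
  intro a b hab
  have := congrArg Subtype.val hab
  apply Subtype.ext
  apply Subtype.ext
  exact this

/-- The kernel of the restriction to the range versus `range N ∩ ker N` inside `ker N`. -/
theorem finrank_ker_restrictRange [FiniteDimensional F V] (N : V →ₗ[F] V) :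
    finrank F (LinearMap.ker ((restrictRange N) ^ 1)) =
      finrank F ((LinearMap.range N).comap (LinearMap.ker N).subtype) := by
  have h1 : LinearMap.ker ((restrictRange N) ^ 1) =
      (LinearMap.range N ⊓ LinearMap.ker N).comap (LinearMap.range N).subtype := by
    ext w
    rw [LinearMap.mem_ker, Submodule.mem_comap, Submodule.mem_inf, pow_one]
    constructor
    · intro h
      refine ⟨w.2, ?_⟩
      rw [LinearMap.mem_ker]
      have := congrArg Subtype.val h
      exact this
    · rintro ⟨_, h⟩
      apply Subtype.ext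
      exact LinearMap.mem_ker.mp h
  have h2 : (LinearMap.range N).comap (LinearMap.ker N).subtype =
      (LinearMap.range N ⊓ LinearMap.ker N).comap (LinearMap.ker N).subtype := by
    ext k
    rw [Submodule.mem_comap, Submodule.mem_comap, Submodule.mem_inf]
    exact ⟨fun h => ⟨h, k.2⟩, fun h => h.1⟩
  rw [h1, h2, LinearEquiv.finrank_eq (Submodule.comapSubtypeEquivOfLe inf_le_left),
    LinearEquiv.finrank_eq (Submodule.comapSubtypeEquivOfLe inf_le_right)]

end kd

end Cfsg.Agent.Lib.Helper14
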