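import Mathlib
import Cfsg.Agent.Lib.Helper14.NilKer

/-!
# Young bases of nilpotent endomorphisms

A nilpotent endomorphism `N` has a basis indexed by the cells `(h, j)`, `j < nu N h`, of the Young
diagram of its kernel filtration, with `N b(h+1,j) = b(h,j)` and `N b(0,j) = 0`.  Consequently two
nilpotent endomorphisms with the same kernel dimensions are similar.
-/

set_option autoImplicit false

namespace Cfsg.Agent.Lib.Helper14

open Module

universe u v w

/-- The cells of the Young diagram with rows `h < m`, row `h` having `ν h` cells. -/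
def cells (ν : ℕ → ℕ) (m : ℕ) : Finset (Σ _ : ℕ, ℕ) :=
  (Finset.range m).sigma (fun h => Finset.range (ν h))

theorem mem_cells {ν : ℕ → ℕ} {m : ℕ} {p : Σ _ : ℕ, ℕ} :
    p ∈ cells ν m ↔ p.1 < m ∧ p.2 < ν p.1 := by
  unfold cells
  rw [Finset.mem_sigma, Finset.mem_range, Finset.mem_range]

theorem card_cells (ν : ℕ → ℕ) (m : ℕ) : (cells ν m).card = ∑ h ∈ Finset.range m, ν h := by
  unfold cells
  rw [Finset.card_sigma]
  simp

variable {F : Type w} [Field F]

/-- Existence of a Young basis (spanning form). -/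
theorem exists_young (m : ℕ) : ∀ (V : Type u) [AddCommGroup V] [Module F V]
    [FiniteDimensional F V] (N : V →ₗ[F] V), N ^ m = 0 →
    (∀ h, nu N (h + 1) ≤ nu N h) ∧
    ∃ bt : ℕ → ℕ → V, (∀ h j, j < nu N (h + 1) → N (bt (h + 1) j) = bt h j) ∧
      (∀ j, j < nu N 0 → N (bt 0 j) = 0) ∧
      ⊤ ≤ Submodule.span F (Set.range (fun p : ↥(cells (nu N) m) => bt p.1.1 p.1.2)) := by
  induction m with
  | zero =>
    intro V _ _ _ N hN
    have hsub : ∀ v : V, v = 0 := by
      intro v
      have : (N ^ 0) v = 0 := by rw [hN]; rfl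
      simpa using this
    have hkd : ∀ k, kd N k = 0 := by
      intro k
      unfold kd
      have : Subsingleton V := ⟨fun a b => by rw [hsub a, hsub b]⟩
      exact finrank_zero_of_subsingleton
    refine ⟨fun h => by unfold nu; simp [hkd], fun _ _ => 0, fun _ _ _ => by simp,
      fun _ _ => by simp, ?_⟩
    intro v _
    rw [hsub v]
    exact Submodule.zero_mem _
  | succ m ih =>
    intro V _ _ _ N hN
    obtain ⟨hanti, btW, hP1, hP2, hspan⟩ :=
      ih ↥(LinearMap.range N) (restrictRange N) (restrictRange_pow_eq_zero N hN)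
    have hnu : ∀ h, nu (restrictRange N) h = nu N (h + 1) := nu_restrictRange N
    have hanti' : ∀ h, nu N (h + 1) ≤ nu N h := by
      intro h
      cases h with
      | zero => exact nu_one_le_nu_zero N
      | succ h =>
        have := hanti h
        rw [hnu, hnu] at this
        exact this
    refine ⟨hanti', ?_⟩
    -- preimages
    have hpre : ∀ w : ↥(LinearMap.range N), ∃ v : V, N v = (w : V) := fun w => w.2
    choose pre hpre using hpre
    -- a complement of `ker N ∩ range N` in `ker N`
    obtain ⟨Q, hQ⟩ := Submodule.exists_isCompl ((LinearMap.range N).comap (LinearMap.ker N).subtype)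
    obtain ⟨d, hd⟩ : ∃ d : ℕ, d = finrank F ↥Q := ⟨_, rfl⟩
    let uB : Basis (Fin d) F ↥Q := (Module.finBasis F ↥Q).reindex (finCongr hd.symm)
    let u : Fin d → V := fun l => (((uB l : ↥Q) : ↥(LinearMap.ker N)) : V)
    have hdeq : nu N 1 + d = nu N 0 := by
      have e0 : nu N 0 = finrank F ↥(LinearMap.ker N) := by
        unfold nu
        rw [kd_zero, Nat.sub_zero]
        unfold kd
        rw [zero_add, pow_one]
      have e1 : nu N 1 = finrank F ↥((LinearMap.range N).comap (LinearMap.ker N).subtype) := by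
        rw [← hnu 0]
        unfold nu
        rw [kd_zero, Nat.sub_zero, zero_add]
        unfold kd
        exact finrank_ker_restrictRange N
      have e2 := Submodule.finrank_add_eq_of_isCompl hQ
      omega
    -- the family
    obtain ⟨bt, hbt1, hbt2, hbt3⟩ : ∃ bt : ℕ → ℕ → V,
        (∀ h j, j < nu N (h + 1) → bt h j = ((btW h j : ↥(LinearMap.range N)) : V)) ∧
        (∀ j, ¬ j < nu N 1 → ∀ hj : j - nu N 1 < d, bt 0 j = u ⟨j - nu N 1, hj⟩) ∧
        (∀ h j, ¬ j < nu N (h + 2) → bt (h + 1) j = pre (btW h j)) := by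
      refine ⟨fun h j => if j < nu N (h + 1) then ((btW h j : ↥(LinearMap.range N)) : V)
        else match h with
          | 0 => if hj : j - nu N 1 < d then u ⟨j - nu N 1, hj⟩ else 0
          | h' + 1 => pre (btW h' j), ?_, ?_, ?_⟩
      · intro h j hj
        simp only [if_pos hj]
      · intro j hj hj'
        simp only [zero_add, if_neg hj, dif_pos hj']
      · intro h j hj
        have : ¬ j < nu N (h + 1 + 1) := hj
        simp only [if_neg this]
    have hP1' : ∀ h j, j < nu N (h + 1) → N (bt (h + 1) j) = bt h j := by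
      intro h j hj
      by_cases hj2 : j < nu N (h + 2)
      · rw [hbt1 (h + 1) j hj2, hbt1 h j hj]
        have := congrArg Subtype.val (hP1 h j (by rw [hnu]; exact hj2))
        exact this
      · rw [hbt3 h j hj2, hpre, hbt1 h j hj]
    have hP2' : ∀ j, j < nu N 0 → N (bt 0 j) = 0 := by
      intro j hj
      by_cases hj1 : j < nu N 1
      · rw [hbt1 0 j hj1]
        have := congrArg Subtype.val (hP2 j (by rw [hnu]; exact hj1))
        exact this
      · have hj' : j - nu N 1 < d := by omega
        rw [hbt2 j hj1 hj']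
        exact LinearMap.mem_ker.mp ((uB ⟨j - nu N 1, hj'⟩ : ↥Q) : ↥(LinearMap.ker N)).2
    refine ⟨bt, hP1', hP2', ?_⟩
    set S := Submodule.span F (Set.range (fun p : ↥(cells (nu N) (m + 1)) => bt p.1.1 p.1.2))
      with hS
    have hcell : ∀ h j, h < m + 1 → j < nu N h → bt h j ∈ S := by
      intro h j hh hj
      apply Submodule.subset_span
      exact ⟨⟨⟨h, j⟩, mem_cells.mpr ⟨hh, hj⟩⟩, rfl⟩
    have hWS : ∀ w : ↥(LinearMap.range N), (w : V) ∈ S := by
      intro w
      have hw : w ∈ Submodule.span F (Set.range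
          (fun p : ↥(cells (nu (restrictRange N)) m) => btW p.1.1 p.1.2)) :=
        hspan Submodule.mem_top
      induction hw using Submodule.span_induction with
      | mem x hx =>
        obtain ⟨p, rfl⟩ := hx
        have hp := mem_cells.mp p.2
        rw [hnu] at hp
        show ((btW p.1.1 p.1.2 : ↥(LinearMap.range N)) : V) ∈ S
        rw [← hbt1 _ _ hp.2]
        exact hcell _ _ (by omega) (lt_of_lt_of_le hp.2 (hanti' _))
      | zero => exact Submodule.zero_mem _
      | add x y _ _ hx hy => exact Submodule.add_mem _ hx hy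
      | smul c x _ hx => exact Submodule.smul_mem _ c hx
    have huS : ∀ l : Fin d, u l ∈ S := by
      intro l
      have h1 : ¬ (nu N 1 + l.1 < nu N 1) := by omega
      have h2 : nu N 1 + l.1 - nu N 1 < d := by
        have := l.2
        omega
      have h3 := hbt2 (nu N 1 + l.1) h1 h2
      have h4 : (⟨nu N 1 + l.1 - nu N 1, h2⟩ : Fin d) = l := Fin.ext (by simp)
      rw [h4] at h3
      rw [← h3]
      exact hcell 0 _ (by omega) (by have := l.2; omega)
    have hKS : ∀ k : V, N k = 0 → k ∈ S := by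
      intro k hk
      have hkK : k ∈ LinearMap.ker N := LinearMap.mem_ker.mpr hk
      have htop : (⟨k, hkK⟩ : ↥(LinearMap.ker N)) ∈
          ((LinearMap.range N).comap (LinearMap.ker N).subtype) ⊔ Q := by
        rw [hQ.sup_eq_top]
        exact Submodule.mem_top
      obtain ⟨a, ha, b, hb, hab⟩ := Submodule.mem_sup.mp htop
      have hk' : k = (a : V) + (b : V) := by
        have := congrArg Subtype.val hab
        exact this.symm
      rw [hk']
      apply Submodule.add_mem
      · have : (a : V) ∈ LinearMap.range N := ha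
        exact hWS ⟨a, this⟩
      · have hrepr := uB.sum_repr ⟨b, hb⟩
        have h5 := congrArg ((LinearMap.ker N).subtype.comp Q.subtype) hrepr
        rw [map_sum] at h5
        have h6 : (b : V) = ∑ l : Fin d, (uB.repr ⟨b, hb⟩ l) • u l := by
          rw [show (b : V) = ((LinearMap.ker N).subtype.comp Q.subtype) ⟨b, hb⟩ from rfl, ← h5]
          apply Finset.sum_congr rfl
          intro l _
          rw [map_smul]
          rfl
        rw [h6]
        exact Submodule.sum_mem _ (fun l _ => Submodule.smul_mem _ _ (huS l))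
    intro v _
    have key : ∀ w : ↥(LinearMap.range N), w ∈ Submodule.span F (Set.range
        (fun p : ↥(cells (nu (restrictRange N)) m) => btW p.1.1 p.1.2)) →
        ∃ s ∈ S, N s = (w : V) := by
      intro w hw
      induction hw using Submodule.span_induction with
      | mem x hx =>
        obtain ⟨p, rfl⟩ := hx
        have hp := mem_cells.mp p.2
        rw [hnu] at hp
        refine ⟨bt (p.1.1 + 1) p.1.2, hcell _ _ (by omega) hp.2, ?_⟩
        rw [hP1' _ _ hp.2, hbt1 _ _ hp.2]
      | zero => exact ⟨0, S.zero_mem, by simp⟩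
      | add x y _ _ hx hy =>
        obtain ⟨s1, hs1, e1⟩ := hx
        obtain ⟨s2, hs2, e2⟩ := hy
        exact ⟨s1 + s2, S.add_mem hs1 hs2, by rw [map_add, e1, e2]; rfl⟩
      | smul c x _ hx =>
        obtain ⟨s1, hs1, e1⟩ := hx
        exact ⟨c • s1, S.smul_mem c hs1, by rw [map_smul, e1]; rfl⟩
    obtain ⟨s, hs, hNs⟩ := key ⟨N v, LinearMap.mem_range_self N v⟩ (hspan Submodule.mem_top)
    have hv : v = s + (v - s) := by abel
    rw [hv]
    exact S.add_mem hs (hKS _ (by rw [map_sub, hNs, sub_self]))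

/-- The jumps of the kernel filtration of a nilpotent endomorphism are non-increasing. -/
theorem nu_antitone {V : Type u} [AddCommGroup V] [Module F V] [FiniteDimensional F V]
    (N : V →ₗ[F] V) (hN : IsNilpotent N) (h : ℕ) : nu N (h + 1) ≤ nu N h := by
  obtain ⟨m, hm⟩ := hN
  exact (exists_young m V N hm).1 h

/-- Nilpotent endomorphisms with the same kernel dimensions are similar. -/
theorem exists_equiv_of_kd_eq {V : Type u} {V' : Type v} [AddCommGroup V] [Module F V]
    [FiniteDimensional F V] [AddCommGroup V'] [Module F V'] [FiniteDimensional F V']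
    (N : V →ₗ[F] V) (N' : V' →ₗ[F] V') (hN : IsNilpotent N) (hN' : IsNilpotent N')
    (hkd : ∀ k, kd N k = kd N' k) : ∃ φ : V ≃ₗ[F] V', ∀ v, φ (N v) = N' (φ v) := by
  obtain ⟨m1, h1⟩ := hN
  obtain ⟨m2, h2⟩ := hN'
  obtain ⟨m, hmdef⟩ : ∃ m, m = m1 + m2 := ⟨_, rfl⟩
  have hm : N ^ m = 0 := by rw [hmdef, pow_add, h1, zero_mul]
  have hm' : N' ^ m = 0 := by rw [hmdef, pow_add, h2, mul_zero]
  have hnu : nu N' = nu N := by
    funext h
    unfold nu
    rw [hkd, hkd]
  obtain ⟨hanti, bt, hP1, hP2, hspan⟩ := exists_young m V N hm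
  obtain ⟨_, bt', hP1', hP2', hspan'⟩ := exists_young m V' N' hm'
  rw [hnu] at hP1' hP2' hspan'
  have hcard : Fintype.card ↥(cells (nu N) m) = finrank F V := by
    rw [Fintype.card_coe, card_cells, sum_nu, kd_eq_finrank_of_pow_eq_zero N hm le_rfl]
  have hcard' : Fintype.card ↥(cells (nu N) m) = finrank F V' := by
    rw [Fintype.card_coe, card_cells, sum_nu, hkd, kd_eq_finrank_of_pow_eq_zero N' hm' le_rfl]
  let B := basisOfTopLeSpanOfCardEqFinrank _ hspan hcard
  let B' := basisOfTopLeSpanOfCardEqFinrank _ hspan' hcard'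
  have hB : ∀ p, B p = bt p.1.1 p.1.2 := fun p => by
    rw [coe_basisOfTopLeSpanOfCardEqFinrank]
  have hB' : ∀ p, B' p = bt' p.1.1 p.1.2 := fun p => by
    rw [coe_basisOfTopLeSpanOfCardEqFinrank]
  have hφ : ∀ p, B.equiv B' (Equiv.refl _) (B p) = B' p := fun p => by
    rw [Basis.equiv_apply]
    rfl
  have hlin : ((B.equiv B' (Equiv.refl _) : V ≃ₗ[F] V') : V →ₗ[F] V').comp N =
      N'.comp ((B.equiv B' (Equiv.refl _) : V ≃ₗ[F] V') : V →ₗ[F] V') := by
    apply B.ext
    intro p
    simp only [LinearMap.comp_apply, LinearEquiv.coe_coe]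
    rw [hφ p]
    obtain ⟨⟨h, j⟩, hp⟩ := p
    have hp' := mem_cells.mp hp
    rw [hB, hB']
    cases h with
    | zero =>
      show (B.equiv B' (Equiv.refl _)) (N (bt 0 j)) = N' (bt' 0 j)
      rw [hP2 j hp'.2, hP2' j hp'.2, map_zero]
    | succ h =>
      show (B.equiv B' (Equiv.refl _)) (N (bt (h + 1) j)) = N' (bt' (h + 1) j)
      have hlt : h + 1 < m := hp'.1
      have hjlt : j < nu N (h + 1) := hp'.2
      have hq : (⟨h, j⟩ : Σ _ : ℕ, ℕ) ∈ cells (nu N) m :=
        mem_cells.mpr ⟨show h < m by omega, show j < nu N h from lt_of_lt_of_le hjlt (hanti h)⟩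
      rw [hP1 h j hjlt, hP1' h j hjlt]
      have e1 : bt h j = B ⟨⟨h, j⟩, hq⟩ := (hB ⟨⟨h, j⟩, hq⟩).symm
      have e2 : bt' h j = B' ⟨⟨h, j⟩, hq⟩ := (hB' ⟨⟨h, j⟩, hq⟩).symm
      rw [e1, e2, hφ]
  refine ⟨B.equiv B' (Equiv.refl _), fun v => ?_⟩
  exact LinearMap.congr_fun hlin v

end Cfsg.Agent.Lib.Helper14
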