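import Mathlib
import Cfsg.Agent.Lib.Helper14.NilKer
import Cfsg.Agent.Lib.Helper14.NilYoung

/-!
# Realising kernel-dimension functions by unipotent isometries

`IsRealised ε κ n`: on the standard space `F^n` there are a nondegenerate `ε`-symmetric form
(alternating when `ε = -1`) and an isometry `A` with `dim ker (A-1)^k = κ k`.  Orthogonal sums,
a criterion for a single Jordan block, and the induction over a multiset of block sizes.
-/

set_option autoImplicit false

namespace Cfsg.Agent.Lib.Helper14.JType

open Module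

universe u

variable {F : Type u} [Field F]

/-- realised data on the standard space -/
def IsRealised (ε : F) (κ : ℕ → ℕ) (n : ℕ) : Prop :=
  ∃ (B : (Fin n → F) →ₗ[F] (Fin n → F) →ₗ[F] F) (A : (Fin n → F) →ₗ[F] (Fin n → F)),
    (∀ x, (∀ y, B x y = 0) → x = 0) ∧ (∀ x y, B y x = ε * B x y) ∧
    (ε = -1 → ∀ x, B x x = 0) ∧ (∀ x y, B (A x) (A y) = B x y) ∧ ∀ k, kd (A - 1) k = κ k

theorem isRealised_of_space {V : Type*} [AddCommGroup V] [Module F V] [FiniteDimensional F V]
    {ε : F} {κ : ℕ → ℕ} {n : ℕ} (hn : finrank F V = n)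
    (B : V →ₗ[F] V →ₗ[F] F) (A : V →ₗ[F] V)
    (hnd : ∀ x, (∀ y, B x y = 0) → x = 0) (hsym : ∀ x y, B y x = ε * B x y)
    (halt : ε = -1 → ∀ x, B x x = 0) (hpres : ∀ x y, B (A x) (A y) = B x y)
    (hkd : ∀ k, kd (A - 1) k = κ k) : IsRealised ε κ n := by
  have hfr : finrank F V = finrank F (Fin n → F) := by rw [hn, Module.finrank_fin_fun]
  let φ : V ≃ₗ[F] (Fin n → F) := LinearEquiv.ofFinrankEq V (Fin n → F) hfr
  refine ⟨B.compl₁₂ φ.symm.toLinearMap φ.symm.toLinearMap, φ.conj A, ?_, ?_, ?_, ?_, ?_⟩
  · intro x hx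
    have h1 : φ.symm x = 0 := by
      apply hnd
      intro y
      have := hx (φ y)
      simp only [LinearMap.compl₁₂_apply, LinearEquiv.coe_coe,
        LinearEquiv.symm_apply_apply] at this
      exact this
    exact φ.symm.map_eq_zero_iff.1 h1
  · intro x y
    simp only [LinearMap.compl₁₂_apply, LinearEquiv.coe_coe]
    exact hsym _ _
  · intro h x
    simp only [LinearMap.compl₁₂_apply, LinearEquiv.coe_coe]
    exact halt h _
  · intro x y
    simp only [LinearMap.compl₁₂_apply, LinearEquiv.coe_coe, LinearEquiv.conj_apply_apply,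
      LinearEquiv.symm_apply_apply]
    exact hpres _ _
  · intro k
    rw [← hkd k]
    apply kd_eq_of_equiv (A - 1) (φ.conj A - 1) φ
    intro v
    simp [LinearEquiv.conj_apply_apply]

theorem IsRealised.congr {ε : F} {κ κ' : ℕ → ℕ} {n n' : ℕ} (h : IsRealised ε κ n)
    (hκ : ∀ k, κ k = κ' k) (hn : n = n') : IsRealised ε κ' n' := by
  subst hn
  have : κ = κ' := funext hκ
  subst this
  exact h

theorem isRealised_zero (ε : F) : IsRealised ε (fun _ => 0) 0 := by
  refine ⟨0, 1, ?_, ?_, ?_, ?_, ?_⟩
  · intro x _
    exact Subsingleton.elim _ _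
  · intro x y
    simp
  · intro _ x
    simp
  · intro x y
    simp
  · intro k
    show kd _ k = 0
    unfold kd
    have h0 : finrank F (Fin 0 → F) = 0 := by simp
    have h := Submodule.finrank_le
      (LinearMap.ker (((1 : (Fin 0 → F) →ₗ[F] (Fin 0 → F)) - 1) ^ k))
    omega

section prod

variable {V₁ V₂ : Type*} [AddCommGroup V₁] [Module F V₁] [AddCommGroup V₂] [Module F V₂]

theorem prodMap_pow (f : V₁ →ₗ[F] V₁) (g : V₂ →ₗ[F] V₂) (k : ℕ) :
    (f.prodMap g) ^ k = (f ^ k).prodMap (g ^ k) := by
  induction k with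
  | zero =>
    rw [pow_zero, pow_zero, pow_zero]
    rfl
  | succ k ih => rw [pow_succ, ih, LinearMap.prodMap_mul, ← pow_succ, ← pow_succ]

/-- the product of two submodules, as a module, is the product of the modules -/
def prodSubEquiv (p : Submodule F V₁) (q : Submodule F V₂) : ↥(p.prod q) ≃ₗ[F] (↥p × ↥q) where
  toFun x := (⟨x.1.1, (Submodule.mem_prod.1 x.2).1⟩, ⟨x.1.2, (Submodule.mem_prod.1 x.2).2⟩)
  invFun y := ⟨(y.1.1, y.2.1), Submodule.mem_prod.2 ⟨y.1.2, y.2.2⟩⟩
  map_add' _ _ := rfl
  map_smul' _ _ := rfl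
  left_inv _ := rfl
  right_inv _ := rfl

theorem kd_prodMap [FiniteDimensional F V₁] [FiniteDimensional F V₂] (f : V₁ →ₗ[F] V₁)
    (g : V₂ →ₗ[F] V₂) (k : ℕ) : kd (f.prodMap g) k = kd f k + kd g k := by
  unfold kd
  rw [prodMap_pow, LinearMap.ker_prodMap, (prodSubEquiv _ _).finrank_eq, Module.finrank_prod]

theorem prodMap_sub_one (f : V₁ →ₗ[F] V₁) (g : V₂ →ₗ[F] V₂) :
    f.prodMap g - 1 = (f - 1).prodMap (g - 1) := by
  apply LinearMap.ext
  intro x
  apply Prod.ext <;> simp

end prod

theorem IsRealised.add {ε : F} {κ₁ κ₂ : ℕ → ℕ} {n₁ n₂ : ℕ} (h₁ : IsRealised ε κ₁ n₁)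
    (h₂ : IsRealised ε κ₂ n₂) : IsRealised ε (fun k => κ₁ k + κ₂ k) (n₁ + n₂) := by
  obtain ⟨B₁, A₁, hnd₁, hsym₁, halt₁, hpres₁, hkd₁⟩ := h₁
  obtain ⟨B₂, A₂, hnd₂, hsym₂, halt₂, hpres₂, hkd₂⟩ := h₂
  let B : ((Fin n₁ → F) × (Fin n₂ → F)) →ₗ[F] ((Fin n₁ → F) × (Fin n₂ → F)) →ₗ[F] F :=
    B₁.compl₁₂ (LinearMap.fst F _ _) (LinearMap.fst F _ _) +
      B₂.compl₁₂ (LinearMap.snd F _ _) (LinearMap.snd F _ _)
  have hB : ∀ x y, B x y = B₁ x.1 y.1 + B₂ x.2 y.2 := fun x y => rfl
  apply isRealised_of_space (V := (Fin n₁ → F) × (Fin n₂ → F)) _ B (A₁.prodMap A₂)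
  · intro x hx
    have h1 : x.1 = 0 := by
      apply hnd₁
      intro y
      have := hx (y, 0)
      rwa [hB, map_zero, add_zero] at this
    have h2 : x.2 = 0 := by
      apply hnd₂
      intro y
      have := hx (0, y)
      rwa [hB, map_zero, zero_add] at this
    exact Prod.ext h1 h2
  · intro x y
    rw [hB, hB, hsym₁, hsym₂, mul_add]
  · intro h x
    rw [hB, halt₁ h, halt₂ h, add_zero]
  · intro x y
    rw [hB, hB]
    simp only [LinearMap.prodMap_apply]
    rw [hpres₁, hpres₂]
  · intro k
    rw [prodMap_sub_one, kd_prodMap, hkd₁, hkd₂]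
  · rw [Module.finrank_prod, Module.finrank_fin_fun, Module.finrank_fin_fun]

/-- A nilpotent endomorphism with kernel of dimension at most one is a single Jordan block. -/
theorem kd_of_ker_le_one {V : Type u} [AddCommGroup V] [Module F V] [FiniteDimensional F V]
    (N : V →ₗ[F] V) (hN : IsNilpotent N) (hker : finrank F (LinearMap.ker N) ≤ 1) (j : ℕ) :
    kd N j = min (finrank F V) j := by
  have hnu0 : nu N 0 ≤ 1 := by
    unfold nu
    rw [kd_zero, Nat.sub_zero]
    unfold kd
    rwa [pow_one]
  have hnu : ∀ h, nu N h ≤ 1 := by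
    intro h
    induction h with
    | zero => exact hnu0
    | succ h ih => exact (nu_antitone N hN h).trans ih
  have hstep : ∀ j i, kd N (j + i) ≤ kd N j + i := by
    intro j i
    induction i with
    | zero => simp
    | succ i ih =>
      have h1 := kd_add_nu N (j + i)
      have h2 := hnu (j + i)
      rw [← add_assoc]
      omega
  obtain ⟨m, hm⟩ := hN
  have hfin := pow_finrank_eq_zero N hm
  rcases le_total (finrank F V) j with hj | hj
  · rw [kd_eq_finrank_of_pow_eq_zero N hfin hj, min_eq_left hj]
  · rw [min_eq_right hj]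
    have h1 := kd_eq_finrank_of_pow_eq_zero N hfin le_rfl
    have h2 := hstep j (finrank F V - j)
    have h3 := hstep 0 j
    rw [kd_zero, zero_add] at h3
    have h4 : j + (finrank F V - j) = finrank F V := by omega
    rw [h4, h1] at h2
    omega

/-- multiplying by a commuting invertible endomorphism does not change the kernel dimensions -/
theorem kd_mul_of_leftInv {V : Type*} [AddCommGroup V] [Module F V] (U U' N : V →ₗ[F] V)
    (hU : U' * U = 1) (hc : Commute U N) (j : ℕ) : kd (U * N) j = kd N j := by
  have h1 : (U * N) ^ j = U ^ j * N ^ j := hc.mul_pow j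
  have h2' : ∀ i : ℕ, U' ^ i * U ^ i = 1 := by
    intro i
    induction i with
    | zero => simp
    | succ i ih =>
      calc U' ^ (i + 1) * U ^ (i + 1) = U' ^ i * ((U' * U) * U ^ i) := by
            rw [pow_succ, pow_succ']
            simp only [mul_assoc]
        _ = 1 := by rw [hU, one_mul, ih]
  have h2 := h2' j
  have hker : LinearMap.ker ((U * N) ^ j) = LinearMap.ker (N ^ j) := by
    ext v
    rw [LinearMap.mem_ker, LinearMap.mem_ker, h1, Module.End.mul_apply]
    constructor
    · intro h
      have h3 := congrArg (U' ^ j) h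
      rw [map_zero, ← Module.End.mul_apply, h2, Module.End.one_apply] at h3
      exact h3
    · intro h
      rw [h, map_zero]
  unfold kd
  rw [hker]

/-- the kernel dimensions of the Jordan type given by a multiset of block sizes -/
def kappa (M : Multiset ℕ) (k : ℕ) : ℕ := (M.map (fun b => min b k)).sum

theorem kappa_zero (k : ℕ) : kappa 0 k = 0 := by
  unfold kappa
  simp

theorem kappa_cons (b : ℕ) (M : Multiset ℕ) (k : ℕ) : kappa (b ::ₘ M) k = min b k + kappa M k := by
  unfold kappa
  simp

/-- Induction over the multiset of block sizes: sizes that are not `good` occur an even number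
of times and are realised in pairs. -/
theorem realise_multiset (ε : F) (good : ℕ → Prop)
    (hsingle : ∀ b, good b → IsRealised ε (fun k => min b k) b)
    (hpair : ∀ b, IsRealised ε (fun k => 2 * min b k) (2 * b)) :
    ∀ (c : ℕ) (M : Multiset ℕ), Multiset.card M = c →
      (∀ j, ¬ good j → Even (M.count j)) → IsRealised ε (kappa M) M.sum := by
  intro c
  induction c using Nat.strong_induction_on with
  | _ c ih =>
    intro M hc hM
    rcases Multiset.empty_or_exists_mem M with rfl | ⟨b, hb⟩
    · exact (isRealised_zero ε).congr (fun k => (kappa_zero k).symm) (by simp)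
    · obtain ⟨M', rfl⟩ := Multiset.exists_cons_of_mem hb
      by_cases hg : good b
      · have hM' : ∀ j, ¬ good j → Even (M'.count j) := by
          intro j hj
          have hne : j ≠ b := by
            rintro rfl
            exact hj hg
          have := hM j hj
          rwa [Multiset.count_cons_of_ne hne] at this
        have hc' : Multiset.card M' < c := by
          rw [← hc, Multiset.card_cons]
          omega
        have h1 := ih _ hc' M' rfl hM'
        exact ((hsingle b hg).add h1).congr (fun k => (kappa_cons b M' k).symm) (by simp)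
      · have hev := hM b hg
        rw [Multiset.count_cons_self] at hev
        have hpos : 0 < M'.count b := by
          rcases Nat.eq_zero_or_pos (M'.count b) with h0 | h0
          · rw [h0] at hev
            exact absurd hev (by decide)
          · exact h0
        obtain ⟨M'', rfl⟩ := Multiset.exists_cons_of_mem (Multiset.count_pos.1 hpos)
        have hM'' : ∀ j, ¬ good j → Even (M''.count j) := by
          intro j hj
          have := hM j hj
          by_cases hjb : j = b
          · subst hjb
            rw [Multiset.count_cons_self, Multiset.count_cons_self] at this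
            rcases this with ⟨r, hr⟩
            exact ⟨r - 1, by omega⟩
          · rwa [Multiset.count_cons_of_ne hjb, Multiset.count_cons_of_ne hjb] at this
        have hc' : Multiset.card M'' < c := by
          rw [← hc, Multiset.card_cons, Multiset.card_cons]
          omega
        have h1 := ih _ hc' M'' rfl hM''
        refine ((hpair b).add h1).congr (fun k => ?_) ?_
        · rw [kappa_cons, kappa_cons]
          ring
        · rw [Multiset.sum_cons, Multiset.sum_cons]
          ring

end Cfsg.Agent.Lib.Helper14.JType
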