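import Mathlib
import Cfsg.Agent.Lib.Helper15.QuadCount2
import Cfsg.Agent.Lib.Helper6.OrthForms
import Cfsg.Agent.Lib.Helper14.OrdCount4

/-!
# Elements of odd prime order in odd-dimensional orthogonal groups: preliminaries

The classification of nondegenerate quadratic forms of odd dimension up to similarity,
self-duality of the characteristic polynomial of an isometry, and the factor `X - 1`.
-/

set_option autoImplicit false

namespace Cfsg.Agent.Lib.Helper14.OrthOrd

open Module QuadraticMap Polynomial
open Cfsg.Agent.Lib.Helper15 (witt_main IsHypFamily hypComb hypPerp mem_hypPerp quad_add_hypComb)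
open Cfsg.Agent.Lib.Helper6 (QOdd QOdd_apply nondegenerate_QOdd)
open Cfsg.Agent.Lib.Helper14.HCount (dual dual_mul)
open Cfsg.Agent.Lib.Helper14.OrdCount (dual_X_sub_one)
open Cfsg.Agent.S2568 (cycFactors mem_T_iff)

universe u v

section classify

variable {F : Type v} [Field F]

/-- every nondegenerate quadratic form of odd dimension over a finite field of odd
characteristic is similar to the standard one -/
theorem classify_odd [Finite F] (h2 : (2 : F) ≠ 0) {V : Type u} [AddCommGroup V] [Module F V]
    [FiniteDimensional F V] (Q : QuadraticForm F V) (hQ : (polarBilin Q).Nondegenerate) (m : ℕ)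
    (hV : finrank F V = 2 * m + 1) :
    ∃ c : F, c ≠ 0 ∧ ∃ Ψ : (Unit ⊕ (Fin m ⊕ Fin m) → F) ≃ₗ[F] V,
      ∀ v, Q (Ψ v) = c * Cfsg.quadFormOdd m F v := by
  classical
  obtain ⟨k, e, f, hyp, hcase⟩ := witt_main (2 * m + 1) Q hQ hV
  rcases hcase with h | ⟨h, z, hz, hzef⟩ | ⟨h, -⟩
  · omega
  · obtain rfl : k = m := by omega
    set c := Q z with hc
    let Ψ₀ : (Unit ⊕ (Fin k ⊕ Fin k) → F) →ₗ[F] V :=
      (LinearMap.proj (Sum.inl ())).smulRight z +
        (∑ i, (LinearMap.proj (Sum.inr (Sum.inl i))).smulRight (e i) +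
          ∑ i, (c • LinearMap.proj (Sum.inr (Sum.inr i))).smulRight (f i))
    have hΨ₀ : ∀ v, Ψ₀ v = v (Sum.inl ()) • z +
        hypComb e f (fun i => v (Sum.inr (Sum.inl i))) (fun i => c * v (Sum.inr (Sum.inr i))) := by
      intro v
      simp only [Ψ₀, hypComb, LinearMap.add_apply, LinearMap.smulRight_apply, LinearMap.proj_apply,
        LinearMap.sum_apply, LinearMap.smul_apply, smul_eq_mul]
    have hzperp : ∀ t : F, t • z ∈ hypPerp Q e f := by
      intro t
      rw [mem_hypPerp]
      intro i
      rw [polar_smul_left, polar_smul_left, (hzef i).1, (hzef i).2, smul_zero]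
      exact ⟨rfl, rfl⟩
    have hQΨ : ∀ v, Q (Ψ₀ v) = c * Cfsg.quadFormOdd k F v := by
      intro v
      rw [hΨ₀, quad_add_hypComb hyp _ (hzperp _), QuadraticMap.map_smul]
      unfold Cfsg.quadFormOdd dotProduct
      rw [mul_add, Finset.mul_sum, smul_eq_mul, ← hc]
      congr 1
      · ring
      · apply Finset.sum_congr rfl
        intro i _
        ring
    have hinj : Function.Injective Ψ₀ := by
      rw [← LinearMap.ker_eq_bot, LinearMap.ker_eq_bot']
      intro v hv
      apply (nondegenerate_QOdd F h2 k).1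
      intro w
      rw [polarBilin_apply_apply]
      have h3 : c * polar (QOdd F k) v w = polar Q (Ψ₀ v) (Ψ₀ w) := by
        unfold polar
        rw [← map_add, hQΨ, hQΨ, hQΨ, QOdd_apply, QOdd_apply, QOdd_apply]
        ring
      rw [hv, polar_zero_left] at h3
      rcases mul_eq_zero.1 h3 with h4 | h4
      · exact absurd h4 hz
      · exact h4
    have hfr : finrank F (Unit ⊕ (Fin k ⊕ Fin k) → F) = finrank F V := by
      rw [hV, Module.finrank_fintype_fun_eq_card, Fintype.card_sum, Fintype.card_sum,
        Fintype.card_unit, Fintype.card_fin]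
      ring
    have hsurj := (LinearMap.injective_iff_surjective_of_finrank_eq_finrank hfr).1 hinj
    exact ⟨c, hz, LinearEquiv.ofBijective Ψ₀ ⟨hinj, hsurj⟩, fun v => hQΨ v⟩
  · omega

end classify

section charpoly

variable {F : Type*} [Field F] {ι : Type*} [Fintype ι] [DecidableEq ι]

/-- the dual of the characteristic polynomial is the characteristic polynomial of the inverse -/
theorem dual_refl_charpoly (A : Matrix ι ι F) (hA : IsUnit A) :
    dual (RingEquiv.refl F) A.charpoly = A⁻¹.charpoly := by
  have hdet : IsUnit A.det := (Matrix.isUnit_iff_isUnit_det A).1 hA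
  have hdet0 : A.det ≠ 0 := hdet.ne_zero
  rw [Matrix.charpoly_inv A hA, ← Matrix.reverse_charpoly, Ring.inverse_eq_inv']
  unfold dual
  simp only [RingEquiv.coe_ringHom_refl, Polynomial.map_id, RingEquiv.refl_apply]
  set ε : F := (-1) ^ Fintype.card ι with hε
  have hεε : ε * ε = 1 := by
    rw [hε, ← mul_pow, neg_one_mul, neg_neg, one_pow]
  have hε1 : (-1 : F[X]) ^ Fintype.card ι = C ε := by
    rw [hε, map_pow, map_neg, map_one]
  have hε0 : ε ≠ 0 := by
    intro h0
    rw [h0, mul_zero] at hεε
    exact zero_ne_one hεε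
  have hcoeff : A.charpoly.coeff 0 = ε * A.det := by
    rw [Matrix.det_eq_sign_charpoly_coeff, ← hε, ← mul_assoc, hεε, one_mul]
  rw [hε1, hcoeff, ← C_mul, mul_inv]
  congr 2
  field_simp
  rw [← hεε]
  ring

/-- the characteristic polynomial of a matrix preserving a nondegenerate bilinear form is
self-dual -/
theorem dual_charpoly_of_pres (A G : Matrix ι ι F) (hG : IsUnit G.det)
    (hpres : A.transpose * G * A = G) (hA : IsUnit A) :
    dual (RingEquiv.refl F) A.charpoly = A.charpoly := by
  rw [dual_refl_charpoly A hA]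
  obtain ⟨Gu, hGu⟩ := (Matrix.isUnit_iff_isUnit_det G).2 hG
  have h1 : A⁻¹ = (Gu.val)⁻¹ * A.transpose * Gu.val := by
    apply Matrix.inv_eq_left_inv
    rw [hGu, mul_assoc, mul_assoc, ← mul_assoc A.transpose, hpres, Matrix.nonsing_inv_mul _ hG]
  rw [h1, Matrix.charpoly_units_conj', Matrix.charpoly_transpose]

end charpoly

section factor

variable {F : Type*} [Field F] [Fintype F]

open scoped Classical in
/-- a self-dual polynomial of odd degree with good factors is divisible by `X - 1` -/
theorem X_sub_one_dvd (h2 : (2 : F) ≠ 0) (r : ℕ) (hr : r.Prime) (hr2 : r ≠ 2) (f : F[X])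
    (hm : f.Monic) (N : ℕ) (hn : f.natDegree = 2 * N + 1)
    (hgood : ∀ P : F[X], P.Monic → Irreducible P → P ∣ f →
      P ∈ insert (X - 1 : F[X]) (cycFactors F r))
    (h0 : f.coeff 0 ≠ 0) (hd : dual (RingEquiv.refl F) f = f) : (X - 1 : F[X]) ∣ f := by
  have h1 : f.reverse = C (f.coeff 0) * f := by
    have h2' : C (f.coeff 0)⁻¹ * f.reverse = f := by
      have h3 : dual (RingEquiv.refl F) f = C (f.coeff 0)⁻¹ * f.reverse := by
        unfold dual
        simp
      rw [← h3]
      exact hd
    calc f.reverse = C (f.coeff 0) * (C (f.coeff 0)⁻¹ * f.reverse) := by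
          rw [← mul_assoc, ← C_mul, mul_inv_cancel₀ h0, C_1, one_mul]
      _ = C (f.coeff 0) * f := by rw [h2']
  have hc2 : f.coeff 0 * f.coeff 0 = 1 := by
    have h3 := congrArg (fun g => Polynomial.coeff g 0) h1
    simp only [coeff_zero_reverse, hm.leadingCoeff, coeff_C_mul] at h3
    exact h3.symm
  have hodd : Odd r := hr.odd_of_ne_two hr2
  have hoddn : Odd (2 * N + 1) := ⟨N, rfl⟩
  rcases mul_self_eq_one_iff.mp hc2 with hc | hc
  · exfalso
    have hx : (-1 : F) ≠ 0 := neg_ne_zero.mpr one_ne_zero
    let _ : Invertible (-1 : F) := invertibleOfNonzero hx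
    have h3 := eval₂_reverse_mul_pow (RingHom.id F) (-1 : F) f
    rw [invOf_eq_inv, inv_neg, inv_one, hn, hoddn.neg_one_pow, h1, hc, C_1, one_mul] at h3
    have h4 : eval₂ (RingHom.id F) (-1) f = 0 := by
      have h5 : (2 : F) * eval₂ (RingHom.id F) (-1) f = 0 := by
        have : eval₂ (RingHom.id F) (-1) f + eval₂ (RingHom.id F) (-1) f = 0 := by
          nth_rewrite 1 [← h3]
          ring
        rw [two_mul]
        exact this
      rcases mul_eq_zero.mp h5 with h6 | h6
      · exact absurd h6 h2
      · exact h6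
    have h5 : (X - C (-1 : F)) ∣ f := by
      rw [dvd_iff_isRoot, IsRoot.def, ← eval₂_id]
      exact h4
    have h6 := hgood _ (monic_X_sub_C _) (irreducible_X_sub_C _) h5
    rw [mem_T_iff r hr _ (monic_X_sub_C _) (irreducible_X_sub_C _), dvd_iff_isRoot, IsRoot.def,
      eval_sub, eval_pow, eval_X, eval_one, hodd.neg_one_pow] at h6
    apply h2
    have : (2 : F) = -((-1 : F) - 1) := by ring
    rw [this, h6, neg_zero]
  · let _ : Invertible (1 : F) := invertibleOne
    have h3 := eval₂_reverse_mul_pow (RingHom.id F) (1 : F) f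
    rw [invOf_one, one_pow, mul_one, h1, hc, eval₂_mul, eval₂_C, RingHom.id_apply] at h3
    have h4 : eval₂ (RingHom.id F) 1 f = 0 := by
      have h5 : (2 : F) * eval₂ (RingHom.id F) 1 f = 0 := by
        have : eval₂ (RingHom.id F) 1 f + eval₂ (RingHom.id F) 1 f = 0 := by
          nth_rewrite 1 [← h3]
          ring
        rw [two_mul]
        exact this
      rcases mul_eq_zero.mp h5 with h6 | h6
      · exact absurd h6 h2
      · exact h6
    have h5 : (X - C (1 : F)) ∣ f := by
      rw [dvd_iff_isRoot, IsRoot.def, ← eval₂_id]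
      exact h4
    rwa [map_one] at h5

end factor

end Cfsg.Agent.Lib.Helper14.OrthOrd
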