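import Cfsg.Agent.Lib.Helper14.SpSemi4
import Cfsg.Agent.Lib.Helper14.SemiConj

set_option autoImplicit false

/-! # Semisimple isometries of alternating forms: orthogonal splitting and the main induction -/

namespace Cfsg.Agent.Lib.Helper14.SpSemi

open Polynomial

variable {F : Type*} [Field F] {V : Type*} [AddCommGroup V] [Module F V]
  {V' : Type*} [AddCommGroup V'] [Module F V']

theorem pow_restrict_apply (g : Module.End F V) {W : Submodule F V} (hW : ∀ x ∈ W, g x ∈ W)
    (k : ℕ) (v : W) : (((g.restrict hW) ^ k) v : V) = (g ^ k) (v : V) := by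
  induction k generalizing v with
  | zero => simp
  | succ k ih =>
    rw [pow_succ, pow_succ, Module.End.mul_apply, Module.End.mul_apply, ih]
    rfl

/-- restriction commutes with polynomial evaluation -/
theorem aeval_restrict (g : Module.End F V) {W : Submodule F V} (hW : ∀ x ∈ W, g x ∈ W)
    (P : F[X]) (v : W) : ((aeval (g.restrict hW) P v : W) : V) = aeval g P (v : V) := by
  induction P using Polynomial.induction_on' with
  | add a b ha hb => simp only [map_add, LinearMap.add_apply, Submodule.coe_add, ha, hb]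
  | monomial k c =>
    rw [aeval_monomial, aeval_monomial, Module.End.mul_apply, Module.End.mul_apply,
      Module.algebraMap_end_apply, Module.algebraMap_end_apply, Submodule.coe_smul,
      pow_restrict_apply]

theorem aeval_comm_zero {g : Module.End F V} {f : F[X]} {u : V} (hfu : aeval g f u = 0)
    (P : F[X]) : aeval g f (aeval g P u) = 0 := by
  rw [← aeval_mul_apply, mul_comm, aeval_mul_apply, hfu, map_zero]

/-- an irreducible factor of the characteristic polynomial of a restriction kills a vector -/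
theorem exists_ker_of_dvd_charpoly [FiniteDimensional F V] (g : Module.End F V)
    {W : Submodule F V} (hW : ∀ x ∈ W, g x ∈ W) {f : F[X]} (hf : Irreducible f)
    (hd : f ∣ (g.restrict hW).charpoly) : ∃ u ∈ W, u ≠ 0 ∧ aeval g f u = 0 := by
  have h1 := irreducible_dvd_minpoly (g.restrict hW) f hf hd
  obtain ⟨v, hv0, hv⟩ := exists_ker_of_dvd_minpoly (g.restrict hW) f hf.not_isUnit h1
  refine ⟨v, v.2, fun h => hv0 (Subtype.ext h), ?_⟩
  rw [← aeval_restrict g hW, hv]
  rfl

/-- the characteristic polynomial over an internal direct sum of invariant subspaces -/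
theorem charpoly_split [FiniteDimensional F V] (g : Module.End F V) {W H K : Submodule F V}
    (hW : ∀ x ∈ W, g x ∈ W) (hH : ∀ x ∈ H, g x ∈ H) (hK : ∀ x ∈ K, g x ∈ K)
    (hHW : H ≤ W) (hKW : K ≤ W) (hdisj : ∀ x, x ∈ H → x ∈ K → x = 0)
    (hsup : ∀ w ∈ W, ∃ a ∈ H, ∃ b ∈ K, w = a + b) :
    (g.restrict hW).charpoly = (g.restrict hH).charpoly * (g.restrict hK).charpoly := by
  let e₀ : (H × K) →ₗ[F] W :=
    (Submodule.inclusion hHW).coprod (Submodule.inclusion hKW)
  have he₀ : ∀ (a : H) (b : K), (e₀ (a, b) : V) = (a : V) + (b : V) := by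
    intro a b
    simp [e₀]
  have hinj : Function.Injective e₀ := by
    rw [← LinearMap.ker_eq_bot, LinearMap.ker_eq_bot']
    rintro ⟨a, b⟩ hab
    have h1 : (a : V) + b = 0 := by rw [← he₀, hab]; rfl
    have h2 : (a : V) = -b := eq_neg_of_add_eq_zero_left h1
    have ha : (a : V) = 0 := hdisj a a.2 (by rw [h2]; exact K.neg_mem b.2)
    have hb : (b : V) = 0 := by rw [ha, zero_add] at h1; exact h1
    exact Prod.ext (Subtype.ext ha) (Subtype.ext hb)
  have hsurj : Function.Surjective e₀ := by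
    rintro ⟨w, hw⟩
    obtain ⟨a, ha, b, hb, rfl⟩ := hsup w hw
    exact ⟨(⟨a, ha⟩, ⟨b, hb⟩), Subtype.ext (he₀ _ _)⟩
  let e := LinearEquiv.ofBijective e₀ ⟨hinj, hsurj⟩
  have h1 : g.restrict hW = e.conj ((g.restrict hH).prodMap (g.restrict hK)) := by
    apply LinearMap.ext
    intro x
    obtain ⟨⟨a, b⟩, rfl⟩ := e.surjective x
    rw [LinearEquiv.conj_apply_apply, LinearEquiv.symm_apply_apply]
    apply Subtype.ext
    have e1 : (e (a, b) : V) = (a : V) + b := he₀ a b
    have e2 : ∀ y : H × K, (e y : V) = (y.1 : V) + y.2 := fun y => he₀ y.1 y.2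
    rw [LinearMap.coe_restrict_apply, e1, e2, map_add]
    rfl
  rw [h1, LinearEquiv.charpoly_conj, LinearMap.charpoly_prodMap]

theorem Block.charpoly_eq [FiniteDimensional F V] [FiniteDimensional F V']
    {ω : LinearMap.BilinForm F V} {ω' : LinearMap.BilinForm F V'}
    {g : Module.End F V} {g' : Module.End F V'} {H : Submodule F V} {H' : Submodule F V'}
    {φ : V →ₗ[F] V'} (B : Block ω ω' g g' H H' φ) (hH : NDeg ω H)
    (hHg : ∀ x ∈ H, g x ∈ H) (hHg' : ∀ x ∈ H', g' x ∈ H') :
    (g.restrict hHg).charpoly = (g'.restrict hHg').charpoly := by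
  let e₀ : H →ₗ[F] H' := φ.restrict B.maps
  have hinj : Function.Injective e₀ := by
    rw [← LinearMap.ker_eq_bot, LinearMap.ker_eq_bot']
    intro x hx
    have hx' : φ x = 0 := congrArg Subtype.val hx
    apply Subtype.ext
    apply hH x x.2
    intro y hy
    rw [← B.isom x x.2 y hy, hx', map_zero, LinearMap.zero_apply]
  have hsurj : Function.Surjective e₀ := by
    rintro ⟨y, hy⟩
    obtain ⟨x, hx, rfl⟩ := B.surj y hy
    exact ⟨⟨x, hx⟩, rfl⟩
  let e := LinearEquiv.ofBijective e₀ ⟨hinj, hsurj⟩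
  have h1 : g'.restrict hHg' = e.conj (g.restrict hHg) := by
    apply LinearMap.ext
    intro y
    obtain ⟨x, rfl⟩ := e.surjective y
    rw [LinearEquiv.conj_apply_apply, LinearEquiv.symm_apply_apply]
    apply Subtype.ext
    show g' (φ x) = φ (g x)
    rw [B.equi x x.2]
  rw [h1, LinearEquiv.charpoly_conj]

/-- the orthogonal complement of `H` inside `W` -/
def perp (ω : LinearMap.BilinForm F V) (W H : Submodule F V) : Submodule F V where
  carrier := {x | x ∈ W ∧ ∀ y ∈ H, ω y x = 0}
  add_mem' := fun {a b} ha hb => ⟨W.add_mem ha.1 hb.1, fun y hy => by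
    rw [map_add, ha.2 y hy, hb.2 y hy, add_zero]⟩
  zero_mem' := ⟨W.zero_mem, fun y _ => map_zero _⟩
  smul_mem' := fun c a ha => ⟨W.smul_mem c ha.1, fun y hy => by
    rw [map_smul, ha.2 y hy, smul_zero]⟩

theorem mem_perp {ω : LinearMap.BilinForm F V} {W H : Submodule F V} {x : V} :
    x ∈ perp ω W H ↔ x ∈ W ∧ ∀ y ∈ H, ω y x = 0 := Iff.rfl

theorem perp_decomp [FiniteDimensional F V] {ω : LinearMap.BilinForm F V}
    (hskew : ∀ x y, ω x y = - ω y x) {W H : Submodule F V} (hH : NDeg ω H) (hHW : H ≤ W) :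
    ∀ w ∈ W, ∃ a ∈ H, ∃ b ∈ perp ω W H, w = a + b := by
  intro w hw
  obtain ⟨a, ha, hax⟩ := exists_repr hskew hH (ω.flip w)
  refine ⟨a, ha, w - a, ⟨W.sub_mem hw (hHW ha), fun y hy => ?_⟩, by abel⟩
  have e : ω.flip w y = ω y w := rfl
  rw [map_sub, hax y hy, e, sub_self]

theorem perp_disj {ω : LinearMap.BilinForm F V} (hskew : ∀ x y, ω x y = - ω y x)
    {W H : Submodule F V} (hH : NDeg ω H) : ∀ x, x ∈ H → x ∈ perp ω W H → x = 0 := by
  intro x hx hxK
  apply hH x hx
  intro y hy
  rw [hskew, hxK.2 y hy, neg_zero]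

theorem perp_ndeg [FiniteDimensional F V] {ω : LinearMap.BilinForm F V}
    (hskew : ∀ x y, ω x y = - ω y x) {W H : Submodule F V} (hW : NDeg ω W) (hH : NDeg ω H)
    (hHW : H ≤ W) : NDeg ω (perp ω W H) := by
  intro x hx hx0
  apply hW x hx.1
  intro w hw
  obtain ⟨a, ha, b, hb, rfl⟩ := perp_decomp hskew hH hHW w hw
  rw [map_add, hx0 b hb, add_zero, hskew, hx.2 a ha, neg_zero]

theorem Setup.perp_g {ω : LinearMap.BilinForm F V} {g h : Module.End F V} {m : ℕ}
    (S : Setup ω g h m) {W H : Submodule F V} (hWg : ∀ x ∈ W, g x ∈ W)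
    (hHh : ∀ x ∈ H, h x ∈ H) : ∀ x ∈ perp ω W H, g x ∈ perp ω W H := by
  intro x hx
  refine ⟨hWg x hx.1, fun y hy => ?_⟩
  rw [← S.adj']
  exact hx.2 _ (hHh y hy)

/-- gluing two linear maps along an orthogonal splitting -/
theorem glue [FiniteDimensional F V] {ω : LinearMap.BilinForm F V}
    (hskew : ∀ x y, ω x y = - ω y x) {H : Submodule F V} (hH : NDeg ω H)
    (φH φK : V →ₗ[F] V') :
    ∃ φ : V →ₗ[F] V', ∀ a ∈ H, ∀ b ∈ perp ω ⊤ H, φ (a + b) = φH a + φK b := by
  have hc : IsCompl H (perp ω ⊤ H) := by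
    constructor
    · rw [Submodule.disjoint_def]
      intro x hx hx'
      exact perp_disj hskew hH x hx hx'
    · rw [codisjoint_iff, eq_top_iff]
      intro w _
      obtain ⟨a, ha, b, hb, rfl⟩ := perp_decomp hskew hH le_top w trivial
      exact Submodule.add_mem_sup ha hb
  let π : V →ₗ[F] V := H.subtype.comp (Submodule.projectionOnto H _ hc)
  refine ⟨φH.comp π + φK.comp (LinearMap.id - π), ?_⟩
  intro a ha b hb
  have h1 : π (a + b) = a := by
    have e1 := Submodule.projectionOnto_apply_left hc ⟨a, ha⟩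
    have e2 := Submodule.projectionOnto_apply_right hc ⟨b, hb⟩
    simp only [π, LinearMap.comp_apply, map_add]
    rw [e1, e2, map_zero, add_zero]
    rfl
  simp only [LinearMap.add_apply, LinearMap.comp_apply, LinearMap.sub_apply, LinearMap.id_apply,
    h1, add_sub_cancel_left]

theorem charpoly_restrict_top [FiniteDimensional F V] (g : Module.End F V)
    (hT : ∀ x ∈ (⊤ : Submodule F V), g x ∈ (⊤ : Submodule F V)) :
    (g.restrict hT).charpoly = g.charpoly := by
  have h1 : g = (Submodule.topEquiv : (⊤ : Submodule F V) ≃ₗ[F] V).conj (g.restrict hT) := by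
    apply LinearMap.ext
    intro x
    rw [LinearEquiv.conj_apply_apply]
    rfl
  conv_rhs => rw [h1]
  rw [LinearEquiv.charpoly_conj]

theorem main_aux [Finite F] [FiniteDimensional F V] [FiniteDimensional F V']
    {ω : LinearMap.BilinForm F V} {ω' : LinearMap.BilinForm F V'} {g h : Module.End F V}
    {g' h' : Module.End F V'} {m : ℕ} (S : Setup ω g h m) (S' : Setup ω' g' h' m) :
    ∀ (d : ℕ) (W : Submodule F V) (W' : Submodule F V'), Module.finrank F W = d →
      NDeg ω W → NDeg ω' W' →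
      ∀ (hWg : ∀ x ∈ W, g x ∈ W) (_ : ∀ x ∈ W, h x ∈ W) (hWg' : ∀ x ∈ W', g' x ∈ W')
        (_ : ∀ x ∈ W', h' x ∈ W'),
      (g.restrict hWg).charpoly = (g'.restrict hWg').charpoly →
      ∃ φ : V →ₗ[F] V', Block ω ω' g g' W W' φ := by
  intro d
  induction d using Nat.strong_induction_on with
  | _ d ih =>
  intro W W' hd hW hW' hWg hWh hWg' hWh' hchar
  by_cases hd0 : d = 0
  · subst hd0
    have hWbot : W = ⊥ := Submodule.finrank_eq_zero.mp hd
    have hd' : Module.finrank F W' = 0 := by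
      rw [← LinearMap.charpoly_natDegree (g'.restrict hWg'), ← hchar,
        LinearMap.charpoly_natDegree, hd]
    have hW'bot : W' = ⊥ := Submodule.finrank_eq_zero.mp hd'
    refine ⟨0, ?_, ?_, ?_, ?_⟩
    · intro x _
      rw [LinearMap.zero_apply]
      exact W'.zero_mem
    · intro y hy
      rw [hW'bot, Submodule.mem_bot] at hy
      exact ⟨0, W.zero_mem, by rw [hy, map_zero]⟩
    · intro x hx y _
      rw [hWbot, Submodule.mem_bot] at hx
      simp [hx]
    · intro x _
      rw [LinearMap.zero_apply, LinearMap.zero_apply, map_zero]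
  · have hdeg : (g.restrict hWg).charpoly.natDegree = d := by
      rw [LinearMap.charpoly_natDegree, hd]
    have hnu : ¬ IsUnit (g.restrict hWg).charpoly := by
      intro hu
      have := Polynomial.natDegree_eq_zero_of_isUnit hu
      omega
    have hne : (g.restrict hWg).charpoly ≠ 0 := (LinearMap.charpoly_monic _).ne_zero
    obtain ⟨f, hf, hfd⟩ := WfDvdMonoid.exists_irreducible_factor hnu hne
    obtain ⟨u, huW, hu, hfu⟩ := exists_ker_of_dvd_charpoly g hWg hf hfd
    obtain ⟨u', huW', hu', hfu'⟩ := exists_ker_of_dvd_charpoly g' hWg' hf (hchar ▸ hfd)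
    obtain ⟨H, H', φH, hHne, hHW, hHW', hHg, hHh, hHg', hHh', hHnd, BH⟩ :
        ∃ (H : Submodule F V) (H' : Submodule F V') (φ : V →ₗ[F] V'),
          (∃ x ∈ H, x ≠ 0) ∧ H ≤ W ∧ H' ≤ W' ∧ (∀ x ∈ H, g x ∈ H) ∧ (∀ x ∈ H, h x ∈ H) ∧
          (∀ x ∈ H', g' x ∈ H') ∧ (∀ x ∈ H', h' x ∈ H') ∧ NDeg ω H ∧
          Block ω ω' g g' H H' φ := by
      by_cases hc : IsCoprime f (f.comp (X ^ (m - 1)))
      · obtain ⟨H, H', φ, huH, rest⟩ := S.hyp_block S' hf hW hW' hWg hWh hWg' hWh' huW hu hfu
          huW' hu' hfu'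
          (fun P Q => S.iso_of_coprime hc (aeval_comm_zero hfu P) (aeval_comm_zero hfu Q))
          (fun v hfv P Q =>
            S.symm.iso_of_coprime hc (aeval_comm_zero hfv P) (aeval_comm_zero hfv Q))
          (fun P Q => S'.iso_of_coprime hc (aeval_comm_zero hfu' P) (aeval_comm_zero hfu' Q))
          (fun v hfv P Q =>
            S'.symm.iso_of_coprime hc (aeval_comm_zero hfv P) (aeval_comm_zero hfv Q))
        exact ⟨H, H', φ, ⟨u, huH, hu⟩, rest⟩
      by_cases hd1 : f.natDegree = 1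
      · obtain ⟨H, H', φ, huH, rest⟩ := S.hyp_block S' hf hW hW' hWg hWh hWg' hWh' huW hu hfu
          huW' hu' hfu'
          (S.iso_of_deg_one hd1 hfu)
          (fun v hfv => S.symm.iso_of_deg_one hd1 hfv)
          (S'.iso_of_deg_one hd1 hfu')
          (fun v hfv => S'.symm.iso_of_deg_one hd1 hfv)
        exact ⟨H, H', φ, ⟨u, huH, hu⟩, rest⟩
      · have hdvd : f ∣ f.comp (X ^ (m - 1)) := by
          by_contra hnd
          exact hc ((hf.coprime_iff_not_dvd).mpr hnd)
        have hdeg2 : 2 ≤ f.natDegree := by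
          have := hf.natDegree_pos
          omega
        exact S.cyc_block S' hf hdvd hdeg2 hW hW' hWg hWh hWg' hWh' huW hu hfu huW' hu' hfu'
    have hHnd' : NDeg ω' H' := BH.ndeg hHnd
    have hKW : perp ω W H ≤ W := fun x hx => hx.1
    have hKW' : perp ω' W' H' ≤ W' := fun x hx => hx.1
    have hKg : ∀ x ∈ perp ω W H, g x ∈ perp ω W H := S.perp_g hWg hHh
    have hKh : ∀ x ∈ perp ω W H, h x ∈ perp ω W H := S.symm.perp_g hWh hHg
    have hKg' : ∀ x ∈ perp ω' W' H', g' x ∈ perp ω' W' H' := S'.perp_g hWg' hHh'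
    have hKh' : ∀ x ∈ perp ω' W' H', h' x ∈ perp ω' W' H' := S'.symm.perp_g hWh' hHg'
    have hKnd : NDeg ω (perp ω W H) := perp_ndeg S.skew hW hHnd hHW
    have hKnd' : NDeg ω' (perp ω' W' H') := perp_ndeg S'.skew hW' hHnd' hHW'
    have hsplit := charpoly_split g hWg hHg hKg hHW hKW (perp_disj S.skew hHnd)
      (perp_decomp S.skew hHnd hHW)
    have hsplit' := charpoly_split g' hWg' hHg' hKg' hHW' hKW' (perp_disj S'.skew hHnd')
      (perp_decomp S'.skew hHnd' hHW')
    have hHchar := BH.charpoly_eq hHnd hHg hHg'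
    have hKchar : (g.restrict hKg).charpoly = (g'.restrict hKg').charpoly := by
      rw [hsplit, hsplit', hHchar] at hchar
      exact mul_left_cancel₀ (LinearMap.charpoly_monic _).ne_zero hchar
    have hlt : Module.finrank F (perp ω W H) < d := by
      have h1 := congrArg Polynomial.natDegree hsplit
      rw [Polynomial.natDegree_mul (LinearMap.charpoly_monic _).ne_zero
        (LinearMap.charpoly_monic _).ne_zero, LinearMap.charpoly_natDegree,
        LinearMap.charpoly_natDegree, LinearMap.charpoly_natDegree, hd] at h1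
      have h2 : 0 < Module.finrank F H := by
        obtain ⟨x, hx, hx0⟩ := hHne
        exact Module.finrank_pos_iff_exists_ne_zero.mpr ⟨⟨x, hx⟩, fun h => hx0 (congrArg Subtype.val h)⟩
      omega
    obtain ⟨φK, BK⟩ := ih _ hlt (perp ω W H) (perp ω' W' H') rfl hKnd hKnd' hKg hKh hKg' hKh'
      hKchar
    obtain ⟨φ, hφ⟩ := glue S.skew hHnd φH φK
    have hφ' : ∀ a ∈ H, ∀ b ∈ perp ω W H, φ (a + b) = φH a + φK b :=
      fun a ha b hb => hφ a ha b ⟨trivial, hb.2⟩
    refine ⟨φ, ?_, ?_, ?_, ?_⟩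
    · intro x hx
      obtain ⟨a, ha, b, hb, rfl⟩ := perp_decomp S.skew hHnd hHW x hx
      rw [hφ' a ha b hb]
      exact W'.add_mem (hHW' (BH.maps a ha)) ((BK.maps b hb).1)
    · intro y hy
      obtain ⟨a', ha', b', hb', rfl⟩ := perp_decomp S'.skew hHnd' hHW' y hy
      obtain ⟨a, ha, rfl⟩ := BH.surj a' ha'
      obtain ⟨b, hb, rfl⟩ := BK.surj b' hb'
      exact ⟨a + b, W.add_mem (hHW ha) hb.1, hφ' a ha b hb⟩
    · intro x hx y hy
      obtain ⟨a, ha, b, hb, rfl⟩ := perp_decomp S.skew hHnd hHW x hx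
      obtain ⟨c, hc, e, he, rfl⟩ := perp_decomp S.skew hHnd hHW y hy
      rw [hφ' a ha b hb, hφ' c hc e he]
      simp only [map_add, LinearMap.add_apply]
      have c1 : ω' (φH a) (φK e) = 0 := (BK.maps e he).2 _ (BH.maps a ha)
      have c2 : ω' (φK b) (φH c) = 0 := by
        rw [S'.skew, (BK.maps b hb).2 _ (BH.maps c hc), neg_zero]
      have c3 : ω a e = 0 := he.2 a ha
      have c4 : ω b c = 0 := by rw [S.skew, hb.2 c hc, neg_zero]
      rw [BH.isom a ha c hc, BK.isom b hb e he, c1, c2, c3, c4]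
    · intro x hx
      obtain ⟨a, ha, b, hb, rfl⟩ := perp_decomp S.skew hHnd hHW x hx
      rw [map_add, hφ' _ (hHg a ha) _ (hKg b hb), hφ' a ha b hb, map_add, BH.equi a ha,
        BK.equi b hb]

/-- semisimple isometries of a nondegenerate alternating form over a finite field with the same
characteristic polynomial are conjugate by an isometry -/
theorem main [Finite F] [FiniteDimensional F V] {ω : LinearMap.BilinForm F V}
    {g h g' h' : Module.End F V} {m : ℕ} (S : Setup ω g h m) (S' : Setup ω g' h' m)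
    (hω : NDeg ω ⊤) (hchar : g.charpoly = g'.charpoly) :
    ∃ φ : V ≃ₗ[F] V, (∀ x y, ω (φ x) (φ y) = ω x y) ∧ ∀ x, φ (g x) = g' (φ x) := by
  obtain ⟨φ, B⟩ := main_aux S S' _ ⊤ ⊤ rfl hω hω (fun _ _ => Submodule.mem_top)
    (fun _ _ => Submodule.mem_top) (fun _ _ => Submodule.mem_top) (fun _ _ => Submodule.mem_top)
    (by rw [charpoly_restrict_top, charpoly_restrict_top, hchar])
  have hinj : Function.Injective φ := by
    rw [← LinearMap.ker_eq_bot, LinearMap.ker_eq_bot']
    intro x hx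
    apply hω x trivial
    intro y _
    rw [← B.isom x trivial y trivial, hx, map_zero, LinearMap.zero_apply]
  exact ⟨LinearEquiv.ofBijective φ ⟨hinj, LinearMap.surjective_of_injective hinj⟩,
    fun x y => B.isom x trivial y trivial, fun x => B.equi x trivial⟩

end Cfsg.Agent.Lib.Helper14.SpSemi
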