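import Mathlib
import Cfsg.Agent.Lib.Helper14.SpSemi5
import Cfsg.Agent.S0750

/-!
# Semisimple isometries of odd order of a quadratic space

Two isometries of odd order prime to the characteristic which are conjugate under a linear
automorphism are conjugate under an isometry.  The form `ω(u,v) = B((x - x⁻¹)u, v)` is
alternating and nondegenerate on the complement of the fixed space, which reduces the
question to the symplectic case; Witt's theorem then extends the partial isometry.
-/

set_option autoImplicit false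

namespace Cfsg.Agent.Lib.Helper14.OrthSemi

open Module QuadraticMap Cfsg.Agent.Lib.Helper14.SpSemi

variable {F : Type*} [Field F] {V : Type*} [AddCommGroup V] [Module F V]

/-- an isometry `x` of `Q` with inverse `xi`, of odd order dividing `m` prime to the
characteristic -/
structure Iso (Q : QuadraticForm F V) (x xi : Module.End F V) (m : ℕ) : Prop where
  gh : x * xi = 1
  hg : xi * x = 1
  pres : ∀ v, Q (x v) = Q v
  odd : Odd m
  hm : (m : F) ≠ 0
  gm : x ^ m = 1

namespace Iso

variable {Q : QuadraticForm F V} {x xi : Module.End F V} {m : ℕ}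

theorem x_xi (I : Iso Q x xi m) (v : V) : x (xi v) = v := by
  rw [← Module.End.mul_apply, I.gh, Module.End.one_apply]

theorem xi_x (I : Iso Q x xi m) (v : V) : xi (x v) = v := by
  rw [← Module.End.mul_apply, I.hg, Module.End.one_apply]

theorem pres_inv (I : Iso Q x xi m) (v : V) : Q (xi v) = Q v := by
  rw [← I.pres (xi v), I.x_xi]

theorem polar_pres (I : Iso Q x xi m) (u v : V) : polar Q (x u) (x v) = polar Q u v := by
  unfold polar
  rw [← map_add, I.pres, I.pres, I.pres]

theorem polar_pres_inv (I : Iso Q x xi m) (u v : V) : polar Q (xi u) (xi v) = polar Q u v := by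
  rw [← I.polar_pres (xi u) (xi v), I.x_xi, I.x_xi]

/-- the sum `1 + x + ... + x^(m-1)` -/
noncomputable def avg (x : Module.End F V) (m : ℕ) : Module.End F V :=
  ∑ i ∈ Finset.range m, x ^ i

theorem x_avg (I : Iso Q x xi m) : x * avg x m = avg x m := by
  have h := mul_geom_sum x m
  rw [I.gm, sub_self, sub_mul, one_mul, sub_eq_zero] at h
  exact h

theorem avg_x (I : Iso Q x xi m) : avg x m * x = avg x m := by
  have h := geom_sum_mul x m
  rw [I.gm, sub_self, mul_sub, mul_one, sub_eq_zero] at h
  exact h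

theorem avg_xi (I : Iso Q x xi m) : avg x m * xi = avg x m := by
  conv_lhs => rw [← I.avg_x, mul_assoc, I.gh, mul_one]

theorem pow_fixed {u : V} (hu : x u = u) (i : ℕ) : (x ^ i) u = u := by
  induction i with
  | zero => simp
  | succ i ih => rw [pow_succ, Module.End.mul_apply, hu, ih]

theorem avg_fixed {u : V} (hu : x u = u) : avg x m u = (m : F) • u := by
  unfold avg
  rw [LinearMap.sum_apply]
  simp only [pow_fixed hu]
  rw [Finset.sum_const, Finset.card_range, Nat.cast_smul_eq_nsmul]

theorem x_avg_apply (I : Iso Q x xi m) (v : V) : x (avg x m v) = avg x m v := by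
  rw [← Module.End.mul_apply, I.x_avg]

/-- vectors killed by the average: the complement of the fixed space -/
noncomputable def comp (x : Module.End F V) (m : ℕ) : Submodule F V := LinearMap.ker (avg x m)

theorem mem_comp {v : V} : v ∈ comp x m ↔ avg x m v = 0 := LinearMap.mem_ker

theorem comp_x (I : Iso Q x xi m) {w : V} (hw : w ∈ comp x m) : x w ∈ comp x m := by
  rw [mem_comp] at hw ⊢
  rw [← Module.End.mul_apply, I.avg_x, hw]

theorem comp_xi (I : Iso Q x xi m) {w : V} (hw : w ∈ comp x m) : xi w ∈ comp x m := by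
  rw [mem_comp] at hw ⊢
  rw [← Module.End.mul_apply, I.avg_xi, hw]

/-- the projection to the complement -/
theorem sub_avg_mem (I : Iso Q x xi m) (v : V) : v - (m : F)⁻¹ • avg x m v ∈ comp x m := by
  rw [mem_comp, map_sub, map_smul, avg_fixed (I.x_avg_apply v), smul_smul, inv_mul_cancel₀ I.hm,
    one_smul, sub_self]

theorem polar_fixed_comp (I : Iso Q x xi m) {u w : V} (hu : x u = u) (hw : w ∈ comp x m) :
    polar Q u w = 0 := by
  have h1 : ∀ i : ℕ, polar Q u ((x ^ i) w) = polar Q u w := by
    intro i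
    induction i with
    | zero => simp
    | succ i ih =>
      rw [pow_succ', Module.End.mul_apply]
      nth_rewrite 1 [← hu]
      rw [I.polar_pres, ih]
  have h2 : polar Q u (avg x m w) = (m : F) * polar Q u w := by
    unfold avg
    rw [LinearMap.sum_apply, ← QuadraticMap.polarBilin_apply_apply, map_sum]
    simp only [QuadraticMap.polarBilin_apply_apply, h1]
    rw [Finset.sum_const, Finset.card_range, nsmul_eq_mul]
  rw [mem_comp.1 hw, ← QuadraticMap.polarBilin_apply_apply, map_zero] at h2
  rcases mul_eq_zero.1 h2.symm with h3 | h3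
  · exact absurd h3 I.hm
  · exact h3

theorem polar_comp_fixed (I : Iso Q x xi m) {u w : V} (hu : x u = u) (hw : w ∈ comp x m) :
    polar Q w u = 0 := by
  rw [polar_comm, I.polar_fixed_comp hu hw]

/-- the polar form is nondegenerate on the complement -/
theorem comp_nondeg (I : Iso Q x xi m) (hQ : (polarBilin Q).Nondegenerate) {w : V}
    (hw : w ∈ comp x m) (h : ∀ w' ∈ comp x m, polar Q w w' = 0) : w = 0 := by
  apply hQ.1
  intro v
  rw [QuadraticMap.polarBilin_apply_apply]
  have h1 : v = (m : F)⁻¹ • avg x m v + (v - (m : F)⁻¹ • avg x m v) := by abel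
  rw [h1, polar_add_right, h _ (I.sub_avg_mem v), add_zero, polar_smul_right,
    I.polar_comp_fixed (I.x_avg_apply v) hw, smul_zero]

/-- a vector of the complement orthogonal to the complement of `y` ... is fixed -/
theorem fixed_of_perp (I : Iso Q x xi m) (hQ : (polarBilin Q).Nondegenerate) {z : V}
    (hz : ∀ w ∈ comp x m, polar Q z w = 0) : x z = z := by
  have h1 : z - (m : F)⁻¹ • avg x m z = 0 := by
    apply I.comp_nondeg hQ (I.sub_avg_mem z)
    intro w' hw'
    rw [polar_sub_left, hz w' hw', polar_smul_left,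
      I.polar_fixed_comp (I.x_avg_apply z) hw', smul_zero, sub_zero]
  have h2 : z = (m : F)⁻¹ • avg x m z := sub_eq_zero.1 h1
  rw [h2, map_smul, I.x_avg_apply]

/-- `x - x⁻¹` is injective on the complement -/
theorem T_inj (I : Iso Q x xi m) {w : V} (hw : w ∈ comp x m) (h : (x - xi) w = 0) : w = 0 := by
  rw [LinearMap.sub_apply, sub_eq_zero] at h
  have h1 : (x * x) w = w := by
    rw [Module.End.mul_apply, h, I.x_xi]
  have h2 : ∀ j : ℕ, ((x * x) ^ j) w = w := fun j => pow_fixed h1 j
  obtain ⟨r, hr⟩ := I.odd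
  have h3 : (x * x) ^ (r + 1) = x := by
    rw [← pow_two, ← pow_mul]
    have : 2 * (r + 1) = m + 1 := by omega
    rw [this, pow_succ, I.gm, one_mul]
  have h4 : x w = w := by
    have := h2 (r + 1)
    rwa [h3] at this
  have h5 := avg_fixed (m := m) h4
  rw [mem_comp.1 hw] at h5
  rcases smul_eq_zero.1 h5.symm with h6 | h6
  · exact absurd h6 I.hm
  · exact h6

theorem T_mem (I : Iso Q x xi m) {w : V} (hw : w ∈ comp x m) : (x - xi) w ∈ comp x m := by
  rw [LinearMap.sub_apply]
  exact Submodule.sub_mem _ (I.comp_x hw) (I.comp_xi hw)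

theorem T_surj [FiniteDimensional F V] (I : Iso Q x xi m) {w : V} (hw : w ∈ comp x m) :
    ∃ u ∈ comp x m, (x - xi) u = w := by
  let Tr : ↥(comp x m) →ₗ[F] ↥(comp x m) := (x - xi).restrict (fun w hw => I.T_mem hw)
  have hinj : Function.Injective Tr := by
    rw [← LinearMap.ker_eq_bot, LinearMap.ker_eq_bot']
    intro u hu
    apply Subtype.ext
    exact I.T_inj u.2 (congrArg Subtype.val hu)
  obtain ⟨u, hu⟩ := (LinearMap.injective_iff_surjective.1 hinj) ⟨w, hw⟩
  exact ⟨u.1, u.2, congrArg Subtype.val hu⟩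

/-- the twisted alternating form -/
noncomputable def om (Q : QuadraticForm F V) (x xi : Module.End F V) : LinearMap.BilinForm F V :=
  (polarBilin Q).comp (x - xi)

theorem om_apply (u v : V) : om Q x xi u v = polar Q ((x - xi) u) v := rfl

theorem setup (I : Iso Q x xi m) : Setup (om Q x xi) x xi m where
  alt := by
    intro u
    rw [om_apply, LinearMap.sub_apply, polar_sub_left]
    have h1 : polar Q (xi u) u = polar Q (x u) u := by
      rw [← I.polar_pres (xi u) u, I.x_xi, polar_comm]
    rw [h1, sub_self]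
  gh := I.gh
  hg := I.hg
  pres := by
    intro u v
    rw [om_apply, om_apply]
    have h1 : (x - xi) (x u) = x ((x - xi) u) := by
      simp only [LinearMap.sub_apply, map_sub, I.x_xi, I.xi_x]
    rw [h1, I.polar_pres]
  hm := I.hm
  gm := I.gm

theorem om_ndeg (I : Iso Q x xi m) (hQ : (polarBilin Q).Nondegenerate) :
    NDeg (om Q x xi) (comp x m) := by
  intro u hu h
  apply I.T_inj hu
  apply I.comp_nondeg hQ (I.T_mem hu)
  intro w' hw'
  exact h w' hw'

end Iso

section conj

variable [Finite F] [FiniteDimensional F V] {Q : QuadraticForm F V}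
  {x xi y yi : Module.End F V} {m : ℕ}

omit [Finite F] [FiniteDimensional F V] in
theorem avg_conj (C : V ≃ₗ[F] V) (hC : ∀ v, C (x v) = y (C v)) (v : V) :
    C (Iso.avg x m v) = Iso.avg y m (C v) := by
  have h1 : ∀ i : ℕ, ∀ v, C ((x ^ i) v) = (y ^ i) (C v) := by
    intro i
    induction i with
    | zero => simp
    | succ i ih =>
      intro v
      rw [pow_succ, Module.End.mul_apply, ih, hC, pow_succ, Module.End.mul_apply]
  unfold Iso.avg
  rw [LinearMap.sum_apply, map_sum, LinearMap.sum_apply]
  simp only [h1]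

/-- Isometries of odd order prime to the characteristic that are linearly conjugate are
conjugate by an isometry. -/
theorem conj_of_linear_conj (hQ : (polarBilin Q).Nondegenerate) (I : Iso Q x xi m)
    (I' : Iso Q y yi m) (C : V ≃ₗ[F] V) (hC : ∀ v, C (x v) = y (C v)) :
    ∃ g : V ≃ₗ[F] V, (∀ v, Q (g v) = Q v) ∧ ∀ v, g (x v) = y (g v) := by
  set W := Iso.comp x m with hW
  set W' := Iso.comp y m with hW'
  have hWx : ∀ w ∈ W, x w ∈ W := fun w hw => I.comp_x hw
  have hWxi : ∀ w ∈ W, xi w ∈ W := fun w hw => I.comp_xi hw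
  have hWy : ∀ w ∈ W', y w ∈ W' := fun w hw => I'.comp_x hw
  have hWyi : ∀ w ∈ W', yi w ∈ W' := fun w hw => I'.comp_xi hw
  -- the characteristic polynomials of the restrictions agree
  have hmap : W.map (C : V →ₗ[F] V) = W' := by
    ext w
    rw [Submodule.mem_map]
    constructor
    · rintro ⟨v, hv, rfl⟩
      rw [hW', Iso.mem_comp]
      rw [hW, Iso.mem_comp] at hv
      show Iso.avg y m (C v) = 0
      rw [← avg_conj C hC, hv, map_zero]
    · intro hw
      refine ⟨C.symm w, ?_, by simp⟩
      rw [hW', Iso.mem_comp] at hw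
      rw [hW, Iso.mem_comp]
      apply C.injective
      rw [avg_conj C hC, LinearEquiv.apply_symm_apply, hw, map_zero]
  have hchar : (x.restrict hWx).charpoly = (y.restrict hWy).charpoly := by
    let e := C.ofSubmodules W W' hmap
    have h1 : y.restrict hWy = e.conj (x.restrict hWx) := by
      apply LinearMap.ext
      intro w
      obtain ⟨v, rfl⟩ := e.surjective w
      rw [LinearEquiv.conj_apply_apply, LinearEquiv.symm_apply_apply]
      apply Subtype.ext
      show y (C v) = C (x v)
      rw [hC]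
    rw [h1, LinearEquiv.charpoly_conj]
  obtain ⟨φ, B⟩ := main_aux I.setup I'.setup _ W W' rfl (I.om_ndeg hQ) (I'.om_ndeg hQ)
    hWx hWxi hWy hWyi hchar
  -- equivariance for the inverses and for `x - x⁻¹`
  have hφxi : ∀ u ∈ W, φ (xi u) = yi (φ u) := by
    intro u hu
    have h1 := B.equi (xi u) (hWxi u hu)
    rw [I.x_xi] at h1
    rw [h1, I'.xi_x]
  have hφT : ∀ u ∈ W, φ ((x - xi) u) = (y - yi) (φ u) := by
    intro u hu
    rw [LinearMap.sub_apply, map_sub, B.equi u hu, hφxi u hu, LinearMap.sub_apply]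
  -- `φ` preserves the polar form on `W`
  have hφB : ∀ w ∈ W, ∀ v ∈ W, polar Q (φ w) (φ v) = polar Q w v := by
    intro w hw v hv
    obtain ⟨u, hu, rfl⟩ := I.T_surj hw
    have h1 := B.isom u hu v hv
    rw [Iso.om_apply, Iso.om_apply, ← hφT u hu] at h1
    exact h1
  -- `φ` preserves `Q` on `W`
  have hφQ : ∀ w ∈ W, Q (φ w) = Q w := by
    intro w hw
    by_cases h2 : (2 : F) = 0
    · obtain ⟨u, hu, rfl⟩ := I.T_surj hw
      have key : ∀ (a b : V), Q (a - b) = Q a + Q b - polar Q a b := by
        intro a b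
        have h3 : polar Q a (-b) = Q (a + -b) - Q a - Q (-b) := rfl
        rw [polar_neg_right, QuadraticMap.map_neg, ← sub_eq_add_neg] at h3
        linear_combination -h3
      have hQT : ∀ u, Q ((x - xi) u) = - polar Q (x u) (xi u) := by
        intro u
        rw [LinearMap.sub_apply, key, I.pres, I.pres_inv, ← two_mul, h2, zero_mul, zero_sub]
      have hQT' : ∀ u, Q ((y - yi) u) = - polar Q (y u) (yi u) := by
        intro u
        rw [LinearMap.sub_apply, key, I'.pres, I'.pres_inv, ← two_mul, h2, zero_mul, zero_sub]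
      rw [hφT u hu, hQT, hQT', ← B.equi u hu, ← hφxi u hu, hφB _ (hWx u hu) _ (hWxi u hu)]
    · have h3 := hφB w hw w hw
      rw [polar_self, polar_self, two_smul, two_smul, ← two_mul, ← two_mul] at h3
      exact mul_left_cancel₀ h2 h3
  -- the partial isometry `W ≃ W'`
  let e₀ : W →ₗ[F] W' := φ.restrict B.maps
  have hinj : Function.Injective e₀ := by
    rw [← LinearMap.ker_eq_bot, LinearMap.ker_eq_bot']
    intro u hu
    have hu' : φ u = 0 := congrArg Subtype.val hu
    apply Subtype.ext
    apply I.om_ndeg hQ u u.2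
    intro v hv
    rw [← B.isom u u.2 v hv, hu', map_zero, LinearMap.zero_apply]
  have hsurj : Function.Surjective e₀ := by
    rintro ⟨w', hw'⟩
    obtain ⟨w, hw, rfl⟩ := B.surj w' hw'
    exact ⟨⟨w, hw⟩, rfl⟩
  let e : W ≃ₗ[F] W' := LinearEquiv.ofBijective e₀ ⟨hinj, hsurj⟩
  have he : ∀ w : W, (e w : V) = φ w := fun w => rfl
  obtain ⟨g, hgQ, hgφ⟩ := Cfsg.Agent.S0750.result Q hQ W W' e
    (fun w => by rw [he]; exact hφQ w.1 w.2)
  have hgW : ∀ w ∈ W, g w = φ w := fun w hw => (hgφ ⟨w, hw⟩).trans (he ⟨w, hw⟩)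
  have hgB : ∀ a b, polar Q (g a) (g b) = polar Q a b := by
    intro a b
    unfold polar
    rw [← map_add, hgQ, hgQ, hgQ]
  refine ⟨g, hgQ, ?_⟩
  intro v
  set f := (m : F)⁻¹ • Iso.avg x m v with hf
  have hxf : x f = f := by rw [hf, map_smul, I.x_avg_apply]
  have hwW : v - f ∈ W := I.sub_avg_mem v
  have hv : v = f + (v - f) := by abel
  have h1 : g (x (v - f)) = y (g (v - f)) := by
    rw [hgW _ (hWx _ hwW), B.equi _ hwW, hgW _ hwW]
  have h2 : y (g f) = g f := by
    apply I'.fixed_of_perp hQ
    intro w' hw'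
    obtain ⟨w'', hw'', rfl⟩ := B.surj w' hw'
    rw [← hgW w'' hw'', hgB]
    exact I.polar_fixed_comp hxf hw''
  rw [hv, map_add, map_add, hxf, h1, map_add, map_add, h2]

end conj

end Cfsg.Agent.Lib.Helper14.OrthSemi
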