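import Cfsg.Agent.Lib.Helper14.SpSemi5

set_option autoImplicit false

/-! # Semisimple classes of the symplectic group: the matrix form -/

namespace Cfsg.Agent.Lib.Helper14.SpSemi

open Matrix

variable {F : Type*} [Field F] {l : Type*} [Fintype l] [DecidableEq l]

/-- the standard alternating form -/
noncomputable def stdForm (l : Type*) (F : Type*) [Field F] [Fintype l] [DecidableEq l] :
    LinearMap.BilinForm F (l ⊕ l → F) :=
  Matrix.toBilin' (J l F)

theorem stdForm_apply (x y : l ⊕ l → F) : stdForm l F x y = x ⬝ᵥ (J l F) *ᵥ y :=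
  Matrix.toBilin'_apply' _ _ _

theorem stdForm_alt (x : l ⊕ l → F) : stdForm l F x x = 0 := by
  rw [stdForm_apply, Matrix.J, Matrix.fromBlocks_mulVec]
  simp only [dotProduct, Fintype.sum_sum_type, Sum.elim_inl, Sum.elim_inr, zero_mulVec, neg_mulVec,
    one_mulVec, zero_add, add_zero, Pi.neg_apply, Function.comp_apply, mul_neg,
    Finset.sum_neg_distrib]
  rw [neg_add_eq_zero]
  exact Finset.sum_congr rfl (fun i _ => mul_comm _ _)

theorem stdForm_ndeg : NDeg (stdForm l F) ⊤ := by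
  intro x _ h
  have h1 : x ᵥ* (J l F) = 0 := by
    apply dotProduct_eq_zero
    intro w
    rw [← dotProduct_mulVec, ← stdForm_apply]
    exact h w Submodule.mem_top
  have h2 : (x ᵥ* (J l F)) ᵥ* (J l F) = 0 := by rw [h1, zero_vecMul]
  rw [vecMul_vecMul, J_squared, vecMul_neg, vecMul_one, neg_eq_zero] at h2
  exact h2

theorem stdForm_pres {A : Matrix (l ⊕ l) (l ⊕ l) F} (hA : A ∈ symplecticGroup l F)
    (x y : l ⊕ l → F) : stdForm l F (A *ᵥ x) (A *ᵥ y) = stdForm l F x y := by
  rw [stdForm_apply, stdForm_apply]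
  rw [SymplecticGroup.mem_iff'] at hA
  conv_rhs => rw [← hA]
  rw [← mulVec_mulVec, ← mulVec_mulVec, dotProduct_mulVec x, vecMul_transpose]

theorem setup_of_mem (p : ℕ) [Fact p.Prime] [CharP F p] (g : symplecticGroup l F) (m : ℕ)
    (hgm : g ^ m = 1) (hm : ¬ p ∣ m) :
    Setup (stdForm l F) (Matrix.toLin' (g : Matrix (l ⊕ l) (l ⊕ l) F))
      (Matrix.toLin' ((g⁻¹ : symplecticGroup l F) : Matrix (l ⊕ l) (l ⊕ l) F)) m where
  alt := stdForm_alt
  gh := by
    rw [Module.End.mul_eq_comp, ← Matrix.toLin'_mul, ← Submonoid.coe_mul, mul_inv_cancel,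
      Submonoid.coe_one, Matrix.toLin'_one]
    rfl
  hg := by
    rw [Module.End.mul_eq_comp, ← Matrix.toLin'_mul, ← Submonoid.coe_mul, inv_mul_cancel,
      Submonoid.coe_one, Matrix.toLin'_one]
    rfl
  pres := fun x y => by
    rw [Matrix.toLin'_apply, Matrix.toLin'_apply]
    exact stdForm_pres g.2 x y
  hm := fun h0 => hm ((CharP.cast_eq_zero_iff F p m).mp h0)
  gm := by
    rw [← Matrix.toLin'_pow, ← SubmonoidClass.coe_pow, hgm, Submonoid.coe_one, Matrix.toLin'_one]
    rfl

/-- semisimple elements of the symplectic group with the same characteristic polynomial are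
conjugate -/
theorem sp_isConj_of_charpoly [Finite F] (p : ℕ) [Fact p.Prime] [CharP F p]
    (g h : symplecticGroup l F) (hg : (orderOf g).Coprime p) (hh : (orderOf h).Coprime p)
    (hc : (g : Matrix (l ⊕ l) (l ⊕ l) F).charpoly = (h : Matrix (l ⊕ l) (l ⊕ l) F).charpoly) :
    IsConj g h := by
  have hp : p.Prime := Fact.out
  set m := orderOf g * orderOf h with hm
  have hpm : ¬ p ∣ m := by
    intro hd
    rcases (Nat.Prime.dvd_mul hp).mp hd with h1 | h1
    · exact (Nat.Prime.coprime_iff_not_dvd hp).mp hg.symm h1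
    · exact (Nat.Prime.coprime_iff_not_dvd hp).mp hh.symm h1
  have hgm : g ^ m = 1 := by rw [hm, pow_mul, pow_orderOf_eq_one, one_pow]
  have hhm : h ^ m = 1 := by rw [hm, mul_comm, pow_mul, pow_orderOf_eq_one, one_pow]
  have S := setup_of_mem p g m hgm hpm
  have S' := setup_of_mem p h m hhm hpm
  obtain ⟨φ, hφ1, hφ2⟩ := main S S' stdForm_ndeg
    (by rw [Matrix.charpoly_toLin', Matrix.charpoly_toLin', hc])
  set C := LinearMap.toMatrix' (φ : (l ⊕ l → F) →ₗ[F] (l ⊕ l → F)) with hC
  have hCx : ∀ x, φ x = C *ᵥ x := fun x => (LinearMap.toMatrix'_mulVec _ x).symm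
  have hCmem : C ∈ symplecticGroup l F := by
    rw [SymplecticGroup.mem_iff']
    apply Matrix.toBilin'.injective
    apply LinearMap.ext₂
    intro x y
    have h1 := hφ1 x y
    rw [hCx, hCx, stdForm_apply, stdForm_apply] at h1
    rw [toBilin'_apply', toBilin'_apply', ← h1, ← mulVec_mulVec, ← mulVec_mulVec,
      dotProduct_mulVec x, vecMul_transpose]
  have hcomm : C * (g : Matrix (l ⊕ l) (l ⊕ l) F) = (h : Matrix (l ⊕ l) (l ⊕ l) F) * C := by
    apply Matrix.toLin'.injective
    apply LinearMap.ext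
    intro x
    rw [Matrix.toLin'_mul, Matrix.toLin'_mul, LinearMap.comp_apply, LinearMap.comp_apply,
      Matrix.toLin'_apply C, Matrix.toLin'_apply C, ← hCx, ← hCx]
    exact hφ2 x
  rw [isConj_iff]
  refine ⟨⟨C, hCmem⟩, ?_⟩
  rw [mul_inv_eq_iff_eq_mul]
  exact Subtype.ext hcomm

end Cfsg.Agent.Lib.Helper14.SpSemi
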