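import Mathlib
import Cfsg.Agent.Lib.Helper14.OrthOrd1
import Cfsg.Agent.Lib.Helper14.OrthSemi1
import Cfsg.Agent.Lib.Helper14.SpSemi6
import Cfsg.Agent.Lib.Helper14.JType2

/-!
# From a symplectic element of odd order to an orthogonal one

Given an isometry `y` of odd order of a nondegenerate alternating form `ω`, the form
`ω ((y - y⁻¹) u) v` is symmetric, `y`-invariant and nondegenerate on the complement of the
fixed space; adding a trivial space gives an odd-dimensional orthogonal space on which `y` acts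
with the same characteristic polynomial times `X - 1`.
-/

set_option autoImplicit false

namespace Cfsg.Agent.Lib.Helper14.OrthOrd

open Module QuadraticMap Polynomial
open Cfsg.Agent.Lib.Helper14.SpSemi
open Cfsg.Agent.Lib.Helper14.OrthSemi

section space

variable {F : Type*} [Field F] {U : Type*} [AddCommGroup U] [Module F U]
  {ω : LinearMap.BilinForm F U} {y yi : Module.End F U} {r : ℕ}

theorem iso_zero (S : Setup ω y yi r) (hr : Odd r) : Iso (0 : QuadraticForm F U) y yi r :=
  { gh := S.gh, hg := S.hg, pres := fun _ => rfl, odd := hr, hm := S.hm, gm := S.gm }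

theorem om_fixed_comp (S : Setup ω y yi r) {u w : U} (hu : y u = u) (hw : w ∈ Iso.comp y r) :
    ω u w = 0 := by
  have h1 : ∀ i : ℕ, ω u ((y ^ i) w) = ω u w := by
    intro i
    induction i with
    | zero => simp
    | succ i ih =>
      rw [pow_succ', Module.End.mul_apply]
      nth_rewrite 1 [← hu]
      rw [S.pres, ih]
  have h2 : ω u (Iso.avg y r w) = (r : F) * ω u w := by
    unfold Iso.avg
    rw [LinearMap.sum_apply, map_sum]
    simp only [h1]
    rw [Finset.sum_const, Finset.card_range, nsmul_eq_mul]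
  rw [Iso.mem_comp.1 hw, map_zero] at h2
  rcases mul_eq_zero.1 h2.symm with h3 | h3
  · exact absurd h3 S.hm
  · exact h3

theorem comp_ndeg (S : Setup ω y yi r) (hr : Odd r) (hω : NDeg ω ⊤) : NDeg ω (Iso.comp y r) := by
  have I := iso_zero S hr
  intro u hu h
  apply hω u Submodule.mem_top
  intro v _
  have h1 : v = (r : F)⁻¹ • Iso.avg y r v + (v - (r : F)⁻¹ • Iso.avg y r v) := by abel
  have h3 : ω u (Iso.avg y r v) = 0 := by
    rw [S.skew, om_fixed_comp S (I.x_avg_apply v) hu, neg_zero]
  rw [h1, map_add, h _ (I.sub_avg_mem v), add_zero, map_smul, smul_eq_mul, h3, mul_zero]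

theorem beta_symm (S : Setup ω y yi r) (u v : U) : ω ((y - yi) u) v = ω ((y - yi) v) u := by
  have e1 : ω ((y - yi) u) v = ω u (yi v) - ω u (y v) := by
    rw [LinearMap.sub_apply, map_sub, LinearMap.sub_apply, S.adj, S.adj']
  have e2 : ω ((y - yi) v) u = ω u (yi v) - ω u (y v) := by
    rw [LinearMap.sub_apply, map_sub, LinearMap.sub_apply, S.skew (y v) u, S.skew (yi v) u]
    ring
  rw [e1, e2]

theorem exists_orth_space [Finite F] (h2 : (2 : F) ≠ 0) [FiniteDimensional F U]
    (S : Setup ω y yi r) (hr : Odd r) (hω : NDeg ω ⊤) (m : ℕ) (hU : finrank F U = 2 * m) :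
    ∃ A : Matrix (Unit ⊕ (Fin m ⊕ Fin m)) (Unit ⊕ (Fin m ⊕ Fin m)) F,
      (∀ v, Cfsg.quadFormOdd m F (A.mulVec v) = Cfsg.quadFormOdd m F v) ∧
      A.charpoly = (X - 1) * y.charpoly ∧ A ^ r = 1 := by
  classical
  have I := iso_zero S hr
  set W := Iso.comp y r with hW
  set H := LinearMap.ker (y - 1) with hH
  have hWy : ∀ x ∈ W, y x ∈ W := fun x hx => I.comp_x hx
  have memH : ∀ x, x ∈ H ↔ y x = x := by
    intro x
    rw [hH, LinearMap.mem_ker, LinearMap.sub_apply, Module.End.one_apply, sub_eq_zero]
  have hHy : ∀ x ∈ H, y x ∈ H := by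
    intro x hx
    rw [memH] at hx ⊢
    rw [hx]
    exact hx
  have hT : ∀ x ∈ (⊤ : Submodule F U), y x ∈ (⊤ : Submodule F U) := fun _ _ => Submodule.mem_top
  have hsplit : (y.restrict hT).charpoly =
      (y.restrict hHy).charpoly * (y.restrict hWy).charpoly := by
    apply charpoly_split y hT hHy hWy le_top le_top
    · intro x hxH hxW
      rw [memH] at hxH
      have h5 := Iso.avg_fixed (m := r) hxH
      rw [Iso.mem_comp.1 hxW] at h5
      rcases smul_eq_zero.1 h5.symm with h6 | h6
      · exact absurd h6 S.hm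
      · exact h6
    · intro w _
      refine ⟨(r : F)⁻¹ • Iso.avg y r w, ?_, w - (r : F)⁻¹ • Iso.avg y r w, I.sub_avg_mem w,
        by abel⟩
      rw [memH, map_smul, I.x_avg_apply]
  have hone : y.restrict hHy = 1 := by
    apply LinearMap.ext
    intro x
    apply Subtype.ext
    rw [LinearMap.coe_restrict_apply, Module.End.one_apply]
    exact (memH x.1).1 x.2
  have hcp : y.charpoly = (X - 1) ^ finrank F H * (y.restrict hWy).charpoly := by
    rw [← charpoly_restrict_top y hT, hsplit, hone, LinearMap.charpoly_one]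
  have hdim : finrank F H + finrank F W = 2 * m := by
    have h1 := congrArg Polynomial.natDegree hcp
    have hX : (X - 1 : F[X]) = X - C 1 := by rw [map_one]
    rw [hX, LinearMap.charpoly_natDegree, hU,
      ((monic_X_sub_C (1 : F)).pow _).natDegree_mul (LinearMap.charpoly_monic _),
      (monic_X_sub_C (1 : F)).natDegree_pow, natDegree_X_sub_C, LinearMap.charpoly_natDegree,
      mul_one] at h1
    omega
  set T : Module.End F U := y - yi with hTdef
  let β : LinearMap.BilinForm F U := LinearMap.comp ω T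
  let QU : QuadraticForm F U := LinearMap.BilinMap.toQuadraticMap β
  have hQU : ∀ u, QU u = ω (T u) u := fun u => rfl
  have hTy : ∀ u, T (y u) = y (T u) := by
    intro u
    simp only [hTdef, LinearMap.sub_apply, map_sub, S.g_h_apply, S.h_g_apply]
  have hQUy : ∀ u, QU (y u) = QU u := by
    intro u
    rw [hQU, hQU, hTy, S.pres]
  have hpolU : ∀ u v, polar QU u v = 2 * ω (T u) v := by
    intro u v
    rw [LinearMap.BilinMap.polar_toQuadraticMap]
    show ω (T u) v + ω (T v) u = _
    rw [← beta_symm S u v]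
    ring
  set a := finrank F H with ha
  let D : LinearMap.BilinForm F (Fin (a + 1) → F) :=
    Matrix.toBilin' (1 : Matrix (Fin (a + 1)) (Fin (a + 1)) F)
  have hD : ∀ s t, D s t = s ⬝ᵥ t := by
    intro s t
    rw [Matrix.toBilin'_apply', Matrix.one_mulVec]
  let Q2 : QuadraticForm F (Fin (a + 1) → F) := LinearMap.BilinMap.toQuadraticMap D
  have hpol2 : ∀ s t, polar Q2 s t = 2 * (s ⬝ᵥ t) := by
    intro s t
    rw [LinearMap.BilinMap.polar_toQuadraticMap, hD, hD, dotProduct_comm t s]
    ring
  let QV : QuadraticForm F (↥W × (Fin (a + 1) → F)) := (QU.comp W.subtype).prod Q2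
  have hQV : ∀ v, QV v = QU (v.1 : U) + Q2 v.2 := fun v => rfl
  let AV : Module.End F (↥W × (Fin (a + 1) → F)) := (y.restrict hWy).prodMap LinearMap.id
  have hAV : ∀ v, QV (AV v) = QV v := by
    intro v
    rw [hQV, hQV]
    show QU (y (v.1 : U)) + Q2 v.2 = _
    rw [hQUy]
  have hpolV : ∀ v v', polar QV v v' = 2 * ω (T v.1) v'.1 + 2 * (v.2 ⬝ᵥ v'.2) := by
    intro v v'
    rw [QuadraticMap.polar_prod, hpol2, ← hpolU]
    rfl
  have hleft : ∀ v, (∀ v', polar QV v v' = 0) → v = 0 := by
    rintro ⟨w, s⟩ h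
    have hw : w = 0 := by
      apply Subtype.ext
      apply I.T_inj w.2
      apply comp_ndeg S hr hω _ (I.T_mem w.2)
      intro w' hw'
      have := h (⟨w', hw'⟩, 0)
      rw [hpolV] at this
      simp only [dotProduct_zero, mul_zero, add_zero] at this
      exact (mul_eq_zero.1 this).resolve_left h2
    have hs : s = 0 := by
      funext j
      have := h (0, Pi.single j 1)
      rw [hpolV] at this
      simp only [ZeroMemClass.coe_zero, map_zero, mul_zero, zero_add, dotProduct_single_one] at this
      exact (mul_eq_zero.1 this).resolve_left h2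
    rw [hw, hs]
    rfl
  have hndV : (polarBilin QV).Nondegenerate := by
    constructor
    · intro u hu
      exact hleft u hu
    · intro u hu
      apply hleft u
      intro v
      rw [polar_comm]
      exact hu v
  have hV : finrank F (↥W × (Fin (a + 1) → F)) = 2 * m + 1 := by
    rw [Module.finrank_prod, Module.finrank_fintype_fun_eq_card, Fintype.card_fin]
    omega
  obtain ⟨c, hc, Ψ, hΨ⟩ := classify_odd h2 QV hndV m hV
  let B : Module.End F (Unit ⊕ (Fin m ⊕ Fin m) → F) := Ψ.symm.conj AV
  have hB : ∀ v, B v = Ψ.symm (AV (Ψ v)) := by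
    intro v
    rw [LinearEquiv.conj_apply_apply, LinearEquiv.symm_symm]
  have hAVr : AV ^ r = 1 := by
    rw [JType.prodMap_pow]
    apply LinearMap.ext
    rintro ⟨w, s⟩
    apply Prod.ext
    · apply Subtype.ext
      show (((y.restrict hWy) ^ r) w : U) = w
      rw [pow_restrict_apply, S.gm, Module.End.one_apply]
    · show ((LinearMap.id : Module.End F (Fin (a + 1) → F)) ^ r) s = s
      have : (LinearMap.id : Module.End F (Fin (a + 1) → F)) = 1 := rfl
      rw [this, one_pow, Module.End.one_apply]
  have hpow : ∀ n : ℕ, ∀ v, (B ^ n) v = Ψ.symm ((AV ^ n) (Ψ v)) := by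
    intro n
    induction n with
    | zero =>
      intro v
      simp
    | succ n ih =>
      intro v
      rw [pow_succ, Module.End.mul_apply, ih, hB, LinearEquiv.apply_symm_apply, pow_succ,
        Module.End.mul_apply]
  refine ⟨LinearMap.toMatrix' B, ?_, ?_, ?_⟩
  · intro v
    rw [LinearMap.toMatrix'_mulVec, hB]
    have h1 := hΨ (Ψ.symm (AV (Ψ v)))
    rw [LinearEquiv.apply_symm_apply, hAV, hΨ] at h1
    exact (mul_left_cancel₀ hc h1).symm
  · have hid : (LinearMap.id : Module.End F (Fin (a + 1) → F)).charpoly = (X - 1) ^ (a + 1) := by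
      have := LinearMap.charpoly_one (R := F) (M := Fin (a + 1) → F)
      rw [Module.finrank_fintype_fun_eq_card, Fintype.card_fin] at this
      exact this
    rw [← LinearMap.toMatrix_eq_toMatrix', LinearMap.charpoly_toMatrix, LinearEquiv.charpoly_conj,
      LinearMap.charpoly_prodMap, hcp, hid]
    ring
  · apply Matrix.toLin'.injective
    rw [Matrix.toLin'_pow, Matrix.toLin'_toMatrix', Matrix.toLin'_one]
    apply LinearMap.ext
    intro v
    rw [hpow, hAVr, Module.End.one_apply, LinearEquiv.symm_apply_apply]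
    rfl

end space

section matrix

variable {F : Type*} [Field F] [Finite F]

/-- from a symplectic matrix of odd order to an isometry of the standard odd-dimensional
quadratic form -/
theorem exists_orth_of_sp (h2 : (2 : F) ≠ 0) (m r : ℕ) (hr : Odd r) (hrF : (r : F) ≠ 0)
    (s : Matrix (Fin m ⊕ Fin m) (Fin m ⊕ Fin m) F) (hs : s ∈ Matrix.symplecticGroup (Fin m) F)
    (hsr : s ^ r = 1) :
    ∃ A : Matrix (Unit ⊕ (Fin m ⊕ Fin m)) (Unit ⊕ (Fin m ⊕ Fin m)) F,
      (∀ v, Cfsg.quadFormOdd m F (A.mulVec v) = Cfsg.quadFormOdd m F v) ∧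
      A.charpoly = (X - 1) * s.charpoly ∧ A ^ r = 1 := by
  have hrpos : 0 < r := hr.pos
  have S : Setup (stdForm (Fin m) F) (Matrix.toLin' s) (Matrix.toLin' (s ^ (r - 1))) r :=
    { alt := stdForm_alt
      gh := by
        rw [Module.End.mul_eq_comp, ← Matrix.toLin'_mul, ← pow_succ', Nat.sub_add_cancel hrpos,
          hsr, Matrix.toLin'_one]
        rfl
      hg := by
        rw [Module.End.mul_eq_comp, ← Matrix.toLin'_mul, ← pow_succ, Nat.sub_add_cancel hrpos,
          hsr, Matrix.toLin'_one]
        rfl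
      pres := fun x y => by
        rw [Matrix.toLin'_apply, Matrix.toLin'_apply]
        exact stdForm_pres hs x y
      hm := hrF
      gm := by
        rw [← Matrix.toLin'_pow, hsr, Matrix.toLin'_one]
        rfl }
  have hU : finrank F (Fin m ⊕ Fin m → F) = 2 * m := by
    rw [Module.finrank_fintype_fun_eq_card, Fintype.card_sum, Fintype.card_fin]
    ring
  obtain ⟨A, hA1, hA2, hA3⟩ := exists_orth_space h2 S hr stdForm_ndeg m hU
  refine ⟨A, hA1, ?_, hA3⟩
  rw [hA2, Matrix.charpoly_toLin']

end matrix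

end Cfsg.Agent.Lib.Helper14.OrthOrd
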