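import Mathlib
import Cfsg.Agent.Lib.Helper14.OrthEven1
import Cfsg.Agent.Lib.Helper14.OrthOrd2
import Cfsg.Agent.Lib.Helper13.AltRank
import Cfsg.Agent.Lib.Helper15.QuadF2a

/-!
# Isometries of odd prime order in even-dimensional orthogonal groups: construction

The twisted quadratic form `u ↦ ω (y u) u` of an isometry `y` of an alternating form `ω`
(all characteristics), transport of isometries to the standard forms, and orthogonal sums.
-/

set_option autoImplicit false

namespace Cfsg.Agent.Lib.Helper14.OrthEven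

open Module QuadraticMap Polynomial
open Cfsg.Agent.Lib.Helper14.SpSemi
open Cfsg.Agent.Lib.Helper14.OrthSemi
open Cfsg.Agent.Lib.Helper14.OrthOrd (iso_zero om_fixed_comp comp_ndeg)

section twist

variable {F : Type*} [Field F] {U : Type*} [AddCommGroup U] [Module F U]
  {ω : LinearMap.BilinForm F U} {y yi : Module.End F U} {r : ℕ}

/-- the twisted quadratic form `u ↦ ω (y u) u` -/
noncomputable def twistQ (ω : LinearMap.BilinForm F U) (y : Module.End F U) : QuadraticForm F U :=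
  LinearMap.BilinMap.toQuadraticMap (LinearMap.comp ω y)

theorem twistQ_apply (u : U) : twistQ ω y u = ω (y u) u := rfl

theorem twistQ_pres (S : Setup ω y yi r) (u : U) : twistQ ω y (y u) = twistQ ω y u := by
  rw [twistQ_apply, twistQ_apply, S.pres]

theorem polar_twistQ (S : Setup ω y yi r) (u v : U) :
    polar (twistQ ω y) u v = ω ((y - yi) u) v := by
  unfold twistQ
  rw [LinearMap.BilinMap.polar_toQuadraticMap]
  show ω (y u) v + ω (y v) u = _
  rw [LinearMap.sub_apply, map_sub, LinearMap.sub_apply, S.skew (y v) u, ← S.adj' u v]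
  ring

theorem comp_stable (S : Setup ω y yi r) (hr : Odd r) :
    ∀ x ∈ Iso.comp y r, y x ∈ Iso.comp y r :=
  fun _ hx => (iso_zero S hr).comp_x hx

theorem twist_nondeg (S : Setup ω y yi r) (hr : Odd r) (hω : NDeg ω ⊤) :
    (polarBilin ((twistQ ω y).comp (Iso.comp y r).subtype)).Nondegenerate := by
  have I := iso_zero S hr
  have hpol : ∀ w w' : ↥(Iso.comp y r),
      polar ((twistQ ω y).comp (Iso.comp y r).subtype) w w' = ω ((y - yi) w.1) w'.1 := by
    intro w w'
    rw [← polar_twistQ S]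
    rfl
  have hleft : ∀ w : ↥(Iso.comp y r),
      (∀ w', polar ((twistQ ω y).comp (Iso.comp y r).subtype) w w' = 0) → w = 0 := by
    intro w h
    apply Subtype.ext
    apply I.T_inj w.2
    apply comp_ndeg S hr hω _ (I.T_mem w.2)
    intro w' hw'
    have := h ⟨w', hw'⟩
    rw [hpol] at this
    exact this
  constructor
  · intro u hu
    exact hleft u hu
  · intro u hu
    apply hleft u
    intro v
    rw [polar_comm]
    exact hu v

theorem comp_fixed_eq_zero (S : Setup ω y yi r) {w : U} (hw : w ∈ Iso.comp y r) (h : y w = w) :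
    w = 0 := by
  have h5 := Iso.avg_fixed (m := r) h
  rw [Iso.mem_comp.1 hw] at h5
  rcases smul_eq_zero.1 h5.symm with h6 | h6
  · exact absurd h6 S.hm
  · exact h6

theorem restrict_pow (S : Setup ω y yi r) (hWy : ∀ x ∈ Iso.comp y r, y x ∈ Iso.comp y r) :
    (y.restrict hWy) ^ r = 1 := by
  apply LinearMap.ext
  intro w
  apply Subtype.ext
  rw [pow_restrict_apply, S.gm]
  rfl

theorem charpoly_comp [FiniteDimensional F U] (S : Setup ω y yi r) (hr : Odd r)
    (hWy : ∀ x ∈ Iso.comp y r, y x ∈ Iso.comp y r) :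
    y.charpoly = (X - 1) ^ finrank F (LinearMap.ker (y - 1)) * (y.restrict hWy).charpoly := by
  have I := iso_zero S hr
  have memH : ∀ x, x ∈ LinearMap.ker (y - 1) ↔ y x = x := by
    intro x
    rw [LinearMap.mem_ker, LinearMap.sub_apply, Module.End.one_apply, sub_eq_zero]
  have hHy : ∀ x ∈ LinearMap.ker (y - 1), y x ∈ LinearMap.ker (y - 1) := by
    intro x hx
    rw [memH] at hx ⊢
    rw [hx]
    exact hx
  have hT : ∀ x ∈ (⊤ : Submodule F U), y x ∈ (⊤ : Submodule F U) := fun _ _ => Submodule.mem_top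
  have hsplit : (y.restrict hT).charpoly =
      (y.restrict hHy).charpoly * (y.restrict hWy).charpoly := by
    apply charpoly_split y hT hHy hWy le_top le_top
    · intro x hxH hxW
      rw [memH] at hxH
      exact comp_fixed_eq_zero S hxW hxH
    · intro w _
      refine ⟨(r : F)⁻¹ • Iso.avg y r w, ?_, w - (r : F)⁻¹ • Iso.avg y r w, I.sub_avg_mem w,
        by abel⟩
      rw [memH, map_smul, I.x_avg_apply]
  have hone : y.restrict hHy = 1 := by
    apply LinearMap.ext
    intro x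
    apply Subtype.ext
    rw [LinearMap.coe_restrict_apply, Module.End.one_apply]
    exact (memH x.1).1 x.2
  rw [← charpoly_restrict_top y hT, hsplit, hone, LinearMap.charpoly_one]

theorem finrank_comp [FiniteDimensional F U] (S : Setup ω y yi r) (hr : Odd r) :
    finrank F (LinearMap.ker (y - 1)) + finrank F (Iso.comp y r) = finrank F U := by
  have hcp := charpoly_comp S hr (comp_stable S hr)
  have h1 := congrArg Polynomial.natDegree hcp
  have hX : (X - 1 : F[X]) = X - C 1 := by rw [map_one]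
  rw [hX, LinearMap.charpoly_natDegree,
    ((monic_X_sub_C (1 : F)).pow _).natDegree_mul (LinearMap.charpoly_monic _),
    (monic_X_sub_C (1 : F)).natDegree_pow, natDegree_X_sub_C, LinearMap.charpoly_natDegree,
    mul_one] at h1
  exact h1.symm

theorem even_finrank_comp [FiniteDimensional F U] (S : Setup ω y yi r) (hr : Odd r)
    (hω : NDeg ω ⊤) : Even (finrank F (Iso.comp y r)) := by
  let B : ↥(Iso.comp y r) →ₗ[F] ↥(Iso.comp y r) →ₗ[F] F :=
    ω.compl₁₂ (Iso.comp y r).subtype (Iso.comp y r).subtype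
  have hB : ∀ u v : ↥(Iso.comp y r), B u v = ω u.1 v.1 := fun u v => rfl
  have h := Cfsg.Agent.Lib.Helper13.even_finrank_sub_radical B (fun x => by rw [hB]; exact S.alt _)
    ⊥ (by
      intro x
      rw [Submodule.mem_bot]
      constructor
      · rintro rfl z
        rw [map_zero]
      · intro hx
        apply Subtype.ext
        apply comp_ndeg S hr hω _ x.2
        intro w' hw'
        have := hx ⟨w', hw'⟩
        rw [hB] at this
        rw [S.skew, this, neg_zero])
  rw [finrank_bot, Nat.sub_zero] at h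
  exact h

theorem comp_ne_bot [FiniteDimensional F U] (S : Setup ω y yi r) (hr : Odd r) (hy : y ≠ 1) :
    0 < finrank F (Iso.comp y r) := by
  have I := iso_zero S hr
  rw [Module.finrank_pos_iff_exists_ne_zero]
  by_contra hcon
  push Not at hcon
  apply hy
  apply LinearMap.ext
  intro u
  have h1 : (⟨u - (r : F)⁻¹ • Iso.avg y r u, I.sub_avg_mem u⟩ : ↥(Iso.comp y r)) = 0 := hcon _
  have h2 : u - (r : F)⁻¹ • Iso.avg y r u = 0 := congrArg Subtype.val h1
  have h3 : u = (r : F)⁻¹ • Iso.avg y r u := sub_eq_zero.1 h2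
  rw [Module.End.one_apply, h3, map_smul, I.x_avg_apply]

end twist

section transport

variable {F : Type*} [Field F]

/-- transport of an isometry along a linear isometry onto a coordinate space -/
theorem transport {V : Type*} [AddCommGroup V] [Module F V] [FiniteDimensional F V] {ι : Type} [Fintype ι]
    [DecidableEq ι] (Q : V → F) (Q₀ : (ι → F) → F) (Ψ : V ≃ₗ[F] (ι → F))
    (hΨ : ∀ v, Q v = Q₀ (Ψ v)) (A : Module.End F V) (hA : ∀ v, Q (A v) = Q v) (r : ℕ)
    (hAr : A ^ r = 1) :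
    ∃ M : Matrix ι ι F, (∀ v, Q₀ (M.mulVec v) = Q₀ v) ∧ M.charpoly = A.charpoly ∧ M ^ r = 1 := by
  let B : Module.End F (ι → F) := Ψ.conj A
  have hB : ∀ v, B v = Ψ (A (Ψ.symm v)) := by
    intro v
    rw [LinearEquiv.conj_apply_apply]
  have hpow : ∀ n : ℕ, ∀ v, (B ^ n) v = Ψ ((A ^ n) (Ψ.symm v)) := by
    intro n
    induction n with
    | zero =>
      intro v
      simp
    | succ n ih =>
      intro v
      rw [pow_succ, Module.End.mul_apply, ih, hB, LinearEquiv.symm_apply_apply, pow_succ,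
        Module.End.mul_apply]
  refine ⟨LinearMap.toMatrix' B, ?_, ?_, ?_⟩
  · intro v
    rw [LinearMap.toMatrix'_mulVec, hB, ← hΨ, hA, hΨ, LinearEquiv.apply_symm_apply]
  · rw [← LinearMap.toMatrix_eq_toMatrix', LinearMap.charpoly_toMatrix, LinearEquiv.charpoly_conj]
  · apply Matrix.toLin'.injective
    rw [Matrix.toLin'_pow, Matrix.toLin'_toMatrix', Matrix.toLin'_one]
    apply LinearMap.ext
    intro v
    rw [hpow, hAr, Module.End.one_apply, LinearEquiv.apply_symm_apply]
    rfl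

end transport

section glue

variable {F : Type*} [Field F]

theorem nondegenerate_prod {V₁ V₂ : Type*} [AddCommGroup V₁] [Module F V₁] [AddCommGroup V₂]
    [Module F V₂] (Q₁ : QuadraticForm F V₁) (Q₂ : QuadraticForm F V₂)
    (h₁ : (polarBilin Q₁).Nondegenerate) (h₂ : (polarBilin Q₂).Nondegenerate) :
    (polarBilin (Q₁.prod Q₂)).Nondegenerate := by
  have hleft : ∀ u : V₁ × V₂, (∀ v, polar (Q₁.prod Q₂) u v = 0) → u = 0 := by
    intro u hu
    apply Prod.ext
    · apply h₁.1
      intro w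
      have := hu (w, 0)
      rw [polar_prod, polar_zero_right, add_zero] at this
      exact this
    · apply h₂.1
      intro t
      have := hu (0, t)
      rw [polar_prod, polar_zero_right, zero_add] at this
      exact this
  constructor
  · intro u hu
    exact hleft u hu
  · intro u hu
    apply hleft u
    intro v
    rw [polar_comm]
    exact hu v

variable [Fintype F]

theorem HasSign.congr_fun {V : Type*} {Q Q' : V → F} (h : ∀ v, Q' v = Q v) {n : ℕ} {ε : ℤ}
    (hs : HasSign Q n ε) : HasSign Q' n ε :=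
  hs.of_equiv (Equiv.refl V) Q Q' h

theorem hasSign_QPlus (h : ℕ) : HasSign (⇑(Cfsg.Agent.Lib.Helper15.QPlus F h)) h 1 :=
  (hasSign_plus h).congr_fun (Cfsg.Agent.Lib.Helper15.QPlus_apply F h)

theorem Qgen_binForm_apply (k : ℕ) (a c : F) (v : (Fin k ⊕ Fin k) ⊕ Fin 2 → F) :
    Cfsg.Agent.Lib.Helper15.Qgen k (Cfsg.Agent.Lib.Helper15.binForm a c) v =
      Cfsg.quadFormMinus k F a c v := by
  rw [Cfsg.Agent.Lib.Helper15.Qgen_apply, Cfsg.Agent.Lib.Helper15.binForm_apply]
  rfl

theorem hasSign_Qgen (k : ℕ) (a c : F)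
    (hac : ∀ z₁ z₂ : F, z₁ ^ 2 + a * z₁ * z₂ + c * z₂ ^ 2 = 0 → z₁ = 0 ∧ z₂ = 0) :
    HasSign (⇑(Cfsg.Agent.Lib.Helper15.Qgen k (Cfsg.Agent.Lib.Helper15.binForm a c))) (k + 1)
      (-1) :=
  (hasSign_minus k a c hac).congr_fun (Qgen_binForm_apply k a c)

theorem nondegenerate_Qgen_binForm (k : ℕ) (a c : F)
    (hac : ∀ z₁ z₂ : F, z₁ ^ 2 + a * z₁ * z₂ + c * z₂ ^ 2 = 0 → z₁ = 0 ∧ z₂ = 0) :
    (polarBilin (Cfsg.Agent.Lib.Helper15.Qgen k
      (Cfsg.Agent.Lib.Helper15.binForm a c))).Nondegenerate :=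
  Cfsg.Agent.Lib.Helper15.nondegenerate_Qgen k _
    (Cfsg.Agent.Lib.Helper15.nondegenerate_binForm a c hac)

/-- the orthogonal sum of a space with an isometry and a coordinate space with the identity -/
theorem glue {W : Type*} [AddCommGroup W] [Module F W] [FiniteDimensional F W]
    (QW : QuadraticForm F W) (hQW : (polarBilin QW).Nondegenerate)
    {κ : Type} [Fintype κ] [DecidableEq κ] (QH : QuadraticForm F (κ → F))
    (hQH : (polarBilin QH).Nondegenerate)
    {m' h : ℕ} {εW εH : ℤ} (hsW : HasSign (⇑QW) m' εW) (hsH : HasSign (⇑QH) h εH)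
    (hdW : finrank F W = 2 * m') (hκ : Fintype.card κ = 2 * h)
    (yW : Module.End F W) (hyW : ∀ w, QW (yW w) = QW w) (r : ℕ) (hyr : yW ^ r = 1) :
    (polarBilin (QW.prod QH)).Nondegenerate ∧ finrank F (W × (κ → F)) = 2 * (m' + h) ∧
      HasSign (⇑(QW.prod QH)) (m' + h) (εW * εH) ∧
      (∀ v, (QW.prod QH) ((yW.prodMap (LinearMap.id : (κ → F) →ₗ[F] (κ → F))) v) =
        (QW.prod QH) v) ∧
      (yW.prodMap (LinearMap.id : (κ → F) →ₗ[F] (κ → F))) ^ r = 1 ∧
      (yW.prodMap (LinearMap.id : (κ → F) →ₗ[F] (κ → F))).charpoly =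
        yW.charpoly * (X - 1) ^ (2 * h) := by
  have : Finite W := Module.finite_of_finite F
  refine ⟨nondegenerate_prod QW QH hQW hQH, ?_, ?_, ?_, ?_, ?_⟩
  · rw [Module.finrank_prod, hdW, Module.finrank_fintype_fun_eq_card, hκ]
    ring
  · exact (hsW.prod hsH).congr_fun (fun v => QuadraticMap.prod_apply QW QH v)
  · intro v
    rw [QuadraticMap.prod_apply, QuadraticMap.prod_apply]
    show QW (yW v.1) + QH v.2 = _
    rw [hyW]
  · rw [JType.prodMap_pow, hyr]
    have : (LinearMap.id : (κ → F) →ₗ[F] (κ → F)) = 1 := rfl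
    rw [this, one_pow]
    apply LinearMap.ext
    intro v
    rfl
  · have hid : (LinearMap.id : (κ → F) →ₗ[F] (κ → F)).charpoly = (X - 1) ^ (2 * h) := by
      have := LinearMap.charpoly_one (R := F) (M := κ → F)
      rw [Module.finrank_fintype_fun_eq_card, hκ] at this
      exact this
    rw [LinearMap.charpoly_prodMap, hid]

/-- an isometry of a nondegenerate space of sign `ε` gives one of the standard form of sign `ε` -/
theorem realize {V : Type*} [AddCommGroup V] [Module F V] [FiniteDimensional F V]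
    (Q : QuadraticForm F V) (hQ : (polarBilin Q).Nondegenerate) (m : ℕ) (hm : 1 ≤ m)
    (hV : finrank F V = 2 * m) {ε : ℤ} (hs : HasSign (⇑Q) m ε) (A : Module.End F V)
    (hA : ∀ v, Q (A v) = Q v) (r : ℕ) (hAr : A ^ r = 1) :
    (ε = 1 → ∃ M : Matrix (Fin m ⊕ Fin m) (Fin m ⊕ Fin m) F,
      (∀ v, Cfsg.quadFormPlus m F (M.mulVec v) = Cfsg.quadFormPlus m F v) ∧
        M.charpoly = A.charpoly ∧ M ^ r = 1) ∧
    (ε = -1 → ∀ a c : F,
      (∀ z₁ z₂ : F, z₁ ^ 2 + a * z₁ * z₂ + c * z₂ ^ 2 = 0 → z₁ = 0 ∧ z₂ = 0) →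
      ∃ M : Matrix ((Fin (m - 1) ⊕ Fin (m - 1)) ⊕ Fin 2) ((Fin (m - 1) ⊕ Fin (m - 1)) ⊕ Fin 2) F,
      (∀ v, Cfsg.quadFormMinus (m - 1) F a c (M.mulVec v) = Cfsg.quadFormMinus (m - 1) F a c v) ∧
        M.charpoly = A.charpoly ∧ M ^ r = 1) := by
  rcases sign_cases Q hQ m hm hV with ⟨hs1, g, hg⟩ | ⟨hs2, ζ, hζ, g, hg⟩
  · constructor
    · intro _
      exact transport (⇑Q) (Cfsg.quadFormPlus m F) g hg A hA r hAr
    · intro hε
      exfalso
      have := hs.unique hs1
      omega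
  · constructor
    · intro hε
      exfalso
      have := hs.unique hs2
      omega
    · intro _ a c hac
      obtain ⟨Θ, hΘ⟩ := minus_change (m - 1) a c 1 ζ hac hζ
      exact transport (⇑Q) (Cfsg.quadFormMinus (m - 1) F a c) (g.trans Θ)
        (fun v => by
          rw [hg, ← hΘ]
          rfl) A hA r hAr

end glue

section main

variable {F : Type*} [Field F] [Fintype F] {U : Type*} [AddCommGroup U] [Module F U]
  [FiniteDimensional F U] {ω : LinearMap.BilinForm F U} {y yi : Module.End F U} {r : ℕ}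

theorem one_ne_neg_one_zmod (hr : Odd r) [Fact r.Prime] : (1 : ZMod r) ≠ -1 := by
  intro h
  have h2 : ((2 : ℕ) : ZMod r) = 0 := by
    push_cast
    linear_combination h
  have h3 : r ∣ 2 := (ZMod.natCast_eq_zero_iff 2 r).1 h2
  have h4 : r ≤ 2 := Nat.le_of_dvd two_pos h3
  have h5 : 2 ≤ r := (Fact.out : r.Prime).two_le
  obtain ⟨k, hk⟩ := hr
  omega

/-- from an isometry of odd prime order of a nondegenerate alternating form to isometries of the
standard quadratic forms with the same characteristic polynomial -/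
theorem exists_even_isometry [Fact r.Prime] (S : Setup ω y yi r) (hr : Odd r) (hω : NDeg ω ⊤)
    (hrq : ¬ r ∣ Fintype.card F) (m : ℕ) (hU : finrank F U = 2 * m) (hy1 : y ≠ 1) :
    (((∃ v, v ≠ 0 ∧ y v = v) ∨ ((Fintype.card F : ℕ) : ZMod r) ^ m = 1) →
      ∃ M : Matrix (Fin m ⊕ Fin m) (Fin m ⊕ Fin m) F,
        (∀ v, Cfsg.quadFormPlus m F (M.mulVec v) = Cfsg.quadFormPlus m F v) ∧
          M.charpoly = y.charpoly ∧ M ^ r = 1) ∧
    (∀ a c : F, (∀ z₁ z₂ : F, z₁ ^ 2 + a * z₁ * z₂ + c * z₂ ^ 2 = 0 → z₁ = 0 ∧ z₂ = 0) →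
      ((∃ v, v ≠ 0 ∧ y v = v) ∨ ((Fintype.card F : ℕ) : ZMod r) ^ m = -1) →
      ∃ M : Matrix ((Fin (m - 1) ⊕ Fin (m - 1)) ⊕ Fin 2) ((Fin (m - 1) ⊕ Fin (m - 1)) ⊕ Fin 2) F,
        (∀ v, Cfsg.quadFormMinus (m - 1) F a c (M.mulVec v) =
          Cfsg.quadFormMinus (m - 1) F a c v) ∧ M.charpoly = y.charpoly ∧ M ^ r = 1) := by
  have hWy := comp_stable S hr
  have hQW := twist_nondeg S hr hω
  obtain ⟨m', hm'⟩ := even_finrank_comp S hr hω
  have hm'2 : finrank F ↥(Iso.comp y r) = 2 * m' := by omega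
  have hm'pos : 1 ≤ m' := by
    have := comp_ne_bot S hr hy1
    omega
  have hsum := finrank_comp S hr
  have hcp := charpoly_comp S hr hWy
  obtain ⟨h, rfl⟩ : ∃ h, m = m' + h := ⟨m - m', by omega⟩
  have ha : finrank F ↥(LinearMap.ker (y - 1)) = 2 * h := by omega
  rw [ha] at hcp
  have hyW : ∀ w : ↥(Iso.comp y r), ((twistQ ω y).comp (Iso.comp y r).subtype) ((y.restrict hWy) w) =
      ((twistQ ω y).comp (Iso.comp y r).subtype) w := by
    intro w
    show twistQ ω y (y w.1) = twistQ ω y w.1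
    exact twistQ_pres S _
  have hyr := restrict_pow S hWy
  have hfixW : ∀ w : ↥(Iso.comp y r), (y.restrict hWy) w = w → w = 0 := by
    intro w hw
    exact Subtype.ext (comp_fixed_eq_zero S w.2 (congrArg Subtype.val hw))
  have : Finite ↥(Iso.comp y r) := Module.finite_of_finite F
  have hm1 : 1 ≤ m' + h := by omega
  have hfixh : (∃ v, v ≠ 0 ∧ y v = v) → 1 ≤ h := by
    rintro ⟨v, hv0, hv⟩
    have h1 : 0 < finrank F ↥(LinearMap.ker (y - 1)) := by
      rw [Module.finrank_pos_iff_exists_ne_zero]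
      refine ⟨⟨v, ?_⟩, fun h0 => hv0 (congrArg Subtype.val h0)⟩
      rw [LinearMap.mem_ker, LinearMap.sub_apply, Module.End.one_apply, hv, sub_self]
    omega
  have hcardP : Fintype.card (Fin h ⊕ Fin h) = 2 * h := by
    rw [Fintype.card_sum, Fintype.card_fin]
    ring
  have hcardM : 1 ≤ h → Fintype.card ((Fin (h - 1) ⊕ Fin (h - 1)) ⊕ Fin 2) = 2 * h := by
    intro hh
    rw [Fintype.card_sum, Fintype.card_sum, Fintype.card_fin, Fintype.card_fin]
    omega
  rcases sign_cases ((twistQ ω y).comp (Iso.comp y r).subtype) hQW m' hm'pos hm'2 with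
    ⟨hs1, -⟩ | ⟨hs2, ζ, hζ, -⟩
  · have hp := pow_eq_sign _ hs1 (y.restrict hWy) hyW r hyr hfixW hrq
    rw [Int.cast_one] at hp
    constructor
    · intro _
      obtain ⟨hnd, hfr, hsV, hAV, hAVr, hAVc⟩ := glue _ hQW (Cfsg.Agent.Lib.Helper15.QPlus F h)
        (Cfsg.Agent.Lib.Helper15.nondegenerate_QPlus F h) hs1 (hasSign_QPlus h) hm'2 hcardP
        (y.restrict hWy) hyW r hyr
      obtain ⟨M, hM1, hM2, hM3⟩ := (realize _ hnd (m' + h) hm1 hfr hsV _ hAV r hAVr).1 (one_mul 1)
      refine ⟨M, hM1, ?_, hM3⟩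
      rw [hM2, hAVc, hcp, mul_comm]
    · intro a c hac hyp
      have hh : 1 ≤ h := by
        rcases hyp with hfix | hpow
        · exact hfixh hfix
        · by_contra hcon
          have h0 : h = 0 := by omega
          rw [h0, add_zero, hp] at hpow
          exact one_ne_neg_one_zmod hr hpow
      have hsH := hasSign_Qgen (h - 1) a c hac
      rw [Nat.sub_add_cancel hh] at hsH
      obtain ⟨hnd, hfr, hsV, hAV, hAVr, hAVc⟩ := glue _ hQW
        (Cfsg.Agent.Lib.Helper15.Qgen (h - 1) (Cfsg.Agent.Lib.Helper15.binForm a c))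
        (nondegenerate_Qgen_binForm (h - 1) a c hac) hs1 hsH hm'2 (hcardM hh)
        (y.restrict hWy) hyW r hyr
      obtain ⟨M, hM1, hM2, hM3⟩ :=
        (realize _ hnd (m' + h) hm1 hfr hsV _ hAV r hAVr).2 (one_mul (-1)) a c hac
      refine ⟨M, hM1, ?_, hM3⟩
      rw [hM2, hAVc, hcp, mul_comm]
  · have hp := pow_eq_sign _ hs2 (y.restrict hWy) hyW r hyr hfixW hrq
    rw [Int.cast_neg, Int.cast_one] at hp
    constructor
    · intro hyp
      have hh : 1 ≤ h := by
        rcases hyp with hfix | hpow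
        · exact hfixh hfix
        · by_contra hcon
          have h0 : h = 0 := by omega
          rw [h0, add_zero, hp] at hpow
          exact one_ne_neg_one_zmod hr hpow.symm
      have hsH := hasSign_Qgen (h - 1) 1 ζ hζ
      rw [Nat.sub_add_cancel hh] at hsH
      obtain ⟨hnd, hfr, hsV, hAV, hAVr, hAVc⟩ := glue _ hQW
        (Cfsg.Agent.Lib.Helper15.Qgen (h - 1) (Cfsg.Agent.Lib.Helper15.binForm 1 ζ))
        (nondegenerate_Qgen_binForm (h - 1) 1 ζ hζ) hs2 hsH hm'2 (hcardM hh)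
        (y.restrict hWy) hyW r hyr
      obtain ⟨M, hM1, hM2, hM3⟩ :=
        (realize _ hnd (m' + h) hm1 hfr hsV _ hAV r hAVr).1 (by norm_num)
      refine ⟨M, hM1, ?_, hM3⟩
      rw [hM2, hAVc, hcp, mul_comm]
    · intro a c hac _
      obtain ⟨hnd, hfr, hsV, hAV, hAVr, hAVc⟩ := glue _ hQW (Cfsg.Agent.Lib.Helper15.QPlus F h)
        (Cfsg.Agent.Lib.Helper15.nondegenerate_QPlus F h) hs2 (hasSign_QPlus h) hm'2 hcardP
        (y.restrict hWy) hyW r hyr
      obtain ⟨M, hM1, hM2, hM3⟩ :=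
        (realize _ hnd (m' + h) hm1 hfr hsV _ hAV r hAVr).2 (by norm_num) a c hac
      refine ⟨M, hM1, ?_, hM3⟩
      rw [hM2, hAVc, hcp, mul_comm]

end main

section matrix

variable {F : Type*} [Field F]

/-- a matrix has a nonzero fixed vector iff `X - 1` divides its characteristic polynomial -/
theorem exists_fixed_iff {ι : Type*} [Fintype ι] [DecidableEq ι] (A : Matrix ι ι F) :
    (∃ v : ι → F, v ≠ 0 ∧ A.mulVec v = v) ↔ (X - 1 : F[X]) ∣ A.charpoly := by
  have hX : (X - 1 : F[X]) = X - C 1 := by rw [map_one]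
  rw [hX, dvd_iff_isRoot, ← Matrix.charpoly_toLin', ← Module.End.hasEigenvalue_iff_isRoot_charpoly]
  constructor
  · rintro ⟨v, hv0, hv⟩
    apply Module.End.hasEigenvalue_of_hasEigenvector (x := v)
    refine ⟨Module.End.mem_eigenspace_iff.2 ?_, hv0⟩
    rw [one_smul, Matrix.toLin'_apply]
    exact hv
  · intro h
    obtain ⟨v, hv⟩ := h.exists_hasEigenvector
    refine ⟨v, hv.2, ?_⟩
    have := hv.apply_eq_smul
    rw [one_smul, Matrix.toLin'_apply] at this
    exact this

variable [Fintype F]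

/-- from a symplectic matrix of odd prime order to isometries of the standard even-dimensional
quadratic forms -/
theorem exists_even_of_sp {r : ℕ} [Fact r.Prime] (hr : Odd r) (hrq : ¬ r ∣ Fintype.card F)
    (hrF : (r : F) ≠ 0) (m : ℕ) (s : Matrix (Fin m ⊕ Fin m) (Fin m ⊕ Fin m) F)
    (hs : s ∈ Matrix.symplecticGroup (Fin m) F) (hsr : s ^ r = 1) (hs1 : s ≠ 1) :
    (((X - 1 : F[X]) ∣ s.charpoly ∨ ((Fintype.card F : ℕ) : ZMod r) ^ m = 1) →
      ∃ M : Matrix (Fin m ⊕ Fin m) (Fin m ⊕ Fin m) F,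
        (∀ v, Cfsg.quadFormPlus m F (M.mulVec v) = Cfsg.quadFormPlus m F v) ∧
          M.charpoly = s.charpoly ∧ M ^ r = 1) ∧
    (∀ a c : F, (∀ z₁ z₂ : F, z₁ ^ 2 + a * z₁ * z₂ + c * z₂ ^ 2 = 0 → z₁ = 0 ∧ z₂ = 0) →
      ((X - 1 : F[X]) ∣ s.charpoly ∨ ((Fintype.card F : ℕ) : ZMod r) ^ m = -1) →
      ∃ M : Matrix ((Fin (m - 1) ⊕ Fin (m - 1)) ⊕ Fin 2) ((Fin (m - 1) ⊕ Fin (m - 1)) ⊕ Fin 2) F,
        (∀ v, Cfsg.quadFormMinus (m - 1) F a c (M.mulVec v) =
          Cfsg.quadFormMinus (m - 1) F a c v) ∧ M.charpoly = s.charpoly ∧ M ^ r = 1) := by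
  have hrpos : 0 < r := hr.pos
  have S : Setup (stdForm (Fin m) F) (Matrix.toLin' s) (Matrix.toLin' (s ^ (r - 1))) r :=
    { alt := stdForm_alt
      gh := by
        rw [Module.End.mul_eq_comp, ← Matrix.toLin'_mul, ← pow_succ', Nat.sub_add_cancel hrpos,
          hsr, Matrix.toLin'_one]
        rfl
      hg := by
        rw [Module.End.mul_eq_comp, ← Matrix.toLin'_mul, ← pow_succ, Nat.sub_add_cancel hrpos,
          hsr, Matrix.toLin'_one]
        rfl
      pres := fun x y => by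
        rw [Matrix.toLin'_apply, Matrix.toLin'_apply]
        exact stdForm_pres hs x y
      hm := hrF
      gm := by
        rw [← Matrix.toLin'_pow, hsr, Matrix.toLin'_one]
        rfl }
  have hU : finrank F (Fin m ⊕ Fin m → F) = 2 * m := by
    rw [Module.finrank_fintype_fun_eq_card, Fintype.card_sum, Fintype.card_fin]
    ring
  have hy1 : Matrix.toLin' s ≠ 1 := by
    intro h
    apply hs1
    apply Matrix.toLin'.injective
    rw [h, Matrix.toLin'_one]
    rfl
  have hfix : (X - 1 : F[X]) ∣ s.charpoly → ∃ v, v ≠ 0 ∧ Matrix.toLin' s v = v := by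
    intro h
    obtain ⟨v, hv0, hv⟩ := (exists_fixed_iff s).2 h
    exact ⟨v, hv0, by rw [Matrix.toLin'_apply]; exact hv⟩
  obtain ⟨h1, h2⟩ := exists_even_isometry S hr stdForm_ndeg hrq m hU hy1
  rw [Matrix.charpoly_toLin'] at h1 h2
  constructor
  · intro hyp
    exact h1 (hyp.imp hfix id)
  · intro a c hac hyp
    exact h2 a c hac (hyp.imp hfix id)

end matrix

end Cfsg.Agent.Lib.Helper14.OrthEven
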