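import Mathlib
import Cfsg.Prelude.Def_GeometricClasses
import Cfsg.Agent.Lib.Helper2.FormRed

/-!
# Even orthogonal hub, block OE1: reducible groups of isometries of a quadratic form (any characteristic)

`Q` a non-degenerate quadratic form on `F^ι`, `F` finite, `H ≤ isometryGroup F Q` stabilising a proper non-zero
subspace.  Then `H` stabilises a non-zero totally singular subspace, or a proper non-zero non-degenerate subspace, or
(only when `|F|` is even) the span of a non-singular vector.
-/

set_option autoImplicit false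

namespace Cfsg.Agent.Lib.Helper14.OEReducible

open Matrix Module Cfsg Cfsg.Geo Cfsg.Agent.Lib.Helper2.FormRed

variable {ι : Type} [Fintype ι] [DecidableEq ι] {F : Type*} [Field F] {Q : (ι → F) → F}

/-- isometries of `Q` fix the polar form (index-generic) -/
theorem fixesForm_polar (H : Subgroup (GL ι F)) (hHI : H ≤ isometryGroup F Q) :
    FixesForm (matrixSet H) (QuadraticMap.polar Q) := by
  rintro _ ⟨g, hg, rfl⟩ u v
  have hQ : ∀ w, Q ((g : Matrix ι ι F) *ᵥ w) = Q w := fun w => hHI hg w w
  simp only [QuadraticMap.polar]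
  rw [← Matrix.mulVec_add, hQ, hQ, hQ]

theorem fixesQuad (H : Subgroup (GL ι F)) (hHI : H ≤ isometryGroup F Q) (g : GL ι F) (hg : g ∈ H)
    (w : ι → F) : Q ((g : Matrix ι ι F) *ᵥ w) = Q w := hHI hg w w

/-- `Q (u + v) = Q u + Q v + polar Q u v` -/
theorem map_add_eq (Q : (ι → F) → F) (u v : ι → F) : Q (u + v) = Q u + Q v + QuadraticMap.polar Q u v := by
  simp only [QuadraticMap.polar]
  ring

/-- the singular vectors of a totally isotropic subspace form a subspace -/
def singularPart (hQ : IsNondegenerateQuadraticForm Q) (R : Submodule F (ι → F))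
    (hR : IsTotallySingularFor (QuadraticMap.polar Q) R) : Submodule F (ι → F) where
  carrier := {w | w ∈ R ∧ Q w = 0}
  add_mem' := by
    rintro a b ⟨ha, ha0⟩ ⟨hb, hb0⟩
    refine ⟨R.add_mem ha hb, ?_⟩
    rw [map_add_eq Q, ha0, hb0, hR a ha b hb]
    ring
  zero_mem' := by
    refine ⟨R.zero_mem, ?_⟩
    have := hQ.smul 0 0
    simpa using this
  smul_mem' := by
    rintro c w ⟨hw, hw0⟩
    exact ⟨R.smul_mem c hw, by rw [hQ.smul, hw0, mul_zero]⟩

theorem mem_singularPart (hQ : IsNondegenerateQuadraticForm Q) (R : Submodule F (ι → F))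
    (hR : IsTotallySingularFor (QuadraticMap.polar Q) R) (w : ι → F) :
    w ∈ singularPart hQ R hR ↔ w ∈ R ∧ Q w = 0 := Iff.rfl

theorem odd_card_iff_two_ne_zero [Fintype F] : Odd (Fintype.card F) ↔ (2 : F) ≠ 0 := by
  constructor
  · intro hq h2
    have hchar : ringChar F = 2 := CharP.ringChar_of_prime_eq_zero Nat.prime_two (by exact_mod_cast h2)
    have := FiniteField.even_card_of_char_two hchar
    rcases hq with ⟨k, hk⟩
    omega
  · intro h2
    by_contra hodd
    rw [Nat.not_odd_iff_even] at hodd
    have hchar : ringChar F = 2 := by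
      rw [FiniteField.even_card_iff_char_two]
      exact Nat.even_iff.mp hodd
    apply h2
    have : ((2 : ℕ) : F) = 0 := by
      rw [← hchar]
      exact ringChar.Nat.cast_ringChar
    exact_mod_cast this

/-- **OE1, invariant-subspace form.** -/
theorem reducible_of_invariant [Fintype F] (hQ : IsNondegenerateQuadraticForm Q) (H : Subgroup (GL ι F))
    (hHI : H ≤ isometryGroup F Q) (W : Submodule F (ι → F)) (hW0 : W ≠ ⊥) (hW1 : W ≠ ⊤)
    (hHW : H ≤ subspaceStabilizer W) :
    (∃ W' : Submodule F (ι → F), W' ≠ ⊥ ∧ IsTotallySingularQuad Q W' ∧ H ≤ subspaceStabilizer W') ∨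
    (∃ W' : Submodule F (ι → F), W' ≠ ⊥ ∧ W' ≠ ⊤ ∧ IsNondegenerateOn (QuadraticMap.polar Q) W' ∧
        H ≤ subspaceStabilizer W') ∨
    (¬ Odd (Fintype.card F) ∧ ∃ v : ι → F, Q v ≠ 0 ∧ H ≤ subspaceStabilizer (Submodule.span F {v})) := by
  have hf : RForm (QuadraticMap.polar Q) := RForm.of_polar hQ
  have hfix := fixesForm_polar H hHI
  have hinvW : Inv H W := inv_of_le_stab hHW
  have hinvR : Inv H (W ⊓ perp hf W) := hinvW.inf (hinvW.perp hf hfix)
  by_cases hR : W ⊓ perp hf W = ⊥
  · exact Or.inr (Or.inl ⟨W, hW0, hW1, nondegenerateOn_of_inf_perp hf hR, hHW⟩)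
  · have hRts : IsTotallySingularFor (QuadraticMap.polar Q) (W ⊓ perp hf W) := totallySingular_inf_perp hf W
    by_cases h2 : (2 : F) = 0
    · -- characteristic two
      set R := W ⊓ perp hf W with hRdef
      by_cases hS : singularPart hQ R hRts = ⊥
      · -- `R` is the span of a non-singular vector
        right; right
        refine ⟨fun hodd => (odd_card_iff_two_ne_zero.mp hodd) h2, ?_⟩
        obtain ⟨v, hvR, hv0⟩ := Submodule.exists_mem_ne_zero_of_ne_bot hR
        have hQv : Q v ≠ 0 := by
          intro h0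
          have : v ∈ singularPart hQ R hRts := ⟨hvR, h0⟩
          rw [hS, Submodule.mem_bot] at this
          exact hv0 this
        refine ⟨v, hQv, ?_⟩
        have hchar : ringChar F = 2 := CharP.ringChar_of_prime_eq_zero Nat.prime_two (by exact_mod_cast h2)
        have hspan : R = Submodule.span F {v} := by
          apply le_antisymm
          · intro w hw
            obtain ⟨c, hc⟩ := FiniteField.isSquare_of_char_two hchar (Q w / Q v)
            have hmem : w + c • v ∈ singularPart hQ R hRts := by
              refine ⟨R.add_mem hw (R.smul_mem c hvR), ?_⟩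
              rw [map_add_eq Q, hQ.smul, hRts w hw (c • v) (R.smul_mem c hvR), add_zero, pow_two, ← hc,
                div_mul_cancel₀ _ hQv]
              linear_combination Q w * h2
            rw [hS, Submodule.mem_bot] at hmem
            have hw' : w = (-c) • v := by
              rw [neg_smul]
              exact eq_neg_of_add_eq_zero_left hmem
            rw [hw']
            exact Submodule.smul_mem _ _ (Submodule.mem_span_singleton_self v)
          · rw [Submodule.span_singleton_le_iff_mem]
            exact hvR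
        rw [← hspan]
        exact le_stab_of_inv hinvR
      · -- a non-zero totally singular subspace
        left
        refine ⟨singularPart hQ R hRts, hS, fun w hw => hw.2, ?_⟩
        apply le_stab_of_inv
        intro g hg w hw
        exact ⟨hinvR g hg w hw.1, by rw [fixesQuad H hHI g hg]; exact hw.2⟩
    · left
      exact ⟨W ⊓ perp hf W, hR, totallySingularQuad_of_polar hQ h2 hRts, le_stab_of_inv hinvR⟩

/-- **OE1.** A group of isometries of `Q` that does not act irreducibly. -/
theorem reducible_cases [Fintype F] (hQ : IsNondegenerateQuadraticForm Q) (H : Subgroup (GL ι F))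
    (hHI : H ≤ isometryGroup F Q) (hred : ¬ ActsIrreducibly (matrixSet H)) :
    (∃ W' : Submodule F (ι → F), W' ≠ ⊥ ∧ IsTotallySingularQuad Q W' ∧ H ≤ subspaceStabilizer W') ∨
    (∃ W' : Submodule F (ι → F), W' ≠ ⊥ ∧ W' ≠ ⊤ ∧ IsNondegenerateOn (QuadraticMap.polar Q) W' ∧
        H ≤ subspaceStabilizer W') ∨
    (¬ Odd (Fintype.card F) ∧ ∃ v : ι → F, Q v ≠ 0 ∧ H ≤ subspaceStabilizer (Submodule.span F {v})) := by
  unfold ActsIrreducibly at hred
  push Not at hred
  obtain ⟨W, hW, hW0, hW1⟩ := hred
  exact reducible_of_invariant hQ H hHI W hW0 hW1 (le_stab_of_map_le hW)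

end Cfsg.Agent.Lib.Helper14.OEReducible
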