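import Mathlib
import Cfsg.Agent.Lib.Helper14.JType2

/-!
# Building blocks: pairs of equal Jordan blocks, single symplectic and orthogonal blocks
-/

set_option autoImplicit false

namespace Cfsg.Agent.Lib.Helper14.JType

open Module

universe u

variable {F : Type u} [Field F]

section abstract

variable {W : Type u} [AddCommGroup W] [Module F W] [FiniteDimensional F W]

/-- Two equal blocks: the hyperbolic `ε`-form on `W × W` and `g × g⁻¹`. -/
theorem isRealised_pair (ε : F) (hε : ε * ε = 1)
    (P : W →ₗ[F] W →ₗ[F] F) (hPsym : ∀ a b, P b a = P a b)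
    (hPnd : ∀ a, (∀ b, P a b = 0) → a = 0)
    (N : W →ₗ[F] W) (hPN : ∀ a b, P (N a) b = P a (N b)) (m : ℕ) (hNm : N ^ m = 0) :
    IsRealised ε (fun j => 2 * kd N j) (2 * finrank F W) := by
  have hε0 : ε ≠ 0 := by
    rintro rfl
    rw [mul_zero] at hε
    exact zero_ne_one hε
  set G' : W →ₗ[F] W := ∑ i ∈ Finset.range m, (-N) ^ i with hG'
  have hpow : (-N) ^ m = 0 := by rw [neg_pow, hNm, mul_zero]
  have hgG : (1 + N) * G' = 1 := by
    have := mul_neg_geom_sum (-N) m
    rwa [sub_neg_eq_add, hpow, sub_zero] at this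
  have hGg : G' * (1 + N) = 1 := by
    have := geom_sum_mul_neg (-N) m
    rwa [sub_neg_eq_add, hpow, sub_zero] at this
  have hcomm : Commute G' N := by
    apply Commute.sum_left
    intro i _
    exact ((Commute.refl N).neg_left).pow_left i
  have hgadj : ∀ a b, P ((1 + N) a) b = P a ((1 + N) b) := by
    intro a b
    simp only [LinearMap.add_apply, Module.End.one_apply, map_add]
    rw [hPN]
  have hgG' : ∀ z, (1 + N) (G' z) = z := by
    intro z
    rw [← Module.End.mul_apply, hgG, Module.End.one_apply]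
  let B : (W × W) →ₗ[F] (W × W) →ₗ[F] F :=
    P.compl₁₂ (LinearMap.fst F W W) (LinearMap.snd F W W) +
      ε • P.compl₁₂ (LinearMap.snd F W W) (LinearMap.fst F W W)
  have hB : ∀ x y, B x y = P x.1 y.2 + ε * P x.2 y.1 := fun x y => rfl
  apply isRealised_of_space (V := W × W) _ B ((1 + N).prodMap G')
  · intro x hx
    have h1 : x.1 = 0 := by
      apply hPnd
      intro b
      have := hx (0, b)
      rwa [hB, map_zero, mul_zero, add_zero] at this
    have h2 : x.2 = 0 := by
      apply hPnd
      intro a
      have := hx (a, 0)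
      rw [hB, map_zero, zero_add] at this
      rcases mul_eq_zero.1 this with h | h
      · exact absurd h hε0
      · exact h
    exact Prod.ext h1 h2
  · intro x y
    rw [hB, hB, hPsym x.2 y.1, hPsym x.1 y.2]
    linear_combination (-(P x.2 y.1)) * hε
  · intro h x
    rw [hB, h, hPsym x.2 x.1]
    ring
  · intro x y
    rw [hB, hB]
    simp only [LinearMap.prodMap_apply]
    rw [hgadj, hgG', hPsym ((1 + N) y.1) (G' x.2), hgadj, hgG', hPsym x.2 y.1]
  · intro k
    have h1 : G' - 1 = (-G') * N := by
      have h3 : G' + G' * N = 1 := by rw [← hGg, mul_add, mul_one]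
      rw [neg_mul, ← h3]
      abel
    have h2 : (1 + N : W →ₗ[F] W) - 1 = N := add_sub_cancel_left _ _
    rw [prodMap_sub_one, kd_prodMap, h2, h1,
      kd_mul_of_leftInv (-G') (-(1 + N)) N (by rw [neg_mul_neg, hgG]) hcomm.neg_left]
    ring
  · rw [Module.finrank_prod]
    ring

/-- A single symplectic block of even size `2 dim W`. -/
theorem isRealised_evenSp
    (P : W →ₗ[F] W →ₗ[F] F) (hPsym : ∀ a b, P b a = P a b)
    (hPnd : ∀ a, (∀ b, P a b = 0) → a = 0)
    (N : W →ₗ[F] W) (hPN : ∀ a b, P (N a) b = P a (N b)) (m : ℕ) (hNm : N ^ m = 0)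
    (hker : finrank F (LinearMap.ker N) ≤ 1) :
    IsRealised (-1 : F) (fun j => min (2 * finrank F W) j) (2 * finrank F W) := by
  let T : W →ₗ[F] W := (2 : F) • (1 : W →ₗ[F] W) + N
  let A : (W × W) →ₗ[F] (W × W) :=
    LinearMap.prod (-LinearMap.snd F W W) (LinearMap.fst F W W + T ∘ₗ LinearMap.snd F W W)
  have hA : ∀ x, A x = (-x.2, x.1 + ((2 : F) • x.2 + N x.2)) := fun x => rfl
  let B : (W × W) →ₗ[F] (W × W) →ₗ[F] F :=
    P.compl₁₂ (LinearMap.snd F W W) (LinearMap.fst F W W) -
      P.compl₁₂ (LinearMap.fst F W W) (LinearMap.snd F W W)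
  have hB : ∀ x y, B x y = P x.2 y.1 - P x.1 y.2 := fun x y => rfl
  have hfr : finrank F (W × W) = 2 * finrank F W := by
    rw [Module.finrank_prod]
    ring
  have hN1 : ∀ x, (A - 1) x = (-x.2 - x.1, x.1 + ((2 : F) • x.2 + N x.2) - x.2) := by
    intro x
    rw [LinearMap.sub_apply, hA, Module.End.one_apply]
    rfl
  set Y : (W × W) →ₗ[F] (W × W) := N.prodMap N with hY
  have h1 : (A - 1) * (A - 1) = A * Y := by
    apply LinearMap.ext
    intro x
    rw [Module.End.mul_apply, Module.End.mul_apply, hN1, hN1, hA, hY, LinearMap.prodMap_apply]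
    apply Prod.ext
    · simp only [two_smul]
      abel
    · simp only [two_smul, map_add, map_sub]
      abel
  have h2 : Commute A Y := by
    apply LinearMap.ext
    intro x
    rw [Module.End.mul_apply, Module.End.mul_apply, hA, hY, LinearMap.prodMap_apply, hA,
      LinearMap.prodMap_apply]
    apply Prod.ext
    · simp only [map_neg]
    · simp only [map_add, map_smul]
  have hnil : IsNilpotent (A - 1) := by
    refine ⟨2 * m, ?_⟩
    rw [pow_mul, pow_two, h1, h2.mul_pow, hY, prodMap_pow, hNm, LinearMap.prodMap_zero, mul_zero]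
  have hker1 : finrank F (LinearMap.ker (A - 1)) ≤ 1 := by
    have hmem : ∀ x : ↥(LinearMap.ker (A - 1)), x.1.1 = -x.1.2 ∧ N x.1.2 = 0 := by
      intro x
      have hx := x.2
      rw [LinearMap.mem_ker, hN1] at hx
      have hx1 := congrArg Prod.fst hx
      have hx2 := congrArg Prod.snd hx
      simp only [Prod.fst_zero, Prod.snd_zero] at hx1 hx2
      have h3 : x.1.1 = -x.1.2 := by
        have : x.1.1 = -x.1.2 - (-x.1.2 - x.1.1) := by abel
        rw [this, hx1, sub_zero]
      refine ⟨h3, ?_⟩
      rw [h3, two_smul] at hx2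
      rw [← hx2]
      abel
    let f : ↥(LinearMap.ker (A - 1)) →ₗ[F] ↥(LinearMap.ker N) :=
      LinearMap.codRestrict (LinearMap.ker N)
        ((LinearMap.snd F W W).comp (Submodule.subtype (LinearMap.ker (A - 1))))
        (fun x => LinearMap.mem_ker.2 (hmem x).2)
    have hf : Function.Injective f := by
      rw [← LinearMap.ker_eq_bot, LinearMap.ker_eq_bot']
      intro x hx
      have h3 : x.1.2 = 0 := congrArg Subtype.val hx
      have h4 : x.1.1 = 0 := by rw [(hmem x).1, h3, neg_zero]
      apply Subtype.ext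
      exact Prod.ext h4 h3
    exact (LinearMap.finrank_le_finrank_of_injective hf).trans hker
  apply isRealised_of_space (V := W × W) hfr B A
  · intro x hx
    have h3 : x.2 = 0 := by
      apply hPnd
      intro a
      have := hx (a, 0)
      rwa [hB, map_zero, sub_zero] at this
    have h4 : x.1 = 0 := by
      apply hPnd
      intro b
      have := hx (0, b)
      rw [hB, map_zero, zero_sub, neg_eq_zero] at this
      exact this
    exact Prod.ext h4 h3
  · intro x y
    rw [hB, hB, hPsym y.2 x.1, hPsym y.1 x.2]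
    ring
  · intro _ x
    rw [hB, hPsym x.2 x.1, sub_self]
  · intro x y
    rw [hB, hB, hA, hA]
    simp only [map_add, map_neg, map_smul, LinearMap.add_apply, LinearMap.neg_apply,
      LinearMap.smul_apply, smul_eq_mul]
    rw [hPN]
    ring
  · intro k
    rw [kd_of_ker_le_one (A - 1) hnil hker1, hfr]

/-- A single orthogonal block via the Cayley transform of a skew-adjoint nilpotent. -/
theorem isRealised_cayley (h2 : (2 : F) ≠ 0)
    (Bo : W →ₗ[F] W →ₗ[F] F) (hsym : ∀ a b, Bo b a = Bo a b)
    (hnd : ∀ a, (∀ b, Bo a b = 0) → a = 0)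
    (N : W →ₗ[F] W) (hskew : ∀ a b, Bo (N a) b = -Bo a (N b)) (m : ℕ) (hNm : N ^ m = 0) :
    IsRealised (1 : F) (fun j => kd N j) (finrank F W) := by
  set inv : W →ₗ[F] W := ∑ i ∈ Finset.range m, N ^ i with hinv
  have hcinv : (1 - N) * inv = 1 := by
    have := mul_neg_geom_sum N m
    rwa [hNm, sub_zero] at this
  have hinvc : inv * (1 - N) = 1 := by
    have := geom_sum_mul_neg N m
    rwa [hNm, sub_zero] at this
  have hcomm : Commute inv N := by
    apply Commute.sum_left
    intro i _
    exact (Commute.refl N).pow_left i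
  have hadj1 : ∀ a b, Bo ((1 + N) a) b = Bo a ((1 - N) b) := by
    intro a b
    simp only [LinearMap.add_apply, LinearMap.sub_apply, Module.End.one_apply, map_add, map_sub]
    rw [hskew]
    ring
  have hadj2 : ∀ a b, Bo ((1 - N) a) b = Bo a ((1 + N) b) := by
    intro a b
    simp only [LinearMap.add_apply, LinearMap.sub_apply, Module.End.one_apply, map_add, map_sub]
    rw [hskew]
    ring
  have hcc : ∀ z, (1 - N) ((1 + N) z) = (1 + N) ((1 - N) z) := by
    intro z
    rw [← Module.End.mul_apply, ← Module.End.mul_apply]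
    congr 1
    noncomm_ring
  have hci : ∀ z, (1 - N) (inv z) = z := by
    intro z
    rw [← Module.End.mul_apply, hcinv, Module.End.one_apply]
  apply isRealised_of_space (V := W) rfl Bo ((1 + N) * inv)
  · exact hnd
  · intro x y
    rw [hsym, one_mul]
  · intro h x
    exfalso
    apply h2
    have : (1 : F) + 1 = 0 := by
      nth_rewrite 1 [h]
      exact neg_add_cancel 1
    rw [← this]
    norm_num
  · intro x y
    calc Bo (((1 + N) * inv) x) (((1 + N) * inv) y)
        = Bo ((1 + N) (inv x)) ((1 + N) (inv y)) := rfl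
      _ = Bo (inv x) ((1 - N) ((1 + N) (inv y))) := hadj1 _ _
      _ = Bo (inv x) ((1 + N) ((1 - N) (inv y))) := by rw [hcc]
      _ = Bo ((1 - N) (inv x)) ((1 - N) (inv y)) := (hadj2 _ _).symm
      _ = Bo x y := by rw [hci, hci]
  · intro k
    have h1 : (1 + N) * inv - 1 = ((2 : F) • inv) * N := by
      have h3 : (1 + N) * inv - 1 = (1 + N) * inv - (1 - N) * inv := by rw [hcinv]
      rw [h3, ← sub_mul]
      have h4 : (1 + N : W →ₗ[F] W) - (1 - N) = (2 : F) • N := by
        rw [two_smul]
        abel
      rw [h4, smul_mul_assoc, smul_mul_assoc, hcomm.eq]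
    rw [h1]
    apply kd_mul_of_leftInv ((2 : F) • inv) ((2 : F)⁻¹ • (1 - N)) N
    · rw [smul_mul_smul_comm, inv_mul_cancel₀ h2, one_smul, hcinv]
    · exact hcomm.smul_left _

end abstract

section concrete

variable (F) (k : ℕ)

/-- the shift on `F^(k+1)` -/
def sh : (Fin (k + 1) → F) →ₗ[F] (Fin (k + 1) → F) where
  toFun a := Fin.cons 0 (fun i => a i.castSucc)
  map_add' a b := by
    funext i
    refine Fin.cases ?_ (fun i => ?_) i
    · simp
    · simp
  map_smul' c a := by
    funext i
    refine Fin.cases ?_ (fun i => ?_) i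
    · simp
    · simp

variable {F} {k}

theorem sh_zero (a : Fin (k + 1) → F) : sh F k a 0 = 0 := rfl

theorem sh_succ (a : Fin (k + 1) → F) (i : Fin k) : sh F k a i.succ = a i.castSucc := by
  simp [sh]

theorem sh_pow_apply_of_lt (j : ℕ) (a : Fin (k + 1) → F) (i : Fin (k + 1)) (hi : i.val < j) :
    ((sh F k) ^ j) a i = 0 := by
  induction j generalizing i with
  | zero => omega
  | succ j ih =>
    rw [pow_succ', Module.End.mul_apply]
    revert hi
    refine Fin.cases ?_ (fun i' => ?_) i
    · intro _
      exact sh_zero _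
    · intro hi
      rw [sh_succ]
      apply ih
      simp only [Fin.val_succ] at hi
      simp only [Fin.val_castSucc]
      omega

theorem sh_pow_eq_zero : (sh F k) ^ (k + 1) = 0 := by
  apply LinearMap.ext
  intro a
  funext i
  exact sh_pow_apply_of_lt _ _ _ i.isLt

theorem finrank_ker_sh_le : finrank F (LinearMap.ker (sh F k)) ≤ 1 := by
  let f : ↥(LinearMap.ker (sh F k)) →ₗ[F] F :=
    (LinearMap.proj (Fin.last k)).comp (Submodule.subtype _)
  have hf : Function.Injective f := by
    rw [← LinearMap.ker_eq_bot, LinearMap.ker_eq_bot']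
    intro a ha
    have ha' : a.1 (Fin.last k) = 0 := ha
    have h1 : sh F k a.1 = 0 := LinearMap.mem_ker.1 a.2
    apply Subtype.ext
    funext i
    refine Fin.lastCases ?_ (fun i' => ?_) i
    · exact ha'
    · have := congrFun h1 i'.succ
      rw [sh_succ] at this
      exact this
  have := LinearMap.finrank_le_finrank_of_injective hf
  rwa [Module.finrank_self] at this

theorem kd_sh (j : ℕ) : kd (sh F k) j = min (k + 1) j := by
  have hnil : IsNilpotent (sh F k) := ⟨k + 1, sh_pow_eq_zero⟩
  rw [kd_of_ker_le_one (sh F k) hnil finrank_ker_sh_le j, Module.finrank_fin_fun]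

variable (F) (k)

/-- the flip form `Σ a_i b_{k-i}` -/
def flipForm : (Fin (k + 1) → F) →ₗ[F] (Fin (k + 1) → F) →ₗ[F] F :=
  LinearMap.mk₂ F (fun a b => ∑ i, a i * b (Fin.rev i))
    (fun a a' b => by simp [add_mul, Finset.sum_add_distrib])
    (fun c a b => by simp [Finset.mul_sum, mul_assoc])
    (fun a b b' => by simp [mul_add, Finset.sum_add_distrib])
    (fun c a b => by simp [Finset.mul_sum, mul_left_comm])

variable {F} {k}

theorem flip_apply (a b : Fin (k + 1) → F) : flipForm F k a b = ∑ i, a i * b (Fin.rev i) := rfl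

theorem flip_symm (a b : Fin (k + 1) → F) : flipForm F k b a = flipForm F k a b := by
  rw [flip_apply, flip_apply, ← Equiv.sum_comp Fin.revPerm (fun i => a i * b (Fin.rev i))]
  apply Finset.sum_congr rfl
  intro i _
  simp [mul_comm]

theorem flip_nondeg (a : Fin (k + 1) → F) (h : ∀ b, flipForm F k a b = 0) : a = 0 := by
  funext i
  have h1 := h (Pi.single (Fin.rev i) 1)
  rw [flip_apply, Finset.sum_eq_single i] at h1
  · simpa using h1
  · intro j _ hji
    rw [Pi.single_eq_of_ne, mul_zero]
    exact fun h => hji (Fin.rev_inj.1 h)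
  · intro h
    exact absurd (Finset.mem_univ i) h

theorem flip_sh (a b : Fin (k + 1) → F) :
    flipForm F k (sh F k a) b = flipForm F k a (sh F k b) := by
  rw [flip_apply, flip_apply]
  conv_lhs => rw [Fin.sum_univ_succ]
  conv_rhs => rw [Fin.sum_univ_castSucc]
  simp only [sh_zero, sh_succ, zero_mul, zero_add, Fin.rev_last, mul_zero, add_zero,
    Fin.rev_castSucc, Fin.rev_succ]

variable (F) (k)

/-- the sign operator `a_i ↦ (-1)^i a_i` -/
def sgn : (Fin (k + 1) → F) →ₗ[F] (Fin (k + 1) → F) where
  toFun a := fun i => (-1 : F) ^ i.val * a i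
  map_add' a b := by
    funext i
    simp [mul_add]
  map_smul' c a := by
    funext i
    simp [mul_left_comm]

variable {F} {k}

theorem sgn_apply (a : Fin (k + 1) → F) (i : Fin (k + 1)) :
    sgn F k a i = (-1 : F) ^ i.val * a i := rfl

theorem sgn_sh (a : Fin (k + 1) → F) : sgn F k (sh F k a) = -sh F k (sgn F k a) := by
  funext i
  refine Fin.cases ?_ (fun i' => ?_) i
  · rw [sgn_apply, sh_zero, Pi.neg_apply, sh_zero, mul_zero, neg_zero]
  · rw [sgn_apply, sh_succ, Pi.neg_apply, sh_succ, sgn_apply, Fin.val_succ, Fin.val_castSucc,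
      pow_succ]
    ring

theorem flip_sgn (hk : Even k) (a b : Fin (k + 1) → F) :
    flipForm F k (sgn F k a) b = flipForm F k a (sgn F k b) := by
  rw [flip_apply, flip_apply]
  apply Finset.sum_congr rfl
  intro i _
  rw [sgn_apply, sgn_apply, Fin.val_rev]
  have h1 : (-1 : F) ^ (k + 1 - (i.val + 1)) = (-1 : F) ^ i.val := by
    rw [neg_one_pow_eq_pow_mod_two, neg_one_pow_eq_pow_mod_two (n := i.val)]
    congr 1
    have := i.isLt
    have := Nat.even_iff.1 hk
    omega
  rw [h1]
  ring

end concrete

section assemble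

/-- pairs of blocks of any size -/
theorem isRealised_pair_std (ε : F) (hε : ε * ε = 1) (b : ℕ) :
    IsRealised ε (fun j => 2 * min b j) (2 * b) := by
  rcases b with _ | k
  · exact (isRealised_zero ε).congr (fun j => by simp) (by simp)
  · have h := isRealised_pair ε hε (flipForm F k) (fun a b => flip_symm a b) flip_nondeg
      (sh F k) flip_sh (k + 1) sh_pow_eq_zero
    exact h.congr (fun j => by rw [kd_sh]) (by rw [Module.finrank_fin_fun])

/-- single symplectic blocks of even size -/
theorem isRealised_evenSp_std (b : ℕ) (hb : Even b) :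
    IsRealised (-1 : F) (fun j => min b j) b := by
  obtain ⟨r, rfl⟩ := hb
  rcases r with _ | k
  · exact (isRealised_zero (-1 : F)).congr (fun j => by simp) (by simp)
  · have h := isRealised_evenSp (flipForm F k) (fun a b => flip_symm a b) flip_nondeg
      (sh F k) flip_sh (k + 1) sh_pow_eq_zero finrank_ker_sh_le
    exact h.congr (fun j => by rw [Module.finrank_fin_fun, two_mul])
      (by rw [Module.finrank_fin_fun, two_mul])

/-- single orthogonal blocks of odd size, in odd characteristic -/
theorem isRealised_oddOrth_std (h2 : (2 : F) ≠ 0) (b : ℕ) (hb : Odd b) :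
    IsRealised (1 : F) (fun j => min b j) b := by
  obtain ⟨r, rfl⟩ := hb
  have hk : Even (2 * r) := even_two_mul r
  let Bo : (Fin (2 * r + 1) → F) →ₗ[F] (Fin (2 * r + 1) → F) →ₗ[F] F :=
    (flipForm F (2 * r)).comp (sgn F (2 * r))
  have hBo : ∀ a b, Bo a b = flipForm F (2 * r) (sgn F (2 * r) a) b := fun a b => rfl
  have h := isRealised_cayley h2 Bo
    (fun a b => by rw [hBo, hBo, flip_symm, flip_sgn hk])
    (fun a ha => by
      have h1 : sgn F (2 * r) a = 0 := flip_nondeg _ (fun b => by rw [← hBo]; exact ha b)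
      funext i
      have h3 := congrFun h1 i
      rw [sgn_apply] at h3
      rcases mul_eq_zero.1 h3 with h4 | h4
      · exact absurd h4 (pow_ne_zero _ (neg_ne_zero.2 one_ne_zero))
      · exact h4)
    (sh F (2 * r))
    (fun a b => by rw [hBo, hBo, sgn_sh, map_neg, LinearMap.neg_apply, flip_sh])
    (2 * r + 1) sh_pow_eq_zero
  exact h.congr (fun j => by rw [kd_sh]) (by rw [Module.finrank_fin_fun])

end assemble

end Cfsg.Agent.Lib.Helper14.JType
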