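import Mathlib
import Cfsg.Agent.Lib.Helper14.NilYoung

/-!
# The standard nilpotent endomorphism attached to a Young diagram

For a non-increasing `ν` and `m` rows, `modelMap ν m` acts on functions on the cells by shifting
rows; its kernel dimensions are the partial sums of `ν`.
-/

set_option autoImplicit false

namespace Cfsg.Agent.Lib.Helper14

open Module

variable {F : Type*} [Field F]

/-- Shift a cell up by `k` rows. -/
def cellShift (k : ℕ) (c : Σ _ : ℕ, ℕ) : Σ _ : ℕ, ℕ := ⟨c.1 + k, c.2⟩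

/-- Extension by zero of a function on the cells. -/
noncomputable def ext0 {ν : ℕ → ℕ} {m : ℕ} (f : ↥(cells ν m) → F) (c : Σ _ : ℕ, ℕ) : F :=
  if hc : c ∈ cells ν m then f ⟨c, hc⟩ else 0

theorem ext0_of_mem {ν : ℕ → ℕ} {m : ℕ} (f : ↥(cells ν m) → F) {c : Σ _ : ℕ, ℕ}
    (hc : c ∈ cells ν m) : ext0 f c = f ⟨c, hc⟩ := by
  unfold ext0
  rw [dif_pos hc]

theorem ext0_of_notMem {ν : ℕ → ℕ} {m : ℕ} (f : ↥(cells ν m) → F) {c : Σ _ : ℕ, ℕ}
    (hc : c ∉ cells ν m) : ext0 f c = 0 := by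
  unfold ext0
  rw [dif_neg hc]

theorem ext0_add {ν : ℕ → ℕ} {m : ℕ} (f g : ↥(cells ν m) → F) (c : Σ _ : ℕ, ℕ) :
    ext0 (f + g) c = ext0 f c + ext0 g c := by
  unfold ext0
  by_cases hc : c ∈ cells ν m
  · simp only [dif_pos hc, Pi.add_apply]
  · simp only [dif_neg hc, add_zero]

theorem ext0_smul {ν : ℕ → ℕ} {m : ℕ} (a : F) (f : ↥(cells ν m) → F) (c : Σ _ : ℕ, ℕ) :
    ext0 (a • f) c = a * ext0 f c := by
  unfold ext0
  by_cases hc : c ∈ cells ν m
  · simp only [dif_pos hc, Pi.smul_apply, smul_eq_mul]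
  · simp only [dif_neg hc, mul_zero]

/-- The standard nilpotent endomorphism. -/
noncomputable def modelMap (ν : ℕ → ℕ) (m : ℕ) :
    (↥(cells ν m) → F) →ₗ[F] (↥(cells ν m) → F) where
  toFun f p := ext0 f (cellShift 1 p.1)
  map_add' f g := by
    funext p
    simp only [Pi.add_apply, ext0_add]
  map_smul' a f := by
    funext p
    simp only [Pi.smul_apply, ext0_smul, smul_eq_mul, RingHom.id_apply]

theorem modelMap_apply (ν : ℕ → ℕ) (m : ℕ) (f : ↥(cells ν m) → F) (p : ↥(cells ν m)) :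
    modelMap ν m f p = ext0 f (cellShift 1 p.1) := rfl

theorem antitone_of_succ {ν : ℕ → ℕ} (hν : ∀ h, ν (h + 1) ≤ ν h) {a b : ℕ} (hab : a ≤ b) :
    ν b ≤ ν a :=
  antitone_nat_of_succ_le hν hab

theorem cellShift_mem_of_mem {ν : ℕ → ℕ} (hν : ∀ h, ν (h + 1) ≤ ν h) {m : ℕ} {k : ℕ}
    {c : Σ _ : ℕ, ℕ} (h : cellShift (k + 1) c ∈ cells ν m) : cellShift k c ∈ cells ν m := by
  rw [mem_cells] at h ⊢
  have h1 : c.1 + (k + 1) < m := h.1
  have h2 : c.2 < ν (c.1 + (k + 1)) := h.2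
  refine ⟨show c.1 + k < m by omega, show c.2 < ν (c.1 + k) from ?_⟩
  exact lt_of_lt_of_le h2 (hν (c.1 + k))

theorem modelMap_pow_apply {ν : ℕ → ℕ} (hν : ∀ h, ν (h + 1) ≤ ν h) (m k : ℕ)
    (f : ↥(cells ν m) → F) (p : ↥(cells ν m)) :
    ((modelMap ν m) ^ k) f p = ext0 f (cellShift k p.1) := by
  induction k generalizing f with
  | zero =>
    rw [pow_zero, Module.End.one_apply]
    have : cellShift 0 p.1 = p.1 := rfl
    rw [this, ext0_of_mem f p.2]
  | succ k ih =>
    rw [pow_succ, Module.End.mul_apply, ih]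
    by_cases hc : cellShift k p.1 ∈ cells ν m
    · rw [ext0_of_mem _ hc, modelMap_apply]
      rfl
    · rw [ext0_of_notMem _ hc, ext0_of_notMem]
      intro h
      exact hc (cellShift_mem_of_mem hν h)

theorem modelMap_pow_eq_zero {ν : ℕ → ℕ} (hν : ∀ h, ν (h + 1) ≤ ν h) (m : ℕ) :
    (modelMap (F := F) ν m) ^ m = 0 := by
  apply LinearMap.ext
  intro f
  funext p
  rw [modelMap_pow_apply hν, ext0_of_notMem]
  · rfl
  · intro h
    have := (mem_cells.mp h).1
    have h1 : p.1.1 + m < m := this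
    omega

theorem mem_ker_modelMap_pow {ν : ℕ → ℕ} (hν : ∀ h, ν (h + 1) ≤ ν h) (m k : ℕ)
    (f : ↥(cells ν m) → F) :
    f ∈ LinearMap.ker ((modelMap ν m) ^ k) ↔ ∀ p : ↥(cells ν m), k ≤ p.1.1 → f p = 0 := by
  rw [LinearMap.mem_ker]
  constructor
  · intro h p hp
    have hp' := mem_cells.mp p.2
    have hq : (⟨p.1.1 - k, p.1.2⟩ : Σ _ : ℕ, ℕ) ∈ cells ν m := by
      rw [mem_cells]
      refine ⟨show p.1.1 - k < m by omega, show p.1.2 < ν (p.1.1 - k) from ?_⟩
      exact lt_of_lt_of_le hp'.2 (antitone_of_succ hν (Nat.sub_le _ _))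
    have h1 := congrFun h ⟨_, hq⟩
    rw [modelMap_pow_apply hν] at h1
    have h2 : cellShift k (⟨p.1.1 - k, p.1.2⟩ : Σ _ : ℕ, ℕ) = p.1 := by
      unfold cellShift
      apply Sigma.ext
      · show p.1.1 - k + k = p.1.1
        omega
      · rfl
    rw [h2, ext0_of_mem f p.2] at h1
    exact h1
  · intro h
    funext p
    rw [modelMap_pow_apply hν]
    by_cases hc : cellShift k p.1 ∈ cells ν m
    · rw [ext0_of_mem _ hc]
      apply h
      show k ≤ p.1.1 + k
      omega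
    · rw [ext0_of_notMem _ hc]
      rfl

/-- The kernel dimensions of the standard model. -/
theorem kd_modelMap {ν : ℕ → ℕ} (hν : ∀ h, ν (h + 1) ≤ ν h) (m k : ℕ) :
    kd (modelMap (F := F) ν m) k = ∑ h ∈ Finset.range (min k m), ν h := by
  classical
  unfold kd
  -- restriction to the rows below `k`
  let R : ↥(LinearMap.ker ((modelMap (F := F) ν m) ^ k)) →ₗ[F]
      ({p : ↥(cells ν m) // p.1.1 < k} → F) :=
    { toFun := fun f q => (f : ↥(cells ν m) → F) q.1
      map_add' := fun f g => rfl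
      map_smul' := fun a f => rfl }
  have hinj : Function.Injective R := by
    intro f g hfg
    apply Subtype.ext
    funext p
    by_cases hp : p.1.1 < k
    · exact congrFun hfg ⟨p, hp⟩
    · rw [(mem_ker_modelMap_pow hν m k _).mp f.2 p (by omega),
        (mem_ker_modelMap_pow hν m k _).mp g.2 p (by omega)]
  have hsurj : Function.Surjective R := by
    intro g
    refine ⟨⟨fun p => if hp : p.1.1 < k then g ⟨p, hp⟩ else 0, ?_⟩, ?_⟩
    · rw [mem_ker_modelMap_pow hν]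
      intro p hp
      rw [dif_neg (by omega)]
    · funext q
      show (if hp : q.1.1.1 < k then g ⟨q.1, hp⟩ else 0) = g q
      rw [dif_pos q.2]
  have e := LinearEquiv.ofBijective R ⟨hinj, hsurj⟩
  have hmem : ∀ c : Σ _ : ℕ, ℕ, c ∈ cells ν (min k m) ↔ c ∈ cells ν m ∧ c.1 < k := by
    intro c
    rw [mem_cells, mem_cells, lt_min_iff]
    tauto
  let e' : {p : ↥(cells ν m) // p.1.1 < k} ≃ ↥(cells ν (min k m)) :=
    { toFun := fun q => ⟨q.1.1, (hmem _).mpr ⟨q.1.2, q.2⟩⟩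
      invFun := fun c => ⟨⟨c.1, ((hmem _).mp c.2).1⟩, ((hmem _).mp c.2).2⟩
      left_inv := fun q => rfl
      right_inv := fun c => rfl }
  rw [LinearEquiv.finrank_eq e, Module.finrank_fintype_fun_eq_card, Fintype.card_congr e',
    Fintype.card_coe, card_cells]

end Cfsg.Agent.Lib.Helper14
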