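import Mathlib

/-!
# Partitions and their conjugate row-length functions

For a multiset `s` of natural numbers, `nuOf s h` is the number of members exceeding `h` (the
length of row `h` of the conjugate diagram).  Conversely a non-increasing `ν` gives back a
multiset `colsOf ν n` with `nuOf (colsOf ν n) = ν`.
-/

set_option autoImplicit false

namespace Cfsg.Agent.Lib.Helper14

/-- The number of members of `s` exceeding `h`. -/
def nuOf (s : Multiset ℕ) (h : ℕ) : ℕ := Multiset.card (s.filter (fun a => h < a))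

theorem nuOf_cons (a : ℕ) (s : Multiset ℕ) (h : ℕ) :
    nuOf (a ::ₘ s) h = nuOf s h + (if h < a then 1 else 0) := by
  unfold nuOf
  by_cases ha : h < a
  · rw [Multiset.filter_cons_of_pos _ ha, Multiset.card_cons, if_pos ha]
  · rw [Multiset.filter_cons_of_neg _ ha, if_neg ha, add_zero]

theorem nuOf_succ_le (s : Multiset ℕ) (h : ℕ) : nuOf s (h + 1) ≤ nuOf s h := by
  unfold nuOf
  apply Multiset.card_le_card
  apply Multiset.monotone_filter_right
  intro a ha
  omega

theorem nuOf_eq_zero_iff (s : Multiset ℕ) (h : ℕ) : nuOf s h = 0 ↔ ∀ a ∈ s, a ≤ h := by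
  unfold nuOf
  rw [Multiset.card_eq_zero, Multiset.filter_eq_nil]
  simp only [not_lt]

theorem sum_nuOf (s : Multiset ℕ) (n : ℕ) (hs : ∀ a ∈ s, a ≤ n) :
    ∑ h ∈ Finset.range n, nuOf s h = s.sum := by
  induction s using Multiset.induction_on with
  | empty => simp [nuOf]
  | cons a s ih =>
    have ha : a ≤ n := hs a (Multiset.mem_cons_self a s)
    have hs' : ∀ b ∈ s, b ≤ n := fun b hb => hs b (Multiset.mem_cons_of_mem hb)
    simp only [nuOf_cons, Finset.sum_add_distrib, ih hs', Multiset.sum_cons]
    have h1 : ∑ h ∈ Finset.range n, (if h < a then 1 else 0) = a := by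
      rw [← Finset.card_filter]
      have : (Finset.range n).filter (fun h => h < a) = Finset.range a := by
        ext h
        simp only [Finset.mem_filter, Finset.mem_range]
        omega
      rw [this, Finset.card_range]
    rw [h1]
    ring

theorem nuOf_pred (s : Multiset ℕ) (a : ℕ) (ha : 1 ≤ a) :
    nuOf s (a - 1) = s.count a + nuOf s a := by
  induction s using Multiset.induction_on with
  | empty => simp [nuOf]
  | cons b s ih =>
    rw [nuOf_cons, nuOf_cons, Multiset.count_cons, ih]
    split_ifs <;> omega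

theorem eq_of_nuOf_eq (s t : Multiset ℕ) (hs : 0 ∉ s) (ht : 0 ∉ t)
    (h : ∀ k, nuOf s k = nuOf t k) : s = t := by
  ext a
  rcases Nat.eq_zero_or_pos a with rfl | ha
  · rw [Multiset.count_eq_zero_of_notMem hs, Multiset.count_eq_zero_of_notMem ht]
  · have h1 := nuOf_pred s a ha
    have h2 := nuOf_pred t a ha
    rw [h (a - 1), h a] at h1
    omega

/-- The column heights of the diagram with row lengths `ν` (rows `h < n`). -/
def colsOf (ν : ℕ → ℕ) (n : ℕ) : Multiset ℕ :=
  (Finset.range (ν 0)).val.map (fun j => ((Finset.range n).filter (fun h => j < ν h)).card)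

theorem card_filter_lt_iff {ν : ℕ → ℕ} (hν : ∀ h, ν (h + 1) ≤ ν h) {n : ℕ}
    (hn : ∀ h, n ≤ h → ν h = 0) (j k : ℕ) :
    k < ((Finset.range n).filter (fun h => j < ν h)).card ↔ j < ν k := by
  constructor
  · intro h
    by_contra hjk
    rw [not_lt] at hjk
    have hsub : (Finset.range n).filter (fun h => j < ν h) ⊆ Finset.range k := by
      intro x hx
      rw [Finset.mem_filter, Finset.mem_range] at hx
      rw [Finset.mem_range]
      by_contra hxk
      rw [not_lt] at hxk
      have := antitone_nat_of_succ_le hν hxk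
      omega
    have := Finset.card_le_card hsub
    rw [Finset.card_range] at this
    omega
  · intro h
    have hkn : k < n := by
      by_contra hkn
      rw [not_lt] at hkn
      rw [hn k hkn] at h
      omega
    have hsub : Finset.range (k + 1) ⊆ (Finset.range n).filter (fun h => j < ν h) := by
      intro x hx
      rw [Finset.mem_range] at hx
      rw [Finset.mem_filter, Finset.mem_range]
      exact ⟨by omega, lt_of_lt_of_le h (antitone_nat_of_succ_le hν (by omega))⟩
    have := Finset.card_le_card hsub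
    rw [Finset.card_range] at this
    omega

theorem nuOf_colsOf {ν : ℕ → ℕ} (hν : ∀ h, ν (h + 1) ≤ ν h) {n : ℕ}
    (hn : ∀ h, n ≤ h → ν h = 0) (k : ℕ) : nuOf (colsOf ν n) k = ν k := by
  unfold nuOf colsOf
  rw [Multiset.filter_map, Multiset.card_map, ← Finset.filter_val, ← Finset.card_def]
  have : (Finset.range (ν 0)).filter ((fun a => k < a) ∘
      fun j => ((Finset.range n).filter (fun h => j < ν h)).card) = Finset.range (ν k) := by
    ext j
    simp only [Finset.mem_filter, Finset.mem_range, Function.comp_apply]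
    rw [card_filter_lt_iff hν hn]
    have := antitone_nat_of_succ_le hν (Nat.zero_le k)
    omega
  rw [this, Finset.card_range]

theorem colsOf_pos {ν : ℕ → ℕ} (hν : ∀ h, ν (h + 1) ≤ ν h) {n : ℕ}
    (hn : ∀ h, n ≤ h → ν h = 0) {a : ℕ} (ha : a ∈ colsOf ν n) : 0 < a := by
  unfold colsOf at ha
  rw [Multiset.mem_map] at ha
  obtain ⟨j, hj, rfl⟩ := ha
  rw [Finset.mem_val, Finset.mem_range] at hj
  exact (card_filter_lt_iff hν hn j 0).mpr hj

theorem sum_colsOf {ν : ℕ → ℕ} (hν : ∀ h, ν (h + 1) ≤ ν h) (n : ℕ) :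
    (colsOf ν n).sum = ∑ h ∈ Finset.range n, ν h := by
  unfold colsOf
  have h1 : ((Finset.range (ν 0)).val.map
      (fun j => ((Finset.range n).filter (fun h => j < ν h)).card)).sum =
      ∑ j ∈ Finset.range (ν 0), ((Finset.range n).filter (fun h => j < ν h)).card := rfl
  rw [h1]
  simp only [Finset.card_filter]
  rw [Finset.sum_comm]
  apply Finset.sum_congr rfl
  intro h _
  rw [← Finset.card_filter]
  have : (Finset.range (ν 0)).filter (fun j => j < ν h) = Finset.range (ν h) := by
    ext j
    simp only [Finset.mem_filter, Finset.mem_range]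
    have := antitone_nat_of_succ_le hν (Nat.zero_le h)
    omega
  rw [this, Finset.card_range]

/-- The partition with conjugate row lengths `ν`. -/
def partOfNu (ν : ℕ → ℕ) (n : ℕ) (hν : ∀ h, ν (h + 1) ≤ ν h) (hn : ∀ h, n ≤ h → ν h = 0)
    (hsum : ∑ h ∈ Finset.range n, ν h = n) : Nat.Partition n where
  parts := colsOf ν n
  parts_pos := fun ha => colsOf_pos hν hn ha
  parts_sum := by rw [sum_colsOf hν, hsum]

theorem partOfNu_parts (ν : ℕ → ℕ) (n : ℕ) (hν : ∀ h, ν (h + 1) ≤ ν h)
    (hn : ∀ h, n ≤ h → ν h = 0) (hsum : ∑ h ∈ Finset.range n, ν h = n) :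
    (partOfNu ν n hν hn hsum).parts = colsOf ν n := rfl

/-- Facts about `nuOf` of a partition. -/
theorem part_le {n : ℕ} (μ : Nat.Partition n) {a : ℕ} (ha : a ∈ μ.parts) : a ≤ n := by
  have := Multiset.le_sum_of_mem ha
  rw [μ.parts_sum] at this
  exact this

theorem nuOf_partition_eq_zero {n : ℕ} (μ : Nat.Partition n) {h : ℕ} (hh : n ≤ h) :
    nuOf μ.parts h = 0 := by
  rw [nuOf_eq_zero_iff]
  intro a ha
  exact le_trans (part_le μ ha) hh

theorem sum_nuOf_partition {n : ℕ} (μ : Nat.Partition n) :
    ∑ h ∈ Finset.range n, nuOf μ.parts h = n := by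
  rw [sum_nuOf μ.parts n (fun a ha => part_le μ ha), μ.parts_sum]

theorem partition_ext_of_nuOf {n : ℕ} (μ μ' : Nat.Partition n)
    (h : ∀ k, nuOf μ.parts k = nuOf μ'.parts k) : μ = μ' := by
  apply Nat.Partition.ext
  apply eq_of_nuOf_eq _ _ _ _ h
  · intro h0
    exact lt_irrefl 0 (μ.parts_pos h0)
  · intro h0
    exact lt_irrefl 0 (μ'.parts_pos h0)

end Cfsg.Agent.Lib.Helper14
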