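import Mathlib
import Cfsg.Agent.Lib.Helper14.NilModel
import Cfsg.Agent.Lib.Helper14.NilPartition

/-!
# Unipotent conjugacy classes of `GL_n(F)` and partitions of `n`

`nilOf g = g - 1` as an endomorphism of `F^n`; unipotent elements are conjugate iff the kernel
dimensions of the powers of `g - 1` agree; `stdUnip μ` is a unipotent element with Jordan type the
partition `μ`; every unipotent element is conjugate to exactly one `stdUnip μ`.
-/

set_option autoImplicit false

namespace Cfsg.Agent.Lib.Helper14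

open Module Matrix

variable {F : Type*} [Field F] {n : ℕ}

/-- `g - 1` as an endomorphism of `F^n`. -/
noncomputable def nilOf (g : GL (Fin n) F) : (Fin n → F) →ₗ[F] (Fin n → F) :=
  Matrix.toLin' ((g : Matrix (Fin n) (Fin n) F) - 1)

theorem nilOf_pow_eq_zero_iff (g : GL (Fin n) F) (k : ℕ) :
    (nilOf g) ^ k = 0 ↔ ((g : Matrix (Fin n) (Fin n) F) - 1) ^ k = 0 := by
  unfold nilOf
  rw [← Matrix.toLin'_pow]
  exact LinearEquiv.map_eq_zero_iff _

theorem isNilpotent_nilOf_iff (g : GL (Fin n) F) :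
    IsNilpotent (nilOf g) ↔ IsNilpotent ((g : Matrix (Fin n) (Fin n) F) - 1) := by
  constructor
  · rintro ⟨k, hk⟩
    exact ⟨k, (nilOf_pow_eq_zero_iff g k).mp hk⟩
  · rintro ⟨k, hk⟩
    exact ⟨k, (nilOf_pow_eq_zero_iff g k).mpr hk⟩

theorem kd_eq_finrank_iff {V : Type*} [AddCommGroup V] [Module F V] [FiniteDimensional F V]
    (N : V →ₗ[F] V) (k : ℕ) : kd N k = finrank F V ↔ N ^ k = 0 := by
  constructor
  · intro h
    unfold kd at h
    exact LinearMap.ker_eq_top.mp (Submodule.eq_top_of_finrank_eq h)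
  · intro h
    exact kd_eq_finrank_of_pow_eq_zero N h le_rfl

/-- `(g - 1)^(p^k) = g^(p^k) - 1` in characteristic `p`. -/
theorem sub_one_pow_char_pow (p : ℕ) [Fact p.Prime] [CharP F p] (g : GL (Fin n) F) (k : ℕ) :
    ((g : Matrix (Fin n) (Fin n) F) - 1) ^ (p ^ k) =
      ((g ^ (p ^ k) : GL (Fin n) F) : Matrix (Fin n) (Fin n) F) - 1 := by
  rcases Nat.eq_zero_or_pos n with hn | hn
  · subst hn
    exact Subsingleton.elim _ _
  · have : Nonempty (Fin n) := ⟨⟨0, hn⟩⟩
    have : CharP (Matrix (Fin n) (Fin n) F) p := Matrix.charP p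
    rw [sub_pow_char_pow_of_commute p k (Commute.one_right _), one_pow, Units.val_pow_eq_pow_val]

/-- Elements of `p`-power order are the unipotent ones. -/
theorem orderOf_pow_iff_isNilpotent (p : ℕ) [Fact p.Prime] [CharP F p] (g : GL (Fin n) F) :
    (∃ k : ℕ, orderOf g = p ^ k) ↔ IsNilpotent (nilOf g) := by
  have hpp : p.Prime := Fact.out
  rw [isNilpotent_nilOf_iff]
  constructor
  · rintro ⟨k, hk⟩
    refine ⟨p ^ k, ?_⟩
    rw [sub_one_pow_char_pow, ← hk, pow_orderOf_eq_one, Units.val_one, sub_self]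
  · rintro ⟨m, hm⟩
    have hle : m ≤ p ^ m := (Nat.lt_pow_self hpp.one_lt).le
    have h0 : ((g : Matrix (Fin n) (Fin n) F) - 1) ^ (p ^ m) = 0 := by
      obtain ⟨c, hc⟩ := Nat.exists_eq_add_of_le hle
      rw [hc, pow_add, hm, zero_mul]
    rw [sub_one_pow_char_pow, sub_eq_zero] at h0
    have h1 : g ^ (p ^ m) = 1 := Units.ext h0
    obtain ⟨j, _, hj⟩ := (Nat.dvd_prime_pow hpp).mp (orderOf_dvd_of_pow_eq_one h1)
    exact ⟨j, hj⟩

/-- Conjugate elements have the same kernel dimensions. -/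
theorem kd_eq_of_isConj {g g' : GL (Fin n) F} (h : IsConj g g') (k : ℕ) :
    kd (nilOf g') k = kd (nilOf g) k := by
  obtain ⟨x, hx⟩ := isConj_iff.mp h
  have h1 : (x : Matrix (Fin n) (Fin n) F) * (x⁻¹ : GL (Fin n) F) = 1 := by
    rw [← Units.val_mul, mul_inv_cancel, Units.val_one]
  have h2 : ((x⁻¹ : GL (Fin n) F) : Matrix (Fin n) (Fin n) F) * x = 1 := by
    rw [← Units.val_mul, inv_mul_cancel, Units.val_one]
  let φ : (Fin n → F) ≃ₗ[F] (Fin n → F) := Matrix.toLin'OfInv h2 h1
  have hφ : ∀ v, φ v = Matrix.toLin' (x : Matrix (Fin n) (Fin n) F) v := fun v => rfl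
  apply kd_eq_of_equiv (nilOf g) (nilOf g') φ
  intro v
  rw [hφ, hφ]
  unfold nilOf
  rw [← Matrix.toLin'_mul_apply, ← Matrix.toLin'_mul_apply]
  congr 2
  have hxg : (x : Matrix (Fin n) (Fin n) F) * g = (g' : Matrix (Fin n) (Fin n) F) * x := by
    have : x * g = g' * x := by rw [← hx]; group
    have := congrArg (fun z : GL (Fin n) F => (z : Matrix (Fin n) (Fin n) F)) this
    simpa using this
  rw [mul_sub, sub_mul, hxg, mul_one, one_mul]

/-- Unipotent elements with the same kernel dimensions are conjugate. -/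
theorem isConj_of_kd_eq {g g' : GL (Fin n) F} (hg : IsNilpotent (nilOf g))
    (hg' : IsNilpotent (nilOf g')) (h : ∀ k, kd (nilOf g) k = kd (nilOf g') k) : IsConj g g' := by
  obtain ⟨φ, hφ⟩ := exists_equiv_of_kd_eq (nilOf g) (nilOf g') hg hg' h
  set X := LinearMap.toMatrix' (φ : (Fin n → F) →ₗ[F] (Fin n → F)) with hX
  set X' := LinearMap.toMatrix' (φ.symm : (Fin n → F) →ₗ[F] (Fin n → F)) with hX'
  have h1 : X * X' = 1 := by
    rw [hX, hX', ← LinearMap.toMatrix'_comp, ← LinearMap.toMatrix'_id]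
    congr 1
    ext v : 1
    simp
  have h2 : X' * X = 1 := by
    rw [hX, hX', ← LinearMap.toMatrix'_comp, ← LinearMap.toMatrix'_id]
    congr 1
    ext v : 1
    simp
  let x : GL (Fin n) F := ⟨X, X', h1, h2⟩
  have hcomp : (φ : (Fin n → F) →ₗ[F] (Fin n → F)).comp (nilOf g) =
      (nilOf g').comp (φ : (Fin n → F) →ₗ[F] (Fin n → F)) := by
    apply LinearMap.ext
    intro v
    exact hφ v
  have hmat : X * ((g : Matrix (Fin n) (Fin n) F) - 1) =
      ((g' : Matrix (Fin n) (Fin n) F) - 1) * X := by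
    have := congrArg LinearMap.toMatrix' hcomp
    rw [LinearMap.toMatrix'_comp, LinearMap.toMatrix'_comp] at this
    unfold nilOf at this
    rw [LinearMap.toMatrix'_toLin', LinearMap.toMatrix'_toLin'] at this
    exact this
  have hxg : X * (g : Matrix (Fin n) (Fin n) F) = (g' : Matrix (Fin n) (Fin n) F) * X := by
    rw [mul_sub, sub_mul, mul_one, one_mul] at hmat
    exact sub_left_injective hmat
  rw [isConj_iff]
  refine ⟨x, ?_⟩
  have : x * g = g' * x := Units.ext hxg
  rw [this, mul_inv_cancel_right]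

section std

variable (μ : Nat.Partition n)

theorem card_cells_partition :
    Fintype.card ↥(cells (nuOf μ.parts) n) = Fintype.card (Fin n) := by
  rw [Fintype.card_coe, card_cells, sum_nuOf_partition, Fintype.card_fin]

/-- The standard nilpotent endomorphism of `F^n` of type `μ`. -/
noncomputable def stdNil : (Fin n → F) →ₗ[F] (Fin n → F) :=
  (LinearEquiv.funCongrLeft F F
    (Fintype.equivOfCardEq (card_cells_partition μ)).symm).conj (modelMap (nuOf μ.parts) n)

theorem kd_stdNil (k : ℕ) :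
    kd (stdNil (F := F) μ) k = ∑ h ∈ Finset.range (min k n), nuOf μ.parts h := by
  rw [← kd_modelMap (F := F) (nuOf_succ_le μ.parts) n k]
  apply kd_eq_of_equiv (modelMap (nuOf μ.parts) n) (stdNil μ)
    (LinearEquiv.funCongrLeft F F (Fintype.equivOfCardEq (card_cells_partition μ)).symm)
  intro v
  unfold stdNil
  rw [LinearEquiv.conj_apply, LinearMap.comp_apply, LinearMap.comp_apply,
    LinearEquiv.coe_coe, LinearEquiv.coe_coe, LinearEquiv.symm_apply_apply]

theorem stdNil_pow_eq_zero : (stdNil (F := F) μ) ^ n = 0 := by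
  rw [← kd_eq_finrank_iff, kd_stdNil, min_self, sum_nuOf_partition, Module.finrank_fin_fun]

/-- The standard unipotent element of type `μ`. -/
noncomputable def stdUnip : GL (Fin n) F :=
  (IsNilpotent.isUnit_one_add (r := LinearMap.toMatrix' (stdNil (F := F) μ))
    ⟨n, by
      have h := stdNil_pow_eq_zero (F := F) μ
      have h2 : Matrix.toLin' ((LinearMap.toMatrix' (stdNil (F := F) μ)) ^ n) = 0 := by
        rw [Matrix.toLin'_pow, Matrix.toLin'_toMatrix', h]
      exact (LinearEquiv.map_eq_zero_iff _).mp h2⟩).unit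

theorem stdUnip_coe : ((stdUnip (F := F) μ : GL (Fin n) F) : Matrix (Fin n) (Fin n) F) =
    1 + LinearMap.toMatrix' (stdNil (F := F) μ) := rfl

theorem nilOf_stdUnip : nilOf (stdUnip (F := F) μ) = stdNil μ := by
  unfold nilOf
  rw [stdUnip_coe, add_sub_cancel_left, Matrix.toLin'_toMatrix']

theorem isNilpotent_nilOf_stdUnip : IsNilpotent (nilOf (stdUnip (F := F) μ)) := by
  rw [nilOf_stdUnip]
  exact ⟨n, stdNil_pow_eq_zero μ⟩

theorem kd_nilOf_stdUnip (k : ℕ) :
    kd (nilOf (stdUnip (F := F) μ)) k = ∑ h ∈ Finset.range (min k n), nuOf μ.parts h := by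
  rw [nilOf_stdUnip, kd_stdNil]

/-- `(stdUnip μ - 1)^k = 0` iff all parts of `μ` are at most `k`. -/
theorem stdUnip_pow_eq_zero_iff (k : ℕ) :
    (nilOf (stdUnip (F := F) μ)) ^ k = 0 ↔ ∀ a ∈ μ.parts, a ≤ k := by
  rw [← kd_eq_finrank_iff, kd_nilOf_stdUnip, Module.finrank_fin_fun, ← nuOf_eq_zero_iff]
  have hsum := sum_nuOf_partition μ
  have hsplit := Finset.sum_range_add_sum_Ico (fun h => nuOf μ.parts h) (min_le_right k n)
  constructor
  · intro h
    by_cases hk : k < n
    · have h0 : ∑ h ∈ Finset.Ico (min k n) n, nuOf μ.parts h = 0 := by omega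
      rw [Finset.sum_eq_zero_iff] at h0
      apply h0
      rw [Finset.mem_Ico]
      exact ⟨min_le_left _ _, hk⟩
    · exact nuOf_partition_eq_zero μ (by omega)
  · intro h
    have h0 : ∑ h ∈ Finset.Ico (min k n) n, nuOf μ.parts h = 0 := by
      apply Finset.sum_eq_zero
      intro x hx
      rw [Finset.mem_Ico] at hx
      by_cases hk : k ≤ n
      · rw [min_eq_left hk] at hx
        have := antitone_nat_of_succ_le (nuOf_succ_le μ.parts) hx.1
        omega
      · rw [min_eq_right (by omega)] at hx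
        omega
    omega

end std

/-- Injectivity of `μ ↦ class of stdUnip μ`. -/
theorem stdUnip_injective {μ μ' : Nat.Partition n}
    (h : IsConj (stdUnip (F := F) μ) (stdUnip (F := F) μ')) : μ = μ' := by
  apply partition_ext_of_nuOf
  intro k
  by_cases hk : k < n
  · have h1 := kd_eq_of_isConj h (k + 1)
    have h2 := kd_eq_of_isConj h k
    rw [kd_nilOf_stdUnip, kd_nilOf_stdUnip, min_eq_left (by omega),
      Finset.sum_range_succ, Finset.sum_range_succ] at h1
    rw [kd_nilOf_stdUnip, kd_nilOf_stdUnip, min_eq_left (by omega)] at h2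
    omega
  · rw [nuOf_partition_eq_zero μ (by omega), nuOf_partition_eq_zero μ' (by omega)]

/-- Every unipotent element is conjugate to some `stdUnip μ`. -/
theorem exists_isConj_stdUnip (g : GL (Fin n) F) (hg : IsNilpotent (nilOf g)) :
    ∃ μ : Nat.Partition n, IsConj (stdUnip (F := F) μ) g := by
  have hfin : finrank F (Fin n → F) = n := Module.finrank_fin_fun F
  have hpow : (nilOf g) ^ n = 0 := by
    obtain ⟨m, hm⟩ := hg
    have := pow_finrank_eq_zero (nilOf g) hm
    rwa [hfin] at this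
  have hν := nu_antitone (nilOf g) hg
  have hkd : ∀ k, n ≤ k → kd (nilOf g) k = n := by
    intro k hk
    rw [kd_eq_finrank_of_pow_eq_zero (nilOf g) hpow hk, hfin]
  have hn : ∀ h, n ≤ h → nu (nilOf g) h = 0 := by
    intro h hh
    unfold nu
    rw [hkd h hh, hkd (h + 1) (by omega)]
    omega
  have hsum : ∑ h ∈ Finset.range n, nu (nilOf g) h = n := by
    rw [sum_nu, hkd n le_rfl]
  refine ⟨partOfNu (nu (nilOf g)) n hν hn hsum, ?_⟩
  apply isConj_of_kd_eq (isNilpotent_nilOf_stdUnip _) hg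
  intro k
  rw [kd_nilOf_stdUnip, partOfNu_parts]
  simp only [nuOf_colsOf hν hn]
  rw [sum_nu]
  by_cases hk : k ≤ n
  · rw [min_eq_left hk]
  · rw [min_eq_right (by omega), hkd n le_rfl, hkd k (by omega)]

end Cfsg.Agent.Lib.Helper14
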