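import Mathlib
import Cfsg.Agent.Lib.Helper14.UnipClasses

/-!
# Jordan types of restrictions to invariant complementary subspaces

`kd` is additive over a decomposition into two invariant complementary subspaces; every nilpotent
endomorphism has a partition as its Jordan type; the Jordan type of `stdUnip μ` is `μ`.
-/

set_option autoImplicit false

namespace Cfsg.Agent.Lib.Helper14

open Module

variable {F : Type*} [Field F] {V : Type*} [AddCommGroup V] [Module F V]

theorem restrict_pow_apply (N : V →ₗ[F] V) {U : Submodule F V} (hU : ∀ x ∈ U, N x ∈ U)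
    (k : ℕ) (u : U) : (((N.restrict hU) ^ k) u : V) = (N ^ k) (u : V) := by
  induction k generalizing u with
  | zero => simp
  | succ k ih =>
    rw [pow_succ', Module.End.mul_apply, LinearMap.coe_restrict_apply, ih, pow_succ',
      Module.End.mul_apply]

theorem pow_mem_of_forall_mem (N : V →ₗ[F] V) {U : Submodule F V} (hU : ∀ x ∈ U, N x ∈ U)
    (k : ℕ) {x : V} (hx : x ∈ U) : (N ^ k) x ∈ U := by
  have := ((N.restrict hU) ^ k) ⟨x, hx⟩
  rw [← show (((N.restrict hU) ^ k) ⟨x, hx⟩ : V) = (N ^ k) x from restrict_pow_apply N hU k ⟨x, hx⟩]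
  exact Subtype.coe_prop _

/-- The kernel dimensions of a restriction. -/
theorem kd_restrict [FiniteDimensional F V] (N : V →ₗ[F] V) {U : Submodule F V}
    (hU : ∀ x ∈ U, N x ∈ U) (k : ℕ) :
    kd (N.restrict hU) k = finrank F ↥(LinearMap.ker (N ^ k) ⊓ U) := by
  unfold kd
  have h1 : LinearMap.ker ((N.restrict hU) ^ k) =
      (LinearMap.ker (N ^ k) ⊓ U).comap U.subtype := by
    ext u
    rw [LinearMap.mem_ker, Submodule.mem_comap, Submodule.mem_inf, LinearMap.mem_ker]
    constructor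
    · intro h
      refine ⟨?_, u.2⟩
      show (N ^ k) (u : V) = 0
      rw [← restrict_pow_apply N hU k u, h]
      rfl
    · rintro ⟨h, -⟩
      apply Subtype.ext
      rw [restrict_pow_apply]
      exact h
  rw [h1, LinearEquiv.finrank_eq (Submodule.comapSubtypeEquivOfLe inf_le_right)]

/-- `kd` is additive over complementary invariant subspaces. -/
theorem kd_of_isCompl [FiniteDimensional F V] (N : V →ₗ[F] V) {U W : Submodule F V}
    (hUW : IsCompl U W) (hU : ∀ x ∈ U, N x ∈ U) (hW : ∀ x ∈ W, N x ∈ W) (k : ℕ) :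
    kd N k = kd (N.restrict hU) k + kd (N.restrict hW) k := by
  rw [kd_restrict, kd_restrict]
  set K := LinearMap.ker (N ^ k) with hK
  have hsup : (K ⊓ U) ⊔ (K ⊓ W) = K := by
    apply le_antisymm
    · exact sup_le inf_le_left inf_le_left
    · intro v hv
      have hv' : v ∈ U ⊔ W := by rw [hUW.sup_eq_top]; exact Submodule.mem_top
      obtain ⟨u, hu, w, hw, rfl⟩ := Submodule.mem_sup.mp hv'
      have h0 : (N ^ k) u + (N ^ k) w = 0 := by
        rw [← map_add]
        exact LinearMap.mem_ker.mp hv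
      have hu' : (N ^ k) u ∈ U := pow_mem_of_forall_mem N hU k hu
      have hw' : (N ^ k) w ∈ W := pow_mem_of_forall_mem N hW k hw
      have h1 : (N ^ k) u = -(N ^ k) w := eq_neg_of_add_eq_zero_left h0
      have h2 : (N ^ k) u ∈ U ⊓ W := ⟨hu', by rw [h1]; exact W.neg_mem hw'⟩
      rw [hUW.inf_eq_bot, Submodule.mem_bot] at h2
      have h3 : (N ^ k) w = 0 := by rw [h2, zero_add] at h0; exact h0
      exact Submodule.add_mem_sup ⟨LinearMap.mem_ker.mpr h2, hu⟩ ⟨LinearMap.mem_ker.mpr h3, hw⟩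
  have hinf : (K ⊓ U) ⊓ (K ⊓ W) = ⊥ := by
    rw [eq_bot_iff]
    intro v hv
    have : v ∈ U ⊓ W := ⟨hv.1.2, hv.2.2⟩
    rwa [hUW.inf_eq_bot] at this
  have h := Submodule.finrank_sup_add_finrank_inf_eq (K ⊓ U) (K ⊓ W)
  rw [hsup, hinf, finrank_bot, add_zero] at h
  unfold kd
  exact h

theorem nu_of_isCompl [FiniteDimensional F V] (N : V →ₗ[F] V) {U W : Submodule F V}
    (hUW : IsCompl U W) (hU : ∀ x ∈ U, N x ∈ U) (hW : ∀ x ∈ W, N x ∈ W) (h : ℕ) :
    nu N h = nu (N.restrict hU) h + nu (N.restrict hW) h := by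
  unfold nu
  rw [kd_of_isCompl N hUW hU hW, kd_of_isCompl N hUW hU hW]
  have h1 := kd_le_succ (N.restrict hU) h
  have h2 := kd_le_succ (N.restrict hW) h
  omega

theorem isNilpotent_restrict (N : V →ₗ[F] V) {U : Submodule F V} (hU : ∀ x ∈ U, N x ∈ U)
    (hN : IsNilpotent N) : IsNilpotent (N.restrict hU) := by
  obtain ⟨m, hm⟩ := hN
  refine ⟨m, ?_⟩
  ext u
  rw [restrict_pow_apply, hm]
  rfl

/-- The Jordan type of a nilpotent endomorphism. -/
theorem exists_partition_of_isNilpotent [FiniteDimensional F V] (N : V →ₗ[F] V)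
    (hN : IsNilpotent N) :
    ∃ μ : Nat.Partition (finrank F V), ∀ h, nuOf μ.parts h = nu N h := by
  set n := finrank F V with hn
  have hpow : N ^ n = 0 := by
    obtain ⟨m, hm⟩ := hN
    exact pow_finrank_eq_zero N hm
  have hν := nu_antitone N hN
  have hkd : ∀ k, n ≤ k → kd N k = n := by
    intro k hk
    rw [kd_eq_finrank_of_pow_eq_zero N hpow hk]
  have hz : ∀ h, n ≤ h → nu N h = 0 := by
    intro h hh
    unfold nu
    rw [hkd h hh, hkd (h + 1) (by omega)]
    omega
  have hsum : ∑ h ∈ Finset.range n, nu N h = n := by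
    rw [sum_nu, hkd n le_rfl]
  refine ⟨partOfNu (nu N) n hν hz hsum, ?_⟩
  intro h
  rw [partOfNu_parts, nuOf_colsOf hν hz]

theorem nuOf_add (s t : Multiset ℕ) (h : ℕ) : nuOf (s + t) h = nuOf s h + nuOf t h := by
  unfold nuOf
  rw [Multiset.filter_add, Multiset.card_add]

/-- The Jordan type of `stdUnip μ` is `μ`. -/
theorem nu_nilOf_stdUnip {n : ℕ} (μ : Nat.Partition n) (h : ℕ) :
    nu (nilOf (stdUnip (F := F) μ)) h = nuOf μ.parts h := by
  unfold nu
  rw [kd_nilOf_stdUnip, kd_nilOf_stdUnip]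
  by_cases hh : h < n
  · rw [min_eq_left (by omega), min_eq_left (by omega), Finset.sum_range_succ]
    omega
  · rw [min_eq_right (by omega), min_eq_right (by omega), nuOf_partition_eq_zero μ (by omega)]
    omega

end Cfsg.Agent.Lib.Helper14
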