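import Mathlib
set_option autoImplicit false
namespace Cfsg.Agent.Lib.Helper14
open Matrix

/-!
# Homomorphisms into symplectic groups

* `glToSp : GL l F →* Sp_{2l}(F)`, `g ↦ diag(g, g⁻ᵀ)`;
* `spReindex : Sp_{2l}(F) ≃* Sp_{2l'}(F)` for `l ≃ l'`;
* `spBlockDiag : (o → Sp_{2m}(F)) →* Sp_{2(m × o)}(F)`;
* `spSumLeft : Sp_{2l₁}(F) →* Sp_{2(l₁ ⊕ l₂)}(F)`.
-/

section
variable {F : Type*} [CommRing F]
variable {l : Type*} [Fintype l] [DecidableEq l]
variable {l' : Type*} [Fintype l'] [DecidableEq l']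

theorem mem_symplectic_of_reindex (e : l ≃ l') (A : Matrix (l ⊕ l) (l ⊕ l) F)
    (hA : A ∈ symplecticGroup l F) :
    reindex (e.sumCongr e) (e.sumCongr e) A ∈ symplecticGroup l' F := by
  rw [SymplecticGroup.mem_iff] at hA ⊢
  have hJ : J l' F = reindex (e.sumCongr e) (e.sumCongr e) (J l F) := by
    ext (i | i) (j | j) <;> simp [J, Matrix.one_apply, Matrix.neg_apply]
  rw [hJ, transpose_reindex]
  simp only [reindex_apply, submatrix_mul_equiv, hA]

/-- Reindexing isomorphism of symplectic groups. -/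
def spReindex (e : l ≃ l') : symplecticGroup l F ≃* symplecticGroup l' F where
  toFun A := ⟨reindex (e.sumCongr e) (e.sumCongr e) A.1, mem_symplectic_of_reindex e A.1 A.2⟩
  invFun A := ⟨reindex (e.symm.sumCongr e.symm) (e.symm.sumCongr e.symm) A.1,
    mem_symplectic_of_reindex e.symm A.1 A.2⟩
  left_inv A := by
    apply Subtype.ext
    ext i j
    simp
  right_inv A := by
    apply Subtype.ext
    ext i j
    simp
  map_mul' A B := by
    apply Subtype.ext
    show reindex (e.sumCongr e) (e.sumCongr e) (A.1 * B.1) =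
      reindex (e.sumCongr e) (e.sumCongr e) A.1 * reindex (e.sumCongr e) (e.sumCongr e) B.1
    simp only [reindex_apply, submatrix_mul_equiv]

end

section gl
variable {F : Type*} [CommRing F]
variable {l : Type*} [Fintype l] [DecidableEq l]

theorem glMat_mem (g : GL l F) :
    fromBlocks (g : Matrix l l F) 0 0 ((g⁻¹ : GL l F) : Matrix l l F)ᵀ ∈ symplecticGroup l F := by
  rw [SymplecticGroup.fromBlocks_mem_iff]
  refine ⟨by simp, by simp, ?_⟩
  rw [transpose_zero, zero_mul, sub_zero, ← transpose_mul, ← Units.val_mul, inv_mul_cancel,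
    Units.val_one, transpose_one]

/-- The embedding `GL_l(F) →* Sp_{2l}(F)`, `g ↦ diag(g, g⁻ᵀ)`. -/
def glToSp : GL l F →* symplecticGroup l F where
  toFun g := ⟨fromBlocks (g : Matrix l l F) 0 0 ((g⁻¹ : GL l F) : Matrix l l F)ᵀ, glMat_mem g⟩
  map_one' := by
    apply Subtype.ext
    show fromBlocks ((1 : GL l F) : Matrix l l F) 0 0 (((1 : GL l F)⁻¹ : GL l F) : Matrix l l F)ᵀ = 1
    rw [inv_one, Units.val_one, transpose_one, fromBlocks_one]
  map_mul' g h := by
    apply Subtype.ext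
    show fromBlocks ((g * h : GL l F) : Matrix l l F) 0 0
        (((g * h)⁻¹ : GL l F) : Matrix l l F)ᵀ =
      fromBlocks (g : Matrix l l F) 0 0 ((g⁻¹ : GL l F) : Matrix l l F)ᵀ *
        fromBlocks (h : Matrix l l F) 0 0 ((h⁻¹ : GL l F) : Matrix l l F)ᵀ
    rw [fromBlocks_multiply, _root_.mul_inv_rev, Units.val_mul, Units.val_mul, transpose_mul]
    simp

theorem glToSp_injective : Function.Injective (glToSp (F := F) (l := l)) := by
  intro g h hgh
  have h1 := congrArg Subtype.val hgh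
  have h2 : fromBlocks (g : Matrix l l F) 0 0 ((g⁻¹ : GL l F) : Matrix l l F)ᵀ =
      fromBlocks (h : Matrix l l F) 0 0 ((h⁻¹ : GL l F) : Matrix l l F)ᵀ := h1
  rw [fromBlocks_inj] at h2
  exact Units.ext h2.1

end gl

section blocks
variable {F : Type*} [CommRing F]
variable {m : Type*} [Fintype m] [DecidableEq m]
variable {o : Type*} [Fintype o] [DecidableEq o]

theorem J_blockDiagonal :
    reindex (Equiv.sumProdDistrib m m o) (Equiv.sumProdDistrib m m o)
      (blockDiagonal fun _ : o => J m F) = J (m × o) F := by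
  ext (⟨i, a⟩ | ⟨i, a⟩) (⟨j, b⟩ | ⟨j, b⟩) <;>
    simp [J, blockDiagonal_apply, Matrix.one_apply, Prod.ext_iff, and_comm]
  all_goals
    by_cases hab : a = b <;> by_cases hij : i = j <;> simp [hab, hij]

theorem blockDiag_mem (M : o → symplecticGroup m F) :
    reindex (Equiv.sumProdDistrib m m o) (Equiv.sumProdDistrib m m o)
      (blockDiagonal fun i => (M i).1) ∈ symplecticGroup (m × o) F := by
  rw [SymplecticGroup.mem_iff, ← J_blockDiagonal, transpose_reindex]
  simp only [reindex_apply, submatrix_mul_equiv, blockDiagonal_transpose, ← blockDiagonal_mul]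
  congr 2
  funext i
  exact SymplecticGroup.mem_iff.mp (M i).2

/-- Block-diagonal embedding of a power of a symplectic group. -/
def spBlockDiag : (o → symplecticGroup m F) →* symplecticGroup (m × o) F where
  toFun M := ⟨reindex (Equiv.sumProdDistrib m m o) (Equiv.sumProdDistrib m m o)
    (blockDiagonal fun i => (M i).1), blockDiag_mem M⟩
  map_one' := by
    apply Subtype.ext
    show reindex (Equiv.sumProdDistrib m m o) (Equiv.sumProdDistrib m m o)
      (blockDiagonal fun i => ((1 : o → symplecticGroup m F) i).1) = 1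
    have : (fun i => ((1 : o → symplecticGroup m F) i).1) = (1 : o → Matrix (m ⊕ m) (m ⊕ m) F) := by
      funext i
      rfl
    rw [this, blockDiagonal_one]
    simp
  map_mul' M N := by
    apply Subtype.ext
    show reindex (Equiv.sumProdDistrib m m o) (Equiv.sumProdDistrib m m o)
      (blockDiagonal fun i => ((M * N) i).1) =
      reindex (Equiv.sumProdDistrib m m o) (Equiv.sumProdDistrib m m o)
        (blockDiagonal fun i => (M i).1) *
      reindex (Equiv.sumProdDistrib m m o) (Equiv.sumProdDistrib m m o)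
        (blockDiagonal fun i => (N i).1)
    have : (fun i => ((M * N) i).1) = fun i => (M i).1 * (N i).1 := by
      funext i
      rfl
    rw [this, blockDiagonal_mul]
    simp only [reindex_apply, submatrix_mul_equiv]

theorem spBlockDiag_injective : Function.Injective (spBlockDiag (F := F) (m := m) (o := o)) := by
  intro M N h
  have h1 := congrArg Subtype.val h
  have h2 : reindex (Equiv.sumProdDistrib m m o) (Equiv.sumProdDistrib m m o)
      (blockDiagonal fun i => (M i).1) =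
    reindex (Equiv.sumProdDistrib m m o) (Equiv.sumProdDistrib m m o)
      (blockDiagonal fun i => (N i).1) := h1
  have h3 := blockDiagonal_injective ((reindex _ _).injective h2)
  funext i
  exact Subtype.ext (congrFun h3 i)

end blocks

section sum
variable {F : Type*} [CommRing F]
variable {l₁ : Type*} [Fintype l₁] [DecidableEq l₁]
variable {l₂ : Type*} [Fintype l₂] [DecidableEq l₂]

theorem J_sum :
    reindex (Equiv.sumSumSumComm l₁ l₁ l₂ l₂) (Equiv.sumSumSumComm l₁ l₁ l₂ l₂)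
      (fromBlocks (J l₁ F) 0 0 (J l₂ F)) = J (l₁ ⊕ l₂) F := by
  ext ((i | i) | (i | i)) ((j | j) | (j | j)) <;> simp [J, Matrix.one_apply]

theorem sumLeft_mem (M : symplecticGroup l₁ F) :
    reindex (Equiv.sumSumSumComm l₁ l₁ l₂ l₂) (Equiv.sumSumSumComm l₁ l₁ l₂ l₂)
      (fromBlocks M.1 0 0 (1 : Matrix (l₂ ⊕ l₂) (l₂ ⊕ l₂) F)) ∈ symplecticGroup (l₁ ⊕ l₂) F := by
  rw [SymplecticGroup.mem_iff, ← J_sum, transpose_reindex]
  simp only [reindex_apply, submatrix_mul_equiv, fromBlocks_transpose, fromBlocks_multiply]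
  congr 1
  have h1 := SymplecticGroup.mem_iff.mp M.2
  simp [h1]

/-- Extension by the identity: `Sp_{2l₁}(F) →* Sp_{2(l₁ ⊕ l₂)}(F)`. -/
def spSumLeft : symplecticGroup l₁ F →* symplecticGroup (l₁ ⊕ l₂) F where
  toFun M := ⟨reindex (Equiv.sumSumSumComm l₁ l₁ l₂ l₂) (Equiv.sumSumSumComm l₁ l₁ l₂ l₂)
      (fromBlocks M.1 0 0 (1 : Matrix (l₂ ⊕ l₂) (l₂ ⊕ l₂) F)), sumLeft_mem M⟩
  map_one' := by
    apply Subtype.ext
    show reindex (Equiv.sumSumSumComm l₁ l₁ l₂ l₂) (Equiv.sumSumSumComm l₁ l₁ l₂ l₂)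
      (fromBlocks (1 : Matrix (l₁ ⊕ l₁) (l₁ ⊕ l₁) F) 0 0
        (1 : Matrix (l₂ ⊕ l₂) (l₂ ⊕ l₂) F)) = 1
    rw [fromBlocks_one]
    simp
  map_mul' M N := by
    apply Subtype.ext
    show reindex (Equiv.sumSumSumComm l₁ l₁ l₂ l₂) (Equiv.sumSumSumComm l₁ l₁ l₂ l₂)
      (fromBlocks (M.1 * N.1) 0 0 (1 : Matrix (l₂ ⊕ l₂) (l₂ ⊕ l₂) F)) =
      reindex (Equiv.sumSumSumComm l₁ l₁ l₂ l₂) (Equiv.sumSumSumComm l₁ l₁ l₂ l₂)
        (fromBlocks M.1 0 0 (1 : Matrix (l₂ ⊕ l₂) (l₂ ⊕ l₂) F)) *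
      reindex (Equiv.sumSumSumComm l₁ l₁ l₂ l₂) (Equiv.sumSumSumComm l₁ l₁ l₂ l₂)
        (fromBlocks N.1 0 0 (1 : Matrix (l₂ ⊕ l₂) (l₂ ⊕ l₂) F))
    have : fromBlocks (M.1 * N.1) 0 0 (1 : Matrix (l₂ ⊕ l₂) (l₂ ⊕ l₂) F) =
        fromBlocks M.1 0 0 1 * fromBlocks N.1 0 0 1 := by
      rw [fromBlocks_multiply]
      simp
    rw [this]
    simp only [reindex_apply, submatrix_mul_equiv]

theorem spSumLeft_injective : Function.Injective (spSumLeft (F := F) (l₁ := l₁) (l₂ := l₂)) := by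
  intro M N h
  have h1 := congrArg Subtype.val h
  have h2 : reindex (Equiv.sumSumSumComm l₁ l₁ l₂ l₂) (Equiv.sumSumSumComm l₁ l₁ l₂ l₂)
      (fromBlocks M.1 0 0 (1 : Matrix (l₂ ⊕ l₂) (l₂ ⊕ l₂) F)) =
    reindex (Equiv.sumSumSumComm l₁ l₁ l₂ l₂) (Equiv.sumSumSumComm l₁ l₁ l₂ l₂)
      (fromBlocks N.1 0 0 (1 : Matrix (l₂ ⊕ l₂) (l₂ ⊕ l₂) F)) := h1
  have h3 := (reindex _ _).injective h2
  rw [fromBlocks_inj] at h3
  exact Subtype.ext h3.1

end sum

end Cfsg.Agent.Lib.Helper14
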