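import Mathlib
import Cfsg.Agent.Lib.Helper9.SpGenD
import Cfsg.Agent.Lib.Helper14.SpBlocks

/-!
# Regular unipotent elements of the symplectic group: core definitions

`Amat m F` is the lower unitriangular Jordan block (`A e_i = e_i + e_{i+1}`), `dA` its image
`diag(A, A⁻ᵀ)` in the symplectic group, `uh s = dA * T (e 0) s` a regular unipotent element,
`Jg` the standard element `J`, `ulow s = Jg * uh s * Jg⁻¹` the opposite regular unipotent.
-/

set_option autoImplicit false

namespace Cfsg.Agent.Lib.Helper14.RU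

open Matrix Cfsg.Agent.Lib.Helper6 Cfsg.Agent.Lib.Helper9.SpGen Cfsg.Agent.Lib.Helper14

section amat
variable (m : ℕ) (F : Type*) [Field F]

/-- the lower unitriangular Jordan block: `A e_i = e_i + e_{i+1}` -/
def Amat : Matrix (Fin m) (Fin m) F :=
  Matrix.of fun i j => if i = j then 1 else if i.val = j.val + 1 then 1 else 0

theorem Amat_apply (i j : Fin m) :
    Amat m F i j = if i = j then 1 else if i.val = j.val + 1 then 1 else 0 := rfl

theorem Amat_blockTriangular : (Amat m F).BlockTriangular OrderDual.toDual := by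
  intro i j hij
  have hlt : i < j := hij
  rw [Amat_apply, if_neg (ne_of_lt hlt), if_neg]
  have : i.val < j.val := hlt
  omega

theorem det_Amat : (Amat m F).det = 1 := by
  rw [Matrix.det_of_isLowerTriangular _ (Amat_blockTriangular m F)]
  apply Finset.prod_eq_one
  intro i _
  rw [Amat_apply, if_pos rfl]

/-- the Jordan block as an element of the general linear group -/
noncomputable def Agl : GL (Fin m) F :=
  Matrix.GeneralLinearGroup.mkOfDetNeZero (Amat m F) (by rw [det_Amat]; exact one_ne_zero)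

theorem Agl_val : ((Agl m F : GL (Fin m) F) : Matrix (Fin m) (Fin m) F) = Amat m F := rfl

variable {m F}

theorem Amat_mulVec (x : Fin m → F) (i : Fin m) :
    (Amat m F *ᵥ x) i =
      x i + (if h : 0 < i.val then x ⟨i.val - 1, by have := i.isLt; omega⟩ else 0) := by
  rw [Matrix.mulVec, dotProduct]
  by_cases h : 0 < i.val
  · rw [dif_pos h]
    have hne : (⟨i.val - 1, by have := i.isLt; omega⟩ : Fin m) ≠ i := by
      intro hh
      have := congrArg Fin.val hh
      simp only at this
      omega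
    rw [Finset.sum_eq_add_of_mem i ⟨i.val - 1, by have := i.isLt; omega⟩ (Finset.mem_univ _)
      (Finset.mem_univ _) hne.symm]
    · rw [Amat_apply, if_pos rfl, one_mul, Amat_apply, if_neg hne.symm, if_pos (by simp only; omega),
        one_mul]
    · intro c _ hc
      rw [Amat_apply, if_neg (fun hh => hc.1 hh.symm), if_neg, zero_mul]
      intro hh
      apply hc.2
      apply Fin.ext
      simp only
      omega
  · rw [dif_neg h, add_zero]
    rw [Finset.sum_eq_single i]
    · rw [Amat_apply, if_pos rfl, one_mul]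
    · intro c _ hc
      rw [Amat_apply, if_neg (fun hh => hc hh.symm), if_neg (by omega), zero_mul]
    · intro hh
      exact absurd (Finset.mem_univ _) hh

theorem vecMul_Amat (x : Fin m → F) (j : Fin m) :
    (x ᵥ* Amat m F) j = x j + (if h : j.val + 1 < m then x ⟨j.val + 1, h⟩ else 0) := by
  rw [Matrix.vecMul, dotProduct]
  by_cases h : j.val + 1 < m
  · rw [dif_pos h]
    have hne : (⟨j.val + 1, h⟩ : Fin m) ≠ j := by
      intro hh
      have := congrArg Fin.val hh
      simp only at this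
      omega
    rw [Finset.sum_eq_add_of_mem j ⟨j.val + 1, h⟩ (Finset.mem_univ _) (Finset.mem_univ _) hne.symm]
    · rw [Amat_apply, if_pos rfl, mul_one, Amat_apply, if_neg hne, if_pos rfl, mul_one]
    · intro c _ hc
      rw [Amat_apply, if_neg hc.1, if_neg, mul_zero]
      intro hh
      apply hc.2
      apply Fin.ext
      simp only
      omega
  · rw [dif_neg h, add_zero]
    rw [Finset.sum_eq_single j]
    · rw [Amat_apply, if_pos rfl, mul_one]
    · intro c _ hc
      rw [Amat_apply, if_neg hc, if_neg, mul_zero]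
      intro hh
      have := c.isLt
      omega
    · intro hh
      exact absurd (Finset.mem_univ _) hh

end amat

section gl
variable {m : ℕ} {F : Type*} [Field F]

local notation "VV" => (Fin m ⊕ Fin m → F)
local notation "GG" => Matrix.symplecticGroup (Fin m) F

/-- action of `diag(g, g⁻ᵀ)` on the `inl` coordinates -/
theorem act_glToSp_inl (g : GL (Fin m) F) (x : VV) (i : Fin m) :
    act (glToSp g) x (Sum.inl i) = ((g : Matrix (Fin m) (Fin m) F) *ᵥ (fun j => x (Sum.inl j))) i := by
  show ((fromBlocks (g : Matrix (Fin m) (Fin m) F) 0 0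
    ((g⁻¹ : GL (Fin m) F) : Matrix (Fin m) (Fin m) F)ᵀ) *ᵥ x) (Sum.inl i) = _
  simp [Matrix.mulVec, dotProduct, Fintype.sum_sum_type, Matrix.fromBlocks_apply₁₁,
    Matrix.fromBlocks_apply₁₂]

/-- action of `diag(g, g⁻ᵀ)` on the `inr` coordinates -/
theorem act_glToSp_inr (g : GL (Fin m) F) (x : VV) (i : Fin m) :
    act (glToSp g) x (Sum.inr i) =
      ((fun j => x (Sum.inr j)) ᵥ* ((g⁻¹ : GL (Fin m) F) : Matrix (Fin m) (Fin m) F)) i := by
  show ((fromBlocks (g : Matrix (Fin m) (Fin m) F) 0 0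
    ((g⁻¹ : GL (Fin m) F) : Matrix (Fin m) (Fin m) F)ᵀ) *ᵥ x) (Sum.inr i) = _
  simp [Matrix.mulVec, Matrix.vecMul, dotProduct, Fintype.sum_sum_type, Matrix.fromBlocks_apply₂₁,
    Matrix.fromBlocks_apply₂₂, Matrix.transpose_apply, mul_comm]

/-- action of the inverse of `diag(g, g⁻ᵀ)` on the `inr` coordinates -/
theorem act_glToSp_inv_inr (g : GL (Fin m) F) (x : VV) (i : Fin m) :
    act (glToSp g)⁻¹ x (Sum.inr i) =
      ((fun j => x (Sum.inr j)) ᵥ* (g : Matrix (Fin m) (Fin m) F)) i := by
  rw [← map_inv, act_glToSp_inr, inv_inv]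

end gl

section core
variable {k : ℕ} {F : Type*} [Field F]

local notation "ff" => Cfsg.sympForm (k + 2) F
local notation "VV" => (Fin (k + 2) ⊕ Fin (k + 2) → F)
local notation "GG" => Matrix.symplecticGroup (Fin (k + 2)) F

variable (k F) in
/-- `diag(A, A⁻ᵀ)` -/
noncomputable def dA : GG := glToSp (Agl (k + 2) F)

theorem act_dA_inl (x : VV) (i : Fin (k + 2)) :
    act (dA k F) x (Sum.inl i) =
      x (Sum.inl i) + (if h : 0 < i.val then x (Sum.inl ⟨i.val - 1, by have := i.isLt; omega⟩) else 0) := by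
  unfold dA
  rw [act_glToSp_inl, Agl_val, Amat_mulVec]

theorem act_dA_inv_inr (x : VV) (i : Fin (k + 2)) :
    act (dA k F)⁻¹ x (Sum.inr i) =
      x (Sum.inr i) + (if h : i.val + 1 < k + 2 then x (Sum.inr ⟨i.val + 1, h⟩) else 0) := by
  unfold dA
  rw [act_glToSp_inv_inr, Agl_val, vecMul_Amat]

/-- `dA` does not mix the two halves: the `inl` coordinates of the image depend only on the
`inl` coordinates -/
theorem act_dA_inr_of_inr_zero (x : VV) (hx : ∀ j, x (Sum.inr j) = 0) (i : Fin (k + 2)) :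
    act (dA k F) x (Sum.inr i) = 0 := by
  unfold dA
  rw [act_glToSp_inr]
  simp [Matrix.vecMul, dotProduct, hx]

theorem act_dA_inv_inl_of_inl_zero (x : VV) (hx : ∀ j, x (Sum.inl j) = 0) (i : Fin (k + 2)) :
    act (dA k F)⁻¹ x (Sum.inl i) = 0 := by
  unfold dA
  rw [← map_inv, act_glToSp_inl]
  simp [Matrix.mulVec, dotProduct, hx]

theorem act_dA_e_castSucc (j : Fin (k + 1)) :
    act (dA k F) (e j.castSucc : VV) = (e j.castSucc : VV) + (e j.succ : VV) := by
  funext c
  rcases c with i | i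
  · rw [act_dA_inl]
    simp only [Pi.add_apply, e_inl, Fin.ext_iff, Fin.val_castSucc, Fin.val_succ]
    have := i.isLt
    have := j.isLt
    split_ifs <;> first | omega | simp
  · rw [act_dA_inr_of_inr_zero _ (fun j' => e_inr _ j')]
    simp only [Pi.add_apply, e_inr, add_zero]

theorem act_dA_e_last : act (dA k F) (e (Fin.last (k + 1)) : VV) = (e (Fin.last (k + 1)) : VV) := by
  funext c
  rcases c with i | i
  · rw [act_dA_inl]
    by_cases h : 0 < i.val
    · rw [dif_pos h, e_inl, e_inl]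
      have h3 : (⟨i.val - 1, by have := i.isLt; omega⟩ : Fin (k + 2)) ≠ Fin.last (k + 1) := by
        intro hh
        have := congrArg Fin.val hh
        simp only [Fin.val_last] at this
        have := i.isLt
        omega
      rw [if_neg h3, add_zero]
    · rw [dif_neg h, add_zero]
  · rw [act_dA_inr_of_inr_zero _ (fun j' => e_inr _ j'), e_inr]

theorem act_dA_inv_f_succ (j : Fin (k + 1)) :
    act (dA k F)⁻¹ (f j.succ : VV) = (f j.succ : VV) + (f j.castSucc : VV) := by
  funext c
  rcases c with i | i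
  · rw [act_dA_inv_inl_of_inl_zero _ (fun j' => f_inl _ j')]
    simp only [Pi.add_apply, f_inl, add_zero]
  · rw [act_dA_inv_inr]
    simp only [Pi.add_apply, f_inr, Fin.ext_iff, Fin.val_castSucc, Fin.val_succ]
    have := i.isLt
    have := j.isLt
    split_ifs <;> first | omega | simp

theorem act_dA_inv_f_zero : act (dA k F)⁻¹ (f 0 : VV) = (f 0 : VV) := by
  funext c
  rcases c with i | i
  · rw [act_dA_inv_inl_of_inl_zero _ (fun j' => f_inl _ j'), f_inl]
  · rw [act_dA_inv_inr]
    by_cases h : i.val + 1 < k + 2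
    · rw [dif_pos h, f_inr, f_inr]
      have h3 : (⟨i.val + 1, h⟩ : Fin (k + 2)) ≠ 0 := by
        intro hh
        have := congrArg Fin.val hh
        simp at this
      rw [if_neg h3, add_zero]
    · rw [dif_neg h, add_zero]

theorem act_dA_f_zero : act (dA k F) (f 0 : VV) = (f 0 : VV) := by
  have h := act_dA_inv_f_zero (k := k) (F := F)
  have h2 := congrArg (act (dA k F)) h
  rw [act_act_inv] at h2
  exact h2.symm

variable (k F) in
/-- the standard element `J` of the symplectic group: `e_i ↦ f_i`, `f_i ↦ -e_i` -/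
def Jg : GG := ⟨Matrix.J (Fin (k + 2)) F, SymplecticGroup.J_mem _ _⟩

theorem act_Jg_inl (x : VV) (i : Fin (k + 2)) : act (Jg k F) x (Sum.inl i) = - x (Sum.inr i) := by
  show ((Matrix.J (Fin (k + 2)) F) *ᵥ x) (Sum.inl i) = _
  simp [Matrix.J, Matrix.mulVec, dotProduct, Fintype.sum_sum_type, Matrix.fromBlocks_apply₁₁,
    Matrix.fromBlocks_apply₁₂, Matrix.one_apply]

theorem act_Jg_inr (x : VV) (i : Fin (k + 2)) : act (Jg k F) x (Sum.inr i) = x (Sum.inl i) := by
  show ((Matrix.J (Fin (k + 2)) F) *ᵥ x) (Sum.inr i) = _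
  simp [Matrix.J, Matrix.mulVec, dotProduct, Fintype.sum_sum_type, Matrix.fromBlocks_apply₂₁,
    Matrix.fromBlocks_apply₂₂, Matrix.one_apply]

theorem act_Jg_e (i : Fin (k + 2)) : act (Jg k F) (e i : VV) = (f i : VV) := by
  funext c
  rcases c with j | j
  · rw [act_Jg_inl, e_inr, f_inl, neg_zero]
  · rw [act_Jg_inr, e_inl, f_inr]

theorem act_Jg_f (i : Fin (k + 2)) : act (Jg k F) (f i : VV) = - (e i : VV) := by
  funext c
  rcases c with j | j
  · rw [act_Jg_inl, f_inr, Pi.neg_apply, e_inl]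
  · rw [act_Jg_inr, f_inl, Pi.neg_apply, e_inr, neg_zero]

theorem act_Jg_inv_f (i : Fin (k + 2)) : act (Jg k F)⁻¹ (f i : VV) = (e i : VV) := by
  rw [← act_Jg_e, act_inv_act]

theorem act_Jg_inv_e (i : Fin (k + 2)) : act (Jg k F)⁻¹ (e i : VV) = - (f i : VV) := by
  have h : act (Jg k F) (-(f i : VV)) = (e i : VV) := by rw [act_neg, act_Jg_f, neg_neg]
  rw [← h, act_inv_act]

variable (k) in
/-- the regular unipotent element `diag(A, A⁻ᵀ) * T (e 0) s` (regular when `s ≠ 0`) -/
noncomputable def uh (s : F) : GG := dA k F * T (e 0 : VV) s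

variable (k) in
/-- the opposite regular unipotent element `J * uh s * J⁻¹` -/
noncomputable def ulow (s : F) : GG := Jg k F * uh k s * (Jg k F)⁻¹

variable (k F) in
/-- `J * diag(A, A⁻ᵀ) * J⁻¹` -/
noncomputable def Dlow : GG := Jg k F * dA k F * (Jg k F)⁻¹

theorem ulow_eq (s : F) : ulow k s = Dlow k F * T (f 0 : VV) s := by
  unfold ulow uh Dlow
  have h := conj_T (Jg k F) (e 0 : VV) s
  rw [act_Jg_e] at h
  rw [← h]
  group

theorem act_Dlow_f_castSucc (j : Fin (k + 1)) :
    act (Dlow k F) (f j.castSucc : VV) = (f j.castSucc : VV) + (f j.succ : VV) := by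
  unfold Dlow
  rw [act_mul, act_mul, act_Jg_inv_f, act_dA_e_castSucc, act_add, act_Jg_e, act_Jg_e]

theorem act_Dlow_f_last :
    act (Dlow k F) (f (Fin.last (k + 1)) : VV) = (f (Fin.last (k + 1)) : VV) := by
  unfold Dlow
  rw [act_mul, act_mul, act_Jg_inv_f, act_dA_e_last, act_Jg_e]

theorem Dlow_inv : (Dlow k F)⁻¹ = Jg k F * (dA k F)⁻¹ * (Jg k F)⁻¹ := by
  unfold Dlow
  group

theorem act_Dlow_inv_e_succ (j : Fin (k + 1)) :
    act (Dlow k F)⁻¹ (e j.succ : VV) = (e j.succ : VV) + (e j.castSucc : VV) := by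
  rw [Dlow_inv, act_mul, act_mul, act_Jg_inv_e, act_neg, act_dA_inv_f_succ, act_neg, act_add,
    act_Jg_f, act_Jg_f]
  abel

theorem act_Dlow_inv_e_zero : act (Dlow k F)⁻¹ (e 0 : VV) = (e 0 : VV) := by
  rw [Dlow_inv, act_mul, act_mul, act_Jg_inv_e, act_neg, act_dA_inv_f_zero, act_neg, act_Jg_f, neg_neg]

theorem act_uh_e_castSucc (s : F) (j : Fin (k + 1)) :
    act (uh k s) (e j.castSucc : VV) = (e j.castSucc : VV) + (e j.succ : VV) := by
  unfold uh
  rw [act_mul, act_T]
  have h0 : ff (e j.castSucc : VV) (e 0 : VV) = 0 := by rw [form_e_right, e_inr]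
  rw [h0, mul_zero, zero_smul, add_zero, act_dA_e_castSucc]

theorem act_uh_e_last (s : F) :
    act (uh k s) (e (Fin.last (k + 1)) : VV) = (e (Fin.last (k + 1)) : VV) := by
  unfold uh
  rw [act_mul, act_T]
  have h0 : ff (e (Fin.last (k + 1)) : VV) (e 0 : VV) = 0 := by rw [form_e_right, e_inr]
  rw [h0, mul_zero, zero_smul, add_zero, act_dA_e_last]

theorem act_uh_f_zero (s : F) :
    act (uh k s) (f 0 : VV) = (f 0 : VV) + s • ((e 0 : VV) + (e 1 : VV)) := by
  unfold uh
  rw [act_mul, act_T]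
  have h0 : ff (f 0 : VV) (e 0 : VV) = 1 := by rw [form_e_right, f_inr, if_pos rfl]
  rw [h0, mul_one, act_add, act_smul, act_dA_f_zero]
  have h1 := act_dA_e_castSucc (k := k) (F := F) 0
  have e0 : (Fin.castSucc (0 : Fin (k + 1))) = (0 : Fin (k + 2)) := rfl
  have e1 : (Fin.succ (0 : Fin (k + 1))) = (1 : Fin (k + 2)) := rfl
  rw [e0, e1] at h1
  rw [h1]

end core

end Cfsg.Agent.Lib.Helper14.RU
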