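import Mathlib
import Cfsg.Agent.Lib.Helper9.SpGenD

/-!
# The transvection set of a subgroup of the symplectic group

For a subgroup `H` of `Sp_{2m}(F)`, `Xs H` is the set of vectors `v` all of whose transvections
`T v t` lie in `H`.  It is `H`-invariant, closed under nonzero scalars and under "hyperbolic
closure"; if it contains all nonzero vectors then `H = ⊤`.  The "eigen-trick" produces members.
-/

set_option autoImplicit false

namespace Cfsg.Agent.Lib.Helper14.RU

open Matrix Cfsg.Agent.Lib.Helper6 Cfsg.Agent.Lib.Helper9.SpGen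

section xset
variable {m : ℕ} {F : Type*} [Field F]

local notation "ff" => Cfsg.sympForm m F
local notation "VV" => (Fin m ⊕ Fin m → F)
local notation "GG" => Matrix.symplecticGroup (Fin m) F

/-- the vectors all of whose transvections lie in `H` -/
def Xs (H : Subgroup GG) : Set VV := {v | ∀ t : F, T v t ∈ H}

theorem mem_Xs {H : Subgroup GG} {v : VV} : v ∈ Xs H ↔ ∀ t : F, T v t ∈ H := Iff.rfl

theorem Xs_act {H : Subgroup GG} {h : GG} (hh : h ∈ H) {v : VV} (hv : v ∈ Xs H) :
    act h v ∈ Xs H := by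
  intro t
  rw [← conj_T]
  exact H.mul_mem (H.mul_mem hh (hv t)) (H.inv_mem hh)

theorem Xs_act_inv {H : Subgroup GG} {h : GG} (hh : h ∈ H) {v : VV} (hv : v ∈ Xs H) :
    act h⁻¹ v ∈ Xs H := Xs_act (H.inv_mem hh) hv

theorem Xs_hyp (H : Subgroup GG) :
    ∀ u v, u ∈ Xs H → v ∈ Xs H → ff u v ≠ 0 → ∀ l : F, u + l • v ∈ Xs H := by
  intro u v hu hv huv l
  have := Xs_act (hv (l / ff u v)) hu
  rw [act_T, div_mul_cancel₀ l huv] at this
  exact this

theorem Xs_smul (H : Subgroup GG) : ∀ u, u ∈ Xs H → ∀ l : F, l ≠ 0 → l • u ∈ Xs H := by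
  intro u hu l _ t
  rw [T_smul]
  exact hu _

theorem Xs_neg {H : Subgroup GG} {u : VV} (hu : u ∈ Xs H) : -u ∈ Xs H := by
  have := Xs_smul H u hu (-1) (neg_ne_zero.mpr one_ne_zero)
  rw [neg_one_smul] at this
  exact this

theorem T_zero_vec' (t : F) : T (0 : VV) t = 1 := by
  apply ext_act
  intro x
  rw [act_T, act_one, smul_zero, add_zero]

/-- a subgroup containing all transvections is everything -/
theorem eq_top_of_Xs (H : Subgroup GG) (hall : ∀ v : VV, v ≠ 0 → v ∈ Xs H) : H = ⊤ := by
  rw [eq_top_iff, ← Cfsg.Agent.S0765.result (F := F) m]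
  apply (Subgroup.closure_le H).mpr
  rintro A ⟨w, c, hA⟩
  have hAT : A = T w c := Subtype.ext hA
  rw [hAT]
  by_cases hw : w = 0
  · rw [hw, T_zero_vec']
    exact H.one_mem
  · exact hall w hw c

/-- the eigen-trick: if `h ∈ H` has `h v = l v`, one transvection `T v a` (`a ≠ 0`) lies in `H`,
and every nonzero additive subgroup of `F` stable under multiplication by `l ^ 2` is everything,
then all transvections `T v t` lie in `H` -/
theorem eigen_trick (H : Subgroup GG) (l : F)
    (hl : ∀ A : AddSubgroup F, (∃ a ∈ A, a ≠ 0) → (∀ a ∈ A, l ^ 2 * a ∈ A) → A = ⊤)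
    (v : VV) (h : GG) (hh : h ∈ H) (hv : act h v = l • v) (a : F) (ha : a ≠ 0)
    (hT : T v a ∈ H) : v ∈ Xs H := by
  let A : AddSubgroup F :=
    { carrier := {t | T v t ∈ H}
      add_mem' := by
        intro x y hx hy
        show T v (x + y) ∈ H
        rw [← T_add]
        exact H.mul_mem hx hy
      zero_mem' := by
        show T v 0 ∈ H
        rw [T_zero]
        exact H.one_mem
      neg_mem' := by
        intro x hx
        show T v (-x) ∈ H
        rw [← T_inv]
        exact H.inv_mem hx }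
  have hA : A = ⊤ := by
    apply hl A ⟨a, hT, ha⟩
    intro t ht
    show T v (l ^ 2 * t) ∈ H
    rw [← T_smul, ← hv, ← conj_T]
    exact H.mul_mem (H.mul_mem hh ht) (H.inv_mem hh)
  intro t
  have : t ∈ A := by rw [hA]; exact AddSubgroup.mem_top t
  exact this

theorem T_pow' (a : VV) (c : F) (k : ℕ) : T a c ^ k = T a (k * c) := by
  induction k with
  | zero => rw [pow_zero, Nat.cast_zero, zero_mul, T_zero]
  | succ k ih =>
    rw [pow_succ, ih, T_add]
    congr 1
    push_cast
    ring

/-- if every scalar is a natural multiple of `c` then `T v c ∈ H` puts `v` in `Xs H` -/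
theorem mem_Xs_of_natCast (H : Subgroup GG) (v : VV) (c : F) (hc : T v c ∈ H)
    (hF : ∀ t : F, ∃ j : ℕ, t = (j : F) * c) : v ∈ Xs H := by
  intro t
  obtain ⟨j, rfl⟩ := hF t
  rw [← T_pow']
  exact H.pow_mem hc j

end xset

end Cfsg.Agent.Lib.Helper14.RU
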