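import Cfsg.Agent.Lib.Helper14.UCent6
import Cfsg.Prelude.Def_LieClassical

set_option autoImplicit false
set_option linter.unusedSectionVars false

/-! # Unipotent centralisers in the unitary group: counting invertible hermitian matrices -/

namespace Cfsg.Agent.Lib.Helper14.UCent

open Matrix Polynomial
open Cfsg.Agent.Lib.Helper14.HSemi (sigQ sigQ_apply)
open Cfsg.Agent.Lib.Helper14.HCount (sigQ_sigQ)
open Cfsg.Agent.Lib.Helper14.GUConj (sharp sharp_mul sharp_sharp sharp_inv sharp_aeval det_sharp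
  pres_iff exists_sharp_root sig_ne)

variable {F : Type*} [Field F] [Fintype F] {q : ℕ} (hF : Fintype.card F = q ^ 2)

theorem mem_GU_iff {n : ℕ} (g : GL (Fin n) F) :
    g ∈ Cfsg.GU n F q ↔ sharp hF (g : Matrix (Fin n) (Fin n) F) * (g : Matrix (Fin n) (Fin n) F) = 1 :=
  pres_iff hF (g : Matrix (Fin n) (Fin n) F)

/-- every invertible hermitian matrix is of the form `W^♯ W` -/
theorem exists_root {n : ℕ} (H : Matrix (Fin n) (Fin n) F) (hH : sharp hF H = H)
    (hdet : IsUnit H.det) : ∃ W : Matrix (Fin n) (Fin n) F, IsUnit W.det ∧ sharp hF W * W = H := by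
  obtain ⟨P, hP⟩ := exists_sharp_root hF H hH hdet
  refine ⟨aeval H P, ?_, ?_⟩
  · have h3 : (sharp hF (aeval H P)).det * (aeval H P).det = H.det := by
      rw [← Matrix.det_mul, sharp_aeval, hH, hP]
    rw [← h3] at hdet
    exact isUnit_of_mul_isUnit_right hdet
  · rw [sharp_aeval, hH]
    exact hP

/-- the number of invertible hermitian matrices -/
theorem card_herm_fin (a : ℕ) :
    Nat.card {H : Matrix (Fin a) (Fin a) F // sharp hF H = H ∧ IsUnit H.det} *
      Nat.card ↥(Cfsg.GU a F q) = Nat.card (GL (Fin a) F) := by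
  symm
  apply UJC.card_eq_mul_of_fibers
    (fun P : GL (Fin a) F => (⟨sharp hF (P : Matrix (Fin a) (Fin a) F) * (P : Matrix (Fin a) (Fin a) F),
      by rw [sharp_mul, sharp_sharp],
      by
        rw [Matrix.det_mul, det_sharp]
        have hP : IsUnit (P : Matrix (Fin a) (Fin a) F).det :=
          (Matrix.isUnit_iff_isUnit_det _).mp P.isUnit
        exact (hP.map (sigQ hF)).mul hP⟩ :
      {H : Matrix (Fin a) (Fin a) F // sharp hF H = H ∧ IsUnit H.det}))
  intro H
  obtain ⟨W, hWd, hW⟩ := exists_root hF H.1 H.2.1 H.2.2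
  have hsWd : IsUnit (sharp hF W).det := by
    rw [det_sharp]
    exact hWd.map (sigQ hF)
  let P₀ : GL (Fin a) F := ((Matrix.isUnit_iff_isUnit_det W).mpr hWd).unit
  have hP₀ : (P₀ : Matrix (Fin a) (Fin a) F) = W := rfl
  have hP₀i : ((P₀⁻¹ : GL (Fin a) F) : Matrix (Fin a) (Fin a) F) = W⁻¹ := by
    rw [Matrix.coe_units_inv, hP₀]
  refine Nat.card_congr
    { toFun := fun P => ⟨P.1 * P₀⁻¹, ?_⟩
      invFun := fun U => ⟨U.1 * P₀, ?_⟩
      left_inv := ?_
      right_inv := ?_ }
  · rw [mem_GU_iff hF, Units.val_mul, hP₀i, sharp_mul, sharp_inv hF W hWd]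
    have h1 : sharp hF (P.1 : Matrix (Fin a) (Fin a) F) * (P.1 : Matrix (Fin a) (Fin a) F) = H.1 :=
      congrArg Subtype.val P.2
    calc (sharp hF W)⁻¹ * sharp hF (P.1 : Matrix (Fin a) (Fin a) F) *
          ((P.1 : Matrix (Fin a) (Fin a) F) * W⁻¹)
        = (sharp hF W)⁻¹ * (sharp hF (P.1 : Matrix (Fin a) (Fin a) F) *
            (P.1 : Matrix (Fin a) (Fin a) F)) * W⁻¹ := by simp only [Matrix.mul_assoc]
      _ = (sharp hF W)⁻¹ * (sharp hF W * W) * W⁻¹ := by rw [h1, hW]
      _ = 1 := by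
          rw [← Matrix.mul_assoc (sharp hF W)⁻¹, Matrix.nonsing_inv_mul _ hsWd, Matrix.one_mul,
            Matrix.mul_nonsing_inv _ hWd]
  · apply Subtype.ext
    show sharp hF ((U.1 * P₀ : GL (Fin a) F) : Matrix (Fin a) (Fin a) F) *
      ((U.1 * P₀ : GL (Fin a) F) : Matrix (Fin a) (Fin a) F) = H.1
    rw [Units.val_mul, hP₀, sharp_mul]
    have h1 := (mem_GU_iff hF U.1).mp U.2
    calc sharp hF W * sharp hF (U.1 : Matrix (Fin a) (Fin a) F) *
          ((U.1 : Matrix (Fin a) (Fin a) F) * W)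
        = sharp hF W * (sharp hF (U.1 : Matrix (Fin a) (Fin a) F) *
            (U.1 : Matrix (Fin a) (Fin a) F)) * W := by simp only [Matrix.mul_assoc]
      _ = H.1 := by rw [h1, Matrix.mul_one, hW]
  · intro P
    apply Subtype.ext
    show P.1 * P₀⁻¹ * P₀ = P.1
    rw [inv_mul_cancel_right]
  · intro U
    apply Subtype.ext
    show U.1 * P₀ * P₀⁻¹ = U.1
    rw [mul_inv_cancel_right]

section general

variable {κ : Type*} [Fintype κ] [DecidableEq κ]

/-- twisting by a scalar -/
theorem card_eps_herm (ε : F) (hε : ε = 1 ∨ ε = -1) :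
    Nat.card {M : Matrix κ κ F // shp (sigQ hF) M = ε • M ∧ IsUnit M.det} =
      Nat.card {H : Matrix κ κ F // shp (sigQ hF) H = H ∧ IsUnit H.det} := by
  obtain ⟨μ, hμ0, hμ⟩ : ∃ μ : F, μ ≠ 0 ∧ sigQ hF μ = ε * μ := by
    rcases hε with rfl | rfl
    · exact ⟨1, one_ne_zero, by rw [map_one, mul_one]⟩
    · obtain ⟨a, ha⟩ := sig_ne hF
      refine ⟨a - sigQ hF a, sub_ne_zero.mpr (Ne.symm ha), ?_⟩
      rw [map_sub, sigQ_sigQ]
      ring
  have hεε : ε * ε = 1 := by
    rcases hε with rfl | rfl <;> ring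
  have hdet : ∀ (c : F) (M : Matrix κ κ F), c ≠ 0 → IsUnit M.det → IsUnit (c • M).det := by
    intro c M hc hM
    rw [Matrix.det_smul]
    exact (isUnit_iff_ne_zero.mpr (pow_ne_zero _ hc)).mul hM
  refine Nat.card_congr
    { toFun := fun M => ⟨μ • M.1, ?_, hdet μ M.1 hμ0 M.2.2⟩
      invFun := fun H => ⟨μ⁻¹ • H.1, ?_, hdet μ⁻¹ H.1 (inv_ne_zero hμ0) H.2.2⟩
      left_inv := ?_
      right_inv := ?_ }
  · rw [shp_smul, M.2.1, hμ, smul_smul, mul_assoc, mul_comm μ ε, ← mul_assoc, hεε, one_mul]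
  · have hεi : ε⁻¹ = ε := inv_eq_of_mul_eq_one_right hεε
    rw [shp_smul, H.2.1, map_inv₀, hμ, smul_smul, mul_inv, hεi, mul_comm]
  · intro M
    apply Subtype.ext
    show μ⁻¹ • μ • M.1 = M.1
    rw [smul_smul, inv_mul_cancel₀ hμ0, one_smul]
  · intro H
    apply Subtype.ext
    show μ • μ⁻¹ • H.1 = H.1
    rw [smul_smul, mul_inv_cancel₀ hμ0, one_smul]

/-- the number of invertible `ε`-hermitian matrices on any index type -/
theorem card_eps_herm_mul (ε : F) (hε : ε = 1 ∨ ε = -1) :
    Nat.card {M : Matrix κ κ F // shp (sigQ hF) M = ε • M ∧ IsUnit M.det} *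
      Nat.card ↥(Cfsg.GU (Fintype.card κ) F q) = Nat.card {B : Matrix κ κ F // IsUnit B.det} := by
  rw [card_eps_herm hF ε hε]
  let e : κ ≃ Fin (Fintype.card κ) := Fintype.equivFin κ
  have h1 : Nat.card {H : Matrix κ κ F // shp (sigQ hF) H = H ∧ IsUnit H.det} =
      Nat.card {H : Matrix (Fin (Fintype.card κ)) (Fin (Fintype.card κ)) F //
        sharp hF H = H ∧ IsUnit H.det} := by
    refine Nat.card_congr
      { toFun := fun H => ⟨Matrix.reindex e e H.1, ?_, ?_⟩
        invFun := fun H => ⟨Matrix.reindex e.symm e.symm H.1, ?_, ?_⟩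
        left_inv := ?_
        right_inv := ?_ }
    · rw [sharp_eq_shp, shp_reindex, H.2.1]
    · rw [Matrix.det_reindex_self]
      exact H.2.2
    · have := H.2.1
      rw [sharp_eq_shp] at this
      rw [shp_reindex, this]
    · rw [Matrix.det_reindex_self]
      exact H.2.2
    · intro H
      apply Subtype.ext
      ext i j
      simp
    · intro H
      apply Subtype.ext
      ext i j
      simp
  have h2 : Nat.card {B : Matrix κ κ F // IsUnit B.det} =
      Nat.card (GL (Fin (Fintype.card κ)) F) := by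
    refine Nat.card_congr
      { toFun := fun B => ((Matrix.isUnit_iff_isUnit_det (Matrix.reindex e e B.1)).mpr
          (by rw [Matrix.det_reindex_self]; exact B.2)).unit
        invFun := fun g => ⟨Matrix.reindex e.symm e.symm (g : Matrix _ _ F), by
          rw [Matrix.det_reindex_self]
          exact (Matrix.isUnit_iff_isUnit_det _).mp g.isUnit⟩
        left_inv := ?_
        right_inv := ?_ }
    · intro B
      apply Subtype.ext
      ext i j
      simp
    · intro g
      apply Units.ext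
      ext i j
      simp
  rw [h1, h2]
  exact card_herm_fin hF _

end general

end Cfsg.Agent.Lib.Helper14.UCent
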