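import Mathlib
import Cfsg.Prelude.Def_Transfer
import Cfsg.Prelude.Def_Solvable
import Cfsg.Prelude.Def_CaseTheorems

/-!
# S2136 (Co₂: an involution centraliser of shape `2^{1+8}.Sp₆(2)`): common definitions

The shape asserted by the statement, for an arbitrary group in place of `Co₂` and an arbitrary group
in place of `Sp₆(2)`; and three explicit symplectic matrices (the images of three generators of the
centraliser under the action on the 63 blocks).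
-/

set_option autoImplicit false

namespace Cfsg.Agent.Lib.Helper14.Co2C

/-- the symplectic group `Sp₆(2)` -/
abbrev Sp6 : Type := ↥(Matrix.symplecticGroup (Fin 3) (ZMod 2))

/-- the natural module -/
abbrev V6 : Type := Fin 3 ⊕ Fin 3 → ZMod 2

/-- the shape of S2136: an involution `t` of `G` with `O₂(C_G(t))` extraspecial of order `2^9` and
`C_G(t) / O₂(C_G(t)) ≃* S` -/
def Shape (G : Type*) [Group G] (S : Type*) [Group S] : Prop :=
  ∃ t : G, orderOf t = 2 ∧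
    Cfsg.IsExtraspecial 2 ↥(Cfsg.pCore 2 ↥(Subgroup.centralizer ({t} : Set G))) ∧
    Nat.card ↥(Cfsg.pCore 2 ↥(Subgroup.centralizer ({t} : Set G))) = 2 ^ 9 ∧
    Nonempty (↥(Subgroup.centralizer ({t} : Set G)) ⧸
      Cfsg.pCore 2 ↥(Subgroup.centralizer ({t} : Set G)) ≃* S)

open Matrix

/-- first matrix -/
def M1 : Matrix (Fin 3 ⊕ Fin 3) (Fin 3 ⊕ Fin 3) (ZMod 2) :=
  Matrix.fromBlocks !![1,1,1;0,0,1;0,1,0] !![0,0,0;0,0,0;0,0,0] !![0,0,0;0,0,0;0,0,0]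
    !![1,0,0;1,0,1;1,1,0]

/-- second matrix -/
def M2 : Matrix (Fin 3 ⊕ Fin 3) (Fin 3 ⊕ Fin 3) (ZMod 2) :=
  Matrix.fromBlocks !![0,1,0;1,0,0;0,0,1] !![0,0,0;0,0,0;0,0,0] !![0,0,0;0,0,0;0,0,0]
    !![0,1,0;1,0,0;0,0,1]

/-- third matrix -/
def M3 : Matrix (Fin 3 ⊕ Fin 3) (Fin 3 ⊕ Fin 3) (ZMod 2) :=
  Matrix.fromBlocks !![1,1,1;0,0,1;0,0,0] !![1,1,1;1,0,0;1,1,0] !![0,0,0;0,0,0;0,1,1]
    !![1,0,0;0,1,1;0,0,0]

theorem M1_mem : M1 ∈ Matrix.symplecticGroup (Fin 3) (ZMod 2) := by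
  rw [SymplecticGroup.mem_iff]; decide

theorem M2_mem : M2 ∈ Matrix.symplecticGroup (Fin 3) (ZMod 2) := by
  rw [SymplecticGroup.mem_iff]; decide

theorem M3_mem : M3 ∈ Matrix.symplecticGroup (Fin 3) (ZMod 2) := by
  rw [SymplecticGroup.mem_iff]; decide

/-- first generator of `Sp₆(2)` -/
def A1 : Sp6 := ⟨M1, M1_mem⟩

/-- second generator of `Sp₆(2)` -/
def A2 : Sp6 := ⟨M2, M2_mem⟩

/-- third generator of `Sp₆(2)` -/
def A3 : Sp6 := ⟨M3, M3_mem⟩

end Cfsg.Agent.Lib.Helper14.Co2C
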