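import Mathlib
import Cfsg.Prelude.Def_LinearParabolics

/-!
# S2425 (helper14): definitions for the values of the Steinberg character of `GL_n(q)` at
`p'`-elements: Möbius numbers, flag counts, the lattice of invariant subspaces.
-/

set_option autoImplicit false

namespace Cfsg.Agent.Lib.Helper14.StGL

open Cfsg Polynomial

open Classical in
/-- the Möbius function `μ(⊥, a)` of a finite partial order with a bottom element -/
noncomputable def muBot (L : Type*) [PartialOrder L] [OrderBot L] [Fintype L] (a : L) : ℤ :=
  letI : LocallyFiniteOrder L := Fintype.toLocallyFiniteOrder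
  IncidenceAlgebra.mu ℤ (⊥ : L) a

/-- partial sums of a composition -/
def psum {n : ℕ} (μ : Fin n → ℕ) (j : Fin n) : ℕ :=
  ∑ k ∈ Finset.univ.filter (fun k : Fin n => k ≤ j), μ k

/-- the rank profile attached to the set `D` of interval ends: `j ↦ max {d + 1 | d ∈ D, d ≤ j}`
(`0` if there is no such `d`) -/
def sD {n : ℕ} (D : Finset (Fin n)) (j : Fin n) : ℕ :=
  (D.filter (fun d => d ≤ j)).sup (fun d => d.val + 1)

/-- the sets of interval ends: subsets of `Fin n` containing the last position (if any) -/
def lastSets (n : ℕ) : Finset (Finset (Fin n)) :=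
  Finset.univ.filter (fun D => ∀ i : Fin n, i.val + 1 = n → i ∈ D)

/-- the number of weakly increasing families `W : Fin n → L` with prescribed ranks -/
noncomputable def flagCount {L : Type*} [Preorder L] {n : ℕ} (rk : L → ℕ) (s : Fin n → ℕ) : ℕ :=
  Nat.card {W : Fin n → L // Monotone W ∧ ∀ j, rk (W j) = s j}

section Invt

variable {F : Type*} [Field F] {V : Type*} [AddCommGroup V] [Module F V]

/-- the dimension of an invariant subspace -/
noncomputable def invRank (A : Module.End F V) (W : A.invtSubmodule) : ℕ :=
  Module.finrank F (W : Submodule F V)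

theorem ker_aeval_mem_invtSubmodule (A : Module.End F V) (p : F[X]) :
    LinearMap.ker (Polynomial.aeval A p) ∈ A.invtSubmodule := by
  rw [Module.End.mem_invtSubmodule]
  intro v hv
  rw [Submodule.mem_comap, LinearMap.mem_ker]
  rw [LinearMap.mem_ker] at hv
  have hc : Polynomial.aeval A p * A = A * Polynomial.aeval A p := by
    have h1 : Polynomial.aeval A (p * X) = Polynomial.aeval A p * A := by
      rw [map_mul, Polynomial.aeval_X]
    have h2 : Polynomial.aeval A (X * p) = A * Polynomial.aeval A p := by
      rw [map_mul, Polynomial.aeval_X]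
    rw [← h1, ← h2, mul_comm]
  have : (Polynomial.aeval A p * A) v = (A * Polynomial.aeval A p) v := by rw [hc]
  rw [Module.End.mul_apply, Module.End.mul_apply, hv, map_zero] at this
  exact this

/-- the kernel of `p(A)` as an invariant subspace -/
noncomputable def kerInvt (A : Module.End F V) (p : F[X]) : A.invtSubmodule :=
  ⟨LinearMap.ker (Polynomial.aeval A p), ker_aeval_mem_invtSubmodule A p⟩

theorem kerInvt_coe (A : Module.End F V) (p : F[X]) :
    ((kerInvt A p : A.invtSubmodule) : Submodule F V) = LinearMap.ker (Polynomial.aeval A p) := rfl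

/-- the restriction of `A` to an invariant subspace -/
noncomputable def restrictInvt (A : Module.End F V) (W : Submodule F V)
    (hW : W ∈ A.invtSubmodule) : Module.End F W :=
  A.restrict ((Module.End.mem_invtSubmodule_iff_forall_mem_of_mem A).1 hW)

theorem restrictInvt_apply (A : Module.End F V) (W : Submodule F V)
    (hW : W ∈ A.invtSubmodule) (w : W) : ((restrictInvt A W hW w : W) : V) = A (w : V) := rfl

end Invt

/-- the standard flag of the composition `μ`: the vectors supported on the first
`μ 0 + ⋯ + μ j` coordinates -/
def stdFlag (F : Type*) [Field F] {n : ℕ} (μ : Fin n → ℕ) (j : Fin n) :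
    Submodule F (Fin n → F) where
  carrier := {v | ∀ i : Fin n, psum μ j ≤ i.val → v i = 0}
  add_mem' := by
    intro a b ha hb i hi
    rw [Pi.add_apply, ha i hi, hb i hi, add_zero]
  zero_mem' := by
    intro i _
    rfl
  smul_mem' := by
    intro c v hv i hi
    rw [Pi.smul_apply, hv i hi, smul_zero]

theorem mem_stdFlag (F : Type*) [Field F] {n : ℕ} (μ : Fin n → ℕ) (j : Fin n) (v : Fin n → F) :
    v ∈ stdFlag F μ j ↔ ∀ i : Fin n, psum μ j ≤ i.val → v i = 0 := Iff.rfl

end Cfsg.Agent.Lib.Helper14.StGL
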