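import Mathlib
import Cfsg.Prelude.Def_GeometricClasses
import Cfsg.Agent.Lib.Helper26.OETypeTC9

/-!
# Even orthogonal rows, small-field containment S1-(t,3,3): `O_3(3) wr S_t ≤ O_1 wr S_{3t}`

Over the field with three elements a non-degenerate `3`-space `W` is `⟨a, a, a⟩` for exactly one `a ≠ 0`, and the vectors
`v ∈ W` with `Q v = a` are the six vectors `± w_k` of an orthogonal frame.  Hence the stabiliser (in the isometry group) of a
decomposition into pairwise orthogonal isometric non-degenerate `3`-spaces stabilises a decomposition into `3t` pairwise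
orthogonal isometric non-degenerate lines.
-/

set_option autoImplicit false

namespace Cfsg.Agent.Lib.Helper14.OEPlusS433

open Matrix Module QuadraticMap Cfsg Cfsg.Geo Cfsg.Agent.Lib.Helper26.OETypeTC9

/-! ### generic: membership in a decomposition stabiliser -/

section generic

variable {F : Type*} [Field F] {ι : Type} [Fintype ι] [DecidableEq ι]

/-- a matrix mapping every member of an injective family of subspaces onto a member lies in the stabiliser -/
theorem mem_decompositionStabilizer_of_forall_exists {s : ℕ} (D : Fin s → Submodule F (ι → F))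
    (hinj : Function.Injective D) (g : GL ι F)
    (h : ∀ i, ∃ j, (D i).map (Matrix.toLin' (g : Matrix ι ι F)) = D j) : g ∈ decompositionStabilizer D := by
  classical
  choose σ hσ using h
  have hginj : Function.Injective (Matrix.toLin' (g : Matrix ι ι F)) := by
    intro x y hxy
    have := congrArg (fun z => ((g⁻¹ : GL ι F) : Matrix ι ι F) *ᵥ z) hxy
    simpa [Matrix.toLin'_apply, Matrix.mulVec_mulVec, ← Units.val_mul] using this
  have hσinj : Function.Injective σ := by
    intro i i' hii
    apply hinj
    apply Submodule.map_injective_of_injective hginj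
    rw [hσ i, hσ i', hii]
  exact ⟨Equiv.ofBijective σ (Finite.injective_iff_bijective.mp hσinj), fun i => hσ i⟩

end generic

/-! ### the field with three elements -/

section three

variable {F : Type*} [Field F] [Fintype F]

theorem three_eq_zero (hq : Fintype.card F = 3) : (3 : F) = 0 := by
  have h := Nat.cast_card_eq_zero F
  rw [hq] at h
  exact_mod_cast h

theorem two_ne_zero_of_card_three (hq : Fintype.card F = 3) : (2 : F) ≠ 0 := by
  intro h2
  have h3 := three_eq_zero hq
  have : (1 : F) = 0 := by linear_combination h3 - h2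
  exact one_ne_zero this

theorem cases_of_card_three (hq : Fintype.card F = 3) (x : F) : x = 0 ∨ x = 1 ∨ x = -1 := by
  have h := FiniteField.pow_card x
  rw [hq] at h
  have h1 : x * (x - 1) * (x + 1) = 0 := by linear_combination h
  rcases mul_eq_zero.mp h1 with h2 | h2
  · rcases mul_eq_zero.mp h2 with h3 | h3
    · exact Or.inl h3
    · exact Or.inr (Or.inl (sub_eq_zero.mp h3))
  · exact Or.inr (Or.inr (eq_neg_of_add_eq_zero_left h2))

theorem sq_cases_of_card_three (hq : Fintype.card F = 3) (x : F) : (x = 0 ∧ x ^ 2 = 0) ∨ (x ≠ 0 ∧ x ^ 2 = 1) := by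
  rcases cases_of_card_three hq x with h | h | h
  · left; exact ⟨h, by rw [h]; ring⟩
  · right; exact ⟨by rw [h]; exact one_ne_zero, by rw [h]; ring⟩
  · right; exact ⟨by rw [h]; exact neg_ne_zero.mpr one_ne_zero, by rw [h]; ring⟩

/-- over the field with three elements, `x₀² + x₁² + x₂² = 1` forces exactly one non-zero coordinate -/
theorem unique_nonzero_of_sum_sq (hq : Fintype.card F = 3) (x : Fin 3 → F) (h : ∑ k, x k ^ 2 = 1) :
    ∃ k, x k ≠ 0 ∧ ∀ k', k' ≠ k → x k' = 0 := by
  have h3 := three_eq_zero hq
  have h2 := two_ne_zero_of_card_three hq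
  rw [Fin.sum_univ_three] at h
  rcases sq_cases_of_card_three hq (x 0) with ⟨a0, b0⟩ | ⟨a0, b0⟩ <;>
  rcases sq_cases_of_card_three hq (x 1) with ⟨a1, b1⟩ | ⟨a1, b1⟩ <;>
  rcases sq_cases_of_card_three hq (x 2) with ⟨a2, b2⟩ | ⟨a2, b2⟩ <;>
  rw [b0, b1, b2] at h
  · exfalso; simp at h
  · refine ⟨2, a2, fun k' hk' => ?_⟩
    fin_cases k'
    · exact a0
    · exact a1
    · exact absurd rfl hk'
  · refine ⟨1, a1, fun k' hk' => ?_⟩
    fin_cases k'
    · exact a0
    · exact absurd rfl hk'
    · exact a2
  · exfalso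
    apply one_ne_zero (α := F)
    linear_combination h
  · refine ⟨0, a0, fun k' hk' => ?_⟩
    fin_cases k'
    · exact absurd rfl hk'
    · exact a1
    · exact a2
  · exfalso
    apply one_ne_zero (α := F)
    linear_combination h
  · exfalso
    apply one_ne_zero (α := F)
    linear_combination h
  · exfalso
    apply one_ne_zero (α := F)
    linear_combination h3 - h

end three

/-! ### frames with constant value -/

section frames

variable {F : Type*} [Field F] [Fintype F] {ι : Type} [Fintype ι] [DecidableEq ι] {Q : (ι → F) → F}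

/-- over the field with three elements every non-degenerate `3`-space has an orthogonal frame with constant value -/
theorem exists_const_frame (hQ : IsNondegenerateQuadraticForm Q) (hq : Fintype.card F = 3)
    (W : Submodule F (ι → F)) (hW : IsNondegenerateOn (polar Q) W) (hd : finrank F W = 3) :
    ∃ (a : F) (u : Fin 3 → ι → F), a ≠ 0 ∧ Frame Q W u ∧ ∀ k, Q (u k) = a := by
  have h2 := two_ne_zero_of_card_three hq
  have h3 := three_eq_zero hq
  obtain ⟨u₀, hu₀⟩ := exists_frame hQ h2 W hW 3 hd
  obtain ⟨u, hu, hnf⟩ := hu₀.exists_nf (by rw [hq]) hQ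
  have h0 : Q (u 0) = 1 := hnf 0 (by norm_num)
  have h1 : Q (u 1) = 1 := hnf 1 (by norm_num)
  rcases cases_of_card_three hq (Q (u 2)) with h | h | h
  · exact absurd h (hu.ne 2)
  · refine ⟨1, u, one_ne_zero, hu, fun k => ?_⟩
    fin_cases k
    · exact h0
    · exact h1
    · exact h
  · -- replace `u 0, u 1` by `u 0 + u 1, u 0 - u 1`
    have h01 : polar Q (u 0) (u 1) = 0 := hu.orth 0 1 (by decide)
    have h02 : polar Q (u 0) (u 2) = 0 := hu.orth 0 2 (by decide)
    have h12 : polar Q (u 1) (u 2) = 0 := hu.orth 1 2 (by decide)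
    have hb := hQ.polar_bilinear
    have hneg : ∀ v : ι → F, Q (-v) = Q v := by
      intro v
      have := hQ.smul (-1) v
      rw [neg_one_smul] at this
      rw [this]; ring
    have hQp : Q (u 0 + u 1) = -1 := by
      rw [Q_add' (Q := Q), h0, h1, h01]
      linear_combination h3
    have hQm : Q (u 0 - u 1) = -1 := by
      rw [sub_eq_add_neg, Q_add' (Q := Q), hneg, h0, h1]
      have : polar Q (u 0) (-u 1) = 0 := by
        have := hb.smul_right (-1) (u 0) (u 1)
        rw [neg_one_smul] at this
        rw [this, h01, mul_zero]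
      rw [this]
      linear_combination h3
    have hpm : polar Q (u 0 + u 1) (u 0 - u 1) = 0 := by
      have e1 : u 0 - u 1 = u 0 + (-1 : F) • u 1 := by rw [neg_one_smul, sub_eq_add_neg]
      rw [e1, hb.add_left, hb.add_right, hb.add_right, hb.smul_right, hb.smul_right, polar_self' hQ, polar_self' hQ,
        h0, h1, h01, polar_comm Q (u 1) (u 0), h01]
      ring
    refine ⟨-1, ![u 0 + u 1, u 0 - u 1, u 2], neg_ne_zero.mpr one_ne_zero, ⟨?_, ?_, ?_⟩, ?_⟩
    · intro k
      fin_cases k
      · exact W.add_mem (hu.mem 0) (hu.mem 1)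
      · exact W.sub_mem (hu.mem 0) (hu.mem 1)
      · exact hu.mem 2
    · intro i j hij
      have e1 : u 0 - u 1 = u 0 + (-1 : F) • u 1 := by rw [neg_one_smul, sub_eq_add_neg]
      fin_cases i <;> fin_cases j
      · exact absurd rfl hij
      · exact hpm
      · show polar Q (u 0 + u 1) (u 2) = 0
        rw [hb.add_left, h02, h12, add_zero]
      · show polar Q (u 0 - u 1) (u 0 + u 1) = 0
        rw [polar_comm]; exact hpm
      · exact absurd rfl hij
      · show polar Q (u 0 - u 1) (u 2) = 0
        rw [e1, hb.add_left, hb.smul_left, h02, h12]; ring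
      · show polar Q (u 2) (u 0 + u 1) = 0
        rw [polar_comm, hb.add_left, h02, h12, add_zero]
      · show polar Q (u 2) (u 0 - u 1) = 0
        rw [polar_comm, e1, hb.add_left, hb.smul_left, h02, h12]; ring
      · exact absurd rfl hij
    · intro k
      fin_cases k
      · show Q (u 0 + u 1) ≠ 0
        rw [hQp]; exact neg_ne_zero.mpr one_ne_zero
      · show Q (u 0 - u 1) ≠ 0
        rw [hQm]; exact neg_ne_zero.mpr one_ne_zero
      · exact hu.ne 2
    · intro k
      fin_cases k
      · exact hQp
      · exact hQm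
      · exact h

/-- transport of a frame along an isometry -/
theorem frame_of_isometric (W W' : Submodule F (ι → F)) (e : W ≃ₗ[F] W')
    (he : ∀ w : W, Q ((e w : W') : ι → F) = Q (w : ι → F)) {d : ℕ} (u : Fin d → ι → F) (hu : Frame Q W u) :
    Frame Q W' (fun k => ((e ⟨u k, hu.mem k⟩ : W') : ι → F)) ∧
      ∀ k, Q ((e ⟨u k, hu.mem k⟩ : W') : ι → F) = Q (u k) := by
  have hpol : ∀ x y : W, polar Q ((e x : W') : ι → F) ((e y : W') : ι → F) = polar Q (x : ι → F) (y : ι → F) := by
    intro x y
    unfold polar
    have h1 := he (x + y)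
    rw [map_add] at h1
    simp only [Submodule.coe_add] at h1
    rw [h1, he x, he y]
  refine ⟨⟨fun k => (e _).2, fun i j hij => ?_, fun k => ?_⟩, fun k => he _⟩
  · rw [hpol]; exact hu.orth i j hij
  · rw [he]; exact hu.ne k

end frames

/-! ### the containment -/

section main

variable {F : Type*} [Field F] [Fintype F] {n : ℕ} {Q : (Fin n → F) → F}

/-- **S1-(t,3,3)** over the field with three elements the stabiliser of an orthogonal decomposition into isometric
non-degenerate `3`-spaces stabilises an orthogonal decomposition into isometric non-degenerate lines -/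
theorem frame_of_three_blocks (hQ : IsNondegenerateQuadraticForm Q) (hq : Fintype.card F = 3) {t : ℕ}
    (D : Fin t → Submodule F (Fin n → F)) (hD : IsOrthogonalMDecomposition Q 3 D) :
    ∃ D' : Fin (t * 3) → Submodule F (Fin n → F), IsOrthogonalMDecomposition Q 1 D' ∧
      decompositionStabilizer D ⊓ isometryGroup F Q ≤ decompositionStabilizer D' := by
  classical
  have h2 := two_ne_zero_of_card_three hq
  have ht : 2 ≤ t := hD.decomp.decomp.two_le
  have hb := hQ.polar_bilinear
  -- the frame of the first block, transported to all blocks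
  obtain ⟨a, u, ha, hu, hua⟩ := exists_const_frame hQ hq (D ⟨0, by omega⟩) (hD.decomp.nondegenerate _)
    (hD.decomp.decomp.finrank_eq _)
  have hiso : ∀ i, ∃ e : D ⟨0, by omega⟩ ≃ₗ[F] D i, ∀ w : D ⟨0, by omega⟩,
      Q ((e w : D i) : Fin n → F) = Q (w : Fin n → F) := fun i => hD.isometric _ i
  choose e he using hiso
  set w : Fin t → Fin 3 → Fin n → F := fun i k => ((e i ⟨u k, hu.mem k⟩ : D i) : Fin n → F) with hw
  have hfr : ∀ i, Frame Q (D i) (w i) := fun i => (frame_of_isometric _ _ (e i) (he i) u hu).1
  have hwa : ∀ i k, Q (w i k) = a := fun i k => by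
    rw [hw]; simp only; rw [(frame_of_isometric _ _ (e i) (he i) u hu).2 k, hua k]
  have hwne : ∀ i k, w i k ≠ 0 := by
    intro i k h0
    have := hwa i k
    rw [h0, Q_zero' hQ] at this
    exact ha this.symm
  -- polar values
  have hpol : ∀ i k i' k', (i, k) ≠ (i', k') → polar Q (w i k) (w i' k') = 0 := by
    intro i k i' k' hne
    by_cases hii : i = i'
    · subst hii
      exact (hfr i).orth k k' (fun h => hne (by rw [h]))
    · exact hD.decomp.orthogonal i i' hii _ ((hfr i).mem k) _ ((hfr i').mem k')
  have hself : ∀ i k, polar Q (w i k) (w i k) ≠ 0 := by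
    intro i k
    rw [polar_self' hQ, hwa]
    exact mul_ne_zero h2 ha
  -- spanning
  have hspan : ∀ i, ∀ v ∈ D i, ∃ x : Fin 3 → F, v = ∑ k, x k • w i k := by
    intro i v hv
    obtain ⟨bu, hbu⟩ := (hfr i).exists_basis hQ h2 (hD.decomp.decomp.finrank_eq i) (by norm_num)
    refine ⟨fun k => bu.repr ⟨v, hv⟩ k, ?_⟩
    have h1 := congrArg (Subtype.val) (bu.sum_repr ⟨v, hv⟩)
    rw [Submodule.coe_sum] at h1
    simp only [Submodule.coe_smul, hbu] at h1
    exact h1.symm
  -- vectors of value `a` in a block
  have hchar : ∀ i, ∀ v ∈ D i, Q v = a → ∃ k, Submodule.span F {v} = Submodule.span F {w i k} := by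
    intro i v hv hQv
    obtain ⟨x, hx⟩ := hspan i v hv
    have h1 : Q v = ∑ k, x k ^ 2 * a := by
      rw [hx, ← Finset.sum_filter_of_ne (s := Finset.univ) (p := fun _ => True) (fun _ _ _ => trivial)]
      simp only [Finset.filter_true]
      rw [Q_sum_orth hQ (w i) (hfr i).orth x Finset.univ]
      exact Finset.sum_congr rfl fun k _ => by rw [hwa]
    have h3 : ∑ k, x k ^ 2 = 1 := by
      rw [hQv, ← Finset.sum_mul] at h1
      have : (∑ k, x k ^ 2 - 1) * a = 0 := by linear_combination -h1
      rcases mul_eq_zero.mp this with h | h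
      · exact sub_eq_zero.mp h
      · exact absurd h ha
    obtain ⟨k, hk, hk'⟩ := unique_nonzero_of_sum_sq hq x h3
    refine ⟨k, ?_⟩
    have hv' : v = x k • w i k := by
      rw [hx]
      apply Finset.sum_eq_single k
      · intro k' _ hkk
        rw [hk' k' hkk, zero_smul]
      · intro h; exact absurd (Finset.mem_univ k) h
    rw [hv']
    exact Submodule.span_singleton_smul_eq (IsUnit.mk0 _ hk) _
  -- the family of lines
  set ψ : Fin (t * 3) ≃ Fin t × Fin 3 := finProdFinEquiv.symm with hψ
  set W' : Fin (t * 3) → Fin n → F := fun x => w (ψ x).1 (ψ x).2 with hW'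
  set D' : Fin (t * 3) → Submodule F (Fin n → F) := fun x => Submodule.span F {W' x} with hD'
  have hW'ne : ∀ x, W' x ≠ 0 := fun x => hwne _ _
  have hW'a : ∀ x, Q (W' x) = a := fun x => hwa _ _
  have hW'pol : ∀ x y, x ≠ y → polar Q (W' x) (W' y) = 0 := by
    intro x y hxy
    apply hpol
    intro h
    apply hxy
    apply ψ.injective
    exact Prod.ext (congrArg Prod.fst h) (congrArg Prod.snd h)
  have hW'self : ∀ x, polar Q (W' x) (W' x) ≠ 0 := fun x => hself _ _
  have hli : LinearIndependent F W' := by
    apply LinearMap.BilinForm.linearIndependent_of_iIsOrtho (B := Bm hQ)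
    · rw [LinearMap.BilinForm.iIsOrtho_def]
      intro x y hxy
      exact hW'pol x y hxy
    · intro x
      exact hW'self x
  have hDle : ∀ i, D i ≤ ⨆ x, D' x := by
    intro i v hv
    obtain ⟨x, hx⟩ := hspan i v hv
    rw [hx]
    apply Submodule.sum_mem
    intro k _
    apply Submodule.smul_mem
    have : w i k = W' (ψ.symm (i, k)) := by
      rw [hW']; simp only [Equiv.apply_symm_apply]
    rw [this]
    exact Submodule.mem_iSup_of_mem (ψ.symm (i, k)) (Submodule.mem_span_singleton_self _)
  have hdec : IsMDecomposition 1 D' := by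
    refine ⟨by omega, one_pos, fun x => finrank_span_singleton (hW'ne x), hli.iSupIndep_span_singleton, ?_⟩
    rw [eq_top_iff, ← hD.decomp.decomp.iSup_eq_top]
    exact iSup_le hDle
  have hnd : ∀ x, IsNondegenerateOn (polar Q) (D' x) := by
    intro x v hv hv0
    obtain ⟨c, rfl⟩ := Submodule.mem_span_singleton.mp hv
    have hc : c ≠ 0 := by
      rintro rfl
      exact hv0 (zero_smul _ _)
    refine ⟨⟨W' x, Submodule.mem_span_singleton_self _, ?_⟩, ⟨W' x, Submodule.mem_span_singleton_self _, ?_⟩⟩
    · rw [hb.smul_right]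
      exact mul_ne_zero hc (hW'self x)
    · rw [hb.smul_left]
      exact mul_ne_zero hc (hW'self x)
  have horth : ∀ x y, x ≠ y → AreOrthogonalFor (polar Q) (D' x) (D' y) := by
    intro x y hxy p hp r hr
    obtain ⟨c, rfl⟩ := Submodule.mem_span_singleton.mp hp
    obtain ⟨d, rfl⟩ := Submodule.mem_span_singleton.mp hr
    rw [hb.smul_left, hb.smul_right, hW'pol x y hxy, mul_zero, mul_zero]
  have hisom : ∀ x y, AreIsometricFor Q (D' x) (D' y) := by
    intro x y
    refine ⟨(LinearEquiv.toSpanNonzeroSingleton F (Fin n → F) (W' x) (hW'ne x)).symm.trans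
      (LinearEquiv.toSpanNonzeroSingleton F (Fin n → F) (W' y) (hW'ne y)), fun p => ?_⟩
    obtain ⟨c, hc⟩ := Submodule.mem_span_singleton.mp p.2
    have hp : p = LinearEquiv.toSpanNonzeroSingleton F (Fin n → F) (W' x) (hW'ne x) c := by
      apply Subtype.ext
      rw [LinearEquiv.toSpanNonzeroSingleton_apply]
      exact hc.symm
    rw [hp, LinearEquiv.trans_apply, LinearEquiv.symm_apply_apply, LinearEquiv.toSpanNonzeroSingleton_apply,
      LinearEquiv.toSpanNonzeroSingleton_apply]
    show Q (c • W' y) = Q (c • W' x)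
    rw [hQ.smul, hQ.smul, hW'a, hW'a]
  refine ⟨D', ⟨⟨hdec, hnd, horth⟩, hisom⟩, ?_⟩
  -- the stabiliser
  rintro g ⟨⟨σ, hσ⟩, hgI⟩
  apply mem_decompositionStabilizer_of_forall_exists D' (hdec.indep.injective (fun x => by
    intro h0
    have := finrank_span_singleton (K := F) (hW'ne x)
    rw [show Submodule.span F {W' x} = D' x from rfl, h0, finrank_bot] at this
    omega)) g
  intro x
  have hmem : (g : Matrix (Fin n) (Fin n) F) *ᵥ W' x ∈ D (σ (ψ x).1) := by
    rw [← hσ (ψ x).1]
    exact ⟨W' x, (hfr _).mem _, by rw [Matrix.toLin'_apply]⟩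
  have hQg : Q ((g : Matrix (Fin n) (Fin n) F) *ᵥ W' x) = a := by
    have := hgI (W' x) (W' x)
    rw [← hW'a x]
    exact this
  obtain ⟨k, hk⟩ := hchar _ _ hmem hQg
  refine ⟨ψ.symm (σ (ψ x).1, k), ?_⟩
  show (Submodule.span F {W' x}).map _ = Submodule.span F {W' (ψ.symm (σ (ψ x).1, k))}
  rw [Submodule.map_span, Set.image_singleton, Matrix.toLin'_apply, hk, hW']
  simp only [Equiv.apply_symm_apply]

end main

end Cfsg.Agent.Lib.Helper14.OEPlusS433
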