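import Mathlib
import Cfsg.Agent.Lib.Helper11.S3282Defs

/-!
Piece G2a of the S3282 farm-out (architect helper11): for `y ∈ K#`, the number of ways of writing
`y` as a product of two involutions is `|K|`.
-/

set_option autoImplicit false

namespace Cfsg.Agent.Lib.Helper14.S3282G2a

open Cfsg Cfsg.Agent.Lib.Helper11 Cfsg.Agent.Lib.Helper11.S3282

universe u

variable {G : Type u} [Group G] {t s : G} {K : Subgroup G}

theorem sq_of_orderOf_two {x : G} (hx : orderOf x = 2) : x * x = 1 := by
  have := pow_orderOf_eq_one x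
  rw [hx, pow_two] at this
  exact this

theorem inv_of_orderOf_two {x : G} (hx : orderOf x = 2) : x⁻¹ = x :=
  inv_eq_of_mul_eq_one_left (sq_of_orderOf_two hx)

theorem ne_one_of_orderOf_two {x : G} (hx : orderOf x = 2) : x ≠ 1 := by
  rintro rfl
  simp at hx

theorem orderOf_two_of_sq {x : G} (hx : x * x = 1) (hx1 : x ≠ 1) : orderOf x = 2 :=
  orderOf_eq_prime (by rw [pow_two]; exact hx) hx1

theorem fusion (h : Hyp t s K) {a g : G} (ha : a ∈ K) (ha1 : a ≠ 1) (hg : g * a * g⁻¹ ∈ K) :
    g ∈ Subgroup.centralizer ({t} : Set G) := by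
  by_contra hgn
  have hbot := h.hTI g hgn
  have hm : g * a * g⁻¹ ∈ K ⊓ K.map (MulAut.conj g).toMonoidHom :=
    ⟨hg, ⟨a, ha, by simp [MulAut.conj_apply]⟩⟩
  rw [hbot, Subgroup.mem_bot] at hm
  apply ha1
  have h2 : a = g⁻¹ * (g * a * g⁻¹) * g := by group
  rw [h2, hm]; group

theorem s_normalizes (h : Hyp t s K) : Subgroup.zpowers s ≤ Subgroup.normalizer (K : Set G) := by
  rw [Subgroup.zpowers_le, Subgroup.mem_normalizer_iff]
  intro x
  constructor
  · intro hx
    rw [h.hinv x hx]
    exact K.inv_mem hx
  · intro hx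
    have h1 := h.hinv _ hx
    have h2 : s * (s * x * s⁻¹) * s⁻¹ = x := by
      have hs := inv_of_orderOf_two h.hs
      have hss := sq_of_orderOf_two h.hs
      rw [hs]
      calc s * (s * x * s) * s = (s * s) * x * (s * s) := by group
        _ = x := by rw [hss]; group
    rw [h2] at h1
    have := K.inv_mem hx
    rw [← h1] at this
    exact this

theorem mem_H (h : Hyp t s K) {x : G} (hx : x ∈ Subgroup.centralizer ({t} : Set G)) :
    x ∈ K ∨ ∃ y ∈ K, x = y * s := by
  rw [← h.hH] at hx
  have hx' : x ∈ ((K ⊔ Subgroup.zpowers s : Subgroup G) : Set G) := hx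
  rw [Subgroup.coe_mul_of_right_le_normalizer_left K _ (s_normalizes h)] at hx'
  obtain ⟨y, hy, z, hz, rfl⟩ := hx'
  obtain ⟨n, rfl⟩ := Subgroup.mem_zpowers_iff.mp hz
  have hmod := zpow_mod_orderOf s n
  rw [h.hs] at hmod
  have h01 : n % ((2 : ℕ) : ℤ) = 0 ∨ n % ((2 : ℕ) : ℤ) = 1 := by
    push_cast; omega
  rcases h01 with h0 | h1
  · left
    rw [h0, zpow_zero] at hmod
    simp only [← hmod, mul_one]
    exact hy
  · right
    rw [h1, zpow_one] at hmod
    exact ⟨y, hy, by simp only [← hmod]⟩

theorem invol_of_not_mem (h : Hyp t s K) {x : G}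
    (hx : x ∈ Subgroup.centralizer ({t} : Set G)) (hxK : x ∉ K) : orderOf x = 2 := by
  rcases mem_H h hx with hK | ⟨y, hy, rfl⟩
  · exact absurd hK hxK
  · apply orderOf_two_of_sq
    · have hs := inv_of_orderOf_two h.hs
      have hss := sq_of_orderOf_two h.hs
      have hi := h.hinv y hy
      rw [hs] at hi
      calc y * s * (y * s) = y * (s * y * s) := by group
        _ = 1 := by rw [hi]; group
    · intro h1
      apply hxK
      rw [h1]
      exact K.one_mem

theorem invol_K (h : Hyp t s K) {x : G} (hx : x ∈ K) (hx2 : orderOf x = 2) : x = t := by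
  have hxi := inv_of_orderOf_two hx2
  have hi := h.hinv x hx
  rw [hxi] at hi
  have hmem : x ∈ K ⊓ Subgroup.centralizer ({s} : Set G) := by
    refine Subgroup.mem_inf.mpr ⟨hx, ?_⟩
    rw [Subgroup.mem_centralizer_iff]
    intro g hg
    rw [Set.mem_singleton_iff] at hg
    subst hg
    calc g * x = (g * x * g⁻¹) * g := by group
      _ = x * g := by rw [hi]
  rw [h.hCK] at hmem
  obtain ⟨n, rfl⟩ := Subgroup.mem_zpowers_iff.mp hmem
  have hmod := zpow_mod_orderOf t n
  rw [h.ht] at hmod
  have h01 : n % ((2 : ℕ) : ℤ) = 0 ∨ n % ((2 : ℕ) : ℤ) = 1 := by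
    push_cast; omega
  rcases h01 with h0 | h1
  · rw [h0, zpow_zero] at hmod
    exact absurd hmod.symm (ne_one_of_orderOf_two hx2)
  · rw [h1, zpow_one] at hmod
    exact hmod.symm

variable [Finite G]

/-- for `y ∈ K#` the pairs of involutions `(u, v)` with `u v = y` are the `(u, u⁻¹ y)`,
`u ∈ H ∖ K`. -/
theorem G2_beta_K (h : Hyp t s K) {y : G} (hy : y ∈ K) (hy1 : y ≠ 1) : S3282.beta y = Nat.card K := by
  have hKH := h.hKH
  -- first equivalence: pairs ≃ H ∖ K
  have e1 : {p : G × G // orderOf p.1 = 2 ∧ orderOf p.2 = 2 ∧ p.1 * p.2 = y} ≃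
      {u : G // u ∈ Subgroup.centralizer ({t} : Set G) ∧ u ∉ K} :=
    { toFun := fun p => ⟨p.1.1, by
        obtain ⟨⟨u, v⟩, hu, hv, huv⟩ := p
        simp only at hu hv huv ⊢
        have hinvy : u * y * u⁻¹ = y⁻¹ := by
          have hui := inv_of_orderOf_two hu
          have hvi := inv_of_orderOf_two hv
          have huu := sq_of_orderOf_two hu
          rw [← huv, hui]
          calc u * (u * v) * u = (u * u) * v * u := by group
            _ = v⁻¹ * u⁻¹ := by rw [huu, hui, hvi]; group
            _ = (u * v)⁻¹ := by group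
        have huH : u ∈ Subgroup.centralizer ({t} : Set G) :=
          fusion h hy hy1 (by rw [hinvy]; exact K.inv_mem hy)
        refine ⟨huH, ?_⟩
        intro huK
        have hc := h.comm u huK y hy
        have hyy : y * y = 1 := by
          have : y = y⁻¹ := by
            rw [← hinvy, hc]; group
          calc y * y = y * y⁻¹ := by rw [← this]
            _ = 1 := by group
        have hyt := invol_K h hy (orderOf_two_of_sq hyy hy1)
        have hut := invol_K h huK hu
        have hv1 : v = 1 := by
          have : v = u⁻¹ * y := by rw [← huv]; group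
          rw [this, hyt, hut]; group
        rw [hv1] at hv
        simp at hv⟩
      invFun := fun u => ⟨(u.1, u.1⁻¹ * y), by
        obtain ⟨u, huH, huK⟩ := u
        simp only
        refine ⟨invol_of_not_mem h huH huK, ?_, by group⟩
        apply invol_of_not_mem h
        · exact Subgroup.mul_mem _ (Subgroup.inv_mem _ huH) (hKH hy)
        · intro hc
          apply huK
          have : u = y * (u⁻¹ * y)⁻¹ := by group
          rw [this]
          exact K.mul_mem hy (K.inv_mem hc)⟩
      left_inv := by
        rintro ⟨⟨u, v⟩, hu, hv, huv⟩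
        simp only [Subtype.mk.injEq, Prod.mk.injEq, true_and]
        rw [← huv]; group
      right_inv := by
        rintro ⟨u, huH, huK⟩
        rfl }
  -- second equivalence: K ≃ H ∖ K
  have e2 : K ≃ {u : G // u ∈ Subgroup.centralizer ({t} : Set G) ∧ u ∉ K} :=
    { toFun := fun k => ⟨k.1 * s, Subgroup.mul_mem _ (hKH k.2) h.hsH, by
        intro hc
        apply h.hsK
        have : s = (k.1)⁻¹ * (k.1 * s) := by group
        rw [this]
        exact K.mul_mem (K.inv_mem k.2) hc⟩
      invFun := fun u => ⟨u.1 * s⁻¹, by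
        obtain ⟨u, huH, huK⟩ := u
        rcases mem_H h huH with hK | ⟨z, hz, rfl⟩
        · exact absurd hK huK
        · simp only
          have : z * s * s⁻¹ = z := by group
          rw [this]; exact hz⟩
      left_inv := by
        rintro ⟨k, hk⟩
        simp only [Subtype.mk.injEq]
        group
      right_inv := by
        rintro ⟨u, huH, huK⟩
        simp only [Subtype.mk.injEq]
        group }
  unfold S3282.beta
  rw [Nat.card_congr e1, ← Nat.card_congr e2]

end Cfsg.Agent.Lib.Helper14.S3282G2a
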