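import Mathlib
import Cfsg.Agent.Lib.Helper11.S3282Defs
import Cfsg.Agent.Lib.Helper9.BSW2
import Cfsg.Agent.Lib.Helper14.S3282G2a

/-!
Piece G2b of the S3282 farm-out (architect helper11): strongly real elements outside `K^G`.
-/

set_option autoImplicit false

namespace Cfsg.Agent.Lib.Helper14.S3282G2b

open Cfsg Cfsg.Agent.Lib.Helper11 Cfsg.Agent.Lib.Helper11.S3282
open Cfsg.Agent.Lib.Helper14.S3282G2a

universe u

variable {G : Type u} [Group G] {t s : G} {K : Subgroup G}

theorem mem_cent_iff {x g : G} : g ∈ Subgroup.centralizer ({x} : Set G) ↔ x * g = g * x := by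
  rw [Subgroup.mem_centralizer_iff]
  constructor
  · intro h; exact h x rfl
  · intro h y hy
    rw [Set.mem_singleton_iff] at hy
    subst hy; exact h

/-- the product of two involutions is inverted by the first one. -/
theorem inverts_of_pair {u v x : G} (hu : orderOf u = 2) (hv : orderOf v = 2) (huv : u * v = x) :
    u * x * u⁻¹ = x⁻¹ := by
  have hui := inv_of_orderOf_two hu
  have hvi := inv_of_orderOf_two hv
  have huu := sq_of_orderOf_two hu
  rw [← huv, hui]
  calc u * (u * v) * u = (u * u) * v * u := by group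
    _ = v⁻¹ * u⁻¹ := by rw [huu, hui, hvi]; group
    _ = (u * v)⁻¹ := by group

theorem invol_mem_conjSet (h : Hyp t s K) {z : G} (hz : orderOf z = 2) : z ∈ conjSet K := by
  refine ⟨ne_one_of_orderOf_two hz, ?_⟩
  obtain ⟨c, hc⟩ := isConj_iff.mp (h.hconj z t hz h.ht)
  exact ⟨c, by rw [hc]; exact h.htK⟩

theorem cent_le (h : Hyp t s K) {x : G} (hx : x ∈ K) (hx1 : x ≠ 1) :
    Subgroup.centralizer ({x} : Set G) ≤ Subgroup.centralizer ({t} : Set G) := by
  intro g hg
  rw [mem_cent_iff] at hg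
  apply fusion h hx hx1
  have : g * x * g⁻¹ = x := by rw [← hg]; group
  rw [this]; exact hx

theorem conj_mem_conjSet {x g : G} (hx : g * x * g⁻¹ ∈ conjSet K) : x ∈ conjSet K := by
  obtain ⟨h1, c, hc⟩ := hx
  refine ⟨?_, c * g, ?_⟩
  · rintro rfl
    apply h1; group
  · have : c * g * x * (c * g)⁻¹ = c * (g * x * g⁻¹) * c⁻¹ := by group
    rw [this]; exact hc

/-- `KG ∪ {1}` is closed under commuting. -/
theorem commute_conjSet (h : Hyp t s K) {x y : G} (hy : y ∈ conjSet K) (hxy : x * y = y * x)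
    (hx1 : x ≠ 1) : x ∈ conjSet K := by
  obtain ⟨hy1, g, hg⟩ := hy
  have hy'1 : g * y * g⁻¹ ≠ 1 := by
    intro hc
    apply hy1
    have : y = g⁻¹ * (g * y * g⁻¹) * g := by group
    rw [this, hc]; group
  have hx'1 : g * x * g⁻¹ ≠ 1 := by
    intro hc
    apply hx1
    have : x = g⁻¹ * (g * x * g⁻¹) * g := by group
    rw [this, hc]; group
  have hxH : g * x * g⁻¹ ∈ Subgroup.centralizer ({t} : Set G) := by
    apply cent_le h hg hy'1
    rw [mem_cent_iff]
    calc g * y * g⁻¹ * (g * x * g⁻¹) = g * (y * x) * g⁻¹ := by group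
      _ = g * (x * y) * g⁻¹ := by rw [hxy]
      _ = g * x * g⁻¹ * (g * y * g⁻¹) := by group
  by_cases hxK : g * x * g⁻¹ ∈ K
  · exact ⟨hx1, g, hxK⟩
  · exact conj_mem_conjSet (invol_mem_conjSet h (invol_of_not_mem h hxH hxK))

theorem sreal_of_beta_pos {x : G} (hβ : S3282.beta x ≠ 0) : SReal x := by
  unfold S3282.beta at hβ
  have hne : Nonempty {p : G × G // orderOf p.1 = 2 ∧ orderOf p.2 = 2 ∧ p.1 * p.2 = x} := by
    by_contra hc
    rw [not_nonempty_iff] at hc
    exact hβ Nat.card_of_isEmpty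
  obtain ⟨⟨⟨u, v⟩, hu, hv, huv⟩⟩ := hne
  exact ⟨u, hu, inverts_of_pair hu hv huv⟩

section fin
variable [Finite G]

/-- `x = u v` gives `u x u⁻¹ = x⁻¹`. -/
theorem G2_beta_pos (h : Hyp t s K) {x : G} (hx1 : x ≠ 1) (hxK : x ∉ conjSet K)
    (hβ : 0 < S3282.beta x) : x ∈ RO K :=
  ⟨hx1, hxK, sreal_of_beta_pos (Nat.pos_iff_ne_zero.mp hβ)⟩

theorem G2_beta_NR (h : Hyp t s K) {x : G} (hx : x ∈ NR K) : S3282.beta x = 0 := by
  by_contra hc
  exact hx.2.2 (sreal_of_beta_pos hc)

/-- `C(x)` has odd order for `x ∈ RO K`. -/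
theorem G2_odd (h : Hyp t s K) {x : G} (hx : x ∈ RO K) :
    Odd (Nat.card (Subgroup.centralizer ({x} : Set G))) := by
  rw [← Nat.not_even_iff_odd]
  intro heven
  have h2 : 2 ∣ Nat.card (Subgroup.centralizer ({x} : Set G)) := even_iff_two_dvd.mp heven
  haveI : Fact (Nat.Prime 2) := ⟨Nat.prime_two⟩
  obtain ⟨z, hz⟩ := exists_prime_orderOf_dvd_card' 2 h2
  have hz' : orderOf (z : G) = 2 := by rw [Subgroup.orderOf_coe]; exact hz
  have hzK := invol_mem_conjSet h hz'
  have hzx : x * (z : G) = (z : G) * x := mem_cent_iff.mp z.2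
  exact hx.2.1 (commute_conjSet h hzK hzx hx.1)

theorem G2_inverts (h : Hyp t s K) {x u : G} (hx : x ∈ RO K) (hu : orderOf u = 2)
    (hux : u * x * u⁻¹ = x⁻¹) :
    ∀ y ∈ Subgroup.centralizer ({x} : Set G), u * y * u⁻¹ = y⁻¹ := by
  have hui := inv_of_orderOf_two hu
  have huu := sq_of_orderOf_two hu
  apply Cfsg.Agent.Lib.Helper9.inverts_of_fixedPointFree huu
  · intro d hd
    rw [mem_cent_iff] at hd ⊢
    -- x * (u d u⁻¹) = (u d u⁻¹) * x
    have hux' : u⁻¹ * x * u = x⁻¹ := by
      have : u⁻¹ * x * u = u * x * u⁻¹ := by rw [hui]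
      rw [this, hux]
    have hd' : x⁻¹ * d = d * x⁻¹ := by
      calc x⁻¹ * d = x⁻¹ * (d * x) * x⁻¹ := by group
        _ = x⁻¹ * (x * d) * x⁻¹ := by rw [hd]
        _ = d * x⁻¹ := by group
    calc x * (u * d * u⁻¹) = u * ((u⁻¹ * x * u) * d) * u⁻¹ := by group
      _ = u * (d * (u⁻¹ * x * u)) * u⁻¹ := by rw [hux', hd']
      _ = u * d * u⁻¹ * x := by group
  · intro d hd hfix
    by_contra hd1
    rw [mem_cent_iff] at hd
    have hdu : d * u = u * d := by
      calc d * u = (u * d * u⁻¹) * u := by rw [hfix]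
        _ = u * d := by group
    have hdK := commute_conjSet h (invol_mem_conjSet h hu) hdu hd1
    exact hx.2.1 (commute_conjSet h hdK hd hx.1)

theorem G2_comm (h : Hyp t s K) {x : G} (hx : x ∈ RO K) :
    ∀ y ∈ Subgroup.centralizer ({x} : Set G), ∀ z ∈ Subgroup.centralizer ({x} : Set G),
      y * z = z * y := by
  obtain ⟨u, hu, hux⟩ := hx.2.2
  have hinv := G2_inverts h hx hu hux
  intro y hy z hz
  have h1 := hinv y hy
  have h2 := hinv z hz
  have h3 := hinv (y * z) (Subgroup.mul_mem _ hy hz)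
  have h4 : (y * z)⁻¹ = y⁻¹ * z⁻¹ := by
    rw [← h3, ← h1, ← h2]; group
  have h5 : (y * z)⁻¹ = (z * y)⁻¹ := by rw [h4]; group
  exact inv_injective h5

/-- for `y ∈ C(x)#`: `y ∈ RO K` and `C(y) = C(x)`. -/
theorem G2_cent (h : Hyp t s K) {x y : G} (hx : x ∈ RO K)
    (hy : y ∈ Subgroup.centralizer ({x} : Set G)) (hy1 : y ≠ 1) :
    y ∈ RO K ∧ Subgroup.centralizer ({y} : Set G) = Subgroup.centralizer ({x} : Set G) := by
  obtain ⟨u, hu, hux⟩ := hx.2.2
  have hyx : x * y = y * x := mem_cent_iff.mp hy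
  have hyRO : y ∈ RO K := by
    refine ⟨hy1, ?_, u, hu, G2_inverts h hx hu hux y hy⟩
    intro hyK
    exact hx.2.1 (commute_conjSet h hyK hyx hx.1)
  refine ⟨hyRO, le_antisymm ?_ ?_⟩
  · intro z hz
    have hxy : x ∈ Subgroup.centralizer ({y} : Set G) := mem_cent_iff.mpr hyx.symm
    rw [mem_cent_iff]
    exact G2_comm h hyRO x hxy z hz
  · intro z hz
    rw [mem_cent_iff]
    exact G2_comm h hx y hy z hz

/-- the involutions inverting `x ∈ RO K` are exactly the coset `C(x) u`; and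
`(u, v) ↦ u` is a bijection from pairs with `u v = x` onto them. -/
theorem G2_beta_RO (h : Hyp t s K) {x : G} (hx : x ∈ RO K) :
    S3282.beta x = Nat.card (Subgroup.centralizer ({x} : Set G)) := by
  obtain ⟨u, hu, hux⟩ := hx.2.2
  have hui := inv_of_orderOf_two hu
  have huu := sq_of_orderOf_two hu
  have hinv := G2_inverts h hx hu hux
  have hxinv : ∀ a : G, a * x * a⁻¹ = x⁻¹ → a ≠ 1 := by
    rintro a ha rfl
    have hxx : x * x = 1 := by
      have : x = x⁻¹ := by simpa using ha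
      calc x * x = x * x⁻¹ := by rw [← this]
        _ = 1 := by group
    exact hx.2.1 (invol_mem_conjSet h (orderOf_two_of_sq hxx hx.1))
  -- facts about `c * u`, `c ∈ C(x)`
  have hcu_inv : ∀ c ∈ Subgroup.centralizer ({x} : Set G), (c * u) * x * (c * u)⁻¹ = x⁻¹ := by
    intro c hc
    have hc' : x * c = c * x := mem_cent_iff.mp hc
    calc c * u * x * (c * u)⁻¹ = c * (u * x * u⁻¹) * c⁻¹ := by group
      _ = (c * x * c⁻¹)⁻¹ := by rw [hux]; group
      _ = x⁻¹ := by rw [← hc']; group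
  have hcu_sq : ∀ c ∈ Subgroup.centralizer ({x} : Set G), (c * u) * (c * u) = 1 := by
    intro c hc
    have := hinv c hc
    rw [hui] at this
    calc c * u * (c * u) = c * (u * c * u) := by group
      _ = 1 := by rw [this]; group
  have hcu_ord : ∀ c ∈ Subgroup.centralizer ({x} : Set G), orderOf (c * u) = 2 := fun c hc =>
    orderOf_two_of_sq (hcu_sq c hc) (hxinv _ (hcu_inv c hc))
  have e : Subgroup.centralizer ({x} : Set G) ≃
      {p : G × G // orderOf p.1 = 2 ∧ orderOf p.2 = 2 ∧ p.1 * p.2 = x} :=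
    { toFun := fun c => ⟨(c.1 * u, (c.1 * u)⁻¹ * x), by
        obtain ⟨c, hc⟩ := c
        simp only
        refine ⟨hcu_ord c hc, ?_, by group⟩
        apply orderOf_two_of_sq
        · have h1 := hcu_inv c hc
          have h2 : (c * u)⁻¹ = c * u := inv_eq_of_mul_eq_one_left (hcu_sq c hc)
          rw [h2] at h1 ⊢
          calc c * u * x * (c * u * x) = (c * u * x * (c * u)) * x := by group
            _ = 1 := by rw [h1]; group
        · intro h1
          -- x = c * u would be an involution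
          have hxcu : x = c * u := by
            calc x = (c * u) * ((c * u)⁻¹ * x) := by group
              _ = c * u := by rw [h1]; group
          exact hx.2.1 (invol_mem_conjSet h (by rw [hxcu]; exact hcu_ord c hc))⟩
      invFun := fun p => ⟨p.1.1 * u⁻¹, by
        obtain ⟨⟨a, b⟩, ha, hb, hab⟩ := p
        simp only
        have hax := inverts_of_pair ha hb hab
        rw [mem_cent_iff]
        have hux' : u⁻¹ * x * u = x⁻¹ := by
          have : u⁻¹ * x * u = u * x * u⁻¹ := by rw [hui]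
          rw [this, hux]
        have hax' : a * x⁻¹ * a⁻¹ = x := by
          calc a * x⁻¹ * a⁻¹ = (a * x * a⁻¹)⁻¹ := by group
            _ = x := by rw [hax]; group
        calc x * (a * u⁻¹) = (a * x⁻¹ * a⁻¹) * (a * u⁻¹) := by rw [hax']
          _ = a * (u⁻¹ * x * u)  * u⁻¹ := by rw [hux']; group
          _ = a * u⁻¹ * x := by group⟩
      left_inv := by
        rintro ⟨c, hc⟩
        simp only [Subtype.mk.injEq]
        group
      right_inv := by
        rintro ⟨⟨a, b⟩, ha, hb, hab⟩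
        simp only [Subtype.mk.injEq, Prod.mk.injEq]
        refine ⟨by group, ?_⟩
        rw [← hab]; group }
  unfold S3282.beta
  rw [Nat.card_congr e]

end fin

end Cfsg.Agent.Lib.Helper14.S3282G2b
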