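import Mathlib
import Cfsg.Agent.Lib.Helper15.Witt5
import Cfsg.Agent.Lib.Helper6.Dickson

/-!
# Type calculus TC12, abstract part: quadratic spaces with the same Witt data are isometric

* `quad_ext_basis`, `exists_isometry_of_bases`: a quadratic form is determined by its values and polar values on a basis;
* `exists_hypFamily_of_ts`: a non-degenerate space of dimension `2m` with a totally singular `m`-space has a hyperbolic family;
* `exists_isometry_of_hyp`, `exists_isometry_of_ell`: the isometries.
-/

set_option autoImplicit false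

namespace Cfsg.Agent.Lib.Helper14.OETypeTC12

open Module QuadraticMap Cfsg.Agent.Lib.Helper15

universe u v

section ext

variable {F : Type*} [Field F] {V V' : Type*} [AddCommGroup V] [Module F V] [AddCommGroup V'] [Module F V']

theorem polar_comp_linear (Q' : QuadraticForm F V') (φ : V →ₗ[F] V') (a b : V) :
    polar (Q'.comp φ) a b = polar Q' (φ a) (φ b) := by
  unfold polar
  simp only [QuadraticMap.comp_apply, map_add]

/-- two quadratic forms agreeing on a basis, with polar forms agreeing on the basis, are equal -/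
theorem quad_ext_basis {κ : Type*} (b : Basis κ F V) (Q₁ Q₂ : QuadraticForm F V)
    (h1 : ∀ i, Q₁ (b i) = Q₂ (b i)) (h2 : ∀ i j, polar Q₁ (b i) (b j) = polar Q₂ (b i) (b j)) (v : V) :
    Q₁ v = Q₂ v := by
  have hpol : polarBilin Q₁ = polarBilin Q₂ := by
    apply b.ext
    intro i
    apply b.ext
    intro j
    exact h2 i j
  have hpol' : ∀ x y, polar Q₁ x y = polar Q₂ x y := fun x y => by
    have := LinearMap.congr_fun (LinearMap.congr_fun hpol x) y
    simpa using this
  have hv : v ∈ Submodule.span F (Set.range b) := by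
    rw [b.span_eq]
    trivial
  induction hv using Submodule.span_induction with
  | mem x hx =>
    obtain ⟨i, rfl⟩ := hx
    exact h1 i
  | zero => rw [QuadraticMap.map_zero, QuadraticMap.map_zero]
  | add x y _ _ hx hy => rw [quad_add, quad_add, hx, hy, hpol']
  | smul c x _ hx => rw [QuadraticMap.map_smul, QuadraticMap.map_smul, hx]

/-- bases with the same values and polar values give an isometry -/
theorem exists_isometry_of_bases {κ : Type*} (b : Basis κ F V) (b' : Basis κ F V') (Q : QuadraticForm F V)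
    (Q' : QuadraticForm F V') (h1 : ∀ i, Q (b i) = Q' (b' i))
    (h2 : ∀ i j, polar Q (b i) (b j) = polar Q' (b' i) (b' j)) :
    ∃ φ : V ≃ₗ[F] V', ∀ v, Q' (φ v) = Q v := by
  refine ⟨b.equiv b' (Equiv.refl κ), ?_⟩
  intro v
  have hb : ∀ i, (b.equiv b' (Equiv.refl κ)) (b i) = b' i := fun i => by
    rw [Basis.equiv_apply]
    rfl
  have := quad_ext_basis b (Q'.comp (b.equiv b' (Equiv.refl κ)).toLinearMap) Q ?_ ?_ v
  · simpa using this
  · intro i
    rw [QuadraticMap.comp_apply]
    simp only [LinearEquiv.coe_coe]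
    rw [hb, h1]
  · intro i j
    rw [polar_comp_linear]
    simp only [LinearEquiv.coe_coe]
    rw [hb, hb, h2]

end ext

section hyp

variable {F : Type v} [Field F]

/-- extending a hyperbolic family of the perp of a hyperbolic pair by that pair -/
theorem isHypFamily_cons {V : Type*} [AddCommGroup V] [Module F V] (Q : QuadraticForm F V) (x y : V)
    (hQx : Q x = 0) (hQy : Q y = 0) (hxy : polar Q x y = 1) {k : ℕ} (e f : Fin k → perpPair Q x y)
    (h : IsHypFamily (Q.comp (perpPair Q x y).subtype) e f) :
    IsHypFamily Q (Fin.cons x (fun i => (e i : V)) : Fin (k + 1) → V) (Fin.cons y (fun i => (f i : V))) := by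
  obtain ⟨he, hf, hef, hee, hff⟩ := h
  have hperp : ∀ w : perpPair Q x y, polar Q x (w : V) = 0 ∧ polar Q y (w : V) = 0 := fun w =>
    (mem_perpPair Q x y w).mp w.2
  refine ⟨?_, ?_, ?_, ?_, ?_⟩
  · intro i
    refine Fin.cases ?_ (fun i => ?_) i
    · simpa using hQx
    · simpa using he i
  · intro i
    refine Fin.cases ?_ (fun i => ?_) i
    · simpa using hQy
    · simpa using hf i
  · intro i j
    refine Fin.cases ?_ (fun i => ?_) i <;> refine Fin.cases ?_ (fun j => ?_) j
    · simpa using hxy
    · simp only [Fin.cons_zero, Fin.cons_succ]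
      rw [(hperp (f j)).1, if_neg (Fin.succ_ne_zero j).symm]
    · simp only [Fin.cons_zero, Fin.cons_succ]
      rw [polar_comm, (hperp (e i)).2, if_neg (Fin.succ_ne_zero i)]
    · simp only [Fin.cons_succ]
      have := hef i j
      rw [polar_comp_subtype] at this
      rw [this]
      simp only [Fin.succ_inj]
  · intro i j
    refine Fin.cases ?_ (fun i => ?_) i <;> refine Fin.cases ?_ (fun j => ?_) j
    · simp only [Fin.cons_zero]
      rw [polar_self, hQx, smul_zero]
    · simp only [Fin.cons_zero, Fin.cons_succ]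
      exact (hperp (e j)).1
    · simp only [Fin.cons_zero, Fin.cons_succ]
      rw [polar_comm]
      exact (hperp (e i)).1
    · simp only [Fin.cons_succ]
      have := hee i j
      rwa [polar_comp_subtype] at this
  · intro i j
    refine Fin.cases ?_ (fun i => ?_) i <;> refine Fin.cases ?_ (fun j => ?_) j
    · simp only [Fin.cons_zero]
      rw [polar_self, hQy, smul_zero]
    · simp only [Fin.cons_zero, Fin.cons_succ]
      exact (hperp (f j)).2
    · simp only [Fin.cons_zero, Fin.cons_succ]
      rw [polar_comm]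
      exact (hperp (f i)).2
    · simp only [Fin.cons_succ]
      have := hff i j
      rwa [polar_comp_subtype] at this

/-- a non-degenerate quadratic space of dimension `2m` containing a totally singular subspace of dimension `m` has a
hyperbolic family of `m` pairs (any field) -/
theorem exists_hypFamily_of_ts (m : ℕ) : ∀ {V : Type u} [AddCommGroup V] [Module F V] [FiniteDimensional F V]
    (Q : QuadraticForm F V), (polarBilin Q).Nondegenerate → finrank F V = 2 * m →
    ∀ U : Submodule F V, (∀ u ∈ U, Q u = 0) → finrank F U = m → ∃ e f : Fin m → V, IsHypFamily Q e f := by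
  induction m with
  | zero =>
    intro V _ _ _ Q _ _ U _ _
    exact ⟨Fin.elim0, Fin.elim0, fun i => i.elim0, fun i => i.elim0, fun i => i.elim0, fun i => i.elim0,
      fun i => i.elim0⟩
  | succ m ih =>
    intro V _ _ _ Q hQ hd U hU hUd
    have hUne : U ≠ ⊥ := by
      intro h
      rw [h, finrank_bot] at hUd
      omega
    obtain ⟨x, hxU, hx0⟩ := Submodule.exists_mem_ne_zero_of_ne_bot hUne
    have hQx : Q x = 0 := hU x hxU
    obtain ⟨y, hQy, hxy⟩ := exists_hyperbolic_partner Q hQ x hx0 hQx
    have hfr := finrank_perpPair Q x y hQy hQx hxy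
    have hnd := nondegenerate_perpPair Q hQ x y hQy hQx hxy
    -- the totally singular subspace of the perp
    have hpolU : ∀ u ∈ U, polar Q x u = 0 := by
      intro u hu
      have h1 := hU (x + u) (U.add_mem hxU hu)
      rw [quad_add, hQx, hU u hu] at h1
      simpa using h1
    set U₀ : Submodule F V := U ⊓ LinearMap.ker (polarBilin Q y) with hU₀
    have hU₀d : finrank F U₀ + 1 = finrank F U := by
      apply Cfsg.Agent.Lib.Helper6.finrank_inf_ker_add_one U (polarBilin Q y) x hxU
      rw [polarBilin_apply_apply, polar_comm, hxy]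
      exact one_ne_zero
    have hU₀le : U₀ ≤ perpPair Q x y := by
      intro u hu
      rw [mem_perpPair]
      exact ⟨hpolU u hu.1, by simpa using hu.2⟩
    set U₁ : Submodule F (perpPair Q x y) := U₀.comap (perpPair Q x y).subtype with hU₁
    have hU₁d : finrank F U₁ = m := by
      rw [hU₁, LinearEquiv.finrank_eq (Submodule.comapSubtypeEquivOfLe hU₀le)]
      omega
    have hU₁s : ∀ w ∈ U₁, (Q.comp (perpPair Q x y).subtype) w = 0 := by
      intro w hw
      rw [QuadraticMap.comp_apply]
      exact hU _ hw.1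
    obtain ⟨e, f, hef⟩ := ih (Q.comp (perpPair Q x y).subtype) hnd (by omega) U₁ hU₁s hU₁d
    exact ⟨_, _, isHypFamily_cons Q x y hQx hQy hxy e f hef⟩

end hyp

section iso

variable {F : Type*} [Field F] {V V' : Type*} [AddCommGroup V] [Module F V] [AddCommGroup V'] [Module F V']

/-- hyperbolic spaces of the same dimension are isometric -/
theorem exists_isometry_of_hyp [FiniteDimensional F V] [FiniteDimensional F V'] (Q : QuadraticForm F V)
    (Q' : QuadraticForm F V') {k : ℕ} (e f : Fin k → V) (e' f' : Fin k → V') (h : IsHypFamily Q e f)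
    (h' : IsHypFamily Q' e' f') (hd : finrank F V = 2 * k) (hd' : finrank F V' = 2 * k) :
    ∃ φ : V ≃ₗ[F] V', ∀ v, Q' (φ v) = Q v := by
  rcases Nat.eq_zero_or_pos k with hk | hk
  · subst hk
    have h0 : finrank F V = finrank F V' := by rw [hd, hd']
    refine ⟨LinearEquiv.ofFinrankEq V V' h0, ?_⟩
    intro v
    have : Subsingleton V := Module.finrank_zero_iff.mp (by rw [hd])
    have : Subsingleton V' := Module.finrank_zero_iff.mp (by rw [hd'])
    rw [Subsingleton.elim v 0, Subsingleton.elim ((LinearEquiv.ofFinrankEq V V' h0) 0) 0,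
      QuadraticMap.map_zero, QuadraticMap.map_zero]
  · obtain ⟨b, hbe, hbf⟩ := hyp_basis Q hk e f h hd
    obtain ⟨b', hbe', hbf'⟩ := hyp_basis Q' hk e' f' h' hd'
    obtain ⟨he, hf, hef, hee, hff⟩ := h
    obtain ⟨he', hf', hef', hee', hff'⟩ := h'
    apply exists_isometry_of_bases b b' Q Q'
    · rintro (i | i)
      · rw [hbe, hbe', he, he']
      · rw [hbf, hbf', hf, hf']
    · rintro (i | i) (j | j)
      · rw [hbe, hbe', hbe, hbe', hee, hee']
      · rw [hbe, hbe', hbf, hbf', hef, hef']
      · rw [hbf, hbf', hbe, hbe', polar_comm, hef, polar_comm, hef']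
      · rw [hbf, hbf', hbf, hbf', hff, hff']

/-- elliptic spaces of the same dimension with the same parameter `ζ` are isometric -/
theorem exists_isometry_of_ell [FiniteDimensional F V] [FiniteDimensional F V'] (Q : QuadraticForm F V)
    (Q' : QuadraticForm F V') {k : ℕ} (e f : Fin k → V) (e' f' : Fin k → V') (h : IsHypFamily Q e f)
    (h' : IsHypFamily Q' e' f') (hd : finrank F V = 2 * k + 2) (hd' : finrank F V' = 2 * k + 2)
    (x y : V) (x' y' : V') (ζ : F) (hx : Q x = 1) (hxy : polar Q x y = 1) (hy : Q y = ζ)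
    (hx' : Q' x' = 1) (hxy' : polar Q' x' y' = 1) (hy' : Q' y' = ζ)
    (hirr : ∀ t : F, t ^ 2 + t + ζ ≠ 0)
    (hxyef : ∀ i, polar Q x (e i) = 0 ∧ polar Q x (f i) = 0 ∧ polar Q y (e i) = 0 ∧ polar Q y (f i) = 0)
    (hxyef' : ∀ i, polar Q' x' (e' i) = 0 ∧ polar Q' x' (f' i) = 0 ∧ polar Q' y' (e' i) = 0 ∧
      polar Q' y' (f' i) = 0) :
    ∃ φ : V ≃ₗ[F] V', ∀ v, Q' (φ v) = Q v := by
  obtain ⟨b, hbe, hbf, hbx, hby⟩ := ell_basis Q e f h hd x y ζ hx hxy hy hirr hxyef
  obtain ⟨b', hbe', hbf', hbx', hby'⟩ := ell_basis Q' e' f' h' hd' x' y' ζ hx' hxy' hy' hirr hxyef'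
  obtain ⟨he, hf, hef, hee, hff⟩ := h
  obtain ⟨he', hf', hef', hee', hff'⟩ := h'
  have hb2 : ∀ i : Fin 2, b (Sum.inr i) = ![x, y] i := by
    intro i; fin_cases i
    · exact hbx
    · exact hby
  have hb2' : ∀ i : Fin 2, b' (Sum.inr i) = ![x', y'] i := by
    intro i; fin_cases i
    · exact hbx'
    · exact hby'
  apply exists_isometry_of_bases b b' Q Q'
  · rintro ((i | i) | i)
    · rw [hbe, hbe', he, he']
    · rw [hbf, hbf', hf, hf']
    · rw [hb2, hb2']
      fin_cases i
      · simp [hx, hx']
      · simp [hy, hy']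
  · rintro ((i | i) | i) ((j | j) | j)
    · rw [hbe, hbe', hbe, hbe', hee, hee']
    · rw [hbe, hbe', hbf, hbf', hef, hef']
    · rw [hbe, hbe', hb2, hb2']
      fin_cases j
      · simp [polar_comm Q (e i), polar_comm Q' (e' i), (hxyef i).1, (hxyef' i).1]
      · simp [polar_comm Q (e i), polar_comm Q' (e' i), (hxyef i).2.2.1, (hxyef' i).2.2.1]
    · rw [hbf, hbf', hbe, hbe', polar_comm, hef, polar_comm, hef']
    · rw [hbf, hbf', hbf, hbf', hff, hff']
    · rw [hbf, hbf', hb2, hb2']
      fin_cases j
      · simp [polar_comm Q (f i), polar_comm Q' (f' i), (hxyef i).2.1, (hxyef' i).2.1]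
      · simp [polar_comm Q (f i), polar_comm Q' (f' i), (hxyef i).2.2.2, (hxyef' i).2.2.2]
    · rw [hb2, hb2', hbe, hbe']
      fin_cases i
      · simp [(hxyef j).1, (hxyef' j).1]
      · simp [(hxyef j).2.2.1, (hxyef' j).2.2.1]
    · rw [hb2, hb2', hbf, hbf']
      fin_cases i
      · simp [(hxyef j).2.1, (hxyef' j).2.1]
      · simp [(hxyef j).2.2.2, (hxyef' j).2.2.2]
    · rw [hb2, hb2', hb2, hb2']
      fin_cases i <;> fin_cases j
      · simp [polar_self, hx, hx']
      · simp [hxy, hxy']
      · simp [polar_comm Q y x, polar_comm Q' y' x', hxy, hxy']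
      · simp [polar_self, hy, hy']

end iso

end Cfsg.Agent.Lib.Helper14.OETypeTC12
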