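import Mathlib
import Cfsg.Prelude.Def_GeometricClasses
import Cfsg.Agent.Lib.Helper14.OETypeTC12a

/-!
# Type calculus TC12 (even orthogonal rows): non-degenerate subspaces of the same dimension and the same type are isometric

* `areIsometricFor_of_plus` (TC12a): two non-degenerate subspaces of the same dimension, both of plus type, are isometric;
* `areIsometricFor_of_not_plus` (TC12b): two non-degenerate subspaces of the same even dimension, neither of plus type, are
  isometric.

All finite fields, both parities.  The Witt decomposition is helper15's `witt_main`.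
-/

set_option autoImplicit false

namespace Cfsg.Agent.Lib.Helper14.OETypeTC12

open Module QuadraticMap Cfsg Cfsg.Geo Cfsg.Agent.Lib.Helper15

/-! ### field lemmas: two irreducible polynomials `t² + t + ζ`, `t² + t + ζ'` -/

section field

variable {F : Type*} [Field F]

theorem not_isSquare_disc (h2 : (2 : F) ≠ 0) (ζ : F) (h : ∀ t : F, t ^ 2 + t + ζ ≠ 0) :
    ¬ IsSquare (1 - 4 * ζ) := by
  rintro ⟨r, hr⟩
  apply h ((r - 1) / 2)
  have h4 : (4 : F) ≠ 0 := by
    have : (4 : F) = 2 * 2 := by norm_num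
    rw [this]
    exact mul_ne_zero h2 h2
  field_simp
  linear_combination (-1 : F) * hr

theorem isSquare_mul_of_not [Fintype F] (a b : F) (ha : ¬ IsSquare a) (hb : ¬ IsSquare b) :
    IsSquare (a * b) := by
  classical
  have ha0 : a ≠ 0 := by
    rintro rfl
    exact ha ⟨0, by simp⟩
  have hb0 : b ≠ 0 := by
    rintro rfl
    exact hb ⟨0, by simp⟩
  rw [← quadraticChar_one_iff_isSquare (mul_ne_zero ha0 hb0), map_mul,
    quadraticChar_neg_one_iff_not_isSquare.mpr ha, quadraticChar_neg_one_iff_not_isSquare.mpr hb]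
  norm_num

theorem exists_adjust_odd [Fintype F] (h2 : (2 : F) ≠ 0) (ζ ζ' : F) (h : ∀ t : F, t ^ 2 + t + ζ ≠ 0)
    (h' : ∀ t : F, t ^ 2 + t + ζ' ≠ 0) : ∃ α β : F, 2 * α + β = 1 ∧ α ^ 2 + α * β + ζ' * β ^ 2 = ζ := by
  have hD := not_isSquare_disc h2 ζ h
  have hD' := not_isSquare_disc h2 ζ' h'
  obtain ⟨s, hs⟩ := isSquare_mul_of_not _ _ hD hD'
  have hD'0 : (1 - 4 * ζ') ≠ 0 := by
    intro h0
    exact hD' ⟨0, by rw [h0]; simp⟩
  refine ⟨(1 + s / (1 - 4 * ζ')) / 2, - s / (1 - 4 * ζ'), ?_, ?_⟩
  · field_simp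
    ring
  · have h4 : (4 : F) ≠ 0 := by
      have : (4 : F) = 2 * 2 := by norm_num
      rw [this]
      exact mul_ne_zero h2 h2
    field_simp
    linear_combination (1 - 4 * ζ') * hs

theorem exists_adjust_even [Fintype F] (h2 : (2 : F) = 0) (ζ ζ' : F) (h : ∀ t : F, t ^ 2 + t + ζ ≠ 0)
    (h' : ∀ t : F, t ^ 2 + t + ζ' ≠ 0) : ∃ α β : F, 2 * α + β = 1 ∧ α ^ 2 + α * β + ζ' * β ^ 2 = ζ := by
  classical
  -- the Artin-Schreier map
  let AS : F →+ F :=
    { toFun := fun a => a ^ 2 + a
      map_zero' := by simp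
      map_add' := fun a b => by
        show (a + b) ^ 2 + (a + b) = a ^ 2 + a + (b ^ 2 + b)
        linear_combination (a * b) * h2 }
  have hAS : ∀ a, AS a = a ^ 2 + a := fun a => rfl
  have hneg : ∀ a : F, -a = a := by
    intro a
    linear_combination (-a) * h2
  have hnot : ∀ z : F, (∀ t : F, t ^ 2 + t + z ≠ 0) → z ∉ AS.range := by
    rintro z hz ⟨t, rfl⟩
    apply hz t
    rw [hAS]
    linear_combination (t ^ 2 + t) * h2
  -- the kernel has at most two elements
  have hker : Nat.card AS.ker ≤ 2 := by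
    have hsub : (AS.ker : Set F) ⊆ {0, 1} := by
      intro a ha
      have ha' : a ^ 2 + a = 0 := ha
      have : a * (a + 1) = 0 := by linear_combination ha'
      rcases mul_eq_zero.mp this with h0 | h1
      · left; exact h0
      · right
        have : a = -1 := eq_neg_of_add_eq_zero_left h1
        rw [this, hneg]
        exact Set.mem_singleton _
    have h1 : Nat.card AS.ker = (AS.ker : Set F).ncard := (Nat.card_coe_set_eq _)
    rw [h1]
    calc (AS.ker : Set F).ncard ≤ ({0, 1} : Set F).ncard := Set.ncard_le_ncard hsub (Set.toFinite _)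
      _ ≤ 2 := Set.ncard_insert_le _ _ |>.trans (by simp)
  have hidx : AS.range.index = 2 := by
    have e1 := AddSubgroup.card_mul_index AS.ker
    have e2 := AddSubgroup.card_mul_index AS.range
    have e3 : AS.ker.index = Nat.card AS.range := AddSubgroup.index_ker AS
    have hpos : 0 < Nat.card AS.range := Nat.card_pos
    have hne1 : AS.range.index ≠ 1 := by
      intro h1
      rw [AddSubgroup.index_eq_one] at h1
      exact hnot ζ h (h1 ▸ AddSubgroup.mem_top ζ)
    have hne0 : AS.range.index ≠ 0 := AddSubgroup.index_ne_zero_of_finite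
    have hle : AS.range.index ≤ 2 := by
      rw [e3] at e1
      have : Nat.card AS.range * AS.range.index = Nat.card AS.ker * Nat.card AS.range := by
        rw [e2, e1]
      have h5 : AS.range.index = Nat.card AS.ker := by
        rw [mul_comm] at this
        exact Nat.eq_of_mul_eq_mul_right hpos this
      omega
    omega
  obtain ⟨a, ha⟩ := AddSubgroup.index_eq_two_iff.mp hidx
  have m1 : ζ + a ∈ AS.range := by
    rcases ha ζ with ⟨h1, _⟩ | ⟨h1, _⟩
    · exact h1
    · exact absurd h1 (hnot ζ h)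
  have m2 : ζ' + a ∈ AS.range := by
    rcases ha ζ' with ⟨h1, _⟩ | ⟨h1, _⟩
    · exact h1
    · exact absurd h1 (hnot ζ' h')
  have m3 : ζ + ζ' ∈ AS.range := by
    have := AS.range.add_mem m1 m2
    have e : ζ + a + (ζ' + a) = ζ + ζ' := by linear_combination a * h2
    rwa [e] at this
  obtain ⟨α, hα⟩ := m3
  rw [hAS] at hα
  refine ⟨α, 1, ?_, ?_⟩
  · linear_combination α * h2
  · linear_combination hα + ζ' * h2

/-- any two irreducible `t² + t + ζ`, `t² + t + ζ'` over a finite field are related by a substitution -/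
theorem exists_adjust [Fintype F] (ζ ζ' : F) (h : ∀ t : F, t ^ 2 + t + ζ ≠ 0)
    (h' : ∀ t : F, t ^ 2 + t + ζ' ≠ 0) : ∃ α β : F, 2 * α + β = 1 ∧ α ^ 2 + α * β + ζ' * β ^ 2 = ζ := by
  by_cases h2 : (2 : F) = 0
  · exact exists_adjust_even h2 ζ ζ' h h'
  · exact exists_adjust_odd h2 ζ ζ' h h'

end field

/-! ### abstract: totally singular span of a hyperbolic family, change of the elliptic pair -/

section abstract

variable {F : Type*} [Field F] {V : Type*} [AddCommGroup V] [Module F V]

theorem linearIndependent_of_hyp (Q : QuadraticForm F V) {k : ℕ} (e f : Fin k → V) (h : IsHypFamily Q e f) :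
    LinearIndependent F e := by
  rw [Fintype.linearIndependent_iff]
  intro g hg
  exact (hyp_coeff Q e f h g 0 0 (fun i => by simp) (by simpa using hg)).1

theorem polar_eq_zero_of_mem_span (Q : QuadraticForm F V) {k : ℕ} (e f : Fin k → V) (h : IsHypFamily Q e f)
    (v w : V) (hv : v ∈ Submodule.span F (Set.range e)) (hw : w ∈ Submodule.span F (Set.range e)) :
    polar Q v w = 0 := by
  obtain ⟨he, hf, hef, hee, hff⟩ := h
  have h1 : ∀ j, polar Q v (e j) = 0 := by
    intro j
    induction hv using Submodule.span_induction with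
    | mem x hx =>
      obtain ⟨i, rfl⟩ := hx
      exact hee i j
    | zero => simp
    | add x y _ _ hx hy => rw [polar_add_left, hx, hy, add_zero]
    | smul c x _ hx => rw [polar_smul_left, hx, smul_zero]
  induction hw using Submodule.span_induction with
  | mem x hx =>
    obtain ⟨i, rfl⟩ := hx
    exact h1 i
  | zero => simp
  | add x y _ _ hx hy => rw [polar_add_right, hx, hy, add_zero]
  | smul c x _ hx => rw [polar_smul_right, hx, smul_zero]

theorem quad_eq_zero_of_mem_span (Q : QuadraticForm F V) {k : ℕ} (e f : Fin k → V) (h : IsHypFamily Q e f)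
    (v : V) (hv : v ∈ Submodule.span F (Set.range e)) : Q v = 0 := by
  induction hv using Submodule.span_induction with
  | mem x hx =>
    obtain ⟨i, rfl⟩ := hx
    exact h.1 i
  | zero => simp
  | add x y hx hy ihx ihy => rw [quad_add, ihx, ihy, polar_eq_zero_of_mem_span Q e f h x y hx hy]; simp
  | smul c x _ hx => rw [QuadraticMap.map_smul, hx, smul_zero]

/-- in an elliptic plane the parameter `ζ` can be changed to any other admissible value -/
theorem exists_elliptic_adjust [Fintype F] (Q : QuadraticForm F V) {k : ℕ} (e f : Fin k → V) (x y : V) (ζ' ζ : F)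
    (hx : Q x = 1) (hxy : polar Q x y = 1) (hy : Q y = ζ') (hirr' : ∀ t : F, t ^ 2 + t + ζ' ≠ 0)
    (hirr : ∀ t : F, t ^ 2 + t + ζ ≠ 0)
    (hxyef : ∀ i, polar Q x (e i) = 0 ∧ polar Q x (f i) = 0 ∧ polar Q y (e i) = 0 ∧ polar Q y (f i) = 0) :
    ∃ y₂ : V, polar Q x y₂ = 1 ∧ Q y₂ = ζ ∧
      ∀ i, polar Q x (e i) = 0 ∧ polar Q x (f i) = 0 ∧ polar Q y₂ (e i) = 0 ∧ polar Q y₂ (f i) = 0 := by
  obtain ⟨α, β, h1, h2⟩ := exists_adjust ζ ζ' hirr hirr'
  refine ⟨α • x + β • y, ?_, ?_, ?_⟩
  · rw [polar_add_right, polar_smul_right, polar_smul_right, polar_self, hx, hxy]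
    simp only [smul_eq_mul]
    linear_combination h1
  · rw [quad_add, QuadraticMap.map_smul, QuadraticMap.map_smul, polar_smul_left, polar_smul_right, hx, hy, hxy]
    simp only [smul_eq_mul]
    linear_combination h2
  · intro i
    obtain ⟨a1, a2, a3, a4⟩ := hxyef i
    refine ⟨a1, a2, ?_, ?_⟩
    · rw [polar_add_left, polar_smul_left, polar_smul_left, a1, a3]
      simp
    · rw [polar_add_left, polar_smul_left, polar_smul_left, a2, a4]
      simp

end abstract

/-! ### the frozen vocabulary -/

section frozen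

variable {F : Type*} [Field F] {ι : Type} [Fintype ι] [DecidableEq ι] {Q : (ι → F) → F}

/-- a quadratic form given as a function, as a `QuadraticForm` -/
def toQF (hQ : IsNondegenerateQuadraticForm Q) : QuadraticForm F (ι → F) where
  toFun := Q
  toFun_smul := fun a x => by rw [hQ.smul, smul_eq_mul, pow_two]
  exists_companion' := ⟨LinearMap.mk₂ F (QuadraticMap.polar Q) hQ.polar_bilinear.add_left
    (fun c x v => by rw [hQ.polar_bilinear.smul_left, smul_eq_mul]) hQ.polar_bilinear.add_right
    (fun c v x => by rw [hQ.polar_bilinear.smul_right, smul_eq_mul]), fun x y => by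
      rw [LinearMap.mk₂_apply]
      unfold QuadraticMap.polar
      ring⟩

/-- the restriction to a subspace -/
def resQF (hQ : IsNondegenerateQuadraticForm Q) (W : Submodule F (ι → F)) : QuadraticForm F W :=
  (toQF hQ).comp W.subtype

theorem resQF_apply (hQ : IsNondegenerateQuadraticForm Q) (W : Submodule F (ι → F)) (w : W) :
    resQF hQ W w = Q (w : ι → F) := rfl

theorem polar_resQF (hQ : IsNondegenerateQuadraticForm Q) (W : Submodule F (ι → F)) (a b : W) :
    polar (resQF hQ W) a b = polar Q (a : ι → F) (b : ι → F) := rfl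

theorem nondegenerate_resQF (hQ : IsNondegenerateQuadraticForm Q) (W : Submodule F (ι → F))
    (hW : IsNondegenerateOn (polar Q) W) : (polarBilin (resQF hQ W)).Nondegenerate := by
  constructor
  · intro x hx
    by_contra hne
    have hne' : (x : ι → F) ≠ 0 := fun h => hne (Subtype.ext h)
    obtain ⟨y, hyW, hy⟩ := (hW x x.2 hne').2
    exact hy (hx ⟨y, hyW⟩)
  · intro y hy
    by_contra hne
    have hne' : (y : ι → F) ≠ 0 := fun h => hne (Subtype.ext h)
    obtain ⟨x, hxW, hx⟩ := (hW y y.2 hne').1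
    exact hx (hy ⟨x, hxW⟩)

/-- a hyperbolic family filling the subspace makes it of plus type -/
theorem isPlusTypeOn_of_hyp (hQ : IsNondegenerateQuadraticForm Q) (W : Submodule F (ι → F)) {k : ℕ}
    (e f : Fin k → W) (h : IsHypFamily (resQF hQ W) e f) (hd : finrank F W = 2 * k) : IsPlusTypeOn Q W := by
  refine ⟨(Submodule.span F (Set.range e)).map W.subtype, Submodule.map_subtype_le _ _, ?_, ?_⟩
  · rintro _ ⟨w, hw, rfl⟩
    exact quad_eq_zero_of_mem_span (resQF hQ W) e f h w hw
  · rw [Submodule.finrank_map_subtype_eq, finrank_span_eq_card (linearIndependent_of_hyp _ e f h), hd,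
      Fintype.card_fin]

/-- **TC12a** two non-degenerate subspaces of the same dimension, both of plus type, are isometric -/
theorem areIsometricFor_of_plus (hQ : IsNondegenerateQuadraticForm Q) (W W' : Submodule F (ι → F))
    (hW : IsNondegenerateOn (polar Q) W) (hW' : IsNondegenerateOn (polar Q) W')
    (hdim : finrank F W = finrank F W') (hp : IsPlusTypeOn Q W) (hp' : IsPlusTypeOn Q W') :
    AreIsometricFor Q W W' := by
  obtain ⟨U, hUW, hUs, hUd⟩ := hp
  obtain ⟨U', hUW', hUs', hUd'⟩ := hp'
  have hm' : finrank F U' = finrank F U := by omega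
  obtain ⟨e, f, hef⟩ := exists_hypFamily_of_ts (finrank F U) (resQF hQ W) (nondegenerate_resQF hQ W hW)
    hUd.symm (U.comap W.subtype) (fun u hu => hUs _ hu)
    (LinearEquiv.finrank_eq (Submodule.comapSubtypeEquivOfLe hUW))
  obtain ⟨e', f', hef'⟩ := exists_hypFamily_of_ts (finrank F U) (resQF hQ W') (nondegenerate_resQF hQ W' hW')
    (by omega) (U'.comap W'.subtype) (fun u hu => hUs' _ hu)
    ((LinearEquiv.finrank_eq (Submodule.comapSubtypeEquivOfLe hUW')).trans hm')
  obtain ⟨φ, hφ⟩ := exists_isometry_of_hyp (resQF hQ W) (resQF hQ W') e f e' f' hef hef' hUd.symm (by omega)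
  exact ⟨φ, fun w => hφ w⟩

/-- **TC12b** two non-degenerate subspaces of the same even dimension, neither of plus type, are isometric -/
theorem areIsometricFor_of_not_plus [Fintype F] (hQ : IsNondegenerateQuadraticForm Q)
    (W W' : Submodule F (ι → F))
    (hW : IsNondegenerateOn (polar Q) W) (hW' : IsNondegenerateOn (polar Q) W')
    (hdim : finrank F W = finrank F W') (hev : Even (finrank F W)) (hp : ¬ IsPlusTypeOn Q W)
    (hp' : ¬ IsPlusTypeOn Q W') : AreIsometricFor Q W W' := by
  obtain ⟨k, e, f, hef, hcase⟩ := witt_main (finrank F W) (resQF hQ W) (nondegenerate_resQF hQ W hW) rfl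
  obtain ⟨k', e', f', hef', hcase'⟩ := witt_main (finrank F W') (resQF hQ W') (nondegenerate_resQF hQ W' hW') rfl
  rcases hcase with h | ⟨h, -⟩ | ⟨h, x, y, ζ, hx, hxy, hy, hirr, hxyef⟩
  · exact absurd (isPlusTypeOn_of_hyp hQ W e f hef h) hp
  · exfalso
    rcases hev with ⟨j, hj⟩
    omega
  rcases hcase' with h' | ⟨h', -⟩ | ⟨h', x', y', ζ', hx', hxy', hy', hirr', hxyef'⟩
  · exact absurd (isPlusTypeOn_of_hyp hQ W' e' f' hef' h') hp'
  · exfalso
    rcases hev with ⟨j, hj⟩
    omega
  have hkk : k' = k := by omega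
  subst hkk
  obtain ⟨y₂, hxy₂, hy₂, hxyef₂⟩ := exists_elliptic_adjust (resQF hQ W') e' f' x' y' ζ' ζ hx' hxy' hy' hirr' hirr hxyef'
  obtain ⟨φ, hφ⟩ := exists_isometry_of_ell (resQF hQ W) (resQF hQ W') e f e' f' hef hef' h h' x y x' y₂ ζ
    hx hxy hy hx' hxy₂ hy₂ hirr hxyef hxyef₂
  exact ⟨φ, fun w => hφ w⟩

end frozen

end Cfsg.Agent.Lib.Helper14.OETypeTC12
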