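import Mathlib
import Cfsg.Prelude.Def_Perm

/-!
Cardinalities of the one-dimensional affine and semi-affine groups (`Cfsg.affineGroup`,
`Cfsg.semiaffineGroup`) of a ring, and of the automorphism group of a Galois field.
-/

set_option autoImplicit false

namespace Cfsg.Agent.Lib.Helper14.AffCard

universe u

section Ring

variable (R : Type u) [Ring R]

/-- The permutation `x ↦ a * x + b` of a ring, `a` a unit. -/
def affPerm {R : Type u} [Ring R] (a : Rˣ) (b : R) : Equiv.Perm R where
  toFun x := (a : R) * x + b
  invFun y := ((a⁻¹ : Rˣ) : R) * (y - b)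
  left_inv x := by simp
  right_inv y := by simp

/-- The permutation `x ↦ a * φ x + b` of a ring, `a` a unit and `φ` a ring automorphism. -/
def semiaffPerm {R : Type u} [Ring R] (a : Rˣ) (b : R) (φ : R ≃+* R) : Equiv.Perm R where
  toFun x := (a : R) * φ x + b
  invFun y := φ.symm (((a⁻¹ : Rˣ) : R) * (y - b))
  left_inv x := by simp
  right_inv y := by simp

theorem affPerm_mem {R : Type u} [Ring R] (a : Rˣ) (b : R) : affPerm a b ∈ Cfsg.affineGroup R :=
  ⟨a, b, fun _ => rfl⟩

theorem semiaffPerm_mem {R : Type u} [Ring R] (a : Rˣ) (b : R) (φ : R ≃+* R) :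
    semiaffPerm a b φ ∈ Cfsg.semiaffineGroup R :=
  ⟨a, b, φ, fun _ => rfl⟩

/-- The parametrisation of the affine group is a bijection. -/
theorem affParam_bijective :
    Function.Bijective (fun x : Rˣ × R => (⟨affPerm x.1 x.2, affPerm_mem x.1 x.2⟩ :
      Cfsg.affineGroup R)) := by
  constructor
  · rintro ⟨a, b⟩ ⟨a', b'⟩ h
    have h' : ∀ x : R, (a : R) * x + b = (a' : R) * x + b' := by
      intro x
      have := congrArg (fun σ : Cfsg.affineGroup R => (σ : Equiv.Perm R) x) h
      simpa [affPerm] using this
    have hb : b = b' := by simpa using h' 0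
    have ha : (a : R) = a' := by
      have := h' 1
      rw [hb] at this
      simpa using this
    exact Prod.ext (Units.ext ha) hb
  · rintro ⟨σ, a, b, hσ⟩
    refine ⟨(a, b), ?_⟩
    apply Subtype.ext
    apply Equiv.ext
    intro x
    simp [affPerm, hσ x]

/-- The parametrisation of the semi-affine group is a bijection. -/
theorem semiaffParam_bijective :
    Function.Bijective (fun x : Rˣ × R × (R ≃+* R) =>
      (⟨semiaffPerm x.1 x.2.1 x.2.2, semiaffPerm_mem x.1 x.2.1 x.2.2⟩ :
        Cfsg.semiaffineGroup R)) := by
  constructor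
  · rintro ⟨a, b, φ⟩ ⟨a', b', φ'⟩ h
    have h' : ∀ x : R, (a : R) * φ x + b = (a' : R) * φ' x + b' := by
      intro x
      have := congrArg (fun σ : Cfsg.semiaffineGroup R => (σ : Equiv.Perm R) x) h
      simpa [semiaffPerm] using this
    have hb : b = b' := by simpa using h' 0
    have ha : (a : R) = a' := by
      have := h' 1
      rw [hb] at this
      simpa using this
    have hφ : φ = φ' := by
      apply RingEquiv.ext
      intro x
      have := h' x
      rw [hb, ← ha] at this
      have h2 : (a : R) * φ x = (a : R) * φ' x := add_right_cancel this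
      exact a.isUnit.mul_left_cancel h2
    have hau : a = a' := Units.ext ha
    subst hau; subst hb; subst hφ; rfl
  · rintro ⟨σ, a, b, φ, hσ⟩
    refine ⟨(a, b, φ), ?_⟩
    apply Subtype.ext
    apply Equiv.ext
    intro x
    simp [semiaffPerm, hσ x]

theorem card_affineGroup :
    Nat.card (Cfsg.affineGroup R) = Nat.card Rˣ * Nat.card R := by
  rw [← Nat.card_prod]
  exact (Nat.card_congr (Equiv.ofBijective _ (affParam_bijective R))).symm

theorem card_semiaffineGroup :
    Nat.card (Cfsg.semiaffineGroup R) = Nat.card Rˣ * (Nat.card R * Nat.card (R ≃+* R)) := by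
  rw [← Nat.card_prod, ← Nat.card_prod]
  exact (Nat.card_congr (Equiv.ofBijective _ (semiaffParam_bijective R))).symm

end Ring

section Field

variable (F : Type u) [Field F] [Finite F]

theorem card_units_field : Nat.card Fˣ = Nat.card F - 1 := by
  classical
  have := Fintype.ofFinite F
  rw [Nat.card_eq_fintype_card, Nat.card_eq_fintype_card, Fintype.card_units]

theorem card_affineGroup_field :
    Nat.card (Cfsg.affineGroup F) = (Nat.card F - 1) * Nat.card F := by
  rw [card_affineGroup, card_units_field]

theorem card_semiaffineGroup_field :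
    Nat.card (Cfsg.semiaffineGroup F) = (Nat.card F - 1) * (Nat.card F * Nat.card (F ≃+* F)) := by
  rw [card_semiaffineGroup, card_units_field]

end Field

section Galois

variable (p : ℕ) [Fact p.Prime] (n : ℕ)

/-- Ring automorphisms of a `ZMod p`-algebra are `ZMod p`-algebra automorphisms. -/
def ringEquivEquivAlgEquiv (K : Type u) [Field K] [Algebra (ZMod p) K] :
    (K ≃+* K) ≃ (K ≃ₐ[ZMod p] K) where
  toFun f := AlgEquiv.ofRingEquiv (f := f) (fun x => by
    have : (f : K →+* K).comp (algebraMap (ZMod p) K) = algebraMap (ZMod p) K :=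
      Subsingleton.elim _ _
    exact RingHom.congr_fun this x)
  invFun g := g.toRingEquiv
  left_inv f := by ext x; rfl
  right_inv g := by ext x; rfl

theorem card_ringAut_galoisField (hn : n ≠ 0) :
    Nat.card (GaloisField p n ≃+* GaloisField p n) = n := by
  rw [Nat.card_congr (ringEquivEquivAlgEquiv p (GaloisField p n)),
    IsGalois.card_aut_eq_finrank, GaloisField.finrank p hn]

theorem card_galoisField (hn : n ≠ 0) : Nat.card (GaloisField p n) = p ^ n :=
  GaloisField.card p n hn

theorem card_affineGroup_galoisField (hn : n ≠ 0) :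
    Nat.card (Cfsg.affineGroup (GaloisField p n)) = (p ^ n - 1) * p ^ n := by
  rw [card_affineGroup_field, card_galoisField p n hn]

theorem card_semiaffineGroup_galoisField (hn : n ≠ 0) :
    Nat.card (Cfsg.semiaffineGroup (GaloisField p n)) = (p ^ n - 1) * (p ^ n * n) := by
  rw [card_semiaffineGroup_field, card_galoisField p n hn, card_ringAut_galoisField p n hn]

theorem card_semiaffineGroup_GF8 :
    Nat.card (Cfsg.semiaffineGroup (GaloisField 2 3)) = 168 := by
  rw [card_semiaffineGroup_galoisField 2 3 (by norm_num)]; norm_num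

theorem card_affineGroup_GF8 :
    Nat.card (Cfsg.affineGroup (GaloisField 2 3)) = 56 := by
  rw [card_affineGroup_galoisField 2 3 (by norm_num)]; norm_num

theorem card_semiaffineGroup_GF32 :
    Nat.card (Cfsg.semiaffineGroup (GaloisField 2 5)) = 4960 := by
  rw [card_semiaffineGroup_galoisField 2 5 (by norm_num)]; norm_num

end Galois

end Cfsg.Agent.Lib.Helper14.AffCard
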