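import Mathlib

/-!
# FO-1 for S2474: no nontrivial unipotent isometry of a nondegenerate symmetric space of dim ≤ 2
-/

set_option autoImplicit false

namespace Cfsg.Agent.Lib.Helper14.BCFO

theorem eq_one_of_unipotent_of_finrank_le_two {F V : Type*} [Field F] [AddCommGroup V]
    [Module F V] [FiniteDimensional F V] (h2 : (2 : F) ≠ 0) (B : V →ₗ[F] V →ₗ[F] F)
    (hsym : ∀ x y, B x y = B y x) (hnd : ∀ x, (∀ y, B x y = 0) → x = 0)
    (hV : Module.finrank F V ≤ 2) (u : Module.End F V)
    (hiso : ∀ x y, B (u x) (u y) = B x y) (k : ℕ) (hu : (u - 1) ^ k = 0) : u = 1 := by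
  by_contra hne
  set N : Module.End F V := u - 1 with hN
  have hN0 : N ≠ 0 := by
    intro h
    apply hne
    rw [hN, sub_eq_zero] at h
    exact h
  have huN : ∀ x, u x = x + N x := by
    intro x
    simp [hN]
  -- find `w` with `N w ≠ 0` and `N (N w) = 0`
  obtain ⟨w, hw1, hw2⟩ : ∃ w, N w ≠ 0 ∧ N (N w) = 0 := by
    classical
    have hex : ∃ j, N ^ j = 0 := ⟨k, hu⟩
    set m := Nat.find hex with hm
    have hm0 : N ^ m = 0 := Nat.find_spec hex
    have hm2 : 2 ≤ m := by
      by_contra hlt
      push Not at hlt
      interval_cases m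
      · rw [pow_zero] at hm0
        apply hN0
        rw [← mul_one N, hm0, mul_zero]
      · rw [pow_one] at hm0
        exact hN0 hm0
    have hmin : N ^ (m - 1) ≠ 0 := Nat.find_min hex (by omega)
    obtain ⟨x, hx⟩ : ∃ x, (N ^ (m - 1)) x ≠ 0 := by
      by_contra hcon
      push Not at hcon
      apply hmin
      apply LinearMap.ext
      intro x
      rw [hcon x]
      rfl
    refine ⟨(N ^ (m - 2)) x, ?_, ?_⟩
    · have : N ((N ^ (m - 2)) x) = (N ^ (m - 1)) x := by
        have e : m - 1 = (m - 2) + 1 := by omega
        rw [e, pow_succ', Module.End.mul_apply]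
      rw [this]
      exact hx
    · have : N (N ((N ^ (m - 2)) x)) = (N ^ m) x := by
        have e : m = (m - 2) + 1 + 1 := by omega
        conv_rhs => rw [e, pow_succ', pow_succ', Module.End.mul_apply, Module.End.mul_apply]
      rw [this, hm0]
      rfl
  set v := N w with hv
  have huv : u v = v := by rw [huN, hw2, add_zero]
  have huw : u w = w + v := huN w
  -- `B v v = 0`
  have hvv : B v v = 0 := by
    have h := hiso v w
    rw [huv, huw, map_add] at h
    have := h
    rwa [add_eq_left] at this
  -- `B w v = 0`
  have hwv : B w v = 0 := by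
    have h := hiso w w
    rw [huw] at h
    simp only [map_add, LinearMap.add_apply, hvv, add_zero] at h
    rw [hsym v w] at h
    have h' : 2 * B w v = 0 := by
      have : B w w + B w v + B w v = B w w := h
      linear_combination this
    rcases mul_eq_zero.mp h' with h3 | h3
    · exact absurd h3 h2
    · exact h3
  have hvw : B v w = 0 := by rw [hsym]; exact hwv
  -- `v` is orthogonal to everything
  have hall : ∀ y, B v y = 0 := by
    intro y
    have hdep : ¬ LinearIndependent F ![v, w, y] := by
      intro hli
      have := hli.fintype_card_le_finrank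
      simp at this
      omega
    rw [Fintype.not_linearIndependent_iff] at hdep
    obtain ⟨g, hg, i, hi⟩ := hdep
    rw [Fin.sum_univ_three] at hg
    simp only [Matrix.cons_val_zero, Matrix.cons_val_one, Matrix.cons_val] at hg
    by_cases hc : g 2 = 0
    · -- then `g 0 • v + g 1 • w = 0`
      rw [hc, zero_smul, add_zero] at hg
      have h1 := congrArg N hg
      rw [map_add, map_smul, map_smul, hw2, smul_zero, zero_add, map_zero] at h1
      have hg1 : g 1 = 0 := by
        rcases smul_eq_zero.mp h1 with h | h
        · exact h
        · exact absurd h hw1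
      rw [hg1, zero_smul, add_zero] at hg
      have hg0 : g 0 = 0 := by
        rcases smul_eq_zero.mp hg with h | h
        · exact h
        · exact absurd h hw1
      exfalso
      fin_cases i
      · exact hi hg0
      · exact hi hg1
      · exact hi hc
    · have hy : y = -((g 2)⁻¹ • (g 0 • v + g 1 • w)) := by
        have : g 2 • y = -(g 0 • v + g 1 • w) := by
          rw [eq_neg_iff_add_eq_zero, add_comm]
          exact hg
        rw [← smul_neg, ← this, smul_smul, inv_mul_cancel₀ hc, one_smul]
      rw [hy]
      simp only [map_neg, map_smul, map_add, smul_eq_mul, hvv, hvw, mul_zero, add_zero, neg_zero]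
  exact hw1 (hnd v hall)

end Cfsg.Agent.Lib.Helper14.BCFO
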