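import Mathlib

/-!
# FO-2 for S2474: a unipotent isometry of order `p` on a 3-dimensional nondegenerate symmetric space
-/

set_option autoImplicit false

namespace Cfsg.Agent.Lib.Helper14.BCFO

open Matrix

/-- Gram matrix of the model form -/
def gram3 (F : Type*) [Field F] : Matrix (Fin 3) (Fin 3) F := !![0, 0, 1; 0, 2, 0; 1, 0, 0]

/-- nilpotent part of the model isometry -/
def nil3 (F : Type*) [Field F] : Matrix (Fin 3) (Fin 3) F := !![0, -2, -1; 0, 0, 1; 0, 0, 0]

theorem nil3_cube (F : Type*) [Field F] : nil3 F ^ 3 = 0 := by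
  ext i j
  fin_cases i <;> fin_cases j <;>
    simp [nil3, pow_succ, Matrix.mul_apply, Fin.sum_univ_three]

theorem exists_unipotent_three {F : Type*} [Field F] (p : ℕ) [Fact p.Prime] [CharP F p]
    (hp2 : p ≠ 2) :
    ∃ (B : (Fin 3 → F) →ₗ[F] (Fin 3 → F) →ₗ[F] F) (u : Module.End F (Fin 3 → F)),
      (∀ x y, B x y = B y x) ∧ (∀ x, (∀ y, B x y = 0) → x = 0) ∧
      (∀ x y, B (u x) (u y) = B x y) ∧ u ^ p = 1 ∧ u ≠ 1 := by
  have h2 : (2 : F) ≠ 0 := by
    intro h
    have h' : ((2 : ℕ) : F) = 0 := by exact_mod_cast h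
    rw [CharP.cast_eq_zero_iff F p] at h'
    have hp : p.Prime := Fact.out
    have := (Nat.prime_dvd_prime_iff_eq hp Nat.prime_two).mp h'
    exact hp2 this
  have hB : ∀ x y : Fin 3 → F, Matrix.toLinearMap₂' F (gram3 F) x y
      = x 0 * y 2 + 2 * x 1 * y 1 + x 2 * y 0 := by
    intro x y
    simp [Matrix.toLinearMap₂'_apply, gram3, Fin.sum_univ_three]
    ring
  have hu : ∀ x : Fin 3 → F, Matrix.toLin' (1 + nil3 F) x
      = ![x 0 - 2 * x 1 - x 2, x 1 + x 2, x 2] := by
    intro x
    funext i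
    fin_cases i <;>
      simp [Matrix.toLin'_apply, Matrix.mulVec, dotProduct, nil3, Fin.sum_univ_three,
        Matrix.add_apply, Matrix.one_apply] <;> ring
  refine ⟨Matrix.toLinearMap₂' F (gram3 F), Matrix.toLin' (1 + nil3 F), ?_, ?_, ?_, ?_, ?_⟩
  · intro x y
    rw [hB, hB]
    ring
  · intro x hx
    have e0 := hx ![0, 0, 1]
    have e1 := hx ![0, 1, 0]
    have e2 := hx ![1, 0, 0]
    rw [hB] at e0 e1 e2
    simp at e0 e1 e2
    funext i
    fin_cases i
    · exact e0
    · rcases e1 with h | h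
      · exact absurd h h2
      · exact h
    · exact e2
  · intro x y
    rw [hB, hB, hu, hu]
    simp
    ring
  · rw [← Matrix.toLin'_pow]
    have hp : p.Prime := Fact.out
    have hp3 : 3 ≤ p := by
      have := hp.two_le
      omega
    have hcomm : Commute (1 : Matrix (Fin 3) (Fin 3) F) (nil3 F) := Commute.one_left _
    have hnp : nil3 F ^ p = 0 := by
      have : p = 3 + (p - 3) := by omega
      rw [this, pow_add, nil3_cube, zero_mul]
    rw [add_pow_char_of_commute p hcomm, one_pow, hnp, add_zero,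
      Matrix.toLin'_one]
    rfl
  · intro h
    have h1 := congrArg (fun f => f ![0, 0, 1] 0) h
    simp only [hu] at h1
    simp at h1

end Cfsg.Agent.Lib.Helper14.BCFO
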