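import Mathlib

/-!
# FO-3 for S2474: a transvection of order `p` on a nonzero nondegenerate alternating space
-/

set_option autoImplicit false

namespace Cfsg.Agent.Lib.Helper14.BCFO

theorem exists_transvection_alt {F V : Type*} [Field F] [AddCommGroup V] [Module F V] (p : ℕ)
    [Fact p.Prime] [CharP F p] (B : V →ₗ[F] V →ₗ[F] F) (halt : ∀ x, B x x = 0)
    (hnd : ∀ x, (∀ y, B x y = 0) → x = 0) (hV : ∃ x : V, x ≠ 0) :
    ∃ u : Module.End F V, (∀ x y, B (u x) (u y) = B x y) ∧ u ^ p = 1 ∧ u ≠ 1 := by
  obtain ⟨e, he⟩ := hV
  have hskew : ∀ x y, B x y = - B y x := by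
    intro x y
    have h := halt (x + y)
    simp only [map_add, LinearMap.add_apply, halt, zero_add, add_zero] at h
    exact eq_neg_of_add_eq_zero_right h
  set N : Module.End F V := (B.flip e).smulRight e with hN
  have hNa : ∀ v, N v = B v e • e := by
    intro v
    simp [hN, LinearMap.smulRight_apply, LinearMap.flip_apply]
  have hNN : N * N = 0 := by
    apply LinearMap.ext
    intro v
    simp only [Module.End.mul_apply, hNa, LinearMap.zero_apply, map_smul, LinearMap.smul_apply, halt,
      smul_eq_mul, mul_zero, zero_smul]
  refine ⟨1 + N, ?_, ?_, ?_⟩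
  · intro x y
    simp only [LinearMap.add_apply, Module.End.one_apply, hNa, map_add, map_smul, smul_eq_mul,
      LinearMap.smul_apply, halt, mul_zero, add_zero]
    rw [hskew e y]
    ring
  · have hpow : ∀ j : ℕ, (1 + N) ^ j = 1 + (j : F) • N := by
      intro j
      induction j with
      | zero => simp
      | succ j ih =>
        rw [pow_succ, ih]
        have : (1 + (j : F) • N) * (1 + N) = 1 + N + (j : F) • N + (j : F) • (N * N) := by
          rw [mul_add, mul_one, add_mul, one_mul, smul_mul_assoc]
          abel
        rw [this, hNN, smul_zero, add_zero]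
        push_cast
        rw [add_smul, one_smul]
        abel
    rw [hpow p, CharP.cast_eq_zero F p, zero_smul, add_zero]
  · intro h
    obtain ⟨y, hy⟩ : ∃ y, B e y ≠ 0 := by
      by_contra hcon
      push Not at hcon
      exact he (hnd e hcon)
    have hye : B y e ≠ 0 := by
      rw [hskew y e]
      exact neg_ne_zero.mpr hy
    have h1 : (1 + N) y = y := by rw [h]; rfl
    rw [LinearMap.add_apply, Module.End.one_apply, hNa] at h1
    have h2 : B y e • e = 0 := by
      have := h1
      rwa [add_eq_left] at this
    rcases smul_eq_zero.mp h2 with h3 | h3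
    · exact hye h3
    · exact he h3

end Cfsg.Agent.Lib.Helper14.BCFO
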