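import Mathlib
import Cfsg.Prelude.Def_ParabolicCharacters
import Cfsg.Agent.Lib.Helper8.ChevBN4
import Cfsg.Agent.Lib.Helper14.BNSt6

/-!
# The Steinberg character of a Chevalley group is the Steinberg character of its `(B, N)`-pair
-/

set_option autoImplicit false

namespace Cfsg.Agent.Lib.Helper14.BNSt

open Cfsg.Lie Matrix Cfsg.Agent.Lib.Helper8.Chev
open Cfsg.Agent.Lib.Helper3 Cfsg.Agent.Lib.Helper8.Weyl Cfsg.Agent.Lib.Helper8.BNCox

variable {D : ChevalleyDatum} {F : Type*} [Field F]

/-- the indexing of the distinguished generators -/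
noncomputable def idxS (hD : D ∈ [chevG2, chevB2, chevD4, chevF4, chevE6, chevE7, chevE8])
    (F : Type*) [Field F] (i : Fin D.rank) : (chevBN hD F).S :=
  ⟨sG hD F i, sG_mem_S hD i.2⟩

theorem idxS_bijective (hD : D ∈ [chevG2, chevB2, chevD4, chevF4, chevE6, chevE7, chevE8]) :
    Function.Bijective (idxS hD F) := by
  constructor
  · intro i j h
    have h1 : sG hD F i = sG hD F j := congrArg Subtype.val h
    have h2 : nG D F i = nG D F j := by
      rw [← coe_sG hD i.2, ← coe_sG hD j.2, h1]
    apply Fin.ext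
    apply bn_inj (F := F) hD i.2 j.2
    rw [h2, inv_mul_cancel]
    exact one_mem _
  · rintro ⟨s, hs⟩
    obtain ⟨i, hi, rfl⟩ := (mem_S_iff hD).1 hs
    exact ⟨⟨i, hi⟩, rfl⟩

/-- the equivalence between the indices of the fundamental roots and the distinguished generators -/
noncomputable def equivS (hD : D ∈ [chevG2, chevB2, chevD4, chevF4, chevE6, chevE7, chevE8])
    (F : Type*) [Field F] : Fin D.rank ≃ (chevBN hD F).S :=
  Equiv.ofBijective (idxS hD F) (idxS_bijective hD)

theorem coe_equivS (hD : D ∈ [chevG2, chevB2, chevD4, chevF4, chevE6, chevE7, chevE8])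
    (i : Fin D.rank) : ((equivS hD F i : (chevBN hD F).S) : ↥(D.group F)) = sG hD F i := rfl

/-- the standard parabolic subgroups are the parabolic subgroups of the `(B, N)`-pair -/
theorem parabolicIn_eq (hD : D ∈ [chevG2, chevB2, chevD4, chevF4, chevE6, chevE7, chevE8])
    (J : Finset (Fin D.rank)) :
    D.parabolicIn F (J.map Fin.valEmbedding) =
      par (chevBN hD F) (↑(J.map (equivS hD F).toEmbedding) : Set (chevBN hD F).S) := by
  have V := valid0_of_mem hD
  have V1 := valid1_of_mem hD
  have VJ := validJ_of_mem hD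
  unfold ChevalleyDatum.parabolicIn ChevalleyDatum.parabolicSubgroup par Cfsg.BNPair.parabolic
  have hT : {g : GL D.Idx F | ∃ j ∈ (↑(J.map Fin.valEmbedding) : Set ℕ), j < D.rank ∧
      (g : Matrix D.Idx D.Idx F) = D.nMat F (D.simple j) 1} ⊆ (D.group F : Set (GL D.Idx F)) := by
    rintro g ⟨j, _, hj, hg⟩
    have : g = nG D F j := Units.ext (by rw [hg, coe_nG VJ V1 hj])
    rw [this]
    exact nG_mem_group hD hj
  rw [Subgroup.subgroupOf_sup (borel_le_group V V1) ((Subgroup.closure_le _).2 hT),
    closure_subgroupOf_eq _ _ hT, chevBN_B]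
  congr 2
  ext n
  simp only [Set.mem_setOf_eq, Finset.coe_map, Set.mem_image, Finset.mem_coe]
  constructor
  · rintro ⟨j, ⟨i, hi, rfl⟩, hj, hn⟩
    refine ⟨equivS hD F i, ⟨i, hi, rfl⟩, ?_⟩
    rw [coe_equivS]
    apply Subtype.ext
    apply Units.ext
    rw [coe_sG hD i.2, coe_nG VJ V1 i.2]
    exact hn.symm
  · rintro ⟨s, ⟨i, hi, rfl⟩, rfl⟩
    refine ⟨i.val, ⟨i, hi, rfl⟩, i.2, ?_⟩
    show (((equivS hD F i : (chevBN hD F).S) : ↥(D.group F)) : GL D.Idx F).val = _
    rw [coe_equivS, coe_sG hD i.2, coe_nG VJ V1 i.2]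

section Sums

variable {M : Type*} [AddCommMonoid M]

/-- sums over subsets of `range r` as sums over finsets of `Fin r` -/
theorem sum_powerset_range (r : ℕ) (f : Finset ℕ → M) :
    ∑ J ∈ (Finset.range r).powerset, f J =
      ∑ J : Finset (Fin r), f (J.map Fin.valEmbedding) := by
  symm
  refine Finset.sum_bij' (i := fun J _ => J.map Fin.valEmbedding)
    (j := fun J hJ => J.attachFin (fun m hm => by
      have := Finset.mem_powerset.1 hJ hm
      simpa using this)) ?_ ?_ ?_ ?_ ?_
  · intro J _
    rw [Finset.mem_powerset]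
    intro m hm
    rw [Finset.mem_map] at hm
    obtain ⟨i, _, rfl⟩ := hm
    simp
  · intro J _
    exact Finset.mem_univ _
  · intro J _
    ext i
    simp only [Finset.mem_attachFin, Finset.mem_map, Fin.valEmbedding_apply]
    constructor
    · rintro ⟨a, ha, e⟩
      rwa [← Fin.ext e]
    · intro hi
      exact ⟨i, hi, rfl⟩
  · intro J hJ
    ext m
    simp only [Finset.mem_map, Finset.mem_attachFin, Fin.valEmbedding_apply]
    constructor
    · rintro ⟨i, hi, rfl⟩
      exact hi
    · intro hm
      have := Finset.mem_powerset.1 hJ hm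
      exact ⟨⟨m, by simpa using this⟩, hm, rfl⟩
  · intro J _
    rfl

end Sums

variable [Fintype F]

noncomputable instance instFintypeChevGroup : Fintype ↥(D.group F) := Fintype.ofFinite _

noncomputable instance instFintypeChevS
    (hD : D ∈ [chevG2, chevB2, chevD4, chevF4, chevE6, chevE7, chevE8]) :
    Fintype (chevBN hD F).S := Fintype.ofFinite _

/-- the Steinberg character of a Chevalley group is that of its `(B, N)`-pair -/
theorem steinbergCharacter_eq (hD : D ∈ [chevG2, chevB2, chevD4, chevF4, chevE6, chevE7, chevE8]) :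
    D.steinbergCharacter F = stBN (chevBN hD F) := by
  classical
  ext g
  unfold ChevalleyDatum.steinbergCharacter stBN
  rw [sum_powerset_range, Finset.powerset_univ]
  apply Finset.sum_equiv (Equiv.finsetCongr (equivS hD F))
  · intro J
    simp
  · intro J _
    rw [Equiv.finsetCongr_apply, Finset.card_map, Finset.card_map, parabolicIn_eq hD]

end Cfsg.Agent.Lib.Helper14.BNSt
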