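import Mathlib
import Cfsg.Agent.Lib.Helper8.ChevBN5
import Cfsg.Agent.Lib.Helper14.BNSt7
import Cfsg.Agent.Lib.Helper14.BNSt10

/-!
# Restriction to `B` of the Steinberg character of a Chevalley group
-/

set_option autoImplicit false

namespace Cfsg.Agent.Lib.Helper14.BNSt

open Cfsg.Lie Matrix Cfsg.Agent.Lib.Helper8.Chev
open Cfsg.Agent.Lib.Helper3 Cfsg.Agent.Lib.Helper8.Weyl Cfsg.Agent.Lib.Helper8.BNCox

section Abstract

variable {G : Type*} [Group G] (P : Cfsg.BNPair G)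

theorem map_conj_eq_of_rel {n n' : G} (h : BN.Rel P n n') :
    P.B.map (MulAut.conj n).toMonoidHom = P.B.map (MulAut.conj n').toMonoidHom := by
  have key : ∀ {a a' : G}, BN.Rel P a a' →
      P.B.map (MulAut.conj a).toMonoidHom ≤ P.B.map (MulAut.conj a').toMonoidHom := by
    intro a a' h
    rintro x ⟨y, hy, rfl⟩
    have ht : a⁻¹ * a' ∈ P.B := h
    refine ⟨(a⁻¹ * a')⁻¹ * y * (a⁻¹ * a'), P.B.mul_mem (P.B.mul_mem (P.B.inv_mem ht) hy) ht, ?_⟩
    show a' * ((a⁻¹ * a')⁻¹ * y * (a⁻¹ * a')) * a'⁻¹ = a * y * a⁻¹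
    group
  exact le_antisymm (key h) (key h.symm)

variable [hN : (T P).Normal] [Fintype G] [Fintype P.S]

/-- a transportable form of the restriction formula -/
theorem stBN_restrict' (n0 : P.N) (hn0 : proj P n0 = (exSys P).w0) (B' H' : Subgroup G)
    (hB : P.B = B') (hH : P.B ⊓ P.B.map (MulAut.conj (n0 : G)).toMonoidHom = H') (b : ↥B') :
    stBN P (b : G) = Cfsg.fixedPointCharacter (H'.subgroupOf B') b := by
  subst hB
  subst hH
  rw [stBN_restrict P b]
  have hrel : BN.Rel P ((repN P (exSys P).w0 : P.N) : G) (n0 : G) := by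
    rw [← proj_eq_iff, proj_repN, hn0]
  rw [map_conj_eq_of_rel P hrel]

/-- a criterion for an element of `N` to represent the element of full descent -/
theorem proj_eq_w0_of (n0 : P.N)
    (h : ∀ s ∈ P.S, ∃ a ∈ P.B, s * (a * (n0 : G)) ∈ BN.C P (n0 : G)) :
    proj P n0 = (exSys P).w0 := by
  classical
  apply (exSys P).full_descent_unique _ (exSys P).w0_DL
  intro i
  unfold ExSys.DL
  obtain ⟨a, ha, hmem⟩ := h (i : G) i.2
  have hiN : (i : G) ∈ P.N := P.subset i.2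
  have e : sW P i * proj P n0 = proj P ⟨(i : G) * (n0 : G), P.N.mul_mem hiN n0.2⟩ := by
    rw [← proj_S, ← map_mul]; rfl
  rw [e, ell_proj, ell_proj]
  by_contra hcon
  push Not at hcon
  have h1 : a * (n0 : G) ∈ BN.C P (n0 : G) := BN.mul_left_mem_C P ha (BN.self_mem_C P _)
  have h2 := BN.smul_mem_of_len_le P n0.2 i.2 hcon h1
  have h3 : BN.C P ((i : G) * (n0 : G)) = BN.C P (n0 : G) := by
    rw [← BN.C_eq_of_mem P h2, BN.C_eq_of_mem P hmem]
  exact BN.not_rel_smul P i.2 n0.2 (BN.bruhat_unique P (P.N.mul_mem hiN n0.2) n0.2 h3)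

end Abstract

variable {D : ChevalleyDatum} {F : Type*} [Field F]

/-- conjugation by an element of the normaliser fixes a subgroup -/
theorem map_conj_of_mem_normalizer {Γ : Type*} [Group Γ] (H : Subgroup Γ) {n : Γ}
    (hn : n ∈ Subgroup.normalizer (H : Set Γ)) : H.map (MulAut.conj n).toMonoidHom = H := by
  ext x
  constructor
  · rintro ⟨y, hy, rfl⟩
    exact (Subgroup.mem_normalizer_iff.1 hn y).1 hy
  · intro hx
    have hn' := Subgroup.inv_mem _ hn
    refine ⟨n⁻¹ * x * n, ?_, ?_⟩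
    · have := (Subgroup.mem_normalizer_iff.1 hn' x).1 hx
      simpa using this
    · show n * (n⁻¹ * x * n) * n⁻¹ = x
      group

theorem chev_w0_data (hD : D ∈ [chevG2, chevB2, chevD4, chevF4, chevE6, chevE7, chevE8]) :
    ∃ n0 : (chevBN hD F).N,
      (∀ s ∈ (chevBN hD F).S, ∃ a ∈ (chevBN hD F).B,
        s * (a * (n0 : ↥(D.group F))) ∈ BN.C (chevBN hD F) (n0 : ↥(D.group F))) ∧
      (chevBN hD F).B ⊓ (chevBN hD F).B.map (MulAut.conj (n0 : ↥(D.group F))).toMonoidHom =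
        (D.diagonalSubgroup F).subgroupOf (D.group F) := by
  have V := valid0_of_mem hD
  have V1 := valid1_of_mem hD
  have J := validJ_of_mem hD
  have H := validH_of_mem hD
  have Pp := posP_of_mem hD
  have Tr := triP_of_mem hD
  have hRP := checkRP_of_mem hD
  obtain ⟨n, hn, hconj⟩ := exists_w0_conj (F := F) hD
  have hnG : n ∈ D.group F := monomial_le_group V V1 hn
  let nG0 : ↥(D.group F) := ⟨n, hnG⟩
  have hnN : nG0 ∈ (chevBN hD F).N := (mem_chevBN_N hD).2 hn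
  refine ⟨⟨nG0, hnN⟩, ?_, ?_⟩
  · intro s hs
    obtain ⟨i, hi, rfl⟩ := (mem_S_iff hD).1 hs
    have hp := (J.S i hi).1
    have hppos := (refl_pos J hRP hi).1
    have hnp := V.neg_lt hp
    have hnneg : D.neg (D.simple i) < D.nroots / 2 := by
      rw [V.neg_eq _ hp]
      have := V.even
      omega
    obtain ⟨a1, h1⟩ := exists_unit_x V V1 hp (1 : F)
    obtain ⟨a2, h2⟩ := exists_unit_x V V1 hnp (-(1 : F)⁻¹)
    have e : nG D F i = a1 * a2 * a1 := by
      apply Units.ext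
      rw [coe_nG J V1 hi, nMat_eq_wN, Units.val_mul, Units.val_mul, h1, h2, x_eq_xN, x_eq_xN]
      simp [ChevalleyDatum.nWord, wN_cons, Matrix.mul_assoc]
    have ha1U : a1 ∈ D.posUnipotent F := Subgroup.subset_closure ⟨_, _, (Pp _ hp).1.mpr hppos, h1⟩
    have ha2V : a2 ∈ D.negUnipotent F := Subgroup.subset_closure ⟨_, _, (Pp _ hnp).2.mpr hnneg, h2⟩
    -- `n⁻¹ a2 n ∈ U`
    rw [← hconj] at ha2V
    obtain ⟨u, hu, hu2⟩ := ha2V
    have hu2' : n * u * n⁻¹ = a2 := hu2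
    have ha1G : a1 ∈ D.group F := pos_le_group ha1U
    have huG : u ∈ D.group F := pos_le_group hu
    let A1 : ↥(D.group F) := ⟨a1, ha1G⟩
    let U0 : ↥(D.group F) := ⟨u, huG⟩
    have hA1B : A1 ∈ (chevBN hD F).B := (mem_chevBN_B hD).2 (pos_le_borel ha1U)
    have hU0B : U0 ∈ (chevBN hD F).B := (mem_chevBN_B hD).2 (pos_le_borel hu)
    refine ⟨A1⁻¹, inv_mem hA1B, ?_⟩
    have e2 : sG hD F i * (A1⁻¹ * nG0) = A1 * nG0 * U0 := by
      apply Subtype.ext
      show ((sG hD F i : ↥(D.group F)) : GL D.Idx F) * (a1⁻¹ * n) = a1 * n * u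
      rw [coe_sG hD hi, e, ← hu2']
      group
    show sG hD F i * (A1⁻¹ * nG0) ∈ BN.C (chevBN hD F) nG0
    rw [e2]
    exact BN.mul_right_mem_C _ hU0B (BN.mul_left_mem_C _ hA1B (BN.self_mem_C _ _))
  · -- `B ∩ ⁿB = H`
    have hmapB : (D.borelSubgroup F).map (MulAut.conj n).toMonoidHom =
        D.negUnipotent F ⊔ D.diagonalSubgroup F := by
      unfold ChevalleyDatum.borelSubgroup
      rw [Subgroup.map_sup, hconj, map_conj_of_mem_normalizer _ (monomial_le_normalizer hD hn)]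
    ext x
    rw [Subgroup.mem_inf, mem_chevBN_B, Subgroup.mem_subgroupOf,
      ← borel_inf_neg_sup_diagonal (F := F) J V1 H Tr Pp, Subgroup.mem_inf, ← hmapB]
    apply and_congr Iff.rfl
    constructor
    · rintro ⟨y, hy, rfl⟩
      exact ⟨(y : GL D.Idx F), (mem_chevBN_B hD).1 hy, rfl⟩
    · rintro ⟨y, hy, e⟩
      have hyG : y ∈ D.group F := borel_le_group V V1 hy
      refine ⟨⟨y, hyG⟩, (mem_chevBN_B hD).2 hy, ?_⟩
      apply Subtype.ext
      exact e

end Cfsg.Agent.Lib.Helper14.BNSt
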