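import Mathlib
import Cfsg.Agent.Lib.Helper8.ChevOrd2
import Cfsg.Agent.Lib.Helper14.BNSt11

/-!
# The degree of the Steinberg character of a Chevalley group
-/

set_option autoImplicit false

namespace Cfsg.Agent.Lib.Helper14.BNSt

open Cfsg.Lie Matrix Cfsg.Agent.Lib.Helper8.Chev
open Cfsg.Agent.Lib.Helper3 Cfsg.Agent.Lib.Helper8.Weyl Cfsg.Agent.Lib.Helper8.BNCox

theorem fpc_one {G : Type*} [Group G] (H : Subgroup G) :
    Cfsg.fixedPointCharacter H 1 = (Nat.card (G ⧸ H) : ℂ) := by
  unfold Cfsg.fixedPointCharacter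
  congr 1
  apply Nat.card_congr
  exact Equiv.subtypeUnivEquiv (fun x => by simp)

variable {D : ChevalleyDatum} {F : Type*} [Field F] [Fintype F]

/-- the restriction of the Steinberg character to `B` -/
theorem steinberg_restrict (hD : D ∈ [chevG2, chevB2, chevD4, chevF4, chevE6, chevE7, chevE8])
    (b : ↥((D.borelSubgroup F).subgroupOf (D.group F))) :
    D.steinbergCharacter F (b : ↥(D.group F)) =
      Cfsg.fixedPointCharacter (((D.diagonalSubgroup F).subgroupOf (D.group F)).subgroupOf
        ((D.borelSubgroup F).subgroupOf (D.group F))) b := by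
  have := tNormal (chevBN hD F)
  obtain ⟨n0, h1, h2⟩ := chev_w0_data (F := F) hD
  have hn0 := proj_eq_w0_of (chevBN hD F) n0 h1
  rw [steinbergCharacter_eq hD]
  exact stBN_restrict' (chevBN hD F) n0 hn0 _ _ (chevBN_B hD) h2 b

/-- the degree of the Steinberg character -/
theorem steinberg_one (hD : D ∈ [chevG2, chevB2, chevD4, chevF4, chevE6, chevE7, chevE8]) :
    D.steinbergCharacter F 1 = (Fintype.card F : ℂ) ^ (D.nroots / 2) := by
  have V := valid0_of_mem hD
  have V1 := valid1_of_mem hD
  have h := steinberg_restrict (F := F) hD 1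
  rw [Subgroup.coe_one, fpc_one] at h
  rw [h]
  set B1 := (D.borelSubgroup F).subgroupOf (D.group F) with hB1
  set H1 := (D.diagonalSubgroup F).subgroupOf (D.group F) with hH1
  have hle : H1 ≤ B1 := by
    intro x hx
    rw [hH1, Subgroup.mem_subgroupOf] at hx
    rw [hB1, Subgroup.mem_subgroupOf]
    exact diagonal_le_borel hx
  have c1 : Nat.card ↥B1 = Nat.card ↥(D.borelSubgroup F) :=
    Nat.card_congr (Subgroup.subgroupOfEquivOfLe (borel_le_group V V1)).toEquiv
  have c2 : Nat.card ↥(H1.subgroupOf B1) = Nat.card ↥(D.diagonalSubgroup F) := by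
    rw [Nat.card_congr (Subgroup.subgroupOfEquivOfLe hle).toEquiv]
    exact Nat.card_congr (Subgroup.subgroupOfEquivOfLe (diagonal_le_group V V1)).toEquiv
  have hlag := Subgroup.card_eq_card_quotient_mul_card_subgroup (H1.subgroupOf B1)
  rw [c1, c2, card_borel hD] at hlag
  have hpos : 0 < Nat.card ↥(D.diagonalSubgroup F) := Nat.card_pos
  have := Nat.eq_of_mul_eq_mul_right hpos hlag
  rw [← this]
  push_cast
  rfl

end Cfsg.Agent.Lib.Helper14.BNSt
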