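import Mathlib
import Cfsg.Agent.Lib.Helper14.NilKer

/-!
# Counting nilpotent endomorphisms (Fine–Herstein), after Leinster

For a finite vector space `V` over a finite field, `#Nil(V) * #V = #End(V)`.
Both `End V` and `Nil V × V` are fibred over the subspaces `X` of `V`: an endomorphism `T` goes to
its eventual image, a pair `(N, v)` to the cyclic subspace generated by `v`.  The fibres over `X`
have the same size, `#Aut(X)` times the number of `T` that vanish on `X` and are nilpotent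
modulo `X`.
-/

set_option autoImplicit false

namespace Cfsg.Agent.Lib.Helper14

open Module

section general

theorem card_eq_sum_fibers {α β : Type*} [Finite α] [Fintype β] (f : α → β) :
    Nat.card α = ∑ b, Nat.card {a // f a = b} := by
  rw [Nat.card_congr (Equiv.sigmaFiberEquiv f).symm, Nat.card_sigma]

theorem card_eq_mul_of_fibers {α β : Type*} [Finite α] [Finite β] (f : α → β) (c : ℕ)
    (h : ∀ b, Nat.card {a // f a = b} = c) : Nat.card α = Nat.card β * c := by
  classical
  have := Fintype.ofFinite β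
  rw [card_eq_sum_fibers f]
  simp only [h, Finset.sum_const, Finset.card_univ, smul_eq_mul, Nat.card_eq_fintype_card]

end general

variable {F V : Type*} [Field F] [AddCommGroup V] [Module F V]

/-- The cyclic subspace generated by `v` under `N`. -/
def cyc (N : V →ₗ[F] V) (v : V) : Submodule F V :=
  Submodule.span F (Set.range fun i : ℕ => (N ^ i) v)

/-- The eventual image of `T`. -/
def evIm (T : V →ₗ[F] V) : Submodule F V := ⨅ m : ℕ, LinearMap.range (T ^ m)

/-- `T` restricts to `S` on `X` and is nilpotent modulo `X`. -/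
def memA (X : Submodule F V) (S : X →ₗ[F] X) (T : V →ₗ[F] V) : Prop :=
  (∀ x : X, T x = S x) ∧ ∃ m : ℕ, ∀ v, (T ^ m) v ∈ X

/-- Extend an endomorphism of `X` to `V` along a projection `P`. -/
def liftX (X : Submodule F V) (P : V →ₗ[F] X) (R : X →ₗ[F] X) : V →ₗ[F] V :=
  X.subtype ∘ₗ R ∘ₗ P

/-- Compress an endomorphism of `V` to `X` along a projection `P`. -/
def restrP (X : Submodule F V) (P : V →ₗ[F] X) (T : V →ₗ[F] V) : X →ₗ[F] X :=
  P ∘ₗ T ∘ₗ X.subtype

theorem liftX_apply (X : Submodule F V) (P : V →ₗ[F] X) (R : X →ₗ[F] X) (v : V) :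
    liftX X P R v = (R (P v) : V) := rfl

theorem restrP_apply (X : Submodule F V) (P : V →ₗ[F] X) (T : V →ₗ[F] V) (x : X) :
    restrP X P T x = P (T x) := rfl

theorem pow_apply_of_agree {X : Submodule F V} {S : X →ₗ[F] X} {T : V →ₗ[F] V}
    (h : ∀ x : X, T x = S x) (m : ℕ) (x : X) : (T ^ m) x = ((S ^ m) x : V) := by
  induction m generalizing x with
  | zero => simp
  | succ m ih => rw [pow_succ, pow_succ, Module.End.mul_apply, Module.End.mul_apply, h x, ih]

theorem pow_mem_of_invariant {X : Submodule F V} {T : V →ₗ[F] V} (hT : ∀ x ∈ X, T x ∈ X)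
    (m : ℕ) (x : V) (hx : x ∈ X) : (T ^ m) x ∈ X := by
  induction m generalizing x with
  | zero => simpa using hx
  | succ m ih =>
    rw [pow_succ, Module.End.mul_apply]
    exact ih _ (hT x hx)

theorem pow_sub_mem {X : Submodule F V} {T T' : V →ₗ[F] V} (hT : ∀ x ∈ X, T x ∈ X)
    (h : ∀ v, T' v - T v ∈ X) (m : ℕ) (v : V) : (T' ^ m) v - (T ^ m) v ∈ X := by
  induction m generalizing v with
  | zero => simp
  | succ m ih =>
    rw [pow_succ, pow_succ, Module.End.mul_apply, Module.End.mul_apply]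
    have h1 := ih (T' v)
    have h2 : (T ^ m) (T' v - T v) ∈ X := pow_mem_of_invariant hT m _ (h v)
    have h3 : (T' ^ m) (T' v) - (T ^ m) (T v) =
        ((T' ^ m) (T' v) - (T ^ m) (T' v)) + (T ^ m) (T' v - T v) := by
      rw [map_sub]
      abel
    rw [h3]
    exact X.add_mem h1 h2

theorem invariant_of_agree {X : Submodule F V} {S : X →ₗ[F] X} {T : V →ₗ[F] V}
    (h : ∀ x : X, T x = S x) : ∀ x ∈ X, T x ∈ X := by
  intro x hx
  have := h ⟨x, hx⟩
  rw [show ((⟨x, hx⟩ : X) : V) = x from rfl] at this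
  rw [this]
  exact (S ⟨x, hx⟩).2

theorem memA_shift {X : Submodule F V} {P : V →ₗ[F] X} (hP : ∀ x : X, P x = x)
    {S S' : X →ₗ[F] X} {T : V →ₗ[F] V} (h : memA X S T) :
    memA X S' (T + liftX X P (S' - S)) := by
  obtain ⟨h1, m, h2⟩ := h
  refine ⟨?_, m, ?_⟩
  · intro x
    rw [LinearMap.add_apply, liftX_apply, hP, h1, LinearMap.sub_apply]
    push_cast
    abel
  · intro v
    have hT : ∀ x ∈ X, T x ∈ X := invariant_of_agree h1
    have hd : ∀ v, (T + liftX X P (S' - S)) v - T v ∈ X := by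
      intro v
      rw [LinearMap.add_apply, add_sub_cancel_left, liftX_apply]
      exact ((S' - S) (P v)).2
    have h3 := X.add_mem (pow_sub_mem hT hd m v) (h2 v)
    rwa [sub_add_cancel] at h3

theorem liftX_sub_add (X : Submodule F V) (P : V →ₗ[F] X) (S S' : X →ₗ[F] X) :
    liftX X P (S' - S) + liftX X P (S - S') = 0 := by
  ext v
  rw [LinearMap.add_apply, liftX_apply, liftX_apply, LinearMap.sub_apply, LinearMap.sub_apply]
  push_cast
  rw [LinearMap.zero_apply]
  abel

theorem card_memA_eq {X : Submodule F V} {P : V →ₗ[F] X} (hP : ∀ x : X, P x = x)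
    (S S' : X →ₗ[F] X) :
    Nat.card {T : V →ₗ[F] V // memA X S T} = Nat.card {T : V →ₗ[F] V // memA X S' T} := by
  refine Nat.card_congr
    ⟨fun T => ⟨T.1 + liftX X P (S' - S), memA_shift hP T.2⟩,
      fun T => ⟨T.1 + liftX X P (S - S'), memA_shift hP T.2⟩, ?_, ?_⟩
  · intro T
    apply Subtype.ext
    show T.1 + liftX X P (S' - S) + liftX X P (S - S') = T.1
    rw [add_assoc, liftX_sub_add, add_zero]
  · intro T
    apply Subtype.ext
    show T.1 + liftX X P (S - S') + liftX X P (S' - S) = T.1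
    rw [add_assoc, liftX_sub_add, add_zero]

section fitting

theorem evIm_le_range (T : V →ₗ[F] V) (m : ℕ) : evIm T ≤ LinearMap.range (T ^ m) :=
  iInf_le _ m

theorem evIm_invariant (T : V →ₗ[F] V) : ∀ x ∈ evIm T, T x ∈ evIm T := by
  intro x hx
  unfold evIm
  rw [Submodule.mem_iInf]
  intro m
  cases m with
  | zero => simp
  | succ m =>
    obtain ⟨y, hy⟩ := evIm_le_range T m hx
    refine ⟨y, ?_⟩
    rw [pow_succ', Module.End.mul_apply, hy]

theorem exists_evIm_eq_range [FiniteDimensional F V] (T : V →ₗ[F] V) :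
    ∃ m, evIm T = LinearMap.range (T ^ m) ∧ evIm T = LinearMap.range (T ^ (m + 1)) := by
  obtain ⟨m, hm⟩ := Filter.eventually_atTop.mp (LinearMap.eventually_iInf_range_pow_eq T)
  exact ⟨m, hm m le_rfl, hm (m + 1) (Nat.le_succ m)⟩

theorem evIm_surj [FiniteDimensional F V] (T : V →ₗ[F] V) :
    ∀ x ∈ evIm T, ∃ y ∈ evIm T, T y = x := by
  intro x hx
  obtain ⟨m, h1, h2⟩ := exists_evIm_eq_range T
  rw [h2] at hx
  obtain ⟨z, hz⟩ := hx
  refine ⟨(T ^ m) z, ?_, ?_⟩
  · rw [h1]
    exact ⟨z, rfl⟩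
  · rw [← hz, pow_succ', Module.End.mul_apply]

theorem restrP_eq_of_invariant {X : Submodule F V} {P : V →ₗ[F] X} (hP : ∀ x : X, P x = x)
    {T : V →ₗ[F] V} (hT : ∀ x ∈ X, T x ∈ X) (x : X) : (restrP X P T x : V) = T x := by
  rw [restrP_apply]
  have := hP ⟨T x, hT x x.2⟩
  rw [show ((⟨T x, hT x x.2⟩ : X) : V) = T x from rfl] at this
  rw [this]

theorem restrP_surj_of_evIm [FiniteDimensional F V] {X : Submodule F V} {P : V →ₗ[F] X}
    (hP : ∀ x : X, P x = x) {T : V →ₗ[F] V} (hX : evIm T = X) :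
    Function.Surjective (restrP X P T) := by
  intro x
  have hx : (x : V) ∈ evIm T := by rw [hX]; exact x.2
  obtain ⟨y, hy, hTy⟩ := evIm_surj T x hx
  rw [hX] at hy
  refine ⟨⟨y, hy⟩, ?_⟩
  apply Subtype.ext
  rw [restrP_eq_of_invariant hP (by rw [← hX]; exact evIm_invariant T)]
  exact hTy

/-- The fibre of `T ↦ (eventual image, restriction to it)`. -/
theorem evIm_iff_memA [FiniteDimensional F V] {X : Submodule F V} {P : V →ₗ[F] X}
    (hP : ∀ x : X, P x = x) {S : X →ₗ[F] X} (hS : Function.Surjective S) (T : V →ₗ[F] V) :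
    (evIm T = X ∧ restrP X P T = S) ↔ memA X S T := by
  constructor
  · rintro ⟨hX, hr⟩
    have hinv : ∀ x ∈ X, T x ∈ X := by rw [← hX]; exact evIm_invariant T
    refine ⟨?_, ?_⟩
    · intro x
      rw [← hr, restrP_eq_of_invariant hP hinv]
    · obtain ⟨m, h1, -⟩ := exists_evIm_eq_range T
      refine ⟨m, fun v => ?_⟩
      rw [← hX, h1]
      exact ⟨v, rfl⟩
  · rintro ⟨h1, m, h2⟩
    have hinv : ∀ x ∈ X, T x ∈ X := invariant_of_agree h1
    have hX : evIm T = X := by
      apply le_antisymm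
      · intro x hx
        obtain ⟨y, hy⟩ := evIm_le_range T m hx
        rw [← hy]
        exact h2 y
      · intro x hx
        unfold evIm
        rw [Submodule.mem_iInf]
        intro j
        have hSj : Function.Surjective (S ^ j) := by
          rw [Module.End.coe_pow]
          exact hS.iterate j
        obtain ⟨x', hx'⟩ := hSj ⟨x, hx⟩
        refine ⟨x', ?_⟩
        rw [pow_apply_of_agree h1, hx']
    refine ⟨hX, ?_⟩
    ext x
    rw [restrP_eq_of_invariant hP hinv, h1]

end fitting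

section cyclic

theorem self_mem_cyc (N : V →ₗ[F] V) (v : V) : v ∈ cyc N v :=
  Submodule.subset_span ⟨0, by simp⟩

theorem cyc_invariant (N : V →ₗ[F] V) (v : V) : ∀ x ∈ cyc N v, N x ∈ cyc N v := by
  intro x hx
  have h1 : Submodule.map N (cyc N v) ≤ cyc N v := by
    unfold cyc
    rw [Submodule.map_span, Submodule.span_le]
    rintro _ ⟨_, ⟨i, rfl⟩, rfl⟩
    apply Submodule.subset_span
    refine ⟨i + 1, ?_⟩
    show (N ^ (i + 1)) v = N ((N ^ i) v)
    rw [pow_succ', Module.End.mul_apply]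
  exact h1 ⟨x, hx, rfl⟩

/-- The cyclic subspace computed inside an invariant subspace. -/
theorem map_subtype_cyc {X : Submodule F V} {S : X →ₗ[F] X} {N : V →ₗ[F] V}
    (h : ∀ x : X, N x = S x) (x : X) :
    Submodule.map X.subtype (cyc S x) = cyc N (x : V) := by
  unfold cyc
  rw [Submodule.map_span]
  congr 1
  ext w
  constructor
  · rintro ⟨_, ⟨i, rfl⟩, rfl⟩
    exact ⟨i, pow_apply_of_agree h i x⟩
  · rintro ⟨i, rfl⟩
    exact ⟨_, ⟨i, rfl⟩, (pow_apply_of_agree h i x).symm⟩

theorem isNilpotent_of_memA {X : Submodule F V} {S : X →ₗ[F] X} {N : V →ₗ[F] V}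
    (hS : IsNilpotent S) (h : memA X S N) : IsNilpotent N := by
  obtain ⟨h1, m, h2⟩ := h
  obtain ⟨a, ha⟩ := hS
  refine ⟨a + m, ?_⟩
  ext w
  rw [pow_add, Module.End.mul_apply, LinearMap.zero_apply]
  have := pow_apply_of_agree h1 a ⟨(N ^ m) w, h2 w⟩
  rw [show ((⟨(N ^ m) w, h2 w⟩ : X) : V) = (N ^ m) w from rfl] at this
  rw [this, ha, LinearMap.zero_apply]
  rfl

theorem isNilpotent_restrP {X : Submodule F V} {P : V →ₗ[F] X} (hP : ∀ x : X, P x = x)
    {N : V →ₗ[F] V} (hN : IsNilpotent N) (hinv : ∀ x ∈ X, N x ∈ X) :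
    IsNilpotent (restrP X P N) := by
  obtain ⟨a, ha⟩ := hN
  refine ⟨a, ?_⟩
  ext x
  have h1 : ∀ x : X, N x = (restrP X P N) x := fun x => (restrP_eq_of_invariant hP hinv x).symm
  rw [← pow_apply_of_agree h1, ha]
  rfl

/-- The fibre of `(N, v) ↦ (cyclic subspace, restriction to it, v)`. -/
theorem cyc_iff_memA {X : Submodule F V} {P : V →ₗ[F] X}
    (hP : ∀ x : X, P x = x) {S : X →ₗ[F] X} {x₀ : X} (hS : IsNilpotent S) (hx₀ : cyc S x₀ = ⊤)
    (N : V →ₗ[F] V) (v : V) :
    ((IsNilpotent N ∧ cyc N v = X) ∧ restrP X P N = S ∧ P v = x₀) ↔ memA X S N ∧ v = x₀ := by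
  constructor
  · rintro ⟨⟨hN, hX⟩, hr, hv⟩
    have hinv : ∀ x ∈ X, N x ∈ X := by rw [← hX]; exact cyc_invariant N v
    have hvX : v ∈ X := by rw [← hX]; exact self_mem_cyc N v
    refine ⟨⟨?_, ?_⟩, ?_⟩
    · intro x
      rw [← hr, restrP_eq_of_invariant hP hinv]
    · obtain ⟨a, ha⟩ := hN
      refine ⟨a, fun w => ?_⟩
      rw [ha]
      exact X.zero_mem
    · rw [← hv]
      have := hP ⟨v, hvX⟩
      rw [this]
  · rintro ⟨hA, rfl⟩
    have hinv : ∀ x ∈ X, N x ∈ X := invariant_of_agree hA.1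
    refine ⟨⟨isNilpotent_of_memA hS hA, ?_⟩, ?_, hP x₀⟩
    · rw [← map_subtype_cyc hA.1, hx₀, Submodule.map_subtype_top]
    · ext x
      rw [restrP_eq_of_invariant hP hinv, hA.1]

theorem cyc_restrP_eq_top {X : Submodule F V} {P : V →ₗ[F] X} (hP : ∀ x : X, P x = x)
    {N : V →ₗ[F] V} {v : V} (hX : cyc N v = X) : cyc (restrP X P N) (P v) = ⊤ := by
  have hinv : ∀ x ∈ X, N x ∈ X := by rw [← hX]; exact cyc_invariant N v
  have hvX : v ∈ X := by rw [← hX]; exact self_mem_cyc N v
  have h1 : ∀ x : X, N x = (restrP X P N) x := fun x => (restrP_eq_of_invariant hP hinv x).symm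
  apply Submodule.map_injective_of_injective X.injective_subtype
  rw [map_subtype_cyc h1, Submodule.map_subtype_top]
  have h2 := hP ⟨v, hvX⟩
  rw [show ((⟨v, hvX⟩ : X) : V) = v from rfl] at h2
  rw [h2]
  exact hX

end cyclic

section regular

variable {W : Type*} [AddCommGroup W] [Module F W]

/-- The shift along a basis indexed by `Fin k`. -/
noncomputable def shiftOf {k : ℕ} (b : Basis (Fin k) F W) : W →ₗ[F] W :=
  b.constr F (fun i => if h : i.val + 1 < k then b ⟨i.val + 1, h⟩ else 0)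

theorem shiftOf_apply {k : ℕ} (b : Basis (Fin k) F W) (i : Fin k) :
    shiftOf b (b i) = if h : i.val + 1 < k then b ⟨i.val + 1, h⟩ else 0 := by
  unfold shiftOf
  rw [Basis.constr_basis]

theorem shiftOf_pow_apply {k : ℕ} (b : Basis (Fin k) F W) (j : ℕ) (i : Fin k) :
    ((shiftOf b) ^ j) (b i) = if h : i.val + j < k then b ⟨i.val + j, h⟩ else 0 := by
  induction j with
  | zero => simp
  | succ j ih =>
    rw [pow_succ', Module.End.mul_apply, ih]
    by_cases h : i.val + j < k
    · rw [dif_pos h, shiftOf_apply]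
      by_cases h2 : i.val + (j + 1) < k
      · rw [dif_pos h2, dif_pos (by simpa [add_assoc] using h2)]
        rfl
      · rw [dif_neg h2, dif_neg (by simpa [add_assoc] using h2)]
    · rw [dif_neg h, dif_neg (by omega), map_zero]

theorem shiftOf_pow_eq_zero {k : ℕ} (b : Basis (Fin k) F W) : (shiftOf b) ^ k = 0 := by
  apply b.ext
  intro i
  rw [shiftOf_pow_apply, dif_neg (by omega), LinearMap.zero_apply]

/-- The first basis vector (or zero if there is none). -/
noncomputable def firstOf {k : ℕ} (b : Basis (Fin k) F W) : W :=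
  if h : 0 < k then b ⟨0, h⟩ else 0

theorem shiftOf_pow_firstOf {k : ℕ} (b : Basis (Fin k) F W) (i : Fin k) :
    ((shiftOf b) ^ i.val) (firstOf b) = b i := by
  have hk : 0 < k := Nat.lt_of_le_of_lt (Nat.zero_le _) i.2
  unfold firstOf
  rw [dif_pos hk, shiftOf_pow_apply, dif_pos (by simp)]
  congr 1
  apply Fin.ext
  simp

theorem conj_apply_apply (g : W ≃ₗ[F] W) (J : W →ₗ[F] W) (w : W) :
    (g.conj J) (g w) = g (J w) := by
  rw [LinearEquiv.conj_apply]
  simp only [LinearMap.comp_apply, LinearEquiv.coe_coe, LinearEquiv.symm_apply_apply]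

theorem conj_pow_apply (g : W ≃ₗ[F] W) (J : W →ₗ[F] W) (j : ℕ) (w : W) :
    ((g.conj J) ^ j) (g w) = g ((J ^ j) w) := by
  induction j generalizing w with
  | zero => simp
  | succ j ih =>
    rw [pow_succ, pow_succ, Module.End.mul_apply, Module.End.mul_apply, conj_apply_apply, ih]

theorem conj_mem {k : ℕ} (b : Basis (Fin k) F W) (g : W ≃ₗ[F] W) :
    IsNilpotent (g.conj (shiftOf b)) ∧ cyc (g.conj (shiftOf b)) (g (firstOf b)) = ⊤ := by
  constructor
  · refine ⟨k, ?_⟩
    ext w
    have := conj_pow_apply g (shiftOf b) k (g.symm w)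
    rw [LinearEquiv.apply_symm_apply] at this
    rw [this, shiftOf_pow_eq_zero, LinearMap.zero_apply, map_zero, LinearMap.zero_apply]
  · rw [eq_top_iff]
    have h1 : (⊤ : Submodule F W) = Submodule.span F (Set.range (g ∘ b)) := by
      rw [Set.range_comp]
      have h2 : Submodule.span F (⇑(g : W →ₗ[F] W) '' Set.range b) =
          Submodule.map (g : W →ₗ[F] W) (Submodule.span F (Set.range b)) :=
        (Submodule.map_span _ _).symm
      have h3 : Submodule.span F (Set.range b) = ⊤ := b.span_eq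
      rw [h3, Submodule.map_top, LinearMap.range_eq_top.mpr g.surjective] at h2
      exact h2.symm
    rw [h1]
    unfold cyc
    apply Submodule.span_mono
    rintro _ ⟨i, rfl⟩
    refine ⟨i.val, ?_⟩
    show ((g.conj (shiftOf b)) ^ i.val) (g (firstOf b)) = g (b i)
    rw [conj_pow_apply, shiftOf_pow_firstOf]

variable [FiniteDimensional F W]

/-- A nilpotent endomorphism with a cyclic vector gives a basis. -/
theorem exists_basis_of_cyc {S : W →ₗ[F] W} {x : W} (hS : IsNilpotent S) (hx : cyc S x = ⊤) :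
    ∃ c : Basis (Fin (finrank F W)) F W, ∀ i, c i = (S ^ i.val) x := by
  obtain ⟨m, hm⟩ := hS
  have h0 := pow_finrank_eq_zero S hm
  have hspan : ⊤ ≤ Submodule.span F (Set.range fun i : Fin (finrank F W) => (S ^ i.val) x) := by
    rw [← hx]
    unfold cyc
    rw [Submodule.span_le]
    rintro _ ⟨i, rfl⟩
    by_cases hi : i < finrank F W
    · exact Submodule.subset_span ⟨⟨i, hi⟩, rfl⟩
    · have : S ^ i = 0 := by
        obtain ⟨c, hc⟩ := Nat.exists_eq_add_of_le (not_lt.mp hi)
        rw [hc, pow_add, h0, zero_mul]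
      show (S ^ i) x ∈ _
      rw [this, LinearMap.zero_apply]
      exact Submodule.zero_mem _
  refine ⟨basisOfTopLeSpanOfCardEqFinrank _ hspan (by simp), ?_⟩
  intro i
  rw [coe_basisOfTopLeSpanOfCardEqFinrank]

theorem card_regular :
    Nat.card {q : (W →ₗ[F] W) × W // IsNilpotent q.1 ∧ cyc q.1 q.2 = ⊤} =
      Nat.card {S : W →ₗ[F] W // Function.Surjective S} := by
  have e1 : {S : W →ₗ[F] W // Function.Surjective S} ≃ (W ≃ₗ[F] W) :=
    ⟨fun S => LinearEquiv.ofBijective S.1 ⟨LinearMap.injective_iff_surjective.mpr S.2, S.2⟩,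
      fun g => ⟨g, g.surjective⟩, fun S => by apply Subtype.ext; rfl,
      fun g => by apply LinearEquiv.ext; intro x; rfl⟩
  rw [Nat.card_congr e1]
  symm
  set b := Module.finBasis F W with hb
  refine Nat.card_eq_of_bijective
    (fun g : W ≃ₗ[F] W => (⟨(g.conj (shiftOf b), g (firstOf b)), conj_mem b g⟩ :
      {q : (W →ₗ[F] W) × W // IsNilpotent q.1 ∧ cyc q.1 q.2 = ⊤})) ⟨?_, ?_⟩
  · intro g h hgh
    have h1 : g.conj (shiftOf b) = h.conj (shiftOf b) := congrArg (fun q => q.1.1) hgh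
    have h2 : g (firstOf b) = h (firstOf b) := congrArg (fun q => q.1.2) hgh
    apply LinearEquiv.toLinearMap_injective
    apply b.ext
    intro i
    show g (b i) = h (b i)
    rw [← shiftOf_pow_firstOf b i, ← conj_pow_apply, ← conj_pow_apply, h1, h2]
  · rintro ⟨⟨S, x⟩, hS, hx⟩
    obtain ⟨c, hc⟩ := exists_basis_of_cyc hS hx
    obtain ⟨m, hm⟩ := hS
    have h0 := pow_finrank_eq_zero S hm
    refine ⟨b.equiv c (Equiv.refl _), ?_⟩
    apply Subtype.ext
    apply Prod.ext
    · show (b.equiv c (Equiv.refl _)).conj (shiftOf b) = S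
      apply c.ext
      intro i
      rw [LinearEquiv.conj_apply]
      simp only [LinearMap.comp_apply, LinearEquiv.coe_coe]
      have h3 : (b.equiv c (Equiv.refl _)).symm (c i) = b i := by
        rw [LinearEquiv.symm_apply_eq, Basis.equiv_apply]
        rfl
      rw [h3, shiftOf_apply]
      by_cases h : i.val + 1 < finrank F W
      · rw [dif_pos h, Basis.equiv_apply, hc, hc]
        show (S ^ (i.val + 1)) x = S ((S ^ i.val) x)
        rw [pow_succ', Module.End.mul_apply]
      · rw [dif_neg h, map_zero, hc, ← Module.End.mul_apply, ← pow_succ']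
        have : i.val + 1 = finrank F W := by have := i.2; omega
        rw [this, h0, LinearMap.zero_apply]
    · show (b.equiv c (Equiv.refl _)) (firstOf b) = x
      unfold firstOf
      by_cases hk : 0 < finrank F W
      · rw [dif_pos hk, Basis.equiv_apply, hc]
        simp
      · rw [dif_neg hk, map_zero]
        have : Subsingleton W := (Module.finrank_zero_iff (R := F)).mp (by omega)
        exact Subsingleton.elim _ _

end regular

section count

theorem finite_linearMap (F : Type*) [Field F] (V W : Type*) [AddCommGroup V] [Module F V]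
    [AddCommGroup W] [Module F W] [Finite V] [Finite W] : Finite (V →ₗ[F] W) :=
  Finite.of_injective (fun f => (f : V → W)) DFunLike.coe_injective

variable [Finite V]

theorem card_evIm_fiber (X : Submodule F V) {P : V →ₗ[F] X} (hP : ∀ x : X, P x = x) :
    Nat.card {T : V →ₗ[F] V // evIm T = X} =
      Nat.card {S : X →ₗ[F] X // Function.Surjective S} *
        Nat.card {T : V →ₗ[F] V // memA X 0 T} := by
  have := finite_linearMap F V V
  have := finite_linearMap F X X
  apply card_eq_mul_of_fibers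
    (fun T : {T : V →ₗ[F] V // evIm T = X} =>
      (⟨restrP X P T.1, restrP_surj_of_evIm hP T.2⟩ :
        {S : X →ₗ[F] X // Function.Surjective S}))
  intro S
  rw [← card_memA_eq hP S.1 0]
  refine Nat.card_congr
    ⟨fun T => ⟨T.1.1, (evIm_iff_memA hP S.2 T.1.1).mp ⟨T.1.2, congrArg Subtype.val T.2⟩⟩,
      fun T => ⟨⟨T.1, ((evIm_iff_memA hP S.2 T.1).mpr T.2).1⟩,
        Subtype.ext ((evIm_iff_memA hP S.2 T.1).mpr T.2).2⟩, ?_, ?_⟩
  · intro T
    exact Subtype.ext (Subtype.ext rfl)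
  · intro T
    exact Subtype.ext rfl

theorem card_cyc_fiber (X : Submodule F V) {P : V →ₗ[F] X} (hP : ∀ x : X, P x = x) :
    Nat.card {p : (V →ₗ[F] V) × V // IsNilpotent p.1 ∧ cyc p.1 p.2 = X} =
      Nat.card {q : (X →ₗ[F] X) × X // IsNilpotent q.1 ∧ cyc q.1 q.2 = ⊤} *
        Nat.card {T : V →ₗ[F] V // memA X 0 T} := by
  have := finite_linearMap F V V
  have := finite_linearMap F X X
  apply card_eq_mul_of_fibers
    (fun p : {p : (V →ₗ[F] V) × V // IsNilpotent p.1 ∧ cyc p.1 p.2 = X} =>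
      (⟨(restrP X P p.1.1, P p.1.2),
        isNilpotent_restrP hP p.2.1 (fun x hx => by
          have h := p.2.2
          have h1 := cyc_invariant p.1.1 p.1.2 x (by rw [h]; exact hx)
          rwa [h] at h1),
        cyc_restrP_eq_top hP p.2.2⟩ :
        {q : (X →ₗ[F] X) × X // IsNilpotent q.1 ∧ cyc q.1 q.2 = ⊤}))
  rintro ⟨⟨S, x₀⟩, hS, hx₀⟩
  rw [← card_memA_eq hP S 0]
  refine Nat.card_congr
    ⟨fun p => ⟨p.1.1.1, ((cyc_iff_memA hP hS hx₀ p.1.1.1 p.1.1.2).mp
        ⟨p.1.2, congrArg (fun q => q.1.1) p.2, congrArg (fun q => q.1.2) p.2⟩).1⟩,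
      fun T => ⟨⟨(T.1, (x₀ : V)), ((cyc_iff_memA hP hS hx₀ T.1 x₀).mpr ⟨T.2, rfl⟩).1⟩,
        Subtype.ext (Prod.ext ((cyc_iff_memA hP hS hx₀ T.1 x₀).mpr ⟨T.2, rfl⟩).2.1
          ((cyc_iff_memA hP hS hx₀ T.1 x₀).mpr ⟨T.2, rfl⟩).2.2)⟩, ?_, ?_⟩
  · intro p
    have h := ((cyc_iff_memA hP hS hx₀ p.1.1.1 p.1.1.2).mp
        ⟨p.1.2, congrArg (fun q => q.1.1) p.2, congrArg (fun q => q.1.2) p.2⟩).2
    exact Subtype.ext (Subtype.ext (Prod.ext rfl h.symm))
  · intro T
    exact Subtype.ext rfl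

/-- Fine–Herstein: `#Nil(V) * #V = #End(V)`. -/
theorem card_nilpotent_mul :
    Nat.card {N : V →ₗ[F] V // IsNilpotent N} * Nat.card V = Nat.card (V →ₗ[F] V) := by
  classical
  have := finite_linearMap F V V
  have : Fintype (Submodule F V) := Fintype.ofFinite _
  have key : ∀ X : Submodule F V, Nat.card {T : V →ₗ[F] V // evIm T = X} =
      Nat.card {p : (V →ₗ[F] V) × V // IsNilpotent p.1 ∧ cyc p.1 p.2 = X} := by
    intro X
    obtain ⟨P, hP'⟩ := X.subtype.exists_leftInverse_of_injective (Submodule.ker_subtype X)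
    have hP : ∀ x : X, P x = x := fun x => by
      have := LinearMap.congr_fun hP' x
      simpa using this
    rw [card_evIm_fiber X hP, card_cyc_fiber X hP, card_regular]
  have h1 := card_eq_sum_fibers (fun T : V →ₗ[F] V => evIm T)
  have h2 := card_eq_sum_fibers
    (fun p : {p : (V →ₗ[F] V) × V // IsNilpotent p.1} => cyc p.1.1 p.1.2)
  have h3 : ∀ X : Submodule F V,
      Nat.card {a : {p : (V →ₗ[F] V) × V // IsNilpotent p.1} // cyc a.1.1 a.1.2 = X} =
      Nat.card {p : (V →ₗ[F] V) × V // IsNilpotent p.1 ∧ cyc p.1 p.2 = X} := fun X =>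
    Nat.card_congr (Equiv.subtypeSubtypeEquivSubtypeInter
      (fun p : (V →ₗ[F] V) × V => IsNilpotent p.1) (fun p => cyc p.1 p.2 = X))
  have h4 : Nat.card {p : (V →ₗ[F] V) × V // IsNilpotent p.1} =
      Nat.card {N : V →ₗ[F] V // IsNilpotent N} * Nat.card V := by
    rw [← Nat.card_prod]
    exact Nat.card_congr ⟨fun p => (⟨p.1.1, p.2⟩, p.1.2), fun q => ⟨(q.1.1, q.2), q.1.2⟩,
      fun _ => rfl, fun _ => rfl⟩
  rw [← h4, h1, h2]
  apply Finset.sum_congr rfl
  intro X _
  rw [h3, key]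

end count

end Cfsg.Agent.Lib.Helper14
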