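import Mathlib
import Cfsg.Agent.Lib.Helper14.NilCount

set_option autoImplicit false

namespace Cfsg.Agent.Lib.Helper14

open Matrix

section

variable {F : Type*} [Field F] [Fintype F]

/-- The number of invertible matrices over a finite field, indexed by any finite type. -/
theorem card_unit_det (κ : Type*) [Fintype κ] [DecidableEq κ] :
    Nat.card {B : Matrix κ κ F // IsUnit B.det} =
      ∏ j : Fin (Fintype.card κ),
        (Fintype.card F ^ Fintype.card κ - Fintype.card F ^ (j : ℕ)) := by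
  have e1 : GL κ F ≃ {B : Matrix κ κ F // IsUnit B.det} :=
    ⟨fun u => ⟨u.1, (Matrix.isUnit_iff_isUnit_det _).mp u.isUnit⟩,
      fun B => ((Matrix.isUnit_iff_isUnit_det _).mpr B.2).unit,
      fun u => Units.ext (IsUnit.unit_spec _),
      fun B => Subtype.ext (IsUnit.unit_spec ((Matrix.isUnit_iff_isUnit_det _).mpr B.2))⟩
  have e2 : GL κ F ≃ GL (Fin (Fintype.card κ)) F :=
    (Units.mapEquiv (Matrix.reindexAlgEquiv F F (Fintype.equivFin κ)).toMulEquiv).toEquiv
  rw [← Nat.card_congr e1, Nat.card_congr e2, Matrix.card_GL_field]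

/-- The number of invertible block triangular matrices. -/
theorem card_blockTriangular {ι : Type*} [Fintype ι] [DecidableEq ι] {m : ℕ} (b : ι → Fin m) :
    Nat.card {A : Matrix ι ι F // A.BlockTriangular b ∧ IsUnit A.det} =
      (∏ i : Fin m, Nat.card {B : Matrix {k // b k = i} {k // b k = i} F // IsUnit B.det}) *
        Fintype.card F ^ (Fintype.card {p : ι × ι // b p.1 < b p.2}) := by
  classical
  rw [← Nat.card_pi]
  have hunit : ∀ A : Matrix ι ι F, A.BlockTriangular b →
      (IsUnit A.det ↔ ∀ i : Fin m, IsUnit (A.toSquareBlock b i).det) := by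
    intro A hA
    rw [hA.det_fintype]
    simp only [isUnit_iff_ne_zero]
    exact Finset.prod_ne_zero_iff.trans ⟨fun h i => h i (Finset.mem_univ i), fun h i _ => h i⟩
  apply card_eq_mul_of_fibers
    (fun A : {A : Matrix ι ι F // A.BlockTriangular b ∧ IsUnit A.det} =>
      (fun i : Fin m => (⟨A.1.toSquareBlock b i, (hunit A.1 A.2.1).mp A.2.2 i⟩ :
        {B : Matrix {k // b k = i} {k // b k = i} F // IsUnit B.det})))
  intro B
  rw [← Fintype.card_fun, ← Nat.card_eq_fintype_card]
  have hblock : ∀ (A : Matrix ι ι F) (i : Fin m) (k l : {k // b k = i}),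
      A.toSquareBlock b i k l = A k.1 l.1 := fun A i k l => rfl
  let Ac : ({p : ι × ι // b p.1 < b p.2} → F) → Matrix ι ι F := fun c k l =>
    if h : b k < b l then c ⟨(k, l), h⟩ else
      if h' : b l = b k then (B (b k)).1 ⟨k, rfl⟩ ⟨l, h'⟩ else 0
  have hAc1 : ∀ c, (Ac c).BlockTriangular b := by
    intro c i j hij
    show (if h : b i < b j then c ⟨(i, j), h⟩ else
      if h' : b j = b i then (B (b i)).1 ⟨i, rfl⟩ ⟨j, h'⟩ else 0) = 0
    rw [dif_neg (not_lt_of_gt hij), dif_neg hij.ne]
  have hAc2 : ∀ c (i : Fin m), (Ac c).toSquareBlock b i = (B i).1 := by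
    intro c i
    ext k l
    rw [hblock]
    obtain ⟨k, hk⟩ := k
    obtain ⟨l, hl⟩ := l
    subst hk
    show (if h : b k < b l then c ⟨(k, l), h⟩ else
      if h' : b l = b k then (B (b k)).1 ⟨k, rfl⟩ ⟨l, h'⟩ else 0) = _
    rw [dif_neg (by rw [hl]; exact lt_irrefl _), dif_pos hl]
  have hAc3 : ∀ c, IsUnit (Ac c).det := by
    intro c
    rw [hunit _ (hAc1 c)]
    intro i
    rw [hAc2 c i]
    exact (B i).2
  refine Nat.card_congr
    { toFun := fun A p => A.1.1 p.1.1 p.1.2
      invFun := fun c => ⟨⟨Ac c, hAc1 c, hAc3 c⟩, ?_⟩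
      left_inv := ?_
      right_inv := ?_ }
  · funext i
    apply Subtype.ext
    exact hAc2 c i
  · intro A
    apply Subtype.ext
    apply Subtype.ext
    ext k l
    show (if h : b k < b l then A.1.1 k l else
      if h' : b l = b k then (B (b k)).1 ⟨k, rfl⟩ ⟨l, h'⟩ else 0) = A.1.1 k l
    by_cases h : b k < b l
    · rw [dif_pos h]
    · rw [dif_neg h]
      by_cases h' : b l = b k
      · rw [dif_pos h']
        have h1 := congrFun A.2 (b k)
        have h2 : (B (b k)).1 = A.1.1.toSquareBlock b (b k) := by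
          rw [← h1]
        rw [h2, hblock]
      · rw [dif_neg h']
        have hlt : b l < b k := lt_of_le_of_ne (not_lt.mp h) h'
        exact (A.1.2.1 hlt).symm
  · intro c
    funext p
    obtain ⟨⟨k, l⟩, hp⟩ := p
    show (if h : b k < b l then c ⟨(k, l), h⟩ else
      if h' : b l = b k then (B (b k)).1 ⟨k, rfl⟩ ⟨l, h'⟩ else 0) = c ⟨(k, l), hp⟩
    rw [dif_pos hp]

end

end Cfsg.Agent.Lib.Helper14
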