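import Cfsg.Agent.Lib.Helper8.ChevU3

/-!
# Weighted (height-graded) triangularity of positive root elements of Chevalley groups

For a weight function `wt` on the roots and a weight `c` of the Cartan part such that positive root
elements raise the weight, `u - 1` raises the weight by at least one for every `u` of the positive
unipotent subgroup, hence `(u - 1) ^ B = 0` when all weights are below `B`.
-/

set_option autoImplicit false

namespace Cfsg.Agent.Lib.Helper14.ChevWt

open Cfsg.Lie Matrix Cfsg.Agent.Lib.Helper8.Chev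

section Defs

variable (D : ChevalleyDatum) (R : Type*) [CommRing R]

/-- weight of a basis vector -/
def ordW (wt : ℕ → ℕ) (c : ℕ) : D.Idx → ℕ
  | Sum.inl _ => c
  | Sum.inr s => wt s.val

/-- matrices raising the weight by at least `k` -/
def LowW (wt : ℕ → ℕ) (c : ℕ) (k : ℕ) : Set (Matrix D.Idx D.Idx R) :=
  {M | ∀ i j, M i j ≠ 0 → ordW D wt c j + k ≤ ordW D wt c i}

/-- the conditions on the weights -/
structure WtOK (wt : ℕ → ℕ) (c : ℕ) : Prop where
  pos : ∀ r < D.nroots, D.nroots / 2 ≤ r → c < wt r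
  neg : ∀ r < D.nroots, r < D.nroots / 2 → wt r < c
  chain : ∀ r < D.nroots, D.nroots / 2 ≤ r → ∀ e ∈ row D r, ∀ q ∈ e.2.toList, wt e.1 < wt q.1

end Defs

section Basic

variable {D : ChevalleyDatum} {R : Type*} [CommRing R] {wt : ℕ → ℕ} {c : ℕ}

theorem zero_mem_LowW (k : ℕ) : (0 : Matrix D.Idx D.Idx R) ∈ LowW D R wt c k := by
  intro i j h; simp at h

theorem one_mem_LowW : (1 : Matrix D.Idx D.Idx R) ∈ LowW D R wt c 0 := by
  intro i j h
  by_cases hij : i = j
  · subst hij; simp
  · simp [Matrix.one_apply_ne hij] at h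

theorem LowW_mono {a b : ℕ} (hab : a ≤ b) {M : Matrix D.Idx D.Idx R} (h : M ∈ LowW D R wt c b) :
    M ∈ LowW D R wt c a := by
  intro i j hij; have := h i j hij; omega

theorem LowW_add {k : ℕ} {M N : Matrix D.Idx D.Idx R} (hM : M ∈ LowW D R wt c k)
    (hN : N ∈ LowW D R wt c k) : M + N ∈ LowW D R wt c k := by
  intro i j hij
  by_cases h1 : M i j = 0
  · apply hN i j; intro h2; apply hij; simp [h1, h2]
  · exact hM i j h1

theorem LowW_mul {a b : ℕ} {M N : Matrix D.Idx D.Idx R} (hM : M ∈ LowW D R wt c a)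
    (hN : N ∈ LowW D R wt c b) : M * N ∈ LowW D R wt c (a + b) := by
  intro i j hij
  rw [Matrix.mul_apply] at hij
  obtain ⟨k, _, hk⟩ := Finset.exists_ne_zero_of_sum_ne_zero hij
  have h1 := hM i k (left_ne_zero_of_mul hk)
  have h2 := hN k j (right_ne_zero_of_mul hk)
  omega

theorem LowW_pow {M : Matrix D.Idx D.Idx R} (hM : M ∈ LowW D R wt c 1) (k : ℕ) :
    M ^ k ∈ LowW D R wt c k := by
  induction k with
  | zero => rw [pow_zero]; exact one_mem_LowW
  | succ k ih => rw [pow_succ]; exact LowW_mul ih hM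

theorem eq_zero_of_mem_LowW {k : ℕ} (hk : ∀ i : D.Idx, ordW D wt c i < k)
    {M : Matrix D.Idx D.Idx R} (hM : M ∈ LowW D R wt c k) : M = 0 := by
  ext i j
  by_contra h
  have h1 := hM i j h
  have h2 := hk i
  omega

theorem mem_LowW_of_cols {k : ℕ} {M : Matrix D.Idx D.Idx R}
    (h : ∀ j i, (M *ᵥ Pi.single j 1) i ≠ 0 → ordW D wt c j + k ≤ ordW D wt c i) :
    M ∈ LowW D R wt c k := by
  intro i j hij
  apply h j i
  rw [Matrix.mulVec_single_one]
  exact hij

/-- for a positive root `r` the matrix `x_r(t) - 1` raises the weight -/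
theorem xN_sub_one_memW (V : Valid0 D) (W : WtOK D wt c) {r : ℕ} (hr : r < D.nroots)
    (hpos : D.nroots / 2 ≤ r) (t : R) : xN D R r t - 1 ∈ LowW D R wt c 1 := by
  have heven := V.even
  apply mem_LowW_of_cols
  intro j i hne
  rw [Matrix.sub_mulVec, Matrix.one_mulVec] at hne
  rcases j with j | s
  · -- column of a coroot
    rw [← Hb_of_lt R j.isLt, xN_mulVec_Hb R hr t j.isLt] at hne
    simp only [Pi.sub_apply, sub_sub_cancel_left, Pi.smul_apply,
      smul_eq_mul, ne_eq, neg_eq_zero] at hne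
    obtain ⟨_, rfl⟩ := E_ne_zero_imp (right_ne_zero_of_mul hne)
    have := W.pos r hr hpos
    simp only [ordW]
    omega
  · rw [← E_of_lt R s.isLt] at hne
    by_cases h1 : s.val = r
    · rw [h1, xN_mulVec_E_self R hr t] at hne
      simp at hne
    by_cases h2 : s.val = D.neg r
    · rw [h2, xN_mulVec_E_neg V R hr t] at hne
      have hnr : D.neg r = D.nroots - 1 - r := V.neg_eq r hr
      have hs1 : wt s.val < c := W.neg s.val s.isLt (by omega)
      have hr1 := W.pos r hr hpos
      rcases i with i | u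
      · simp only [ordW]; omega
      · have hne2 : t ^ 2 * E D R r (Sum.inr u) ≠ 0 := by
          intro h0
          apply hne
          simp [h0]
        obtain ⟨_, hu⟩ := E_ne_zero_imp (right_ne_zero_of_mul hne2)
        rw [hu]
        simp only [ordW]
        omega
    · rw [xN_mulVec_E V R hr t s.isLt h1 h2] at hne
      simp only [add_sub_cancel_left] at hne
      obtain ⟨q, hq, hu, rfl⟩ := chainVec_ne_zero_imp hne
      have hne' : D.chainEntry r s.val ≠ [] := by intro h0; rw [h0] at hq; simp at hq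
      obtain ⟨e, he, hes, hL⟩ := chainEntry_mem D hne'
      have := W.chain r hr hpos e he q (by rw [hL]; exact hq)
      rw [hes] at this
      simp only [ordW]
      omega

variable {F : Type*} [Field F]

theorem posUnipotent_sub_one_memW (V : Valid0 D) (V1 : Valid1 D) (P : PosP D) (W : WtOK D wt c)
    {g : GL D.Idx F} (hg : g ∈ D.posUnipotent F) :
    (g : Matrix D.Idx D.Idx F) - 1 ∈ LowW D F wt c 1 := by
  unfold ChevalleyDatum.posUnipotent at hg
  induction hg using Subgroup.closure_induction'' with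
  | mem g hg =>
    obtain ⟨r, t, hr, hg⟩ := hg
    rw [hg, x_eq_xN]
    exact xN_sub_one_memW V W hr.1 ((P r hr.1).1.mp hr) t
  | inv_mem g hg =>
    obtain ⟨r, t, hr, hg⟩ := hg
    rw [x_inv V V1 hr.1 t g hg, x_eq_xN]
    exact xN_sub_one_memW V W hr.1 ((P r hr.1).1.mp hr) (-t)
  | one => simpa using zero_mem_LowW (D := D) (R := F) (wt := wt) (c := c) 1
  | mul g g' _ _ hg hg' =>
    have : ((g * g' : GL D.Idx F) : Matrix D.Idx D.Idx F) - 1 =
        ((g : Matrix D.Idx D.Idx F) - 1) * ((g' : Matrix D.Idx D.Idx F) - 1) +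
          ((g : Matrix D.Idx D.Idx F) - 1) + ((g' : Matrix D.Idx D.Idx F) - 1) := by
      rw [Units.val_mul]; noncomm_ring
    rw [this]
    exact LowW_add (LowW_add (LowW_mono (by omega) (LowW_mul hg hg')) hg) hg'

/-- `(u - 1) ^ B = 0` for `u` in the positive unipotent subgroup when all weights are below `B` -/
theorem posUnipotent_sub_one_pow (V : Valid0 D) (V1 : Valid1 D) (P : PosP D) (W : WtOK D wt c)
    {B : ℕ} (hB : ∀ i : D.Idx, ordW D wt c i < B)
    {g : GL D.Idx F} (hg : g ∈ D.posUnipotent F) :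
    ((g : Matrix D.Idx D.Idx F) - 1) ^ B = 0 :=
  eq_zero_of_mem_LowW hB (LowW_pow (posUnipotent_sub_one_memW V V1 P W hg) B)

end Basic

/-! ### The table check -/

noncomputable def checkWt (D : ChevalleyDatum) (wt : ℕ → ℕ) (c : ℕ) : Bool :=
  allIdxF (fun r (rowArr : Array (ℕ × Array (ℕ × ℤ))) =>
    cond (Nat.blt r (D.nroots / 2))
      (Nat.blt (wt r) c)
      (Nat.blt c (wt r) &&
        allF (fun e => allF (fun q : ℕ × ℤ => Nat.blt (wt e.1) (wt q.1)) e.2.toList) rowArr.toList))
    D.chain.toList 0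

theorem wtOK_of_check {D : ChevalleyDatum} {wt : ℕ → ℕ} {c : ℕ} (hsz : D.chain.size = D.nroots)
    (h : checkWt D wt c = true) : WtOK D wt c := by
  simp only [checkWt, allIdxF_eq_true, zero_add] at h
  have key : ∀ r < D.nroots,
      cond (Nat.blt r (D.nroots / 2)) (Nat.blt (wt r) c)
        (Nat.blt c (wt r) &&
          allF (fun e => allF (fun q : ℕ × ℤ => Nat.blt (wt e.1) (wt q.1)) e.2.toList)
            (row D r)) = true := by
    intro r hr
    exact h r _ (toList_getElem?_of_lt D.chain r #[] (by omega))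
  refine ⟨?_, ?_, ?_⟩
  · intro r hr hpos
    have h1 := key r hr
    have : Nat.blt r (D.nroots / 2) = false := by
      rw [← Bool.not_eq_true, Nat.blt_eq]; omega
    rw [this] at h1
    simp only [cond_false, Bool.and_eq_true, Nat.blt_eq] at h1
    exact h1.1
  · intro r hr hneg
    have h1 := key r hr
    have : Nat.blt r (D.nroots / 2) = true := by rw [Nat.blt_eq]; exact hneg
    rw [this] at h1
    simp only [cond_true, Nat.blt_eq] at h1
    exact h1
  · intro r hr hpos e he q hq
    have h1 := key r hr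
    have : Nat.blt r (D.nroots / 2) = false := by
      rw [← Bool.not_eq_true, Nat.blt_eq]; omega
    rw [this] at h1
    simp only [cond_false, Bool.and_eq_true, allF_eq_true, Nat.blt_eq] at h1
    exact h1.2 e he q hq

/-! ### Type `F₄` -/

/-- the heights of the roots of `F₄`, shifted by `11` -/
def wtF4 (r : ℕ) : ℕ :=
  [0, 1, 2, 3, 4, 5, 6, 4, 5, 6, 7, 7, 8, 9, 10, 6, 7, 8, 8, 9, 10, 9, 10, 10, 12, 12, 13, 12, 13,
    14, 14, 15, 16, 12, 13, 14, 15, 15, 16, 17, 18, 16, 17, 18, 19, 20, 21, 22].getD r 0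

theorem checkWt_F4 : checkWt chevF4 wtF4 11 = true := by decide +kernel

theorem wtOK_F4 : WtOK chevF4 wtF4 11 := wtOK_of_check rfl checkWt_F4

theorem ordW_F4_lt (i : chevF4.Idx) : ordW chevF4 wtF4 11 i < 23 := by
  rcases i with i | s
  · simp [ordW]
  · simp only [ordW]
    have hs : s.val < 48 := s.isLt
    generalize s.val = n at hs
    interval_cases n <;> simp [wtF4]

/-- in type `F₄`, `(u - 1) ^ 23 = 0` for every element of the positive unipotent subgroup -/
theorem F4_sub_one_pow {F : Type*} [Field F] {g : GL chevF4.Idx F}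
    (hg : g ∈ chevF4.posUnipotent F) :
    ((g : Matrix chevF4.Idx chevF4.Idx F) - 1) ^ 23 = 0 := by
  have hD : chevF4 ∈ [chevG2, chevB2, chevD4, chevF4, chevE6, chevE7, chevE8] := by simp
  exact posUnipotent_sub_one_pow (valid0_of_mem hD) (valid1_of_mem hD) (posP_of_mem hD) wtOK_F4
    ordW_F4_lt hg

end Cfsg.Agent.Lib.Helper14.ChevWt
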