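import Cfsg.Agent.Lib.Helper14.Co2CDefs
import Cfsg.Agent.H5.Cores

/-!
# S2136: the abstract part

* `exists_hom_of_labels`: a labelling `B : X → V` of the points, compatible on generators `(g, s)`
  (`B (g • x) = act s (B x)`) with an action of `S` that is faithful on the labels, gives a
  homomorphism from the group generated by the `g` to `S`.
* `shape_of_data`: the shape of S2136 from a subgroup `C0` of the centraliser with a surjection onto
  `S`, an extraspecial subgroup `Q` of order `2^9` in its kernel and the bound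
  `|C(t)| ≤ |S| * 2^9`.
-/

set_option autoImplicit false

namespace Cfsg.Agent.Lib.Helper14.Co2C

section graph

variable {P : Type*} [Group P] {X : Type*} [MulAction P X] {S : Type*} [Group S] {V : Type*}

/-- the pairs `(g, s)` that are compatible with the labelling -/
def graphSub (act : S → V → V) (hact1 : ∀ v, act 1 v = v)
    (hactm : ∀ s s' v, act (s * s') v = act s (act s' v)) (B : X → V) : Subgroup (P × S) where
  carrier := {p | ∀ x, B (p.1 • x) = act p.2 (B x)}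
  one_mem' := by
    intro x
    show B ((1 : P) • x) = act 1 (B x)
    rw [one_smul, hact1]
  mul_mem' := by
    intro a b ha hb x
    show B ((a.1 * b.1) • x) = act (a.2 * b.2) (B x)
    rw [mul_smul, ha (b.1 • x), hb x, hactm]
  inv_mem' := by
    intro a ha x
    show B (a.1⁻¹ • x) = act a.2⁻¹ (B x)
    have h := ha (a.1⁻¹ • x)
    rw [smul_inv_smul] at h
    rw [h, ← hactm, inv_mul_cancel, hact1]

theorem mem_graphSub (act : S → V → V) (hact1 : ∀ v, act 1 v = v)
    (hactm : ∀ s s' v, act (s * s') v = act s (act s' v)) (B : X → V) (p : P × S) :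
    p ∈ graphSub (P := P) act hact1 hactm B ↔ ∀ x, B (p.1 • x) = act p.2 (B x) := Iff.rfl

/-- a homomorphism from compatible labels -/
theorem exists_hom_of_labels (act : S → V → V) (hact1 : ∀ v, act 1 v = v)
    (hactm : ∀ s s' v, act (s * s') v = act s (act s' v)) (B : X → V)
    (hfaith : ∀ s s' : S, (∀ x, act s (B x) = act s' (B x)) → s = s')
    (gens : Set (P × S)) (hgens : ∀ p ∈ gens, ∀ x, B (p.1 • x) = act p.2 (B x)) :
    ∃ ψ : ↥(Subgroup.closure (Prod.fst '' gens)) →* S,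
      (∀ (g : ↥(Subgroup.closure (Prod.fst '' gens))) (x : X), B (g.1 • x) = act (ψ g) (B x)) ∧
      ∀ p ∈ gens, ∀ h : p.1 ∈ Subgroup.closure (Prod.fst '' gens), ψ ⟨p.1, h⟩ = p.2 := by
  classical
  set H := graphSub (P := P) act hact1 hactm B with hH
  have hle : Subgroup.closure gens ≤ H := by
    rw [Subgroup.closure_le]
    intro p hp
    exact hgens p hp
  have hex : ∀ g : ↥(Subgroup.closure (Prod.fst '' gens)), ∃ s : S, ((g.1, s) : P × S) ∈ H := by
    intro g
    have hmap : Subgroup.closure (Prod.fst '' gens) =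
        (Subgroup.closure gens).map (MonoidHom.fst P S) := by
      rw [MonoidHom.map_closure]; rfl
    have hg : g.1 ∈ (Subgroup.closure gens).map (MonoidHom.fst P S) := hmap ▸ g.2
    obtain ⟨p, hp, hpg⟩ := hg
    refine ⟨p.2, ?_⟩
    have : ((g.1, p.2) : P × S) = p := by
      rw [← hpg]; rfl
    rw [this]
    exact hle hp
  have huniq : ∀ (g : P) (s s' : S), ((g, s) : P × S) ∈ H → ((g, s') : P × S) ∈ H → s = s' := by
    intro g s s' h1 h2
    apply hfaith
    intro x
    rw [← h1 x, ← h2 x]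
  choose f hf using hex
  refine ⟨MonoidHom.mk' f ?_, ?_, ?_⟩
  · intro a b
    apply huniq (a.1 * b.1)
    · exact hf (a * b)
    · exact H.mul_mem (hf a) (hf b)
  · intro g x
    exact hf g x
  · intro p hp h
    apply huniq p.1
    · exact hf ⟨p.1, h⟩
    · exact hle (Subgroup.subset_closure hp)

end graph

section shape

universe u v

/-- the abstract assembly -/
theorem shape_of_data
    (hX : ∀ {P P' : Type u} [Group P] [Group P'], (P ≃* P') → Cfsg.IsExtraspecial 2 P →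
      Cfsg.IsExtraspecial 2 P')
    {K : Type u} [Group K] [Finite K] {S : Type v} [Group S] [Finite S]
    (t : K) (ht : orderOf t = 2)
    (C0 : Subgroup K) (hC0 : C0 ≤ Subgroup.centralizer ({t} : Set K))
    (ψ : ↥C0 →* S) (hψ : Function.Surjective ψ)
    (Q : Subgroup K) (hQC : Q ≤ C0) (hQk : ∀ q (hq : q ∈ Q), ψ ⟨q, hQC hq⟩ = 1)
    (hQcard : Nat.card ↥Q = 2 ^ 9) (hQes : Cfsg.IsExtraspecial 2 ↥Q)
    (hcard : Nat.card ↥(Subgroup.centralizer ({t} : Set K)) ≤ Nat.card S * 2 ^ 9)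
    (hO2 : ∀ N : Subgroup S, N.Normal → IsPGroup 2 ↥N → N = ⊥) :
    Shape K S := by
  classical
  -- the copy of `Q` inside `C0`
  set Qc : Subgroup ↥C0 := Q.subgroupOf C0 with hQc
  have eQ : ↥Qc ≃* ↥Q := Subgroup.subgroupOfEquivOfLe hQC
  have hQc_card : Nat.card ↥Qc = 2 ^ 9 := by rw [Nat.card_congr eQ.toEquiv, hQcard]
  have hQc_le : Qc ≤ ψ.ker := by
    intro q hq
    rw [MonoidHom.mem_ker]
    have hq' : q.1 ∈ Q := Subgroup.mem_subgroupOf.mp hq
    have := hQk q.1 hq'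
    simpa using this
  -- orders
  have hcardC0 : Nat.card ↥C0 = Nat.card ↥ψ.ker * Nat.card S := by
    rw [Subgroup.card_eq_card_quotient_mul_card_subgroup ψ.ker,
      Nat.card_congr (QuotientGroup.quotientKerEquivOfSurjective ψ hψ).toEquiv, mul_comm]
  have hSpos : 0 < Nat.card S := Nat.card_pos
  have hker_ge : 2 ^ 9 ≤ Nat.card ↥ψ.ker := by
    rw [← hQc_card]
    exact Subgroup.card_le_of_le hQc_le
  have hC0_le : Nat.card ↥C0 ≤ Nat.card ↥(Subgroup.centralizer ({t} : Set K)) :=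
    Subgroup.card_le_of_le hC0
  have hker_le : Nat.card ↥ψ.ker ≤ 2 ^ 9 := by
    have h1 : Nat.card ↥ψ.ker * Nat.card S ≤ 2 ^ 9 * Nat.card S := by
      calc Nat.card ↥ψ.ker * Nat.card S = Nat.card ↥C0 := hcardC0.symm
        _ ≤ Nat.card ↥(Subgroup.centralizer ({t} : Set K)) := hC0_le
        _ ≤ Nat.card S * 2 ^ 9 := hcard
        _ = 2 ^ 9 * Nat.card S := mul_comm _ _
    exact Nat.le_of_mul_le_mul_right h1 hSpos
  have hker_card : Nat.card ↥ψ.ker = 2 ^ 9 := le_antisymm hker_le hker_ge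
  have hQc_eq : Qc = ψ.ker :=
    Subgroup.eq_of_le_of_card_ge hQc_le (by rw [hker_card, hQc_card])
  have hC0_eq : C0 = Subgroup.centralizer ({t} : Set K) := by
    apply Subgroup.eq_of_le_of_card_ge hC0
    calc Nat.card ↥(Subgroup.centralizer ({t} : Set K)) ≤ Nat.card S * 2 ^ 9 := hcard
      _ = Nat.card ↥ψ.ker * Nat.card S := by rw [hker_card, mul_comm]
      _ = Nat.card ↥C0 := hcardC0.symm
  subst hC0_eq
  -- the 2-core is the kernel
  have hkerP : IsPGroup 2 ↥ψ.ker := IsPGroup.of_card (n := 9) hker_card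
  have hcore : Cfsg.pCore 2 ↥(Subgroup.centralizer ({t} : Set K)) = ψ.ker := by
    apply le_antisymm
    · have hN : ((Cfsg.pCore 2 ↥(Subgroup.centralizer ({t} : Set K))).map ψ).Normal :=
        Subgroup.Normal.map (Cfsg.H5.pCore_normal 2 _) ψ hψ
      have hP : IsPGroup 2 ↥((Cfsg.pCore 2 ↥(Subgroup.centralizer ({t} : Set K))).map ψ) :=
        (Cfsg.H5.pCore_isPGroup 2 _).map ψ
      have hbot := hO2 _ hN hP
      rwa [Subgroup.map_eq_bot_iff] at hbot
    · exact Cfsg.H5.le_pCore (MonoidHom.normal_ker ψ) hkerP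
  refine ⟨t, ht, ?_, ?_, ?_⟩
  · have e1 : ↥Q ≃* ↥(Cfsg.pCore 2 ↥(Subgroup.centralizer ({t} : Set K))) :=
      eQ.symm.trans (MulEquiv.subgroupCongr (hQc_eq.trans hcore.symm))
    exact hX e1 hQes
  · rw [hcore, hker_card]
  · exact ⟨(QuotientGroup.quotientMulEquivOfEq hcore).trans
      (QuotientGroup.quotientKerEquivOfSurjective ψ hψ)⟩

/-- the same, for a subgroup `K0` of an ambient group -/
theorem shape_of_sub
    (hX : ∀ {P P' : Type u} [Group P] [Group P'], (P ≃* P') → Cfsg.IsExtraspecial 2 P →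
      Cfsg.IsExtraspecial 2 P')
    {P : Type u} [Group P] (K0 : Subgroup P) [Finite ↥K0] {S : Type v} [Group S] [Finite S]
    (t : P) (htK : t ∈ K0) (ht : orderOf t = 2)
    (C0 : Subgroup P) (hC0K : C0 ≤ K0) (hC0 : C0 ≤ Subgroup.centralizer ({t} : Set P))
    (ψ : ↥C0 →* S) (hψ : Function.Surjective ψ)
    (Q : Subgroup P) (hQC : Q ≤ C0) (hQk : ∀ q (hq : q ∈ Q), ψ ⟨q, hQC hq⟩ = 1)
    (hQcard : Nat.card ↥Q = 2 ^ 9) (hQes : Cfsg.IsExtraspecial 2 ↥Q)
    (hcard : Nat.card ↥(Subgroup.centralizer ({(⟨t, htK⟩ : ↥K0)} : Set ↥K0)) ≤ Nat.card S * 2 ^ 9)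
    (hO2 : ∀ N : Subgroup S, N.Normal → IsPGroup 2 ↥N → N = ⊥) :
    Shape ↥K0 S := by
  let eC : ↥(C0.subgroupOf K0) ≃* ↥C0 := Subgroup.subgroupOfEquivOfLe hC0K
  let eQ : ↥(Q.subgroupOf K0) ≃* ↥Q := Subgroup.subgroupOfEquivOfLe (hQC.trans hC0K)
  have heC : ∀ g : ↥(C0.subgroupOf K0), ((eC g : ↥C0) : P) = ((g : ↥K0) : P) := fun _ => rfl
  refine shape_of_data hX (⟨t, htK⟩ : ↥K0) ?_ (C0.subgroupOf K0) ?_ (ψ.comp eC.toMonoidHom) ?_
    (Q.subgroupOf K0) ?_ ?_ ?_ (hX eQ.symm hQes) hcard hO2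
  · rw [← ht]; exact Subgroup.orderOf_mk t htK
  · intro g hg
    rw [Subgroup.mem_centralizer_iff]
    intro z hz
    rw [Set.mem_singleton_iff] at hz
    subst hz
    have h1 : (g : P) ∈ C0 := Subgroup.mem_subgroupOf.mp hg
    have h2 := Subgroup.mem_centralizer_iff.mp (hC0 h1) t (Set.mem_singleton t)
    exact Subtype.ext h2
  · intro s
    obtain ⟨c, hc⟩ := hψ s
    exact ⟨eC.symm c, by simp [hc]⟩
  · intro g hg
    exact Subgroup.mem_subgroupOf.mpr (hQC (Subgroup.mem_subgroupOf.mp hg))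
  · intro q hq
    have hq' : (q : P) ∈ Q := Subgroup.mem_subgroupOf.mp hq
    have h1 := hQk (q : P) hq'
    have h2 : eC ⟨q, Subgroup.mem_subgroupOf.mpr (hQC hq')⟩ = ⟨(q : P), hQC hq'⟩ :=
      Subtype.ext (heC _)
    show ψ (eC ⟨q, _⟩) = 1
    rw [h2, h1]
  · rw [Nat.card_congr eQ.toEquiv, hQcard]

end shape

end Cfsg.Agent.Lib.Helper14.Co2C
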