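import Cfsg.Agent.Lib.Helper14.Co2CBDefs

/-!
# S2136: certificates for the lattice side, part 0 (generated)

The integer lists code vectors of the rank-24 lattice with the right inner products, and the four
explicit automorphisms of the lattice permute them as the four tables say.
-/

set_option autoImplicit false
set_option Elab.async false

namespace Cfsg.Agent.Lib.Helper14.Co2C

open Cfsg.Agent.Lib.Helper28.BSGS Cfsg.Agent.Helper4.CO


set_option maxRecDepth 1000000 in
theorem xl_in_0 : ∀ i : Fin 92, InLP (xl (92 * 0 + i.val)) := by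
  decide +kernel

set_option maxRecDepth 1000000 in
theorem xl_dots_0 : ∀ i : Fin 92, dotL (xl (92 * 0 + i.val)) (xl (92 * 0 + i.val)) = 32 ∧
    dotL C2.anc0 (xl (92 * 0 + i.val)) = -16 := by
  decide +kernel

set_option maxRecDepth 1000000 in
theorem act_p0_0 : ∀ i : Fin 92, C2.g0.act (xl (92 * 0 + i.val)) =
    xl (look 13 g0T (92 * 0 + i.val)) := by
  decide +kernel

set_option maxRecDepth 1000000 in
theorem act_p1_0 : ∀ i : Fin 92, C2.g1.act (xl (92 * 0 + i.val)) =
    xl (look 13 g1T (92 * 0 + i.val)) := by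
  decide +kernel

set_option maxRecDepth 1000000 in
theorem act_p2_0 : ∀ i : Fin 92, C2.g2.act (xl (92 * 0 + i.val)) =
    xl (look 13 g2T (92 * 0 + i.val)) := by
  decide +kernel

set_option maxRecDepth 1000000 in
theorem act_p3_0 : ∀ i : Fin 92, C2.g3.act (xl (92 * 0 + i.val)) =
    xl (look 13 g3T (92 * 0 + i.val)) := by
  decide +kernel

set_option maxRecDepth 1000000 in
theorem xl_in_1 : ∀ i : Fin 92, InLP (xl (92 * 1 + i.val)) := by
  decide +kernel

set_option maxRecDepth 1000000 in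
theorem xl_dots_1 : ∀ i : Fin 92, dotL (xl (92 * 1 + i.val)) (xl (92 * 1 + i.val)) = 32 ∧
    dotL C2.anc0 (xl (92 * 1 + i.val)) = -16 := by
  decide +kernel

set_option maxRecDepth 1000000 in
theorem act_p0_1 : ∀ i : Fin 92, C2.g0.act (xl (92 * 1 + i.val)) =
    xl (look 13 g0T (92 * 1 + i.val)) := by
  decide +kernel

set_option maxRecDepth 1000000 in
theorem act_p1_1 : ∀ i : Fin 92, C2.g1.act (xl (92 * 1 + i.val)) =
    xl (look 13 g1T (92 * 1 + i.val)) := by
  decide +kernel

set_option maxRecDepth 1000000 in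
theorem act_p2_1 : ∀ i : Fin 92, C2.g2.act (xl (92 * 1 + i.val)) =
    xl (look 13 g2T (92 * 1 + i.val)) := by
  decide +kernel

set_option maxRecDepth 1000000 in
theorem act_p3_1 : ∀ i : Fin 92, C2.g3.act (xl (92 * 1 + i.val)) =
    xl (look 13 g3T (92 * 1 + i.val)) := by
  decide +kernel

set_option maxRecDepth 1000000 in
theorem xl_in_2 : ∀ i : Fin 92, InLP (xl (92 * 2 + i.val)) := by
  decide +kernel

set_option maxRecDepth 1000000 in
theorem xl_dots_2 : ∀ i : Fin 92, dotL (xl (92 * 2 + i.val)) (xl (92 * 2 + i.val)) = 32 ∧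
    dotL C2.anc0 (xl (92 * 2 + i.val)) = -16 := by
  decide +kernel

set_option maxRecDepth 1000000 in
theorem act_p0_2 : ∀ i : Fin 92, C2.g0.act (xl (92 * 2 + i.val)) =
    xl (look 13 g0T (92 * 2 + i.val)) := by
  decide +kernel

set_option maxRecDepth 1000000 in
theorem act_p1_2 : ∀ i : Fin 92, C2.g1.act (xl (92 * 2 + i.val)) =
    xl (look 13 g1T (92 * 2 + i.val)) := by
  decide +kernel

set_option maxRecDepth 1000000 in
theorem act_p2_2 : ∀ i : Fin 92, C2.g2.act (xl (92 * 2 + i.val)) =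
    xl (look 13 g2T (92 * 2 + i.val)) := by
  decide +kernel

set_option maxRecDepth 1000000 in
theorem act_p3_2 : ∀ i : Fin 92, C2.g3.act (xl (92 * 2 + i.val)) =
    xl (look 13 g3T (92 * 2 + i.val)) := by
  decide +kernel

set_option maxRecDepth 1000000 in
theorem xl_in_3 : ∀ i : Fin 92, InLP (xl (92 * 3 + i.val)) := by
  decide +kernel

set_option maxRecDepth 1000000 in
theorem xl_dots_3 : ∀ i : Fin 92, dotL (xl (92 * 3 + i.val)) (xl (92 * 3 + i.val)) = 32 ∧
    dotL C2.anc0 (xl (92 * 3 + i.val)) = -16 := by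
  decide +kernel

set_option maxRecDepth 1000000 in
theorem act_p0_3 : ∀ i : Fin 92, C2.g0.act (xl (92 * 3 + i.val)) =
    xl (look 13 g0T (92 * 3 + i.val)) := by
  decide +kernel

set_option maxRecDepth 1000000 in
theorem act_p1_3 : ∀ i : Fin 92, C2.g1.act (xl (92 * 3 + i.val)) =
    xl (look 13 g1T (92 * 3 + i.val)) := by
  decide +kernel

set_option maxRecDepth 1000000 in
theorem act_p2_3 : ∀ i : Fin 92, C2.g2.act (xl (92 * 3 + i.val)) =
    xl (look 13 g2T (92 * 3 + i.val)) := by
  decide +kernel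

set_option maxRecDepth 1000000 in
theorem act_p3_3 : ∀ i : Fin 92, C2.g3.act (xl (92 * 3 + i.val)) =
    xl (look 13 g3T (92 * 3 + i.val)) := by
  decide +kernel

set_option maxRecDepth 1000000 in
theorem xl_in_4 : ∀ i : Fin 92, InLP (xl (92 * 4 + i.val)) := by
  decide +kernel

set_option maxRecDepth 1000000 in
theorem xl_dots_4 : ∀ i : Fin 92, dotL (xl (92 * 4 + i.val)) (xl (92 * 4 + i.val)) = 32 ∧
    dotL C2.anc0 (xl (92 * 4 + i.val)) = -16 := by
  decide +kernel

set_option maxRecDepth 1000000 in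
theorem act_p0_4 : ∀ i : Fin 92, C2.g0.act (xl (92 * 4 + i.val)) =
    xl (look 13 g0T (92 * 4 + i.val)) := by
  decide +kernel

set_option maxRecDepth 1000000 in
theorem act_p1_4 : ∀ i : Fin 92, C2.g1.act (xl (92 * 4 + i.val)) =
    xl (look 13 g1T (92 * 4 + i.val)) := by
  decide +kernel

set_option maxRecDepth 1000000 in
theorem act_p2_4 : ∀ i : Fin 92, C2.g2.act (xl (92 * 4 + i.val)) =
    xl (look 13 g2T (92 * 4 + i.val)) := by
  decide +kernel

set_option maxRecDepth 1000000 in
theorem act_p3_4 : ∀ i : Fin 92, C2.g3.act (xl (92 * 4 + i.val)) =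
    xl (look 13 g3T (92 * 4 + i.val)) := by
  decide +kernel

end Cfsg.Agent.Lib.Helper14.Co2C
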