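import Cfsg.Agent.Lib.Helper14.Co2CBDefs

/-!
# S2136: certificates for the lattice side, part 9 (generated)

The integer lists code vectors of the rank-24 lattice with the right inner products, and the four
explicit automorphisms of the lattice permute them as the four tables say.
-/

set_option autoImplicit false
set_option Elab.async false

namespace Cfsg.Agent.Lib.Helper14.Co2C

open Cfsg.Agent.Lib.Helper28.BSGS Cfsg.Agent.Helper4.CO


set_option maxRecDepth 1000000 in
theorem xl_in_45 : ∀ i : Fin 92, InLP (xl (92 * 45 + i.val)) := by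
  decide +kernel

set_option maxRecDepth 1000000 in
theorem xl_dots_45 : ∀ i : Fin 92, dotL (xl (92 * 45 + i.val)) (xl (92 * 45 + i.val)) = 32 ∧
    dotL C2.anc0 (xl (92 * 45 + i.val)) = -16 := by
  decide +kernel

set_option maxRecDepth 1000000 in
theorem act_p0_45 : ∀ i : Fin 92, C2.g0.act (xl (92 * 45 + i.val)) =
    xl (look 13 g0T (92 * 45 + i.val)) := by
  decide +kernel

set_option maxRecDepth 1000000 in
theorem act_p1_45 : ∀ i : Fin 92, C2.g1.act (xl (92 * 45 + i.val)) =
    xl (look 13 g1T (92 * 45 + i.val)) := by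
  decide +kernel

set_option maxRecDepth 1000000 in
theorem act_p2_45 : ∀ i : Fin 92, C2.g2.act (xl (92 * 45 + i.val)) =
    xl (look 13 g2T (92 * 45 + i.val)) := by
  decide +kernel

set_option maxRecDepth 1000000 in
theorem act_p3_45 : ∀ i : Fin 92, C2.g3.act (xl (92 * 45 + i.val)) =
    xl (look 13 g3T (92 * 45 + i.val)) := by
  decide +kernel

set_option maxRecDepth 1000000 in
theorem xl_in_46 : ∀ i : Fin 92, InLP (xl (92 * 46 + i.val)) := by
  decide +kernel

set_option maxRecDepth 1000000 in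
theorem xl_dots_46 : ∀ i : Fin 92, dotL (xl (92 * 46 + i.val)) (xl (92 * 46 + i.val)) = 32 ∧
    dotL C2.anc0 (xl (92 * 46 + i.val)) = -16 := by
  decide +kernel

set_option maxRecDepth 1000000 in
theorem act_p0_46 : ∀ i : Fin 92, C2.g0.act (xl (92 * 46 + i.val)) =
    xl (look 13 g0T (92 * 46 + i.val)) := by
  decide +kernel

set_option maxRecDepth 1000000 in
theorem act_p1_46 : ∀ i : Fin 92, C2.g1.act (xl (92 * 46 + i.val)) =
    xl (look 13 g1T (92 * 46 + i.val)) := by
  decide +kernel

set_option maxRecDepth 1000000 in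
theorem act_p2_46 : ∀ i : Fin 92, C2.g2.act (xl (92 * 46 + i.val)) =
    xl (look 13 g2T (92 * 46 + i.val)) := by
  decide +kernel

set_option maxRecDepth 1000000 in
theorem act_p3_46 : ∀ i : Fin 92, C2.g3.act (xl (92 * 46 + i.val)) =
    xl (look 13 g3T (92 * 46 + i.val)) := by
  decide +kernel

set_option maxRecDepth 1000000 in
theorem xl_in_47 : ∀ i : Fin 92, InLP (xl (92 * 47 + i.val)) := by
  decide +kernel

set_option maxRecDepth 1000000 in
theorem xl_dots_47 : ∀ i : Fin 92, dotL (xl (92 * 47 + i.val)) (xl (92 * 47 + i.val)) = 32 ∧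
    dotL C2.anc0 (xl (92 * 47 + i.val)) = -16 := by
  decide +kernel

set_option maxRecDepth 1000000 in
theorem act_p0_47 : ∀ i : Fin 92, C2.g0.act (xl (92 * 47 + i.val)) =
    xl (look 13 g0T (92 * 47 + i.val)) := by
  decide +kernel

set_option maxRecDepth 1000000 in
theorem act_p1_47 : ∀ i : Fin 92, C2.g1.act (xl (92 * 47 + i.val)) =
    xl (look 13 g1T (92 * 47 + i.val)) := by
  decide +kernel

set_option maxRecDepth 1000000 in
theorem act_p2_47 : ∀ i : Fin 92, C2.g2.act (xl (92 * 47 + i.val)) =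
    xl (look 13 g2T (92 * 47 + i.val)) := by
  decide +kernel

set_option maxRecDepth 1000000 in
theorem act_p3_47 : ∀ i : Fin 92, C2.g3.act (xl (92 * 47 + i.val)) =
    xl (look 13 g3T (92 * 47 + i.val)) := by
  decide +kernel

set_option maxRecDepth 1000000 in
theorem xl_in_48 : ∀ i : Fin 92, InLP (xl (92 * 48 + i.val)) := by
  decide +kernel

set_option maxRecDepth 1000000 in
theorem xl_dots_48 : ∀ i : Fin 92, dotL (xl (92 * 48 + i.val)) (xl (92 * 48 + i.val)) = 32 ∧
    dotL C2.anc0 (xl (92 * 48 + i.val)) = -16 := by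
  decide +kernel

set_option maxRecDepth 1000000 in
theorem act_p0_48 : ∀ i : Fin 92, C2.g0.act (xl (92 * 48 + i.val)) =
    xl (look 13 g0T (92 * 48 + i.val)) := by
  decide +kernel

set_option maxRecDepth 1000000 in
theorem act_p1_48 : ∀ i : Fin 92, C2.g1.act (xl (92 * 48 + i.val)) =
    xl (look 13 g1T (92 * 48 + i.val)) := by
  decide +kernel

set_option maxRecDepth 1000000 in
theorem act_p2_48 : ∀ i : Fin 92, C2.g2.act (xl (92 * 48 + i.val)) =
    xl (look 13 g2T (92 * 48 + i.val)) := by
  decide +kernel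

set_option maxRecDepth 1000000 in
theorem act_p3_48 : ∀ i : Fin 92, C2.g3.act (xl (92 * 48 + i.val)) =
    xl (look 13 g3T (92 * 48 + i.val)) := by
  decide +kernel

set_option maxRecDepth 1000000 in
theorem xl_in_49 : ∀ i : Fin 92, InLP (xl (92 * 49 + i.val)) := by
  decide +kernel

set_option maxRecDepth 1000000 in
theorem xl_dots_49 : ∀ i : Fin 92, dotL (xl (92 * 49 + i.val)) (xl (92 * 49 + i.val)) = 32 ∧
    dotL C2.anc0 (xl (92 * 49 + i.val)) = -16 := by
  decide +kernel

set_option maxRecDepth 1000000 in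
theorem act_p0_49 : ∀ i : Fin 92, C2.g0.act (xl (92 * 49 + i.val)) =
    xl (look 13 g0T (92 * 49 + i.val)) := by
  decide +kernel

set_option maxRecDepth 1000000 in
theorem act_p1_49 : ∀ i : Fin 92, C2.g1.act (xl (92 * 49 + i.val)) =
    xl (look 13 g1T (92 * 49 + i.val)) := by
  decide +kernel

set_option maxRecDepth 1000000 in
theorem act_p2_49 : ∀ i : Fin 92, C2.g2.act (xl (92 * 49 + i.val)) =
    xl (look 13 g2T (92 * 49 + i.val)) := by
  decide +kernel

set_option maxRecDepth 1000000 in
theorem act_p3_49 : ∀ i : Fin 92, C2.g3.act (xl (92 * 49 + i.val)) =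
    xl (look 13 g3T (92 * 49 + i.val)) := by
  decide +kernel

end Cfsg.Agent.Lib.Helper14.Co2C
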