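import Cfsg.Agent.Lib.Helper14.Co2CBCert0
import Cfsg.Agent.Lib.Helper14.Co2CBCert1
import Cfsg.Agent.Lib.Helper14.Co2CBCert2
import Cfsg.Agent.Lib.Helper14.Co2CBCert3
import Cfsg.Agent.Lib.Helper14.Co2CBCert4
import Cfsg.Agent.Lib.Helper14.Co2CBCert5
import Cfsg.Agent.Lib.Helper14.Co2CBCert6
import Cfsg.Agent.Lib.Helper14.Co2CBCert7
import Cfsg.Agent.Lib.Helper14.Co2CBCert8
import Cfsg.Agent.Lib.Helper14.Co2CBCert9

/-!
# S2136: certificates for the lattice side, assembly (generated)
-/

set_option autoImplicit false
set_option Elab.async false

namespace Cfsg.Agent.Lib.Helper14.Co2C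

open Cfsg.Agent.Lib.Helper28.BSGS Cfsg.Agent.Helper4.CO

theorem xl_in : ∀ i : Fin 4600, InLP (xl i.val) := by
  intro i
  have hi := i.isLt
  have key : ∀ (k : ℕ) (hk : k < 50) (j : Fin 92), InLP (xl (92 * k + j.val)) := by
    intro k hk
    interval_cases k
    · exact xl_in_0
    · exact xl_in_1
    · exact xl_in_2
    · exact xl_in_3
    · exact xl_in_4
    · exact xl_in_5
    · exact xl_in_6
    · exact xl_in_7
    · exact xl_in_8
    · exact xl_in_9
    · exact xl_in_10
    · exact xl_in_11
    · exact xl_in_12
    · exact xl_in_13
    · exact xl_in_14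
    · exact xl_in_15
    · exact xl_in_16
    · exact xl_in_17
    · exact xl_in_18
    · exact xl_in_19
    · exact xl_in_20
    · exact xl_in_21
    · exact xl_in_22
    · exact xl_in_23
    · exact xl_in_24
    · exact xl_in_25
    · exact xl_in_26
    · exact xl_in_27
    · exact xl_in_28
    · exact xl_in_29
    · exact xl_in_30
    · exact xl_in_31
    · exact xl_in_32
    · exact xl_in_33
    · exact xl_in_34
    · exact xl_in_35
    · exact xl_in_36
    · exact xl_in_37
    · exact xl_in_38
    · exact xl_in_39
    · exact xl_in_40
    · exact xl_in_41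
    · exact xl_in_42
    · exact xl_in_43
    · exact xl_in_44
    · exact xl_in_45
    · exact xl_in_46
    · exact xl_in_47
    · exact xl_in_48
    · exact xl_in_49
  have h := key (i.val / 92) (by omega) ⟨i.val % 92, Nat.mod_lt _ (by norm_num)⟩
  have e : 92 * (i.val / 92) + i.val % 92 = i.val := Nat.div_add_mod _ _
  simp only [e] at h
  exact h

theorem xl_dots : ∀ i : Fin 4600, dotL (xl i.val) (xl i.val) = 32 ∧
    dotL C2.anc0 (xl i.val) = -16 := by
  intro i
  have hi := i.isLt
  have key : ∀ (k : ℕ) (hk : k < 50) (j : Fin 92), dotL (xl (92 * k + j.val)) (xl (92 * k + j.val)) = 32 ∧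
    dotL C2.anc0 (xl (92 * k + j.val)) = -16 := by
    intro k hk
    interval_cases k
    · exact xl_dots_0
    · exact xl_dots_1
    · exact xl_dots_2
    · exact xl_dots_3
    · exact xl_dots_4
    · exact xl_dots_5
    · exact xl_dots_6
    · exact xl_dots_7
    · exact xl_dots_8
    · exact xl_dots_9
    · exact xl_dots_10
    · exact xl_dots_11
    · exact xl_dots_12
    · exact xl_dots_13
    · exact xl_dots_14
    · exact xl_dots_15
    · exact xl_dots_16
    · exact xl_dots_17
    · exact xl_dots_18
    · exact xl_dots_19
    · exact xl_dots_20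
    · exact xl_dots_21
    · exact xl_dots_22
    · exact xl_dots_23
    · exact xl_dots_24
    · exact xl_dots_25
    · exact xl_dots_26
    · exact xl_dots_27
    · exact xl_dots_28
    · exact xl_dots_29
    · exact xl_dots_30
    · exact xl_dots_31
    · exact xl_dots_32
    · exact xl_dots_33
    · exact xl_dots_34
    · exact xl_dots_35
    · exact xl_dots_36
    · exact xl_dots_37
    · exact xl_dots_38
    · exact xl_dots_39
    · exact xl_dots_40
    · exact xl_dots_41
    · exact xl_dots_42
    · exact xl_dots_43
    · exact xl_dots_44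
    · exact xl_dots_45
    · exact xl_dots_46
    · exact xl_dots_47
    · exact xl_dots_48
    · exact xl_dots_49
  have h := key (i.val / 92) (by omega) ⟨i.val % 92, Nat.mod_lt _ (by norm_num)⟩
  have e : 92 * (i.val / 92) + i.val % 92 = i.val := Nat.div_add_mod _ _
  simp only [e] at h
  exact h

theorem act_p0 : ∀ i : Fin 4600, C2.g0.act (xl i.val) =
    xl (look 13 g0T i.val) := by
  intro i
  have hi := i.isLt
  have key : ∀ (k : ℕ) (hk : k < 50) (j : Fin 92), C2.g0.act (xl (92 * k + j.val)) =
    xl (look 13 g0T (92 * k + j.val)) := by
    intro k hk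
    interval_cases k
    · exact act_p0_0
    · exact act_p0_1
    · exact act_p0_2
    · exact act_p0_3
    · exact act_p0_4
    · exact act_p0_5
    · exact act_p0_6
    · exact act_p0_7
    · exact act_p0_8
    · exact act_p0_9
    · exact act_p0_10
    · exact act_p0_11
    · exact act_p0_12
    · exact act_p0_13
    · exact act_p0_14
    · exact act_p0_15
    · exact act_p0_16
    · exact act_p0_17
    · exact act_p0_18
    · exact act_p0_19
    · exact act_p0_20
    · exact act_p0_21
    · exact act_p0_22
    · exact act_p0_23
    · exact act_p0_24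
    · exact act_p0_25
    · exact act_p0_26
    · exact act_p0_27
    · exact act_p0_28
    · exact act_p0_29
    · exact act_p0_30
    · exact act_p0_31
    · exact act_p0_32
    · exact act_p0_33
    · exact act_p0_34
    · exact act_p0_35
    · exact act_p0_36
    · exact act_p0_37
    · exact act_p0_38
    · exact act_p0_39
    · exact act_p0_40
    · exact act_p0_41
    · exact act_p0_42
    · exact act_p0_43
    · exact act_p0_44
    · exact act_p0_45
    · exact act_p0_46
    · exact act_p0_47
    · exact act_p0_48
    · exact act_p0_49
  have h := key (i.val / 92) (by omega) ⟨i.val % 92, Nat.mod_lt _ (by norm_num)⟩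
  have e : 92 * (i.val / 92) + i.val % 92 = i.val := Nat.div_add_mod _ _
  simp only [e] at h
  exact h

theorem act_p1 : ∀ i : Fin 4600, C2.g1.act (xl i.val) =
    xl (look 13 g1T i.val) := by
  intro i
  have hi := i.isLt
  have key : ∀ (k : ℕ) (hk : k < 50) (j : Fin 92), C2.g1.act (xl (92 * k + j.val)) =
    xl (look 13 g1T (92 * k + j.val)) := by
    intro k hk
    interval_cases k
    · exact act_p1_0
    · exact act_p1_1
    · exact act_p1_2
    · exact act_p1_3
    · exact act_p1_4
    · exact act_p1_5
    · exact act_p1_6
    · exact act_p1_7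
    · exact act_p1_8
    · exact act_p1_9
    · exact act_p1_10
    · exact act_p1_11
    · exact act_p1_12
    · exact act_p1_13
    · exact act_p1_14
    · exact act_p1_15
    · exact act_p1_16
    · exact act_p1_17
    · exact act_p1_18
    · exact act_p1_19
    · exact act_p1_20
    · exact act_p1_21
    · exact act_p1_22
    · exact act_p1_23
    · exact act_p1_24
    · exact act_p1_25
    · exact act_p1_26
    · exact act_p1_27
    · exact act_p1_28
    · exact act_p1_29
    · exact act_p1_30
    · exact act_p1_31
    · exact act_p1_32
    · exact act_p1_33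
    · exact act_p1_34
    · exact act_p1_35
    · exact act_p1_36
    · exact act_p1_37
    · exact act_p1_38
    · exact act_p1_39
    · exact act_p1_40
    · exact act_p1_41
    · exact act_p1_42
    · exact act_p1_43
    · exact act_p1_44
    · exact act_p1_45
    · exact act_p1_46
    · exact act_p1_47
    · exact act_p1_48
    · exact act_p1_49
  have h := key (i.val / 92) (by omega) ⟨i.val % 92, Nat.mod_lt _ (by norm_num)⟩
  have e : 92 * (i.val / 92) + i.val % 92 = i.val := Nat.div_add_mod _ _
  simp only [e] at h
  exact h

theorem act_p2 : ∀ i : Fin 4600, C2.g2.act (xl i.val) =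
    xl (look 13 g2T i.val) := by
  intro i
  have hi := i.isLt
  have key : ∀ (k : ℕ) (hk : k < 50) (j : Fin 92), C2.g2.act (xl (92 * k + j.val)) =
    xl (look 13 g2T (92 * k + j.val)) := by
    intro k hk
    interval_cases k
    · exact act_p2_0
    · exact act_p2_1
    · exact act_p2_2
    · exact act_p2_3
    · exact act_p2_4
    · exact act_p2_5
    · exact act_p2_6
    · exact act_p2_7
    · exact act_p2_8
    · exact act_p2_9
    · exact act_p2_10
    · exact act_p2_11
    · exact act_p2_12
    · exact act_p2_13
    · exact act_p2_14
    · exact act_p2_15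
    · exact act_p2_16
    · exact act_p2_17
    · exact act_p2_18
    · exact act_p2_19
    · exact act_p2_20
    · exact act_p2_21
    · exact act_p2_22
    · exact act_p2_23
    · exact act_p2_24
    · exact act_p2_25
    · exact act_p2_26
    · exact act_p2_27
    · exact act_p2_28
    · exact act_p2_29
    · exact act_p2_30
    · exact act_p2_31
    · exact act_p2_32
    · exact act_p2_33
    · exact act_p2_34
    · exact act_p2_35
    · exact act_p2_36
    · exact act_p2_37
    · exact act_p2_38
    · exact act_p2_39
    · exact act_p2_40
    · exact act_p2_41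
    · exact act_p2_42
    · exact act_p2_43
    · exact act_p2_44
    · exact act_p2_45
    · exact act_p2_46
    · exact act_p2_47
    · exact act_p2_48
    · exact act_p2_49
  have h := key (i.val / 92) (by omega) ⟨i.val % 92, Nat.mod_lt _ (by norm_num)⟩
  have e : 92 * (i.val / 92) + i.val % 92 = i.val := Nat.div_add_mod _ _
  simp only [e] at h
  exact h

theorem act_p3 : ∀ i : Fin 4600, C2.g3.act (xl i.val) =
    xl (look 13 g3T i.val) := by
  intro i
  have hi := i.isLt
  have key : ∀ (k : ℕ) (hk : k < 50) (j : Fin 92), C2.g3.act (xl (92 * k + j.val)) =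
    xl (look 13 g3T (92 * k + j.val)) := by
    intro k hk
    interval_cases k
    · exact act_p3_0
    · exact act_p3_1
    · exact act_p3_2
    · exact act_p3_3
    · exact act_p3_4
    · exact act_p3_5
    · exact act_p3_6
    · exact act_p3_7
    · exact act_p3_8
    · exact act_p3_9
    · exact act_p3_10
    · exact act_p3_11
    · exact act_p3_12
    · exact act_p3_13
    · exact act_p3_14
    · exact act_p3_15
    · exact act_p3_16
    · exact act_p3_17
    · exact act_p3_18
    · exact act_p3_19
    · exact act_p3_20
    · exact act_p3_21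
    · exact act_p3_22
    · exact act_p3_23
    · exact act_p3_24
    · exact act_p3_25
    · exact act_p3_26
    · exact act_p3_27
    · exact act_p3_28
    · exact act_p3_29
    · exact act_p3_30
    · exact act_p3_31
    · exact act_p3_32
    · exact act_p3_33
    · exact act_p3_34
    · exact act_p3_35
    · exact act_p3_36
    · exact act_p3_37
    · exact act_p3_38
    · exact act_p3_39
    · exact act_p3_40
    · exact act_p3_41
    · exact act_p3_42
    · exact act_p3_43
    · exact act_p3_44
    · exact act_p3_45
    · exact act_p3_46
    · exact act_p3_47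
    · exact act_p3_48
    · exact act_p3_49
  have h := key (i.val / 92) (by omega) ⟨i.val % 92, Nat.mod_lt _ (by norm_num)⟩
  have e : 92 * (i.val / 92) + i.val % 92 = i.val := Nat.div_add_mod _ _
  simp only [e] at h
  exact h

end Cfsg.Agent.Lib.Helper14.Co2C
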