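import Cfsg.Agent.Lib.Helper4.Orb.C2.Cfg
import Cfsg.Agent.Lib.Helper28.BSGSPerm
import Cfsg.Agent.Lib.Helper14.Co2CBData
import Cfsg.Agent.Lib.Helper14.Co2CData

/-!
# S2136: the lattice side, definitions
-/

set_option autoImplicit false

namespace Cfsg.Agent.Lib.Helper14.Co2C

/-- the list packed in a number -/
def unpackV (X : ℕ) : List ℤ := (List.range 24).map fun p => ((X / 16 ^ p % 16 : ℕ) : ℤ) - 8

/-- the integer list of a vector -/
def xl (i : ℕ) : List ℤ := unpackV ((XCH.getD (i / 92) []).getD (i % 92) 0)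

end Cfsg.Agent.Lib.Helper14.Co2C
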