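import Cfsg.Agent.Lib.Helper14.Co2CCert

/-!
# S2136: membership of the named elements in the group generated by `GENS` (generated)
-/

set_option autoImplicit false

namespace Cfsg.Agent.Lib.Helper14.Co2C

open Cfsg.Agent.Lib.Helper28.BSGS Cfsg.Agent.Lib.Helper22.SuzOut Cfsg.Agent.Lib.Helper27.TreeSift

attribute [local irreducible] permOf

/-- the group generated by the four generators -/
def G0 : Subgroup (Equiv.Perm (Fin 4600)) := genGroup 4600 13 GENS

theorem g_spec : ∀ g ∈ GENS, pairOK 4600 13 g.1 g.2 = true ∧ permOf 4600 13 g.1 g.2 ∈ G0 := by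
  intro g hg
  exact ⟨gensOK_spec 4600 13 gens_ok g hg, Subgroup.subset_closure (mem_semGens 4600 13 hg)⟩

theorem t_spec : pairOK 4600 13 tT tT = true ∧ permOf 4600 13 tT tT ∈ G0 :=
  slp_step G0 GENS g_spec tT tT _ slp_t

theorem s1_spec : pairOK 4600 13 s1T s1I = true ∧ permOf 4600 13 s1T s1I ∈ G0 :=
  slp_step G0 GENS g_spec s1T s1I _ slp_s1

theorem s2_spec : pairOK 4600 13 s2T s2I = true ∧ permOf 4600 13 s2T s2I ∈ G0 :=
  slp_step G0 GENS g_spec s2T s2I _ slp_s2

theorem h1_spec : pairOK 4600 13 h1T h1I = true ∧ permOf 4600 13 h1T h1I ∈ G0 :=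
  slp_step G0 GENS g_spec h1T h1I _ slp_h1

theorem k1_spec : pairOK 4600 13 k1T k1I = true ∧ permOf 4600 13 k1T k1I ∈ G0 := by
  refine slp_step G0 [(tT, tT), (h1T, h1I)] ?_ k1T k1I _ slp_k1
  intro g hg
  simp only [List.mem_cons, List.not_mem_nil, or_false] at hg
  rcases hg with rfl | rfl
  · exact t_spec
  · exact h1_spec

theorem c1_spec : pairOK 4600 13 c1T c1T = true ∧ permOf 4600 13 c1T c1T ∈ G0 := by
  refine slp_step G0 [(h1T, h1I), (k1T, k1I)] ?_ c1T c1T _ slp_c1
  intro g hg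
  simp only [List.mem_cons, List.not_mem_nil, or_false] at hg
  rcases hg with rfl | rfl
  · exact h1_spec
  · exact k1_spec

theorem h2_spec : pairOK 4600 13 h2T h2I = true ∧ permOf 4600 13 h2T h2I ∈ G0 :=
  slp_step G0 GENS g_spec h2T h2I _ slp_h2

theorem k2_spec : pairOK 4600 13 k2T k2I = true ∧ permOf 4600 13 k2T k2I ∈ G0 := by
  refine slp_step G0 [(tT, tT), (h2T, h2I)] ?_ k2T k2I _ slp_k2
  intro g hg
  simp only [List.mem_cons, List.not_mem_nil, or_false] at hg
  rcases hg with rfl | rfl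
  · exact t_spec
  · exact h2_spec

theorem c2_spec : pairOK 4600 13 c2T c2T = true ∧ permOf 4600 13 c2T c2T ∈ G0 := by
  refine slp_step G0 [(h2T, h2I), (k2T, k2I)] ?_ c2T c2T _ slp_c2
  intro g hg
  simp only [List.mem_cons, List.not_mem_nil, or_false] at hg
  rcases hg with rfl | rfl
  · exact h2_spec
  · exact k2_spec

theorem h3_spec : pairOK 4600 13 h3T h3I = true ∧ permOf 4600 13 h3T h3I ∈ G0 :=
  slp_step G0 GENS g_spec h3T h3I _ slp_h3

theorem k3_spec : pairOK 4600 13 k3T k3I = true ∧ permOf 4600 13 k3T k3I ∈ G0 := by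
  refine slp_step G0 [(tT, tT), (h3T, h3I)] ?_ k3T k3I _ slp_k3
  intro g hg
  simp only [List.mem_cons, List.not_mem_nil, or_false] at hg
  rcases hg with rfl | rfl
  · exact t_spec
  · exact h3_spec

theorem c3_spec : pairOK 4600 13 c3T c3I = true ∧ permOf 4600 13 c3T c3I ∈ G0 := by
  refine slp_step G0 [(h3T, h3I), (k3T, k3I)] ?_ c3T c3I _ slp_c3
  intro g hg
  simp only [List.mem_cons, List.not_mem_nil, or_false] at hg
  rcases hg with rfl | rfl
  · exact h3_spec
  · exact k3_spec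

theorem y1_spec : pairOK 4600 13 y1T y1I = true ∧ permOf 4600 13 y1T y1I ∈ G0 := by
  refine slp_step G0 [(c1T, c1T), (c2T, c2T), (c3T, c3I)] ?_ y1T y1I _ slp_y1
  intro g hg
  simp only [List.mem_cons, List.not_mem_nil, or_false] at hg
  rcases hg with rfl | rfl | rfl
  · exact c1_spec
  · exact c2_spec
  · exact c3_spec

theorem x1_spec : pairOK 4600 13 x1T x1T = true ∧ permOf 4600 13 x1T x1T ∈ G0 := by
  refine slp_step G0 [(y1T, y1I)] ?_ x1T x1T _ slp_x1
  intro g hg
  simp only [List.mem_cons, List.not_mem_nil, or_false] at hg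
  rcases hg with rfl
  · exact y1_spec

theorem x2_spec : pairOK 4600 13 x2T x2T = true ∧ permOf 4600 13 x2T x2T ∈ G0 := by
  refine slp_step G0 [(c1T, c1T), (c2T, c2T), (c3T, c3I), (x1T, x1T)] ?_ x2T x2T _ slp_x2
  intro g hg
  simp only [List.mem_cons, List.not_mem_nil, or_false] at hg
  rcases hg with rfl | rfl | rfl | rfl
  · exact c1_spec
  · exact c2_spec
  · exact c3_spec
  · exact x1_spec

theorem x3_spec : pairOK 4600 13 x3T x3T = true ∧ permOf 4600 13 x3T x3T ∈ G0 := by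
  refine slp_step G0 [(c1T, c1T), (c2T, c2T), (c3T, c3I), (x1T, x1T)] ?_ x3T x3T _ slp_x3
  intro g hg
  simp only [List.mem_cons, List.not_mem_nil, or_false] at hg
  rcases hg with rfl | rfl | rfl | rfl
  · exact c1_spec
  · exact c2_spec
  · exact c3_spec
  · exact x1_spec

theorem x4_spec : pairOK 4600 13 x4T x4T = true ∧ permOf 4600 13 x4T x4T ∈ G0 := by
  refine slp_step G0 [(c1T, c1T), (c2T, c2T), (c3T, c3I), (x1T, x1T)] ?_ x4T x4T _ slp_x4
  intro g hg
  simp only [List.mem_cons, List.not_mem_nil, or_false] at hg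
  rcases hg with rfl | rfl | rfl | rfl
  · exact c1_spec
  · exact c2_spec
  · exact c3_spec
  · exact x1_spec

theorem x5_spec : pairOK 4600 13 x5T x5T = true ∧ permOf 4600 13 x5T x5T ∈ G0 := by
  refine slp_step G0 [(c1T, c1T), (c2T, c2T), (c3T, c3I), (x1T, x1T)] ?_ x5T x5T _ slp_x5
  intro g hg
  simp only [List.mem_cons, List.not_mem_nil, or_false] at hg
  rcases hg with rfl | rfl | rfl | rfl
  · exact c1_spec
  · exact c2_spec
  · exact c3_spec
  · exact x1_spec

theorem x6_spec : pairOK 4600 13 x6T x6T = true ∧ permOf 4600 13 x6T x6T ∈ G0 := by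
  refine slp_step G0 [(c1T, c1T), (c2T, c2T), (c3T, c3I), (x1T, x1T)] ?_ x6T x6T _ slp_x6
  intro g hg
  simp only [List.mem_cons, List.not_mem_nil, or_false] at hg
  rcases hg with rfl | rfl | rfl | rfl
  · exact c1_spec
  · exact c2_spec
  · exact c3_spec
  · exact x1_spec

theorem x7_spec : pairOK 4600 13 x7T x7T = true ∧ permOf 4600 13 x7T x7T ∈ G0 := by
  refine slp_step G0 [(c1T, c1T), (c2T, c2T), (c3T, c3I), (x1T, x1T)] ?_ x7T x7T _ slp_x7
  intro g hg
  simp only [List.mem_cons, List.not_mem_nil, or_false] at hg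
  rcases hg with rfl | rfl | rfl | rfl
  · exact c1_spec
  · exact c2_spec
  · exact c3_spec
  · exact x1_spec

theorem x8_spec : pairOK 4600 13 x8T x8T = true ∧ permOf 4600 13 x8T x8T ∈ G0 := by
  refine slp_step G0 [(c1T, c1T), (c2T, c2T), (c3T, c3I), (x1T, x1T)] ?_ x8T x8T _ slp_x8
  intro g hg
  simp only [List.mem_cons, List.not_mem_nil, or_false] at hg
  rcases hg with rfl | rfl | rfl | rfl
  · exact c1_spec
  · exact c2_spec
  · exact c3_spec
  · exact x1_spec

end Cfsg.Agent.Lib.Helper14.Co2C
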