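import Cfsg.Prelude.Def_Spor_Conway
import Cfsg.Agent.Lib.Helper4.Orb.GrpCo2
import Cfsg.Agent.Lib.Helper14.Co2CBCertL
import Cfsg.Agent.Lib.Helper14.Co2CBSort
import Cfsg.Agent.Lib.Helper14.Co2CMem

/-!
# S2136: the second Conway group of the list and a group on 4600 points

The stabilizer of the vector `(4, 4, 0, …, 0)` of the rank-24 lattice is simple of order
`42305421312000` and acts on the 4600 vectors of sum of squares 32 whose inner product with it is
`-16`.  Four explicit automorphisms in this stabilizer induce the four explicit permutations `GENS`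
of the 4600 vectors.  Hence the stabilizer is isomorphic to a subgroup of `Perm (Fin 4600)` of order
`42305421312000` containing the group generated by `GENS`.  (Port of helper28's `Co3Bridge`.)
-/

set_option autoImplicit false
set_option Elab.async false
set_option maxRecDepth 100000

namespace Cfsg.Agent.Lib.Helper14.Co2C

open Cfsg Cfsg.Spor MulAction
open Cfsg.Agent.Helper4.CO Cfsg.Agent.Helper4.CO.Grp Cfsg.Agent.Helper4.LC
open Cfsg.Agent.Lib.Helper28.BSGS

attribute [local irreducible] permOf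

/-! ### the 4600 vectors -/

/-- the base vector -/
def mU2 : leechLattice := mkL C2.anc0 C2.anc0_in

theorem mU2_coe : ((mU2 : leechLattice) : GolayPt → ℤ) = toV C2.anc0 := rfl

theorem mU2_norm : sqNorm (mU2 : GolayPt → ℤ) = 32 := by
  rw [mU2_coe, sqNorm_toV _ C2.anc0_in.1]
  decide

/-- the lattice group -/
abbrev HB : Subgroup ↥Co0 := stabilizer ↥Co0 mU2

theorem hB : SimpCard ↥HB 42305421312000 := co2_simpCard mU2 mU2_norm

/-- the 4600 vectors -/
def xs (i : Fin 4600) : leechLattice := mkL (xl i.val) (xl_in i)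

theorem xs_coe (i : Fin 4600) : ((xs i : leechLattice) : GolayPt → ℤ) = toV (xl i.val) := rfl

/-- the set of the 4600 vectors -/
def X : Set leechLattice := dotSet 32 mU2 0 0 (-16, 0, 0)

theorem xs_mem (i : Fin 4600) : xs i ∈ X := by
  unfold X
  rw [mem_dotSet_zero23]
  obtain ⟨h1, h2⟩ := xl_dots i
  refine ⟨?_, ?_⟩
  · rw [xs_coe, sqNorm_toV _ (xl_in i).1]; exact h1
  · rw [mU2_coe, xs_coe, dotInt_toV _ _ C2.anc0_in.1 (xl_in i).1]; exact h2

/-- a number computed from a list of integers -/
def keyV (l : List ℤ) : ℕ := l.foldr (fun v acc => (v + 8).toNat + 16 * acc) 0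

/-- key of the `i`-th vector -/
def kf (i : ℕ) : ℕ := keyV (xl i)

/-- position `p` of the increasing order holds the vector number `sg p` -/
def sg (p : ℕ) : ℕ := look 13 SIG p

/-- the vector number `i` stands at position `tu i` -/
def tu (i : ℕ) : ℕ := look 13 TAU i

set_option maxRecDepth 1000000 in
theorem sig_tau : Cfsg.Agent.Lib.Helper22.SuzOut.allBelow
    (fun i => Nat.beq (sg (tu i)) i && Nat.blt (tu i) 4600) 4600 = true := by
  decide +kernel

/-- the keys increase along the positions `920 * k + p`, `p < m` -/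
noncomputable def incrChunk (k m : ℕ) : Bool :=
  Cfsg.Agent.Lib.Helper22.SuzOut.allBelow
    (fun p => Nat.blt (kf (sg (920 * k + p))) (kf (sg (920 * k + p + 1)))) m

set_option maxRecDepth 1000000 in
theorem keys_incr0 : incrChunk 0 920 = true := by
  decide +kernel

set_option maxRecDepth 1000000 in
theorem keys_incr1 : incrChunk 1 920 = true := by
  decide +kernel

set_option maxRecDepth 1000000 in
theorem keys_incr2 : incrChunk 2 920 = true := by
  decide +kernel

set_option maxRecDepth 1000000 in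
theorem keys_incr3 : incrChunk 3 920 = true := by
  decide +kernel

set_option maxRecDepth 1000000 in
theorem keys_incr4 : incrChunk 4 919 = true := by
  decide +kernel

theorem kf_step (q : ℕ) (hq : q < 4599) : kf (sg q) < kf (sg (q + 1)) := by
  have key : ∀ k m, incrChunk k m = true → ∀ p, p < m →
      kf (sg (920 * k + p)) < kf (sg (920 * k + p + 1)) := by
    intro k m h p hp
    exact Nat.blt_eq.mp (Cfsg.Agent.Lib.Helper22.SuzOut.allBelow_spec h p hp)
  obtain ⟨k, hkk⟩ : ∃ k, k = q / 920 := ⟨_, rfl⟩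
  have e : 920 * k + q % 920 = q := by rw [hkk]; exact Nat.div_add_mod _ _
  have hk : k < 5 := by omega
  have hm : q % 920 < 920 := Nat.mod_lt _ (by norm_num)
  have fin : ∀ m, incrChunk k m = true → q % 920 < m → kf (sg q) < kf (sg (q + 1)) := by
    intro m h hp
    have := key k m h (q % 920) hp
    rwa [e] at this
  interval_cases k
  · exact fin 920 keys_incr0 hm
  · exact fin 920 keys_incr1 hm
  · exact fin 920 keys_incr2 hm
  · exact fin 920 keys_incr3 hm
  · exact fin 919 keys_incr4 (by omega)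

theorem kf_mono : ∀ q, q < 4600 → ∀ p, p < q → kf (sg p) < kf (sg q) := by
  intro q
  induction q with
  | zero => intro _ p hp; omega
  | succ q ih =>
    intro hq p hp
    have hstep : kf (sg q) < kf (sg (q + 1)) := kf_step q (by omega)
    rcases Nat.lt_succ_iff_lt_or_eq.mp hp with hlt | rfl
    · exact lt_trans (ih (by omega) p hlt) hstep
    · exact hstep

theorem kf_inj {i j : ℕ} (hi : i < 4600) (hj : j < 4600) (h : kf i = kf j) : i = j := by
  have hi' := Cfsg.Agent.Lib.Helper22.SuzOut.allBelow_spec sig_tau i hi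
  have hj' := Cfsg.Agent.Lib.Helper22.SuzOut.allBelow_spec sig_tau j hj
  rw [Bool.and_eq_true] at hi' hj'
  have ei : sg (tu i) = i := Nat.eq_of_beq_eq_true hi'.1
  have ej : sg (tu j) = j := Nat.eq_of_beq_eq_true hj'.1
  have li : tu i < 4600 := Nat.blt_eq.mp hi'.2
  have lj : tu j < 4600 := Nat.blt_eq.mp hj'.2
  by_contra hne
  have hpq : tu i ≠ tu j := by
    intro e
    apply hne
    rw [← ei, ← ej, e]
  rcases Nat.lt_or_gt_of_ne hpq with hlt | hgt
  · have := kf_mono (tu j) lj (tu i) hlt
    rw [ei, ej, h] at this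
    exact lt_irrefl _ this
  · have := kf_mono (tu i) li (tu j) hgt
    rw [ei, ej, h] at this
    exact lt_irrefl _ this

theorem xl_inj {i j : ℕ} (hi : i < 4600) (hj : j < 4600) (h : xl i = xl j) : i = j :=
  kf_inj hi hj (by unfold kf; rw [h])

theorem xs_inj : Function.Injective xs := by
  intro i j h
  apply Fin.ext
  apply xl_inj i.isLt j.isLt
  have h1 : ((xs i : leechLattice) : GolayPt → ℤ) = ((xs j : leechLattice) : GolayPt → ℤ) := by
    rw [h]
  rw [xs_coe, xs_coe] at h1
  exact toV_inj (xl_in i).1 (xl_in j).1 h1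

theorem X_ncard : X.ncard = 4600 := card_A mU2 mU2_norm

theorem range_xs : Set.range xs = X := by
  have hfin : X.Finite := Set.finite_of_ncard_ne_zero (by rw [X_ncard]; norm_num)
  apply Set.eq_of_subset_of_ncard_le _ _ hfin
  · rintro _ ⟨i, rfl⟩
    exact xs_mem i
  · rw [X_ncard, ← Set.image_univ, Set.ncard_image_of_injective _ xs_inj, Set.ncard_univ,
      Nat.card_fin]

/-! ### the action -/

theorem smul_mem_X (g : ↥Co0) (hu : g • mU2 = mU2) {x : leechLattice} (hx : x ∈ X) :
    g • x ∈ X := by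
  unfold X at hx ⊢
  rw [mem_dotSet_zero23] at hx ⊢
  refine ⟨by rw [co0_sqNorm']; exact hx.1, ?_⟩
  have h := co0_dot' g mU2 x
  rw [hu] at h
  rw [h]
  exact hx.2

theorem stab_u (g : ↥HB) : g.1 • mU2 = mU2 := MulAction.mem_stabilizer_iff.mp g.2

theorem exists_idx (g : ↥HB) (i : Fin 4600) : ∃ j, xs j = g.1 • xs i := by
  have h : g.1 • xs i ∈ Set.range xs := by
    rw [range_xs]
    exact smul_mem_X g.1 (stab_u g) (xs_mem i)
  exact h

/-- the index of the image of the `i`-th vector -/
noncomputable def idx (g : ↥HB) (i : Fin 4600) : Fin 4600 := (exists_idx g i).choose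

theorem idx_spec (g : ↥HB) (i : Fin 4600) : xs (idx g i) = g.1 • xs i :=
  (exists_idx g i).choose_spec

theorem idx_eq {g : ↥HB} {i j : Fin 4600} (h : xs j = g.1 • xs i) : idx g i = j :=
  xs_inj (by rw [idx_spec, h])

theorem idx_one (i : Fin 4600) : idx 1 i = i :=
  idx_eq (by rw [Subgroup.coe_one, one_smul])

theorem idx_mul (g h : ↥HB) (i : Fin 4600) : idx (g * h) i = idx g (idx h i) :=
  idx_eq (by rw [idx_spec, idx_spec, Subgroup.coe_mul, mul_smul])

/-- the action on the indices -/
noncomputable def fP : ↥HB →* Equiv.Perm (Fin 4600) where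
  toFun g :=
    { toFun := idx g
      invFun := idx g⁻¹
      left_inv := fun i => by rw [← idx_mul, inv_mul_cancel, idx_one]
      right_inv := fun i => by rw [← idx_mul, mul_inv_cancel, idx_one] }
  map_one' := Equiv.ext fun i => idx_one i
  map_mul' g h := Equiv.ext fun i => idx_mul g h i

theorem fP_apply (g : ↥HB) (i : Fin 4600) : fP g i = idx g i := rfl

/-! ### the generators -/

theorem gen_elt (gen : Gen) (hgen : gen ∈ C2.gens) (t t' : ℕ)
    (hact : ∀ i : Fin 4600, gen.act (xl i.val) = xl (look 13 t i.val))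
    (ht : pairOK 4600 13 t t' = true) : permOf 4600 13 t t' ∈ fP.range := by
  obtain ⟨hgood, _, hfix⟩ := C2.gensOK.2 gen hgen
  obtain ⟨g', hg'⟩ := Gen.elt gen hgood
  have hu : g' • mU2 = mU2 := by
    apply Subtype.ext
    rw [(hg' C2.anc0 C2.anc0_in.1).2 mU2 rfl, hfix C2.anc0 (by simp [C2.anchors])]
    rfl
  have hmem : g' ∈ HB := MulAction.mem_stabilizer_iff.mpr hu
  refine ⟨⟨g', hmem⟩, ?_⟩
  apply Equiv.ext
  intro i
  rw [fP_apply]
  apply idx_eq
  apply Subtype.ext
  rw [(hg' (xl i.val) (xl_in i).1).2 (xs i) rfl, hact i, xs_coe, permOf_apply ht i]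

theorem G0_le_range : G0 ≤ fP.range := by
  unfold G0
  apply genGroup_le'
  intro g hg
  have hp := (g_spec g hg).1
  simp only [GENS, List.mem_cons, List.not_mem_nil, or_false] at hg
  rcases hg with rfl | rfl | rfl | rfl
  · exact gen_elt C2.g0 (by simp [C2.gens]) g0T g0I act_p0 hp
  · exact gen_elt C2.g1 (by simp [C2.gens]) g1T g1I act_p1 hp
  · exact gen_elt C2.g2 (by simp [C2.gens]) g2T g2I act_p2 hp
  · exact gen_elt C2.g3 (by simp [C2.gens]) g3T g3I act_p3 hp

/-! ### the two groups -/

theorem fP_inj : Function.Injective fP := by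
  rw [← MonoidHom.ker_eq_bot_iff]
  haveI := hB.1
  rcases (MonoidHom.normal_ker fP).eq_bot_or_eq_top with h | h
  · exact h
  · exfalso
    obtain ⟨g, hg⟩ := G0_le_range t_spec.2
    have hk : g ∈ fP.ker := by rw [h]; exact Subgroup.mem_top g
    rw [MonoidHom.mem_ker, hg] at hk
    refine ne_one_of_look t_spec.1 MV (Nat.le_of_ble_eq_true tmove_ok.2) ?_ hk
    intro h'
    have := tmove_ok.1
    rw [h'] at this
    simp at this

theorem card_range : Nat.card ↥fP.range = 42305421312000 := by
  rw [← Nat.card_congr (MonoidHom.ofInjective fP_inj).toEquiv, hB.2]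

/-! ### the second Conway group of the list -/

theorem leechU_norm : sqNorm (leechU : GolayPt → ℤ) = 32 := by
  show sqNorm vecU = 32
  decide +kernel

theorem mem_Co2_iff (g : Equiv.Perm leechLattice) :
    g ∈ Spor.Co2 ↔ g ∈ Co0 ∧ g leechU = leechU := by
  unfold Spor.Co2
  rw [Subgroup.mem_inf, MulAction.mem_stabilizer_iff]
  exact Iff.rfl

/-- the second Conway group of the list is the stabilizer of the vector -/
def co2Equiv : ↥Spor.Co2 ≃* ↥(stabilizer ↥Co0 leechU) where
  toFun g := ⟨⟨g.1, ((mem_Co2_iff g.1).mp g.2).1⟩, by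
    obtain ⟨h0, h1⟩ := (mem_Co2_iff g.1).mp g.2
    exact MulAction.mem_stabilizer_iff.mpr h1⟩
  invFun g := ⟨g.1.1, by
    rw [mem_Co2_iff]
    exact ⟨g.1.2, MulAction.mem_stabilizer_iff.mp g.2⟩⟩
  left_inv g := rfl
  right_inv g := rfl
  map_mul' g h := rfl

theorem co2_iso : Nonempty (↥(stabilizer ↥Co0 leechU) ≃* ↥HB) := by
  obtain ⟨h, hb⟩ := based_C2 leechU leechU_norm
  have e := conjStab1 h leechU
  have h1 : h • leechU = mU2 := Subtype.ext (by rw [hb.1]; rfl)
  rw [h1] at e
  exact ⟨e⟩

/-- the bridge -/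
theorem bridge : ∃ K0 : Subgroup (Equiv.Perm (Fin 4600)), G0 ≤ K0 ∧
    Nat.card ↥K0 ≤ 42305421312000 ∧ Nonempty (↥Cfsg.Spor.Co2 ≃* ↥K0) := by
  obtain ⟨e⟩ := co2_iso
  exact ⟨fP.range, G0_le_range, le_of_eq card_range,
    ⟨(co2Equiv.trans e).trans (MonoidHom.ofInjective fP_inj)⟩⟩

end Cfsg.Agent.Lib.Helper14.Co2C
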