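import Cfsg.Agent.Lib.Helper14.Co2CChk

/-!
# S2136: generated certificates
-/

set_option autoImplicit false
set_option Elab.async false
set_option maxRecDepth 1000000

namespace Cfsg.Agent.Lib.Helper14.Co2C

open Cfsg.Agent.Lib.Helper28.BSGS Cfsg.Agent.Lib.Helper22.SuzOut Cfsg.Agent.Lib.Helper27.TreeSift

theorem gens_ok : gensOK 4600 13 GENS = true := by decide +kernel

theorem slp_t : pathOK 4600 13 GENS (0, tT, tT) [4, 4, 4, 4] = true := by decide +kernel

theorem slp_s1 : pathOK 4600 13 GENS (0, s1T, s1I) [3, 7, 3, 7, 7, 1, 2, 0, 2, 0, 6, 0, 0] = true := by decide +kernel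

theorem slp_s2 : pathOK 4600 13 GENS (0, s2T, s2I) [3, 7, 7, 7, 7, 7, 0, 2, 6, 6, 6, 0, 6] = true := by decide +kernel

theorem slp_h1 : pathOK 4600 13 GENS (0, h1T, h1I) [6, 4, 2, 6, 6, 6] = true := by decide +kernel

theorem slp_k1 : pathOK 4600 13 [(tT, tT), (h1T, h1I)] (0, k1T, k1I) [0, 3, 0, 2] = true := by decide +kernel

theorem slp_c1 : pathOK 4600 13 [(h1T, h1I), (k1T, k1I)] (0, c1T, c1T) [2, 2] = true := by decide +kernel

theorem slp_h2 : pathOK 4600 13 GENS (0, h2T, h2I) [6, 4, 2, 6, 6, 6] = true := by decide +kernel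

theorem slp_k2 : pathOK 4600 13 [(tT, tT), (h2T, h2I)] (0, k2T, k2I) [0, 2, 0, 3] = true := by decide +kernel

theorem slp_c2 : pathOK 4600 13 [(h2T, h2I), (k2T, k2I)] (0, c2T, c2T) [2, 2] = true := by decide +kernel

theorem slp_h3 : pathOK 4600 13 GENS (0, h3T, h3I) [6, 4, 0, 0, 4] = true := by decide +kernel

theorem slp_k3 : pathOK 4600 13 [(tT, tT), (h3T, h3I)] (0, k3T, k3I) [0, 3, 0, 2] = true := by decide +kernel

theorem slp_c3 : pathOK 4600 13 [(h3T, h3I), (k3T, k3I)] (0, c3T, c3I) [0, 2] = true := by decide +kernel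

theorem slp_y1 : pathOK 4600 13 [(c1T, c1T), (c2T, c2T), (c3T, c3I)] (0, y1T, y1I) [0, 4, 4, 2] = true := by decide +kernel

theorem slp_x1 : pathOK 4600 13 [(y1T, y1I)] (0, x1T, x1T) [0, 0, 0, 0] = true := by decide +kernel

theorem slp_x2 : pathOK 4600 13 [(c1T, c1T), (c2T, c2T), (c3T, c3I), (x1T, x1T)] (0, x2T, x2T) [0, 6, 1] = true := by decide +kernel

theorem slp_x3 : pathOK 4600 13 [(c1T, c1T), (c2T, c2T), (c3T, c3I), (x1T, x1T)] (0, x3T, x3T) [4, 6, 5] = true := by decide +kernel

theorem slp_x4 : pathOK 4600 13 [(c1T, c1T), (c2T, c2T), (c3T, c3I), (x1T, x1T)] (0, x4T, x4T) [5, 6, 4] = true := by decide +kernel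

theorem slp_x5 : pathOK 4600 13 [(c1T, c1T), (c2T, c2T), (c3T, c3I), (x1T, x1T)] (0, x5T, x5T) [2, 4, 6, 5, 3] = true := by decide +kernel

theorem slp_x6 : pathOK 4600 13 [(c1T, c1T), (c2T, c2T), (c3T, c3I), (x1T, x1T)] (0, x6T, x6T) [2, 5, 6, 4, 3] = true := by decide +kernel

theorem slp_x7 : pathOK 4600 13 [(c1T, c1T), (c2T, c2T), (c3T, c3I), (x1T, x1T)] (0, x7T, x7T) [5, 5, 6, 4, 4] = true := by decide +kernel

theorem slp_x8 : pathOK 4600 13 [(c1T, c1T), (c2T, c2T), (c3T, c3I), (x1T, x1T)] (0, x8T, x8T) [4, 2, 4, 6, 5, 3, 5] = true := by decide +kernel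

theorem sq_t : wordId 4600 13 [tT, tT] = true := by decide +kernel

theorem tmove_ok : Nat.beq (look 13 tT MV) MV = false ∧ Nat.blt MV 4600 = true := by decide +kernel

theorem vec_1 : ∀ c : Fin 64, M1.mulVec (dec c.val) = dec (look 6 AT1 c.val) := by decide +kernel

theorem vec_2 : ∀ c : Fin 64, M2.mulVec (dec c.val) = dec (look 6 AT2 c.val) := by decide +kernel

theorem vec_3 : ∀ c : Fin 64, M3.mulVec (dec c.val) = dec (look 6 AT3 c.val) := by decide +kernel

theorem vec_id : ∀ c : Fin 64, look 6 IDT c.val = c.val := by decide +kernel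

theorem comm_c1 : wordEq 4600 13 [c1T, tT] [tT, c1T] = true := by decide +kernel

theorem comm_c2 : wordEq 4600 13 [c2T, tT] [tT, c2T] = true := by decide +kernel

theorem comm_c3 : wordEq 4600 13 [c3T, tT] [tT, c3T] = true := by decide +kernel

theorem comm_x : commXOK = true := by decide +kernel

theorem sq_x : sqXOK = true := by decide +kernel

theorem gram_x0 : ((List.range 8).all fun j =>
    wordEq 4600 13 [xT 0, xT j] (if GRAM 0 j then [tT, xT j, xT 0] else [xT j, xT 0])) = true := by
  decide +kernel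

theorem gram_x1 : ((List.range 8).all fun j =>
    wordEq 4600 13 [xT 1, xT j] (if GRAM 1 j then [tT, xT j, xT 1] else [xT j, xT 1])) = true := by
  decide +kernel

theorem gram_x2 : ((List.range 8).all fun j =>
    wordEq 4600 13 [xT 2, xT j] (if GRAM 2 j then [tT, xT j, xT 2] else [xT j, xT 2])) = true := by
  decide +kernel

theorem gram_x3 : ((List.range 8).all fun j =>
    wordEq 4600 13 [xT 3, xT j] (if GRAM 3 j then [tT, xT j, xT 3] else [xT j, xT 3])) = true := by
  decide +kernel

theorem gram_x4 : ((List.range 8).all fun j =>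
    wordEq 4600 13 [xT 4, xT j] (if GRAM 4 j then [tT, xT j, xT 4] else [xT j, xT 4])) = true := by
  decide +kernel

theorem gram_x5 : ((List.range 8).all fun j =>
    wordEq 4600 13 [xT 5, xT j] (if GRAM 5 j then [tT, xT j, xT 5] else [xT j, xT 5])) = true := by
  decide +kernel

theorem gram_x6 : ((List.range 8).all fun j =>
    wordEq 4600 13 [xT 6, xT j] (if GRAM 6 j then [tT, xT j, xT 6] else [xT j, xT 6])) = true := by
  decide +kernel

theorem gram_x7 : ((List.range 8).all fun j =>
    wordEq 4600 13 [xT 7, xT j] (if GRAM 7 j then [tT, xT j, xT 7] else [xT j, xT 7])) = true := by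
  decide +kernel

theorem gram_x : gramOK = true := by
  unfold gramOK
  rw [List.all_eq_true]
  intro i hi
  have hi' : i < 8 := List.mem_range.mp hi
  interval_cases i
  · exact gram_x0
  · exact gram_x1
  · exact gram_x2
  · exact gram_x3
  · exact gram_x4
  · exact gram_x5
  · exact gram_x6
  · exact gram_x7

theorem lab_c1 : labOK c1T AT1 = true := by decide +kernel

theorem lab_c2 : labOK c2T AT2 = true := by decide +kernel

theorem lab_c3 : labOK c3T AT3 = true := by decide +kernel

theorem lab_t : labOK tT IDT = true := by decide +kernel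

theorem lab_x : labXOK = true := by decide +kernel

theorem fix_t : ((List.range 4600).filter fun x => look 13 tT x == x).length = 56 := by decide +kernel

theorem trans_ok : transOK = true := by decide +kernel

theorem stab_ok : stabOK = true := by decide +kernel

theorem keys_ok : keysOK = true := by decide +kernel

theorem unit_ok : unitOK = true := by decide +kernel

end Cfsg.Agent.Lib.Helper14.Co2C
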