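import Cfsg.Agent.Lib.Helper20.TreeT1
import Cfsg.Agent.Lib.Helper11.HeCG2
import Cfsg.Agent.Lib.Helper14.Co2CA

/-!
# S2136: generic lemmas on permutations given by packed tables
-/

set_option autoImplicit false

namespace Cfsg.Agent.Lib.Helper14.Co2C

open Cfsg.Agent.Lib.Helper28.BSGS Cfsg.Agent.Lib.Helper22.SuzOut Cfsg.Agent.Lib.Helper27.TreeSift

section generic

variable {n w : ℕ} [NeZero n]

theorem genGroup_le' (gens : List (ℕ × ℕ)) (S : Subgroup (Equiv.Perm (Fin n)))
    (h : ∀ g ∈ gens, permOf n w g.1 g.2 ∈ S) : genGroup n w gens ≤ S := by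
  unfold genGroup
  rw [Subgroup.closure_le]
  intro s hs
  have hs' : s ∈ List.map (fun g => permOf n w g.1 g.2) gens := hs
  rw [List.mem_map] at hs'
  obtain ⟨k, hk, rfl⟩ := hs'
  exact h k hk

/-- one step of a straight-line program: the tables `(T, T')` are those of a product of letters
over a list `L` of table pairs that are already known to be valid and to lie in `H` -/
theorem slp_step (H : Subgroup (Equiv.Perm (Fin n))) (L : List (ℕ × ℕ))
    (hL : ∀ g ∈ L, pairOK n w g.1 g.2 = true ∧ permOf n w g.1 g.2 ∈ H)
    (T T' : ℕ) (cs : List ℕ) (h : pathOK n w L (0, T, T') cs = true) :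
    pairOK n w T T' = true ∧ permOf n w T T' ∈ H := by
  have hg : gensOK n w L = true := by
    unfold gensOK
    rw [List.all_eq_true]
    intro g hg
    exact (hL g hg).1
  obtain ⟨h1, _, h3⟩ := path_sound n w L hg (0, T, T') cs h
  exact ⟨h1, genGroup_le' L H (fun g hg => (hL g hg).2) h3⟩

theorem acts_of_ok {T T' : ℕ} (h : pairOK n w T T' = true) :
    ActsByW n w (permOf n w T T') [T] :=
  actsByW_single (fun a => permOf_apply h a)

theorem acts_mul {g h : Equiv.Perm (Fin n)} {t : ℕ} {ws : List ℕ}
    (hg : ActsByW n w g [t]) (hh : ActsByW n w h ws) : ActsByW n w (g * h) (t :: ws) :=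
  actsByW_cons (fun a => by have := hg a; simpa [evalW] using this) hh

/-- equality of two products of two resp. two table permutations -/
theorem mul_eq_mul_of_wordEq {a a' b b' c c' d d' : ℕ} (ha : pairOK n w a a' = true)
    (hb : pairOK n w b b' = true) (hc : pairOK n w c c' = true) (hd : pairOK n w d d' = true)
    (h : wordEq n w [a, b] [c, d] = true) :
    permOf n w a a' * permOf n w b b' = permOf n w c c' * permOf n w d d' :=
  eq_of_wordEq n w (acts_mul (acts_of_ok ha) (acts_of_ok hb))
    (acts_mul (acts_of_ok hc) (acts_of_ok hd)) h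

/-- equality of a product of two and a product of three table permutations -/
theorem mul_eq_mul3_of_wordEq {a a' b b' c c' d d' e e' : ℕ} (ha : pairOK n w a a' = true)
    (hb : pairOK n w b b' = true) (hc : pairOK n w c c' = true) (hd : pairOK n w d d' = true)
    (he : pairOK n w e e' = true)
    (h : wordEq n w [a, b] [c, d, e] = true) :
    permOf n w a a' * permOf n w b b' = permOf n w c c' * (permOf n w d d' * permOf n w e e') :=
  eq_of_wordEq n w (acts_mul (acts_of_ok ha) (acts_of_ok hb))
    (acts_mul (acts_of_ok hc) (acts_mul (acts_of_ok hd) (acts_of_ok he))) h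

theorem mul_self_of_wordId {a a' : ℕ} (ha : pairOK n w a a' = true)
    (h : wordId n w [a, a] = true) : permOf n w a a' * permOf n w a a' = 1 :=
  eq_one_of_wordId n w (acts_mul (acts_of_ok ha) (acts_of_ok ha)) h

theorem ne_one_of_look {a a' : ℕ} (ha : pairOK n w a a' = true) (x : ℕ) (hx : x < n)
    (h : look w a x ≠ x) : permOf n w a a' ≠ 1 := by
  intro h1
  have := permOf_apply ha ⟨x, hx⟩
  rw [h1] at this
  exact h this.symm

/-- the number of fixed points, from the table -/
theorem card_fixed_le {a a' : ℕ} (ha : pairOK n w a a' = true) (f : ℕ)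
    (h : ((List.range n).filter fun x => look w a x == x).length ≤ f) :
    (Finset.univ.filter fun k : Fin n => permOf n w a a' k = k).card ≤ f := by
  classical
  refine le_trans ?_ h
  have : (Finset.univ.filter fun k : Fin n => permOf n w a a' k = k).card =
      ((Finset.univ.filter fun k : Fin n => permOf n w a a' k = k).image Fin.val).card :=
    (Finset.card_image_of_injective _ Fin.val_injective).symm
  rw [this]
  have hsub : ((Finset.univ.filter fun k : Fin n => permOf n w a a' k = k).image Fin.val) ⊆
      ((List.range n).filter fun x => look w a x == x).toFinset := by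
    intro x hx
    rw [Finset.mem_image] at hx
    obtain ⟨k, hk, rfl⟩ := hx
    rw [Finset.mem_filter] at hk
    rw [List.mem_toFinset, List.mem_filter]
    refine ⟨List.mem_range.mpr k.isLt, ?_⟩
    rw [beq_iff_eq, ← permOf_apply ha k, hk.2]
  exact le_trans (Finset.card_le_card hsub) (List.toFinset_card_le _)

end generic

end Cfsg.Agent.Lib.Helper14.Co2C
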