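import Cfsg.Agent.Lib.Helper14.Co2CData
import Cfsg.Agent.Lib.Helper14.Co2CP

/-!
# S2136: the Boolean checks on the generated data
-/

set_option autoImplicit false

namespace Cfsg.Agent.Lib.Helper14.Co2C

open Cfsg.Agent.Lib.Helper28.BSGS Cfsg.Agent.Lib.Helper22.SuzOut Cfsg.Agent.Lib.Helper27.TreeSift

/-- the vector with code `c` -/
def dec (c : ℕ) : V6 := fun i =>
  match i with
  | Sum.inl i => if c.testBit i.val then 1 else 0
  | Sum.inr i => if c.testBit (i.val + 3) then 1 else 0

/-- table of the `i`-th generator of `Q` -/
def xT (i : ℕ) : ℕ := XT.getD i 0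

/-- the generators of `Q` commute with `t` -/
def commXOK : Bool := (List.range 8).all fun i => wordEq 4600 13 [xT i, tT] [tT, xT i]

/-- the generators of `Q` are involutions -/
def sqXOK : Bool := (List.range 8).all fun i => wordId 4600 13 [xT i, xT i]

/-- the commutator Gram matrix -/
def GRAM (i j : ℕ) : Bool := (GRAMROWS.getD i 0).testBit j

/-- its inverse -/
def NINV (i j : ℕ) : Bool := (NINVROWS.getD i 0).testBit j

/-- the commutators of the generators of `Q` -/
def gramOK : Bool := (List.range 8).all fun i => (List.range 8).all fun j =>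
  wordEq 4600 13 [xT i, xT j] (if GRAM i j then [tT, xT j, xT i] else [xT j, xT i])

/-- the table `T` acts on the labels through the table `A` of a map of the 64 vectors -/
noncomputable def labOK (T A : ℕ) : Bool :=
  allBelow (fun x => Nat.beq (look 6 BT (look 13 T x)) (look 6 A (look 6 BT x))) 4600

/-- the generators of `Q` fix all labels -/
noncomputable def labXOK : Bool := (List.range 8).all fun i => labOK (xT i) IDT

/-- the generators are transitive -/
noncomputable def transOK : Bool :=
  allBelow (fun x => walkOK 4600 13 GENS [] P0 SV FUEL x) 4600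

/-- `s1`, `s2`, `t` fix the base point -/
def stabOK : Bool :=
  Nat.beq (look 13 s1T P0) P0 && Nat.beq (look 13 s2T P0) P0 && Nat.beq (look 13 tT P0) P0 &&
    Nat.blt P0 4600

/-- the two generators of the point stabiliser -/
def GENS2 : List (ℕ × ℕ) := [(s1T, s1I), (s2T, s2I)]

/-- image of the point `y` under the conjugate of `t` by the word `cs` -/
noncomputable def conjAt (cs : List ℕ) (y : ℕ) : ℕ :=
  evalF 13 GENS2 cs (look 13 tT (evalB 13 GENS2 cs y))

/-- the key of a word -/
noncomputable def keyOf (cs : List ℕ) : ℕ := KEYPTS.foldr (fun y acc => conjAt cs y + 8192 * acc) 0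

/-- the 693 conjugates are distinct -/
noncomputable def keysOK : Bool :=
  nodupB (WORDS.map keyOf) && Nat.beq WORDS.length 693 &&
    WORDS.all (fun cs => cs.all fun c => Nat.blt c 4) && KEYPTS.all (fun y => Nat.blt y 4600)

/-- the unit vectors are labels -/
def unitOK : Bool :=
  (List.range 6).all fun k => Nat.blt (UPTS.getD k 0) 4600 && Nat.beq (look 6 BT (UPTS.getD k 0)) (2 ^ k)

end Cfsg.Agent.Lib.Helper14.Co2C
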