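import Cfsg.Agent.Lib.Helper14.Co2CMem
import Cfsg.Agent.Lib.Helper17.Co2CS
import Cfsg.Agent.Lib.Helper22.Co2CO
import Cfsg.Agent.Lib.Helper21.Co2CT
import Cfsg.Agent.Lib.Helper21.Co2CE
import Cfsg.Agent.S0245

/-!
# S2136: the permutation side

For every subgroup `K0` of `Perm (Fin 4600)` containing the four generators and of order at most
`|Co₂|`, the group `K0` has the shape of S2136.
-/

set_option autoImplicit false
set_option linter.unusedSectionVars false

namespace Cfsg.Agent.Lib.Helper14.Co2C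

open Cfsg.Agent.Lib.Helper28.BSGS Cfsg.Agent.Lib.Helper22.SuzOut Cfsg.Agent.Lib.Helper27.TreeSift

attribute [local irreducible] permOf

/-- the permutations of the 4600 points -/
abbrev Q46 : Type := Equiv.Perm (Fin 4600)

/-- the involution -/
def tP : Q46 := permOf 4600 13 tT tT

/-- the three generators of the centraliser modulo `Q` -/
def c1P : Q46 := permOf 4600 13 c1T c1T
/-- second -/
def c2P : Q46 := permOf 4600 13 c2T c2T
/-- third -/
def c3P : Q46 := permOf 4600 13 c3T c3I

/-- the generators of `Q` -/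
def xP (i : Fin 8) : Q46 := permOf 4600 13 (xT i.val) (xT i.val)

theorem x_spec (i : Fin 8) :
    pairOK 4600 13 (xT i.val) (xT i.val) = true ∧ permOf 4600 13 (xT i.val) (xT i.val) ∈ G0 := by
  fin_cases i
  · exact x1_spec
  · exact x2_spec
  · exact x3_spec
  · exact x4_spec
  · exact x5_spec
  · exact x6_spec
  · exact x7_spec
  · exact x8_spec

theorem tP_val (a : Fin 4600) : (tP a).val = look 13 tT a.val := by
  unfold tP; exact permOf_apply t_spec.1 a

theorem tP_mul_self : tP * tP = 1 := mul_self_of_wordId t_spec.1 sq_t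

theorem tP_ne_one : tP ≠ 1 := by
  refine ne_one_of_look t_spec.1 MV (Nat.le_of_ble_eq_true tmove_ok.2) ?_
  intro h
  have := tmove_ok.1
  rw [h] at this
  simp at this

theorem orderOf_tP : orderOf tP = 2 := by
  apply orderOf_eq_prime
  · rw [pow_two]; exact tP_mul_self
  · exact tP_ne_one

/-! ### commutation with `t` -/

theorem comm_c1P : c1P * tP = tP * c1P :=
  mul_eq_mul_of_wordEq c1_spec.1 t_spec.1 t_spec.1 c1_spec.1 comm_c1

theorem comm_c2P : c2P * tP = tP * c2P :=
  mul_eq_mul_of_wordEq c2_spec.1 t_spec.1 t_spec.1 c2_spec.1 comm_c2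

theorem comm_c3P : c3P * tP = tP * c3P :=
  mul_eq_mul_of_wordEq c3_spec.1 t_spec.1 t_spec.1 c3_spec.1 comm_c3

theorem comm_xP (i : Fin 8) : xP i * tP = tP * xP i := by
  have h := comm_x
  unfold commXOK at h
  rw [List.all_eq_true] at h
  exact mul_eq_mul_of_wordEq (x_spec i).1 t_spec.1 t_spec.1 (x_spec i).1
    (h i.val (List.mem_range.mpr i.isLt))

theorem sq_xP (i : Fin 8) : xP i * xP i = 1 := by
  have h := sq_x
  unfold sqXOK at h
  rw [List.all_eq_true] at h
  exact mul_self_of_wordId (x_spec i).1 (h i.val (List.mem_range.mpr i.isLt))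

theorem gram_xP (i j : Fin 8) :
    xP i * xP j = (if GRAM i.val j.val then tP else 1) * (xP j * xP i) := by
  have h := gram_x
  unfold gramOK at h
  rw [List.all_eq_true] at h
  have h1 := h i.val (List.mem_range.mpr i.isLt)
  rw [List.all_eq_true] at h1
  have h2 := h1 j.val (List.mem_range.mpr j.isLt)
  by_cases hg : GRAM i.val j.val = true
  · rw [if_pos hg] at h2 ⊢
    exact mul_eq_mul3_of_wordEq (x_spec i).1 (x_spec j).1 t_spec.1 (x_spec j).1 (x_spec i).1 h2
  · rw [if_neg hg] at h2 ⊢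
    rw [one_mul]
    exact mul_eq_mul_of_wordEq (x_spec i).1 (x_spec j).1 (x_spec j).1 (x_spec i).1 h2

/-! ### the labels and the homomorphism to `Sp₆(2)` -/

/-- the action of `Sp₆(2)` on the vectors -/
def act (s : Sp6) (v : V6) : V6 := (s : Matrix (Fin 3 ⊕ Fin 3) (Fin 3 ⊕ Fin 3) (ZMod 2)).mulVec v

theorem act_one (v : V6) : act 1 v = v := by
  unfold act
  rw [Submonoid.coe_one, Matrix.one_mulVec]

theorem act_mul (s s' : Sp6) (v : V6) : act (s * s') v = act s (act s' v) := by
  unfold act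
  rw [Submonoid.coe_mul, Matrix.mulVec_mulVec]

/-- the label of a point -/
def lab (x : Fin 4600) : V6 := dec (look 6 BT x.val)

theorem look6_lt (t a : ℕ) : look 6 t a < 64 := by
  unfold look
  exact Nat.mod_lt _ (by norm_num)

theorem lab_compat {T T' A : ℕ} (hp : pairOK 4600 13 T T' = true) (hl : labOK T A = true)
    (M : Sp6) (hv : ∀ c : Fin 64, act M (dec c.val) = dec (look 6 A c.val)) (x : Fin 4600) :
    lab (permOf 4600 13 T T' • x) = act M (lab x) := by
  unfold lab
  rw [Equiv.Perm.smul_def, permOf_apply hp x]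
  have h1 := allBelow_spec hl x.val x.isLt
  have h2 : look 6 BT (look 13 T x.val) = look 6 A (look 6 BT x.val) := Nat.eq_of_beq_eq_true h1
  rw [h2]
  exact (hv ⟨look 6 BT x.val, look6_lt _ _⟩).symm

theorem act_id (c : Fin 64) : act 1 (dec c.val) = dec (look 6 IDT c.val) := by
  rw [act_one, vec_id c]

/-- the generators of the centraliser with their matrices -/
def gensC : Set (Q46 × Sp6) :=
  {(c1P, A1), (c2P, A2), (c3P, A3), (tP, 1)} ∪ Set.range (fun i : Fin 8 => (xP i, (1 : Sp6)))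

/-- the centraliser (as a subgroup generated by explicit elements) -/
def C0 : Subgroup Q46 := Subgroup.closure (Prod.fst '' gensC)

theorem gensC_compat : ∀ p ∈ gensC, ∀ x : Fin 4600, lab (p.1 • x) = act p.2 (lab x) := by
  intro p hp x
  rcases hp with hp | ⟨i, rfl⟩
  · simp only [Set.mem_insert_iff, Set.mem_singleton_iff] at hp
    rcases hp with rfl | rfl | rfl | rfl
    · exact lab_compat c1_spec.1 lab_c1 A1 vec_1 x
    · exact lab_compat c2_spec.1 lab_c2 A2 vec_2 x
    · exact lab_compat c3_spec.1 lab_c3 A3 vec_3 x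
    · exact lab_compat t_spec.1 lab_t 1 act_id x
  · have h := lab_x
    unfold labXOK at h
    rw [List.all_eq_true] at h
    exact lab_compat (x_spec i).1 (h i.val (List.mem_range.mpr i.isLt)) 1 act_id x

theorem dec_unit : ∀ k : Fin 6, dec (2 ^ k.val) =
    Pi.single (if h : k.val < 3 then Sum.inl ⟨k.val, h⟩ else Sum.inr ⟨k.val - 3, by omega⟩) 1 := by
  decide

theorem exists_lab_single (j : Fin 3 ⊕ Fin 3) : ∃ x : Fin 4600, lab x = Pi.single j 1 := by
  have h := unit_ok
  unfold unitOK at h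
  rw [List.all_eq_true] at h
  have key : ∀ k : Fin 6, ∃ x : Fin 4600, lab x = dec (2 ^ k.val) := by
    intro k
    have hk := h k.val (List.mem_range.mpr k.isLt)
    rw [Bool.and_eq_true] at hk
    refine ⟨⟨UPTS.getD k.val 0, Nat.le_of_ble_eq_true hk.1⟩, ?_⟩
    unfold lab
    rw [Nat.eq_of_beq_eq_true hk.2]
  rcases j with j | j
  · obtain ⟨x, hx⟩ := key ⟨j.val, by omega⟩
    refine ⟨x, ?_⟩
    rw [hx, dec_unit]
    simp
  · obtain ⟨x, hx⟩ := key ⟨j.val + 3, by omega⟩
    refine ⟨x, ?_⟩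
    rw [hx, dec_unit]
    simp

theorem act_faithful (s s' : Sp6) (h : ∀ x : Fin 4600, act s (lab x) = act s' (lab x)) : s = s' := by
  apply Subtype.ext
  ext i j
  obtain ⟨x, hx⟩ := exists_lab_single j
  have := congrFun (h x) i
  unfold act at this
  rw [hx, Matrix.mulVec_single_one, Matrix.mulVec_single_one] at this
  exact this

/-- the homomorphism to `Sp₆(2)` -/
theorem exists_psi : ∃ ψ : ↥C0 →* Sp6, Function.Surjective ψ ∧
    (∀ h : tP ∈ C0, ψ ⟨tP, h⟩ = 1) ∧ ∀ (i : Fin 8) (h : xP i ∈ C0), ψ ⟨xP i, h⟩ = 1 := by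
  obtain ⟨ψ, _, h2⟩ := exists_hom_of_labels (P := Q46) act act_one act_mul lab act_faithful gensC
    gensC_compat
  refine ⟨ψ, ?_, ?_, ?_⟩
  · have hm : ∀ p ∈ gensC, p.2 ∈ ψ.range := by
      intro p hp
      have hp1 : p.1 ∈ C0 := Subgroup.subset_closure ⟨p, hp, rfl⟩
      exact ⟨⟨p.1, hp1⟩, h2 p hp hp1⟩
    have hr : ψ.range = ⊤ := by
      rw [eq_top_iff, ← sp6_closure_top, Subgroup.closure_le]
      intro a ha
      simp only [Set.mem_insert_iff, Set.mem_singleton_iff] at ha
      rcases ha with rfl | rfl | rfl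
      · exact hm (c1P, A1) (Or.inl (by simp))
      · exact hm (c2P, A2) (Or.inl (by simp))
      · exact hm (c3P, A3) (Or.inl (by simp))
    intro a
    have ha : a ∈ ψ.range := by rw [hr]; exact Subgroup.mem_top a
    obtain ⟨c, hc⟩ := ha
    exact ⟨c, hc⟩
  · intro h
    exact h2 (tP, 1) (Or.inl (by simp)) h
  · intro i h
    exact h2 (xP i, 1) (Or.inr ⟨i, rfl⟩) h

/-! ### the subgroup `Q` -/

/-- the normal extraspecial subgroup -/
def Qs : Subgroup Q46 := Subgroup.closure (Set.range xP ∪ {tP})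

theorem ninv_ok : (Matrix.of fun i j : Fin 8 => if GRAM i.val j.val then (1 : ZMod 2) else 0) *
    (Matrix.of fun i j : Fin 8 => if NINV i.val j.val then (1 : ZMod 2) else 0) = 1 := by
  decide +kernel

theorem Qs_spec : Cfsg.IsExtraspecial 2 ↥Qs ∧ Nat.card ↥Qs = 2 ^ 9 := by
  have h := extraspecial_of_gens (G := Q46) (m := 8) (by norm_num) xP tP tP_ne_one tP_mul_self
    comm_xP (fun _ => false) (fun i => by rw [sq_xP i]; rfl) (fun i j => GRAM i.val j.val) gram_xP
    (Matrix.of fun i j : Fin 8 => if NINV i.val j.val then (1 : ZMod 2) else 0) ninv_ok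
  exact h

theorem Qs_le : Qs ≤ C0 := by
  unfold Qs C0
  rw [Subgroup.closure_le]
  rintro g (⟨i, rfl⟩ | hg)
  · exact Subgroup.subset_closure ⟨(xP i, 1), Or.inr ⟨i, rfl⟩, rfl⟩
  · rw [Set.mem_singleton_iff] at hg
    subst hg
    exact Subgroup.subset_closure ⟨(tP, 1), Or.inl (by simp), rfl⟩

theorem psi_Qs (ψ : ↥C0 →* Sp6) (h1 : ∀ h : tP ∈ C0, ψ ⟨tP, h⟩ = 1)
    (h2 : ∀ (i : Fin 8) (h : xP i ∈ C0), ψ ⟨xP i, h⟩ = 1) :
    ∀ q (hq : q ∈ Qs), ψ ⟨q, Qs_le hq⟩ = 1 := by
  intro q hq
  have key : ∀ q (hq : q ∈ Qs), ∀ h : q ∈ C0, ψ ⟨q, h⟩ = 1 := by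
    intro q hq
    unfold Qs at hq
    induction hq using Subgroup.closure_induction with
    | mem g hg =>
      intro h
      rcases hg with ⟨i, rfl⟩ | hg
      · exact h2 i h
      · rw [Set.mem_singleton_iff] at hg
        subst hg
        exact h1 h
    | one => intro h; exact map_one ψ
    | mul a b ha hb iha ihb =>
      intro h
      have ha' : a ∈ C0 := Qs_le ha
      have hb' : b ∈ C0 := Qs_le hb
      have : (⟨a * b, h⟩ : ↥C0) = ⟨a, ha'⟩ * ⟨b, hb'⟩ := rfl
      rw [this, map_mul, iha ha', ihb hb', one_mul]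
    | inv a ha iha =>
      intro h
      have ha' : a ∈ C0 := Qs_le ha
      have : (⟨a⁻¹, h⟩ : ↥C0) = (⟨a, ha'⟩ : ↥C0)⁻¹ := rfl
      rw [this, map_inv, iha ha', inv_one]
  exact key q hq _

/-! ### `C0` lies in the centraliser and in the group -/

theorem gens_mem_G0 : ∀ g ∈ Prod.fst '' gensC, g ∈ G0 := by
  rintro g ⟨p, hp, rfl⟩
  rcases hp with hp | ⟨i, rfl⟩
  · simp only [Set.mem_insert_iff, Set.mem_singleton_iff] at hp
    rcases hp with rfl | rfl | rfl | rfl
    · exact c1_spec.2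
    · exact c2_spec.2
    · exact c3_spec.2
    · exact t_spec.2
  · exact (x_spec i).2

theorem C0_le_G0 : C0 ≤ G0 := by
  unfold C0
  rw [Subgroup.closure_le]
  exact gens_mem_G0

theorem C0_le_cent : C0 ≤ Subgroup.centralizer ({tP} : Set Q46) := by
  unfold C0
  rw [Subgroup.closure_le]
  rintro g ⟨p, hp, rfl⟩
  rw [SetLike.mem_coe, Subgroup.mem_centralizer_iff]
  intro z hz
  rw [Set.mem_singleton_iff] at hz
  subst hz
  rcases hp with hp | ⟨i, rfl⟩
  · simp only [Set.mem_insert_iff, Set.mem_singleton_iff] at hp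
    rcases hp with rfl | rfl | rfl | rfl
    · exact comm_c1P.symm
    · exact comm_c2P.symm
    · exact comm_c3P.symm
    · rfl
  · exact (comm_xP i).symm

/-! ### the 693 conjugates of `t` fixing the base point -/

theorem P0_lt : P0 < 4600 := by
  have h := stab_ok
  unfold stabOK at h
  simp only [Bool.and_eq_true] at h
  exact Nat.le_of_ble_eq_true h.2

theorem gens2_ok : gensOK 4600 13 GENS2 = true := by
  unfold gensOK GENS2
  simp only [List.all_cons, List.all_nil, Bool.and_true, Bool.and_eq_true]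
  exact ⟨s1_spec.1, s2_spec.1⟩

theorem G2_le_G0 : genGroup 4600 13 GENS2 ≤ G0 := by
  apply genGroup_le'
  intro g hg
  simp only [GENS2, List.mem_cons, List.not_mem_nil, or_false] at hg
  rcases hg with rfl | rfl
  · exact s1_spec.2
  · exact s2_spec.2

theorem G2_le_stab : genGroup 4600 13 GENS2 ≤ MulAction.stabilizer Q46 (pt 4600 P0) := by
  have h := stab_ok
  unfold stabOK at h
  simp only [Bool.and_eq_true] at h
  obtain ⟨⟨⟨h1, h2⟩, _⟩, _⟩ := h
  apply genGroup_le'
  intro g hg
  simp only [GENS2, List.mem_cons, List.not_mem_nil, or_false] at hg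
  rcases hg with rfl | rfl
  · rw [MulAction.mem_stabilizer_iff, Equiv.Perm.smul_def, permOf_pt 4600 13 s1_spec.1 P0_lt,
      Nat.eq_of_beq_eq_true h1]
  · rw [MulAction.mem_stabilizer_iff, Equiv.Perm.smul_def, permOf_pt 4600 13 s2_spec.1 P0_lt,
      Nat.eq_of_beq_eq_true h2]

theorem tP_fix : tP (pt 4600 P0) = pt 4600 P0 := by
  have h := stab_ok
  unfold stabOK at h
  simp only [Bool.and_eq_true] at h
  unfold tP
  rw [permOf_pt 4600 13 t_spec.1 P0_lt, Nat.eq_of_beq_eq_true h.1.2]

/-- validity of a word -/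
def validB (cs : List ℕ) : Bool := cs.all fun c => Nat.blt c 4

theorem valid_spec {cs : List ℕ} (h : validB cs = true) : ∀ c ∈ cs, c / 2 < GENS2.length := by
  intro c hc
  unfold validB at h
  rw [List.all_eq_true] at h
  have := Nat.le_of_ble_eq_true (h c hc)
  show c / 2 < 2
  omega

/-- the conjugating element of a word -/
noncomputable def wP (cs : List ℕ) : Q46 := pathPerm 4600 13 GENS2 cs

theorem wP_mem {cs : List ℕ} (h : validB cs = true) : wP cs ∈ G0 :=
  G2_le_G0 (pathPerm_mem 4600 13 GENS2 cs (valid_spec h))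

theorem wP_fix {cs : List ℕ} (h : validB cs = true) : wP cs (pt 4600 P0) = pt 4600 P0 := by
  have := G2_le_stab (pathPerm_mem 4600 13 GENS2 cs (valid_spec h))
  rwa [MulAction.mem_stabilizer_iff, Equiv.Perm.smul_def] at this

/-- the key of a permutation -/
def keyP (g : Q46) : ℕ := KEYPTS.foldr (fun y acc => (g (pt 4600 y)).val + 8192 * acc) 0

theorem foldr_key_congr (f g : ℕ → ℕ) : ∀ l : List ℕ, (∀ y ∈ l, f y = g y) →
    l.foldr (fun y acc => f y + 8192 * acc) 0 = l.foldr (fun y acc => g y + 8192 * acc) 0 := by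
  intro l
  induction l with
  | nil => intro _; rfl
  | cons a l ih =>
    intro h
    rw [List.foldr_cons, List.foldr_cons, h a List.mem_cons_self,
      ih (fun y hy => h y (List.mem_cons_of_mem _ hy))]

theorem keypts_lt : ∀ y ∈ KEYPTS, y < 4600 := by
  have h := keys_ok
  unfold keysOK at h
  simp only [Bool.and_eq_true] at h
  intro y hy
  exact Nat.le_of_ble_eq_true (List.all_eq_true.mp h.2 y hy)

theorem keyP_conj {cs : List ℕ} (h : validB cs = true) :
    keyP (wP cs * tP * (wP cs)⁻¹) = keyOf cs := by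
  unfold keyP keyOf
  apply foldr_key_congr
  intro y hy
  have hy' := keypts_lt y hy
  have hs := pathPerm_spec 4600 13 GENS2 gens2_ok cs (valid_spec h)
  unfold conjAt
  rw [Equiv.Perm.mul_apply, Equiv.Perm.mul_apply]
  unfold wP
  rw [(hs _).1, tP_val, (hs _).2, pt_val 4600 hy']

/-! ### the order of the centraliser -/

theorem card_Sp6 : Nat.card Sp6 = 1451520 := by
  have h := Cfsg.Agent.S0245.result (F := ZMod 2) (q := 2) (ZMod.card 2) 3
  rw [h]
  decide

theorem words_length : WORDS.length = 693 := by decide +kernel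

theorem words_valid : ∀ cs ∈ WORDS, validB cs = true := by
  have h := keys_ok
  unfold keysOK at h
  simp only [Bool.and_eq_true] at h
  intro cs hcs
  exact List.all_eq_true.mp h.1.2 cs hcs

section main

variable (K0 : Subgroup Q46) (hK : G0 ≤ K0)

include hK

theorem trans_K0 (y : Fin 4600) : ∃ g : ↥K0, K0.subtype g (pt 4600 P0) = y := by
  have h := allBelow_spec trans_ok y.val y.isLt
  obtain ⟨h1, h2, _⟩ := Helper20.uT_spec 4600 13 GENS gens_ok [] P0 SV FUEL y.val y.isLt h
  refine ⟨⟨_, hK h1⟩, ?_⟩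
  rw [Subgroup.coe_subtype, h2, pt_of_val]

/-- the conjugating element in `K0` -/
noncomputable def wK (cs : List ℕ) : ↥K0 :=
  if h : validB cs = true then ⟨wP cs, hK (wP_mem h)⟩ else 1

/-- `t` in `K0` -/
def tK : ↥K0 := ⟨tP, hK t_spec.2⟩

/-- the conjugate of `t` by a word -/
noncomputable def conjK (cs : List ℕ) : ↥K0 := wK K0 hK cs * tK K0 hK * (wK K0 hK cs)⁻¹

theorem conjK_val {cs : List ℕ} (h : validB cs = true) :
    (conjK K0 hK cs : Q46) = wP cs * tP * (wP cs)⁻¹ := by
  unfold conjK wK tK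
  rw [dif_pos h]
  rfl

theorem nodup_conjK : (WORDS.map (conjK K0 hK)).Nodup := by
  have h := keys_ok
  unfold keysOK at h
  simp only [Bool.and_eq_true] at h
  have hnd : (WORDS.map keyOf).Nodup := nodupB_sound _ h.1.1.1
  have he : (WORDS.map (conjK K0 hK)).map (fun c : ↥K0 => keyP c.1) = WORDS.map keyOf := by
    rw [List.map_map]
    apply List.map_congr_left
    intro cs hcs
    have hv := words_valid cs hcs
    show keyP (conjK K0 hK cs).1 = keyOf cs
    rw [conjK_val K0 hK hv, keyP_conj hv]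
  rw [← he] at hnd
  exact List.Nodup.of_map _ hnd

theorem card_cent_le :
    Nat.card ↥(Subgroup.centralizer ({tK K0 hK} : Set ↥K0)) * (4600 * 693) ≤ Nat.card ↥K0 * 56 := by
  classical
  have hlen : WORDS.length = 693 := words_length
  have hfix : (Finset.univ.filter fun k : Fin 4600 => K0.subtype (tK K0 hK) k = k).card ≤ 56 :=
    card_fixed_le t_spec.1 56 (le_of_eq fix_t)
  have hS := Cfsg.Agent.Lib.Helper22.HeCent.card_centralizer_mul_le (G := ↥K0) K0.subtype
    (pt 4600 P0) (trans_K0 K0 hK) (tK K0 hK) 56 hfix (WORDS.map (conjK K0 hK)).toFinset ?_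
  · rwa [List.toFinset_card_of_nodup (nodup_conjK K0 hK), List.length_map, hlen] at hS
  · intro c hc
    rw [List.mem_toFinset, List.mem_map] at hc
    obtain ⟨cs, hcs, rfl⟩ := hc
    have hv := words_valid cs hcs
    refine ⟨⟨wK K0 hK cs, rfl⟩, ?_⟩
    rw [Subgroup.coe_subtype, conjK_val K0 hK hv, Equiv.Perm.mul_apply, Equiv.Perm.mul_apply]
    have h1 : (wP cs)⁻¹ (pt 4600 P0) = pt 4600 P0 := by
      rw [Equiv.Perm.inv_eq_iff_eq, wP_fix hv]
    rw [h1, tP_fix, wP_fix hv]

/-- the permutation side of S2136 -/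
theorem perm_shape (hcard : Nat.card ↥K0 ≤ 42305421312000) : Shape ↥K0 Sp6 := by
  obtain ⟨ψ, hψ, h1, h2⟩ := exists_psi
  refine shape_of_sub (fun e h => isExtraspecial_of_mulEquiv e h) K0 tP (hK t_spec.2) orderOf_tP C0
    (C0_le_G0.trans hK) C0_le_cent ψ hψ Qs Qs_le (psi_Qs ψ h1 h2) Qs_spec.2 Qs_spec.1 ?_
    sp6_O2_trivial
  rw [card_Sp6]
  have h3 := card_cent_le K0 hK
  have h4 : Nat.card ↥(Subgroup.centralizer ({tK K0 hK} : Set ↥K0)) * (4600 * 693) ≤
      (1451520 * 2 ^ 9) * (4600 * 693) :=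
    le_trans h3 (le_trans (Nat.mul_le_mul_right 56 hcard) (by norm_num))
  exact Nat.le_of_mul_le_mul_right h4 (by norm_num)

end main

end Cfsg.Agent.Lib.Helper14.Co2C
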