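import Mathlib
import Cfsg.Prelude.Def_DegreeGraph
import Cfsg.Agent.Lib.Helper25.Kernel
set_option autoImplicit false
namespace Cfsg.Agent.Lib.Helper14
open Cfsg

universe u v

/-- Pulling back an irreducible character along a surjective homomorphism (universe
polymorphic). -/
theorem isIrrCharacter_comp_surj {G : Type u} {H : Type v} [Group G] [Group H] (f : G →* H)
    (hf : Function.Surjective f) {ψ : H → ℂ} (h : IsIrrCharacter H ψ) :
    IsIrrCharacter G (fun g => ψ (f g)) := by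
  obtain ⟨n, ρ, hirr, rfl⟩ := h
  refine ⟨n, MonoidHom.comp ρ f,
    (Cfsg.Agent.Lib.Helper25.isIrreducible_comp_iff ρ f hf).2 hirr, ?_⟩
  funext g
  simp [Representation.character]

theorem charDegrees_subset_of_equiv {G : Type u} {H : Type v} [Group G] [Group H] (e : G ≃* H) :
    charDegrees H ⊆ charDegrees G := by
  rintro d ⟨χ, hχ⟩
  refine ⟨⟨fun g => (χ : H → ℂ) (e g),
    isIrrCharacter_comp_surj e.toMonoidHom e.surjective χ.2⟩, ?_⟩
  rw [← hχ]
  show charDegree (fun g => (χ : H → ℂ) (e g)) = charDegree (χ : H → ℂ)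
  unfold charDegree
  show ⌊((χ : H → ℂ) (e 1)).re⌋₊ = ⌊((χ : H → ℂ) 1).re⌋₊
  rw [map_one]

theorem charDegrees_congr {G : Type u} {H : Type v} [Group G] [Group H] (e : G ≃* H) :
    charDegrees G = charDegrees H :=
  Set.Subset.antisymm (charDegrees_subset_of_equiv e.symm) (charDegrees_subset_of_equiv e)

theorem degreePrimes_congr {G : Type u} {H : Type v} [Group G] [Group H] (e : G ≃* H) :
    degreePrimes G = degreePrimes H := by
  unfold degreePrimes
  rw [charDegrees_congr e]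

theorem degreeGraph_adj_congr {G : Type u} {H : Type v} [Group G] [Group H] (e : G ≃* H)
    (r s : ℕ) : (degreeGraph G).Adj r s ↔ (degreeGraph H).Adj r s := by
  show (r ≠ s ∧ r.Prime ∧ s.Prime ∧ ∃ d ∈ charDegrees G, r * s ∣ d) ↔
    (r ≠ s ∧ r.Prime ∧ s.Prime ∧ ∃ d ∈ charDegrees H, r * s ∣ d)
  rw [charDegrees_congr e]

/-- The character degrees of a quotient: degrees of the irreducible characters with the normal
subgroup in their kernel. -/
theorem charDegrees_quotient {G : Type u} [Group G] [Finite G] (N : Subgroup G) [N.Normal] :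
    charDegrees (G ⧸ N) = {d | ∃ χ : IrrCharacter G,
      (∀ n ∈ N, (χ : G → ℂ) n = (χ : G → ℂ) 1) ∧ charDegree (χ : G → ℂ) = d} := by
  ext d
  constructor
  · rintro ⟨ψ, hψ⟩
    refine ⟨⟨fun g => (ψ : G ⧸ N → ℂ) (g : G ⧸ N),
      Cfsg.Agent.Lib.Helper25.isIrrCharacter_inflation N ψ.2⟩, ?_, ?_⟩
    · intro n hn
      show (ψ : G ⧸ N → ℂ) ((n : G) : G ⧸ N) = (ψ : G ⧸ N → ℂ) ((1 : G) : G ⧸ N)
      rw [(QuotientGroup.eq_one_iff n).mpr hn, QuotientGroup.mk_one]
    · rw [← hψ]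
      rfl
  · rintro ⟨χ, hker, hχ⟩
    obtain ⟨ψ, hψ, hval⟩ := Cfsg.Agent.Lib.Helper25.exists_deflation N χ.2 hker
    refine ⟨⟨ψ, hψ⟩, ?_⟩
    rw [← hχ]
    unfold charDegree
    rw [hval 1]
    rfl

theorem charDegree_of_natCast {G : Type u} [Group G] (χ : G → ℂ) (n : ℕ) (h : χ 1 = (n : ℂ)) :
    charDegree χ = n := by
  unfold charDegree
  rw [h, Complex.natCast_re, Nat.floor_natCast]

end Cfsg.Agent.Lib.Helper14
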