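import Mathlib

set_option autoImplicit false

/-! # Bounds for element orders in classical groups: arithmetic -/

namespace Cfsg.Agent.Lib.Helper14.ElemOrd

/-- the least power of `p` that is at least `a` -/
def T (p a : ℕ) : ℕ := p ^ Nat.clog p a

theorem le_T {p : ℕ} (hp : 2 ≤ p) (a : ℕ) : a ≤ T p a :=
  Nat.le_pow_clog (by omega) a

theorem T_pos {p : ℕ} (hp : 2 ≤ p) (a : ℕ) : 0 < T p a :=
  pow_pos (by omega) _

theorem T_mono {p : ℕ} (hp : 2 ≤ p) {a b : ℕ} (h : a ≤ b) : T p a ≤ T p b :=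
  Nat.pow_le_pow_right (by omega) (Nat.clog_mono_right p h)

theorem T_max {p : ℕ} (hp : 2 ≤ p) (a b : ℕ) : T p (max a b) = max (T p a) (T p b) := by
  rcases le_total a b with h | h
  · rw [max_eq_right h, max_eq_right (T_mono hp h)]
  · rw [max_eq_left h, max_eq_left (T_mono hp h)]

theorem T_le_of_le_pow {p a c : ℕ} (hp : 2 ≤ p) (h : a ≤ p ^ c) : T p a ≤ p ^ c :=
  Nat.pow_le_pow_right (by omega) (Nat.clog_le_of_le_pow h)

theorem T_zero (p : ℕ) : T p 0 = 1 := by
  unfold T
  simp

theorem T_le_pow_pred {p a : ℕ} (hp : 2 ≤ p) (ha : 1 ≤ a) : T p a ≤ p ^ (a - 1) := by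
  apply T_le_of_le_pow hp
  have h1 : a - 1 < 2 ^ (a - 1) := Nat.lt_two_pow_self
  have h2 : 2 ^ (a - 1) ≤ p ^ (a - 1) := Nat.pow_le_pow_left hp _
  omega

theorem two_mul_le_two_pow (c : ℕ) (hc : 1 ≤ c) : 2 * c ≤ 2 ^ c := by
  induction c with
  | zero => omega
  | succ c ih =>
    rcases Nat.eq_zero_or_pos c with h | h
    · subst h; norm_num
    · have := ih h
      rw [pow_succ]
      omega

theorem T_two_mul {p : ℕ} (hp : 2 ≤ p) (c : ℕ) : T p (2 * c) ≤ p ^ c := by
  rcases Nat.eq_zero_or_pos c with h | h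
  · subst h
    rw [Nat.mul_zero, T_zero, pow_zero]
  · apply T_le_of_le_pow hp
    have h1 := two_mul_le_two_pow c h
    have h2 : 2 ^ c ≤ p ^ c := Nat.pow_le_pow_left hp _
    omega

theorem two_mul_add_one_le_three_pow (c : ℕ) : 2 * c + 1 ≤ 3 ^ c := by
  induction c with
  | zero => norm_num
  | succ c ih =>
    rw [pow_succ]
    omega

theorem T_two_mul_add_one {p : ℕ} (hp : 3 ≤ p) (c : ℕ) : T p (2 * c + 1) ≤ p ^ c := by
  apply T_le_of_le_pow (by omega)
  have h1 := two_mul_add_one_le_three_pow c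
  have h2 : 3 ^ c ≤ p ^ c := Nat.pow_le_pow_left hp _
  omega

theorem two_mul_le_three_pow_pred (m : ℕ) (hm : 3 ≤ m) : 2 * m ≤ 3 ^ (m - 1) := by
  obtain ⟨k, rfl⟩ : ∃ k, m = k + 3 := ⟨m - 3, by omega⟩
  have h1 := two_mul_add_one_le_three_pow k
  have h2 : 3 ^ (k + 3 - 1) = 9 * 3 ^ k := by
    rw [show k + 3 - 1 = k + 2 by omega, pow_add]
    ring
  rw [h2]
  omega

theorem T_two_mul_of_three_le {p : ℕ} (hp : 3 ≤ p) (m : ℕ) (hm : 3 ≤ m) :
    T p (2 * m) ≤ p ^ (m - 1) := by
  apply T_le_of_le_pow (by omega)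
  have h1 := two_mul_le_three_pow_pred m hm
  have h2 : 3 ^ (m - 1) ≤ p ^ (m - 1) := Nat.pow_le_pow_left hp _
  omega

/-! ### The least common multiple of numbers `q ^ k + 1` -/

theorem add_one_dvd_pow_add_one (q k : ℕ) (hk : Odd k) : q + 1 ∣ q ^ k + 1 := by
  have := Odd.nat_add_dvd_pow_add_pow q 1 hk
  simpa using this

theorem div_le_pow_pred (q k : ℕ) (hq : 1 ≤ q) (hk : 1 ≤ k) :
    (q ^ k + 1) / (q + 1) ≤ q ^ (k - 1) := by
  apply Nat.div_le_of_le_mul
  obtain ⟨j, rfl⟩ : ∃ j, k = j + 1 := ⟨k - 1, by omega⟩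
  rw [Nat.add_sub_cancel, pow_succ]
  have h : 1 ≤ q ^ j := Nat.one_le_pow _ _ hq
  nlinarith

theorem lcm_odd_dvd (q : ℕ) (S : Finset ℕ) (hS : ∀ k ∈ S, Odd k) :
    S.lcm (fun k => q ^ k + 1) ∣ (q + 1) * ∏ k ∈ S, ((q ^ k + 1) / (q + 1)) := by
  classical
  induction S using Finset.induction_on with
  | empty => simp
  | insert a s ha ih =>
    rw [Finset.lcm_insert, Finset.prod_insert ha]
    obtain ⟨c, hc⟩ := add_one_dvd_pow_add_one q a (hS a (Finset.mem_insert_self a s))
    apply lcm_dvd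
    · rw [hc, Nat.mul_div_cancel_left c (by omega)]
      exact ⟨∏ k ∈ s, ((q ^ k + 1) / (q + 1)), by ring⟩
    · refine (ih (fun k hk => hS k (Finset.mem_insert_of_mem hk))).trans ?_
      exact ⟨(q ^ a + 1) / (q + 1), by ring⟩

theorem lcm_odd_le (q : ℕ) (hq : 1 ≤ q) (S : Finset ℕ) (hS : ∀ k ∈ S, Odd k) :
    S.lcm (fun k => q ^ k + 1) * q ^ S.card ≤ (q + 1) * q ^ (S.sum id) := by
  classical
  have h1 := lcm_odd_dvd q S hS
  have h2 : ∏ k ∈ S, ((q ^ k + 1) / (q + 1)) ≤ ∏ k ∈ S, q ^ (k - 1) := by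
    apply Finset.prod_le_prod'
    intro k hk
    exact div_le_pow_pred q k hq (hS k hk).pos
  have h3 : (∏ k ∈ S, q ^ (k - 1)) * q ^ S.card = q ^ (S.sum id) := by
    rw [Finset.prod_pow_eq_pow_sum, ← pow_add]
    congr 1
    rw [Finset.card_eq_sum_ones, ← Finset.sum_add_distrib]
    apply Finset.sum_congr rfl
    intro k hk
    have := (hS k hk).pos
    simp only [id]
    omega
  have hpos : 0 < (q + 1) * ∏ k ∈ S, ((q ^ k + 1) / (q + 1)) := by
    apply Nat.mul_pos (by omega)
    apply Finset.prod_pos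
    intro k hk
    obtain ⟨c, hc⟩ := add_one_dvd_pow_add_one q k (hS k hk)
    rw [hc, Nat.mul_div_cancel_left c (by omega)]
    rcases Nat.eq_zero_or_pos c with h | h
    · subst h
      omega
    · exact h
  have h4 := Nat.le_of_dvd hpos h1
  calc S.lcm (fun k => q ^ k + 1) * q ^ S.card
      ≤ ((q + 1) * ∏ k ∈ S, ((q ^ k + 1) / (q + 1))) * q ^ S.card := Nat.mul_le_mul_right _ h4
    _ ≤ ((q + 1) * ∏ k ∈ S, q ^ (k - 1)) * q ^ S.card :=
        Nat.mul_le_mul_right _ (Nat.mul_le_mul_left _ h2)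
    _ = (q + 1) * q ^ (S.sum id) := by rw [mul_assoc, h3]

/-- the main inequality: `(q - 1) lcm_{k ∈ S} (q ^ k + 1) < q ^ (Σ S + 1)` -/
theorem lcm_plus_bound : ∀ (M q : ℕ) (S : Finset ℕ), 2 ≤ q → (∀ k ∈ S, 1 ≤ k) → S.sum id ≤ M →
    (q - 1) * S.lcm (fun k => q ^ k + 1) + 1 ≤ q ^ (S.sum id + 1) := by
  classical
  intro M
  induction M using Nat.strong_induction_on with
  | _ M ih =>
    intro q S hq hS hM
    obtain ⟨r, rfl⟩ : ∃ r, q = r + 1 := ⟨q - 1, by omega⟩
    rw [Nat.add_sub_cancel]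
    rcases Nat.eq_zero_or_pos M with hM0 | hMpos
    · -- the empty case
      have hS0 : S = ∅ := by
        by_contra hne
        obtain ⟨k, hk⟩ := Finset.nonempty_iff_ne_empty.mpr hne
        have h1 : k ≤ S.sum id := Finset.single_le_sum (f := id) (fun _ _ => Nat.zero_le _) hk
        have := hS k hk
        omega
      subst hS0
      simp
    set So := S.filter (fun k => Odd k) with hSo
    set Se := S.filter (fun k => ¬ Odd k) with hSe
    have hunion : So ∪ Se = S := Finset.filter_union_filter_not_eq _ S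
    have hdisj : Disjoint So Se := Finset.disjoint_filter_filter_not _ _ _
    have hsum : S.sum id = So.sum id + Se.sum id := by
      rw [← hunion, Finset.sum_union hdisj]
    have hlcm : S.lcm (fun k => (r + 1) ^ k + 1) =
        Nat.lcm (So.lcm (fun k => (r + 1) ^ k + 1)) (Se.lcm (fun k => (r + 1) ^ k + 1)) := by
      conv_lhs => rw [← hunion]
      rw [Finset.lcm_union]
      rfl
    -- the even part
    set S' := Se.image (fun k => k / 2) with hS'
    have hev : ∀ k ∈ Se, k = 2 * (k / 2) := by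
      intro k hk
      have h1 : ¬ Odd k := (Finset.mem_filter.mp hk).2
      have h2 : Even k := Nat.not_odd_iff_even.mp h1
      obtain ⟨j, hj⟩ := h2
      omega
    have hinj : Set.InjOn (fun k : ℕ => k / 2) (Se : Set ℕ) := by
      intro a ha b hb hab
      have h1 := hev a ha
      have h2 := hev b hb
      simp only at hab
      omega
    have hsum' : Se.sum id = 2 * S'.sum id := by
      rw [hS', Finset.sum_image hinj, Finset.mul_sum]
      apply Finset.sum_congr rfl
      intro k hk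
      exact hev k hk
    have hlcm' : Se.lcm (fun k => (r + 1) ^ k + 1) = S'.lcm (fun k => ((r + 1) ^ 2) ^ k + 1) := by
      rw [hS', Finset.lcm_image]
      apply Finset.lcm_congr rfl
      intro k hk
      simp only [Function.comp]
      rw [← pow_mul, ← hev k hk]
    have hS'pos : ∀ k ∈ S', 1 ≤ k := by
      intro k hk
      obtain ⟨j, hj, rfl⟩ := Finset.mem_image.mp hk
      have h1 := hev j hj
      have h2 := hS j (Finset.mem_of_mem_filter j hj)
      omega
    have hS'M : S'.sum id ≤ M / 2 := by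
      have : Se.sum id ≤ M := by omega
      omega
    have hIH := ih (M / 2) (by omega) ((r + 1) ^ 2) S' (by nlinarith) hS'pos hS'M
    have hq2 : (r + 1) ^ 2 - 1 = r * (r + 2) := by
      have : (r + 1) ^ 2 = r * (r + 2) + 1 := by ring
      omega
    rw [hq2, ← hlcm'] at hIH
    have hpow : ((r + 1) ^ 2) ^ (S'.sum id + 1) = (r + 1) ^ (Se.sum id + 2) := by
      rw [← pow_mul, hsum']
      congr 1
    rw [hpow] at hIH
    set E := Se.lcm (fun k => (r + 1) ^ k + 1) with hE
    set O := So.lcm (fun k => (r + 1) ^ k + 1) with hO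
    rw [hlcm, hsum]
    rcases Finset.eq_empty_or_nonempty So with hemp | hne
    · -- no odd members
      have hO1 : O = 1 := by rw [hO, hemp]; simp
      have hs0 : So.sum id = 0 := by rw [hemp]; simp
      rw [hO1, hs0, Nat.lcm_one_left, zero_add]
      set Y := (r + 1) ^ (Se.sum id + 1) with hY
      have hY2 : (r + 1) ^ (Se.sum id + 2) = (r + 1) * Y := by
        rw [hY, pow_succ _ (Se.sum id + 1)]
        ring
      rw [hY2] at hIH
      by_contra hcon
      push Not at hcon
      have : Y ≤ r * E := by omega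
      nlinarith
    · -- some odd member
      have hodd := lcm_odd_le (r + 1) (by omega) So (fun k hk => (Finset.mem_filter.mp hk).2)
      rw [← hO] at hodd
      have hc1 : 1 ≤ So.card := Finset.card_pos.mpr hne
      have hcs : So.card ≤ So.sum id := by
        rw [Finset.card_eq_sum_ones]
        apply Finset.sum_le_sum
        intro k hk
        exact hS k (Finset.mem_of_mem_filter k hk)
      have hle : Nat.lcm O E ≤ O * E := Nat.le_of_dvd (by
        apply Nat.mul_pos
        · rw [hO]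
          exact Nat.pos_of_ne_zero (by
            rw [Ne, Finset.lcm_eq_zero_iff]
            push Not
            intro k _
            positivity)
        · rw [hE]
          exact Nat.pos_of_ne_zero (by
            rw [Ne, Finset.lcm_eq_zero_iff]
            push Not
            intro k _
            positivity)) (Nat.lcm_dvd_mul O E)
      -- combine
      set a := So.sum id with ha
      set c := So.card with hc
      set b := Se.sum id with hb
      have hqc : 1 ≤ (r + 1) ^ c := Nat.one_le_pow _ _ (by omega)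
      have h5 : r * (O * E) * (r + 1) ^ c * (r + 2) ≤
          (r + 2) * (r + 1) ^ a * ((r + 1) ^ (b + 2) - 1) := by
        have h6 : r * (r + 2) * E ≤ (r + 1) ^ (b + 2) - 1 := by omega
        calc r * (O * E) * (r + 1) ^ c * (r + 2) = (O * (r + 1) ^ c) * (r * (r + 2) * E) := by ring
          _ ≤ ((r + 1 + 1) * (r + 1) ^ a) * ((r + 1) ^ (b + 2) - 1) := Nat.mul_le_mul hodd h6
          _ = (r + 2) * (r + 1) ^ a * ((r + 1) ^ (b + 2) - 1) := by ring
      have h7 : r * (O * E) * (r + 1) ^ c ≤ (r + 1) ^ a * ((r + 1) ^ (b + 2) - 1) := by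
        have h8 : (r * (O * E) * (r + 1) ^ c) * (r + 2) ≤
            ((r + 1) ^ a * ((r + 1) ^ (b + 2) - 1)) * (r + 2) := by
          calc (r * (O * E) * (r + 1) ^ c) * (r + 2) ≤
              (r + 2) * (r + 1) ^ a * ((r + 1) ^ (b + 2) - 1) := h5
            _ = ((r + 1) ^ a * ((r + 1) ^ (b + 2) - 1)) * (r + 2) := by ring
        exact Nat.le_of_mul_le_mul_right h8 (by omega)
      have hb2 : 1 ≤ (r + 1) ^ (b + 2) := Nat.one_le_pow _ _ (by omega)
      have ha1 : 1 ≤ (r + 1) ^ a := Nat.one_le_pow _ _ (by omega)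
      have h9 : (r + 1) ^ a * ((r + 1) ^ (b + 2) - 1) + 1 ≤ (r + 1) ^ (a + b + 2) := by
        have : (r + 1) ^ (a + b + 2) = (r + 1) ^ a * (r + 1) ^ (b + 2) := by
          rw [← pow_add]; congr 1
        rw [this]
        have h10 : (r + 1) ^ a * ((r + 1) ^ (b + 2) - 1) + (r + 1) ^ a =
            (r + 1) ^ a * (r + 1) ^ (b + 2) := by
          rw [← Nat.mul_succ]
          congr 1
          omega
        omega
      -- now divide by (r+1)^c
      have h11 : (r + 1) ^ (a + b + 2) = (r + 1) ^ (a + b + 2 - c) * (r + 1) ^ c := by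
        rw [← pow_add]; congr 1; omega
      have h12 : r * (O * E) * (r + 1) ^ c < (r + 1) ^ (a + b + 2 - c) * (r + 1) ^ c := by
        rw [← h11]; omega
      have h13 : r * (O * E) < (r + 1) ^ (a + b + 2 - c) := Nat.lt_of_mul_lt_mul_right h12
      have h14 : (r + 1) ^ (a + b + 2 - c) ≤ (r + 1) ^ (a + b + 1) :=
        Nat.pow_le_pow_right (by omega) (by omega)
      have h15 := Nat.mul_le_mul_left r hle
      omega

end Cfsg.Agent.Lib.Helper14.ElemOrd
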