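import Mathlib

set_option autoImplicit false

/-! # Counting semisimple classes of unitary groups: twisted reciprocal polynomials -/

namespace Cfsg.Agent.Lib.Helper14.HCount

open Polynomial

variable {K : Type*} [Field K] (σ : K ≃+* K)

/-- the twisted reciprocal polynomial -/
noncomputable def dual (f : K[X]) : K[X] :=
  C (σ (f.coeff 0))⁻¹ * (f.map (σ : K →+* K)).reverse

theorem natDegree_map_sigma (f : K[X]) : (f.map (σ : K →+* K)).natDegree = f.natDegree :=
  Polynomial.natDegree_map_eq_of_injective σ.injective f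

theorem coeff_zero_map_ne {f : K[X]} (h : f.coeff 0 ≠ 0) :
    (f.map (σ : K →+* K)).coeff 0 ≠ 0 := by
  rw [coeff_map]
  exact (map_ne_zero (σ : K →+* K)).mpr h

theorem reverse_natDegree' {f : K[X]} (h : f.coeff 0 ≠ 0) :
    f.reverse.natDegree = f.natDegree := by
  rw [reverse_natDegree, natTrailingDegree_eq_zero.mpr (Or.inr h), Nat.sub_zero]

theorem reverse_reverse' {f : K[X]} (h : f.coeff 0 ≠ 0) : f.reverse.reverse = f := by
  have h1 : f.reverse.reverse = reflect f.reverse.natDegree (reflect f.natDegree f) := rfl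
  rw [h1, reverse_natDegree' h, reflect_reflect]

theorem dual_coeff_zero (f : K[X]) :
    (dual σ f).coeff 0 = (σ (f.coeff 0))⁻¹ * σ f.leadingCoeff := by
  unfold dual
  rw [coeff_C_mul, coeff_zero_reverse, leadingCoeff_map]
  rfl

theorem dual_coeff_zero_ne {f : K[X]} (hf : f ≠ 0) (h : f.coeff 0 ≠ 0) :
    (dual σ f).coeff 0 ≠ 0 := by
  rw [dual_coeff_zero]
  apply mul_ne_zero
  · exact inv_ne_zero ((map_ne_zero σ).mpr h)
  · exact (map_ne_zero σ).mpr (leadingCoeff_ne_zero.mpr hf)

theorem dual_natDegree {f : K[X]} (h : f.coeff 0 ≠ 0) : (dual σ f).natDegree = f.natDegree := by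
  unfold dual
  rw [natDegree_C_mul (inv_ne_zero ((map_ne_zero σ).mpr h)),
    reverse_natDegree' (coeff_zero_map_ne σ h), natDegree_map_sigma]

theorem dual_monic {f : K[X]} (h : f.coeff 0 ≠ 0) : (dual σ f).Monic := by
  unfold Monic dual
  rw [leadingCoeff_mul, leadingCoeff_C, reverse_leadingCoeff, trailingCoeff,
    natTrailingDegree_eq_zero.mpr (Or.inr (coeff_zero_map_ne σ h)), coeff_map]
  exact inv_mul_cancel₀ ((map_ne_zero σ).mpr h)

theorem dual_mul (f g : K[X]) : dual σ (f * g) = dual σ f * dual σ g := by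
  unfold dual
  rw [mul_coeff_zero, map_mul, mul_inv, C_mul, Polynomial.map_mul, reverse_mul_of_domain]
  ring

theorem map_reverse_map (hσσ : ∀ a, σ (σ a) = a) (f : K[X]) :
    ((f.map (σ : K →+* K)).reverse).map (σ : K →+* K) = f.reverse := by
  have h1 : (f.map (σ : K →+* K)).reverse =
      reflect (f.map (σ : K →+* K)).natDegree (f.map (σ : K →+* K)) := rfl
  have h2 : f.reverse = reflect f.natDegree f := rfl
  rw [h1, h2, reflect_map, natDegree_map_sigma, Polynomial.map_map]
  have : (σ : K →+* K).comp (σ : K →+* K) = RingHom.id K := by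
    ext a
    exact hσσ a
  rw [this, Polynomial.map_id]

theorem dual_dual (hσσ : ∀ a, σ (σ a) = a) {f : K[X]} (hm : f.Monic) (h : f.coeff 0 ≠ 0) :
    dual σ (dual σ f) = f := by
  have h1 : (dual σ f).coeff 0 = (σ (f.coeff 0))⁻¹ := by
    rw [dual_coeff_zero, hm.leadingCoeff, map_one, mul_one]
  have h2 : (dual σ f).map (σ : K →+* K) = C (f.coeff 0)⁻¹ * f.reverse := by
    unfold dual
    rw [Polynomial.map_mul, map_C, map_reverse_map σ hσσ]
    congr 2
    show σ (σ (f.coeff 0))⁻¹ = (f.coeff 0)⁻¹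
    rw [map_inv₀, hσσ]
  have h3 : dual σ (dual σ f) =
      C (σ ((dual σ f).coeff 0))⁻¹ * ((dual σ f).map (σ : K →+* K)).reverse := rfl
  rw [h3, h1, h2, reverse_mul_of_domain, reverse_C, reverse_reverse' h, map_inv₀ σ, hσσ, inv_inv,
    ← mul_assoc, ← C_mul, mul_inv_cancel₀ h, C_1, one_mul]

/-- the number of fixed points of a semilinear involution -/
theorem card_fixed_sq {W : Type*} [AddCommGroup W] [Module K W] [Finite W]
    (hσσ : ∀ a, σ (σ a) = a) (hσne : ∃ a, σ a ≠ a) (τ : W → W)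
    (hadd : ∀ x y, τ (x + y) = τ x + τ y) (hsmul : ∀ (c : K) w, τ (c • w) = σ c • τ w)
    (hττ : ∀ w, τ (τ w) = w) : Nat.card {w : W // τ w = w} ^ 2 = Nat.card W := by
  obtain ⟨a, ha⟩ := hσne
  set e := a - σ a with he
  have he0 : e ≠ 0 := sub_ne_zero.mpr (Ne.symm ha)
  have hσe : σ e = -e := by rw [he, map_sub, hσσ]; ring
  set c := a * e⁻¹ with hc
  have hcc : c + σ c = 1 := by
    rw [hc, map_mul, map_inv₀, hσe, inv_neg, mul_neg, ← sub_eq_add_neg, ← sub_mul, ← he,
      mul_inv_cancel₀ he0]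
  have hneg : ∀ y, τ (-y) = - τ y := by
    intro y
    have := hsmul (-1) y
    rwa [neg_one_smul, map_neg, map_one, neg_one_smul] at this
  have hsub : ∀ x y, τ (x - y) = τ x - τ y := by
    intro x y
    rw [sub_eq_add_neg, hadd, hneg, ← sub_eq_add_neg]
  set k := σ c * e⁻¹ with hk
  have hσk : σ k = -(c * e⁻¹) := by
    rw [hk, map_mul, hσσ, map_inv₀, hσe, inv_neg, mul_neg]
  rw [sq, ← Nat.card_prod]
  symm
  apply Nat.card_congr
  refine
    { toFun := fun w => (⟨c • w + σ c • τ w, ?_⟩, ⟨e • (w - τ w), ?_⟩)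
      invFun := fun uv => uv.1.1 + k • uv.2.1
      left_inv := ?_
      right_inv := ?_ }
  · rw [hadd, hsmul, hsmul, hσσ, hττ, add_comm]
  · rw [hsmul, hsub, hττ, hσe]
    module
  · intro w
    show c • w + σ c • τ w + k • (e • (w - τ w)) = w
    rw [smul_smul, hk, inv_mul_cancel_right₀ he0]
    have : c • w + σ c • τ w + σ c • (w - τ w) = (c + σ c) • w := by module
    rw [this, hcc, one_smul]
  · rintro ⟨⟨u, hu⟩, ⟨v, hv⟩⟩
    have hτw : τ (u + k • v) = u + σ k • v := by rw [hadd, hsmul, hu, hv]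
    apply Prod.ext
    · apply Subtype.ext
      show c • (u + k • v) + σ c • τ (u + k • v) = u
      rw [hτw]
      have h1 : c • (u + k • v) + σ c • (u + σ k • v) =
          (c + σ c) • u + (c * k + σ c * σ k) • v := by module
      have h2 : c * k + σ c * σ k = 0 := by
        rw [hσk, hk]; ring
      rw [h1, h2, hcc, one_smul, zero_smul, add_zero]
    · apply Subtype.ext
      show e • (u + k • v - τ (u + k • v)) = v
      rw [hτw]
      have h1 : e • (u + k • v - (u + σ k • v)) = (e * (k - σ k)) • v := by module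
      have h2 : e * (k - σ k) = 1 := by
        rw [hσk, hk, sub_neg_eq_add, ← add_mul, add_comm, hcc, one_mul, mul_inv_cancel₀ he0]
      rw [h1, h2, one_smul]

end Cfsg.Agent.Lib.Helper14.HCount
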