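import Mathlib
import Cfsg.Agent.Lib.Helper14.HCount1

set_option autoImplicit false

/-! # Bounds for element orders in classical groups: reciprocal polynomials over finite fields -/

namespace Cfsg.Agent.Lib.Helper14.ElemOrd

open Polynomial
open Cfsg.Agent.Lib.Helper14.HCount (dual dual_mul dual_dual dual_monic dual_natDegree
  dual_coeff_zero)

section rd

variable {F : Type*} [Field F]

/-- the monic reciprocal polynomial -/
noncomputable abbrev rd (f : F[X]) : F[X] := dual (RingEquiv.refl F) f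

theorem rd_def (f : F[X]) : rd f = C (f.coeff 0)⁻¹ * f.reverse := by
  unfold rd dual
  simp

theorem rd_one : rd (1 : F[X]) = 1 := by
  rw [rd_def]
  have h : (1 : F[X]).reverse = 1 := by
    rw [← C_1, reverse_C]
  rw [h, coeff_one_zero, inv_one, C_1, one_mul]

theorem rd_mul (f g : F[X]) : rd (f * g) = rd f * rd g := dual_mul _ f g

theorem rd_pow (f : F[X]) (n : ℕ) : rd (f ^ n) = rd f ^ n := by
  induction n with
  | zero => rw [pow_zero, pow_zero, rd_one]
  | succ n ih => rw [pow_succ, pow_succ, rd_mul, ih]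

theorem rd_rd {f : F[X]} (hm : f.Monic) (h0 : f.coeff 0 ≠ 0) : rd (rd f) = f :=
  dual_dual _ (fun _ => rfl) hm h0

theorem rd_monic {f : F[X]} (h0 : f.coeff 0 ≠ 0) : (rd f).Monic := dual_monic _ h0

theorem rd_natDegree {f : F[X]} (h0 : f.coeff 0 ≠ 0) : (rd f).natDegree = f.natDegree :=
  dual_natDegree _ h0

theorem rd_coeff_zero_ne {f : F[X]} (hm : f.Monic) (h0 : f.coeff 0 ≠ 0) : (rd f).coeff 0 ≠ 0 := by
  have h1 : (rd f).coeff 0 = (f.coeff 0)⁻¹ * f.leadingCoeff := dual_coeff_zero _ f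
  rw [h1, hm.leadingCoeff, mul_one]
  exact inv_ne_zero h0

theorem rd_X_sub_one : rd (X - 1 : F[X]) = X - 1 := by
  rw [rd_def]
  have h1 : (X - 1 : F[X]).coeff 0 = -1 := by simp
  have h3 : (X - 1 : F[X]).reverse = 1 - X := by
    have h4 : (X - 1 : F[X]) = 1 * X + C (-1) := by
      rw [one_mul, map_neg, map_one, sub_eq_add_neg]
    have h5 : (1 : F[X]).reverse = 1 := by
      rw [← C_1, reverse_C]
    rw [h4, reverse_add_C, reverse_mul_X, one_mul, natDegree_X, pow_one, map_neg, map_one, h5]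
    ring
  rw [h1, h3, inv_neg, inv_one, map_neg, map_one]
  ring

theorem rd_X_add_one : rd (X + 1 : F[X]) = X + 1 := by
  rw [rd_def]
  have h1 : (X + 1 : F[X]).coeff 0 = 1 := by simp
  have h3 : (X + 1 : F[X]).reverse = 1 + X := by
    have h4 : (X + 1 : F[X]) = 1 * X + C 1 := by
      rw [one_mul, map_one]
    have h5 : (1 : F[X]).reverse = 1 := by
      rw [← C_1, reverse_C]
    rw [h4, reverse_add_C, reverse_mul_X, one_mul, natDegree_X, pow_one, map_one, h5]
    ring
  rw [h1, h3, inv_one, map_one, one_mul, add_comm]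

theorem rd_dvd {f g : F[X]} (h : f ∣ g) : rd f ∣ rd g := by
  obtain ⟨c, rfl⟩ := h
  rw [rd_mul]
  exact dvd_mul_right _ _

theorem coeff_zero_ne_of_dvd {f g : F[X]} (h : f ∣ g) (hg : g.coeff 0 ≠ 0) : f.coeff 0 ≠ 0 := by
  obtain ⟨c, rfl⟩ := h
  rw [mul_coeff_zero] at hg
  exact left_ne_zero_of_mul hg

theorem eval_ne_of_dvd {f g : F[X]} (a : F) (h : f ∣ g) (hg : g.eval a ≠ 0) : f.eval a ≠ 0 := by
  obtain ⟨c, rfl⟩ := h
  rw [eval_mul] at hg
  exact left_ne_zero_of_mul hg

theorem rd_irreducible {f : F[X]} (hm : f.Monic) (h0 : f.coeff 0 ≠ 0) (hi : Irreducible f) :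
    Irreducible (rd f) := by
  have hdeg : (rd f).natDegree = f.natDegree := rd_natDegree h0
  have hfdeg : 0 < f.natDegree := hi.natDegree_pos
  constructor
  · intro hu
    have := natDegree_eq_zero_of_isUnit hu
    omega
  · intro a b hab
    have hr0 : (rd f).coeff 0 ≠ 0 := rd_coeff_zero_ne hm h0
    have ha0 : a.coeff 0 ≠ 0 := coeff_zero_ne_of_dvd ⟨b, hab⟩ hr0
    have hb0 : b.coeff 0 ≠ 0 := coeff_zero_ne_of_dvd ⟨a, by rw [hab, mul_comm]⟩ hr0
    have h1 : f = rd a * rd b := by
      rw [← rd_mul, ← hab, rd_rd hm h0]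
    have key : ∀ c : F[X], c.coeff 0 ≠ 0 → IsUnit (rd c) → IsUnit c := by
      intro c hc0 hu
      have h2 := natDegree_eq_zero_of_isUnit hu
      rw [rd_natDegree hc0] at h2
      rw [eq_C_of_natDegree_eq_zero h2]
      exact isUnit_C.mpr (isUnit_iff_ne_zero.mpr hc0)
    rcases hi.isUnit_or_isUnit h1 with h | h
    · exact Or.inl (key a ha0 h)
    · exact Or.inr (key b hb0 h)

theorem eval₂_inv_rd {K : Type*} [Field K] [Algebra F K] (f : F[X]) (x : K) (hx : x ≠ 0)
    (h : aeval x f = 0) : aeval x⁻¹ (rd f) = 0 := by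
  rw [rd_def, map_mul, aeval_C]
  let _ : Invertible x := invertibleOfNonzero hx
  have h1 := eval₂_reverse_eq_zero_iff (algebraMap F K) x f
  rw [invOf_eq_inv] at h1
  rw [aeval_def, h1.mpr (by rw [← aeval_def]; exact h), mul_zero]

end rd

section finite

variable {F : Type*} [Field F] [Fintype F]

/-- an irreducible polynomial of degree `d` other than `X` divides `X ^ (q ^ d - 1) - 1` -/
theorem irreducible_dvd_X_pow_sub_one {P : F[X]} (hm : P.Monic) (hi : Irreducible P)
    (h0 : P.coeff 0 ≠ 0) : P ∣ X ^ (Fintype.card F ^ P.natDegree - 1) - 1 := by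
  classical
  have : Fact (Irreducible P) := ⟨hi⟩
  have := hm.finite_adjoinRoot
  have : Finite (AdjoinRoot P) := Module.finite_of_finite F
  let _ : Fintype (AdjoinRoot P) := Fintype.ofFinite _
  have hcard : Fintype.card (AdjoinRoot P) = Fintype.card F ^ P.natDegree := by
    rw [Module.card_eq_pow_finrank (K := F) (V := AdjoinRoot P),
      (AdjoinRoot.powerBasis hi.ne_zero).finrank, AdjoinRoot.powerBasis_dim]
  set ζ : AdjoinRoot P := AdjoinRoot.root P with hζ
  have hroot : aeval ζ P = 0 := by rw [AdjoinRoot.aeval_eq, AdjoinRoot.mk_self]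
  have hζ0 : ζ ≠ 0 := by
    intro h
    rw [h, ← coeff_zero_eq_aeval_zero'] at hroot
    exact h0 ((map_eq_zero_iff _ (algebraMap F (AdjoinRoot P)).injective).mp hroot)
  have h1 := FiniteField.pow_card_sub_one_eq_one ζ hζ0
  rw [hcard] at h1
  rw [← AdjoinRoot.mk_eq_zero, ← AdjoinRoot.aeval_eq, map_sub, map_pow, aeval_X, map_one, h1,
    sub_self]

/-- a self-reciprocal irreducible polynomial other than `X ± 1` has even degree `2k` and
divides `X ^ (q ^ k + 1) - 1` -/
theorem selfdual_irreducible {P : F[X]} (hm : P.Monic) (hi : Irreducible P)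
    (h0 : P.coeff 0 ≠ 0) (hd : rd P = P) (h1 : P.eval 1 ≠ 0) (hm1 : P.eval (-1) ≠ 0) :
    ∃ k, 1 ≤ k ∧ P.natDegree = 2 * k ∧ P ∣ X ^ (Fintype.card F ^ k + 1) - 1 := by
  classical
  have : Fact (Irreducible P) := ⟨hi⟩
  have := hm.finite_adjoinRoot
  have : Finite (AdjoinRoot P) := Module.finite_of_finite F
  set pB := AdjoinRoot.powerBasis hi.ne_zero with hpB
  have hfr : Module.finrank F (AdjoinRoot P) = P.natDegree := by
    rw [pB.finrank, AdjoinRoot.powerBasis_dim]
  set ζ : AdjoinRoot P := AdjoinRoot.root P with hζ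
  have hroot : aeval ζ P = 0 := by rw [AdjoinRoot.aeval_eq, AdjoinRoot.mk_self]
  have hζ0 : ζ ≠ 0 := by
    intro h
    rw [h, ← coeff_zero_eq_aeval_zero'] at hroot
    exact h0 ((map_eq_zero_iff _ (algebraMap F (AdjoinRoot P)).injective).mp hroot)
  have hinv : aeval ζ⁻¹ P = 0 := by
    have := eval₂_inv_rd P ζ hζ0 hroot
    rwa [hd] at this
  -- the automorphism inverting the root
  let τ : AdjoinRoot P →ₐ[F] AdjoinRoot P :=
    AdjoinRoot.liftAlgHom P (Algebra.ofId F (AdjoinRoot P)) ζ⁻¹ (by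
      show eval₂ (algebraMap F (AdjoinRoot P)) ζ⁻¹ P = 0
      rw [← aeval_def]
      exact hinv)
  have hτ : τ ζ = ζ⁻¹ := AdjoinRoot.liftAlgHom_root _ _ _ _
  obtain ⟨⟨nn, hnn⟩, hn0⟩ := (FiniteField.bijective_frobeniusAlgHom_pow F (AdjoinRoot P)).2 τ
  have hn : FiniteField.frobeniusAlgHom F (AdjoinRoot P) ^ nn = τ := hn0
  have hnlt : nn < P.natDegree := by rw [← hfr]; exact hnn
  clear hn0
  have hfrob : ∀ (j : ℕ) (x : AdjoinRoot P),
      (FiniteField.frobeniusAlgHom F (AdjoinRoot P) ^ j) x = x ^ (Fintype.card F ^ j) := by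
    intro j x
    rw [AlgHom.coe_pow, FiniteField.coe_frobeniusAlgHom, pow_iterate]
  have hn1 : ζ ^ (Fintype.card F ^ nn) = ζ⁻¹ := by
    rw [← hfrob, ← hτ]
    exact congrArg (fun φ : AdjoinRoot P →ₐ[F] AdjoinRoot P => φ ζ) hn
  have hnpos : nn ≠ 0 := by
    intro hn0
    rw [hn0, pow_zero, pow_one] at hn1
    have h2 : (ζ - 1) * (ζ + 1) = 0 := by
      have : ζ * ζ = 1 := by
        nth_rewrite 2 [hn1]
        exact mul_inv_cancel₀ hζ0
      linear_combination this
    rcases mul_eq_zero.mp h2 with h3 | h3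
    · have h4 : ζ = 1 := sub_eq_zero.mp h3
      rw [h4] at hroot
      apply h1
      have h5 : aeval (1 : AdjoinRoot P) P = algebraMap F (AdjoinRoot P) (P.eval 1) := by
        rw [← map_one (algebraMap F (AdjoinRoot P)), aeval_algebraMap_apply_eq_algebraMap_eval]
      rw [h5] at hroot
      exact (map_eq_zero_iff _ (algebraMap F (AdjoinRoot P)).injective).mp hroot
    · have h4 : ζ = -1 := eq_neg_of_add_eq_zero_left h3
      rw [h4] at hroot
      apply hm1
      have h5 : aeval (-1 : AdjoinRoot P) P = algebraMap F (AdjoinRoot P) (P.eval (-1)) := by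
        rw [← map_one (algebraMap F (AdjoinRoot P)), ← map_neg,
          aeval_algebraMap_apply_eq_algebraMap_eval]
      rw [h5] at hroot
      exact (map_eq_zero_iff _ (algebraMap F (AdjoinRoot P)).injective).mp hroot
  -- the square of the automorphism is trivial
  have hsq : FiniteField.frobeniusAlgHom F (AdjoinRoot P) ^ (2 * nn) = 1 := by
    apply pB.algHom_ext
    rw [AdjoinRoot.powerBasis_gen, two_mul, pow_add, AlgHom.mul_apply, hfrob nn ζ, hn1,
      hfrob, inv_pow, hn1, inv_inv, AlgHom.one_apply]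
  have hdvd : P.natDegree ∣ 2 * nn := by
    have h := orderOf_dvd_of_pow_eq_one hsq
    rw [FiniteField.orderOf_frobeniusAlgHom F (AdjoinRoot P), hfr] at h
    exact h
  have hdeg : P.natDegree = 2 * nn := by
    obtain ⟨c, hc⟩ := hdvd
    have hc1 : c = 1 := by
      rcases Nat.lt_or_ge c 2 with h | h
      · rcases Nat.eq_zero_or_pos c with h' | h'
        · subst h'
          omega
        · omega
      · have : P.natDegree * 2 ≤ P.natDegree * c := Nat.mul_le_mul_left _ h
        omega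
    rw [hc, hc1, mul_one]
  refine ⟨nn, Nat.pos_of_ne_zero hnpos, hdeg, ?_⟩
  rw [← AdjoinRoot.mk_eq_zero, ← AdjoinRoot.aeval_eq, map_sub, map_pow, aeval_X, map_one,
    pow_succ, hn1, inv_mul_cancel₀ hζ0, sub_self]

end finite

end Cfsg.Agent.Lib.Helper14.ElemOrd
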