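import Mathlib
import Cfsg.Agent.Lib.Helper14.ElemOrd1
import Cfsg.Agent.Lib.Helper14.ElemOrd2

set_option autoImplicit false
set_option linter.unusedSectionVars false

/-! # Bounds for element orders in classical groups: self-reciprocal polynomials without the
roots `± 1` -/

namespace Cfsg.Agent.Lib.Helper14.ElemOrd

open Polynomial

variable {F : Type*} [Field F] [Fintype F]

/-- the data bounding the order of `X` modulo `ψ` -/
def Bounded (p : ℕ) (ψ : F[X]) : Prop :=
  ∃ (S : Finset ℕ) (nm cm e A : ℕ), (∀ k ∈ S, 1 ≤ k) ∧ 1 ≤ nm ∧ nm ≤ Fintype.card F ^ cm ∧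
    2 * (S.sum id + cm + e) ≤ ψ.natDegree ∧ Even ψ.natDegree ∧ T p A ≤ Fintype.card F ^ e ∧
    (∀ n : ℕ, (∀ k ∈ S, Fintype.card F ^ k + 1 ∣ n) → nm ∣ n → ψ ∣ (X ^ n - 1) ^ A) ∧
    (Odd (Fintype.card F) → ψ ≠ 1 →
      ∀ n : ℕ, (∀ k ∈ S, Fintype.card F ^ k + 1 ∣ n) → nm ∣ n → 2 ∣ n)

theorem X_pow_sub_one_dvd {a n : ℕ} (h : a ∣ n) : (X ^ a - 1 : F[X]) ∣ X ^ n - 1 := by
  obtain ⟨b, rfl⟩ := h
  have := sub_dvd_pow_sub_pow ((X : F[X]) ^ a) 1 b
  rwa [one_pow, ← pow_mul] at this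

theorem isCoprime_of_irreducible_ne {f g : F[X]} (hf : Irreducible f) (hg : Irreducible g)
    (hfm : f.Monic) (hgm : g.Monic) (hne : f ≠ g) : IsCoprime f g := by
  rw [hf.coprime_iff_not_dvd]
  intro h
  exact hne (eq_of_monic_of_associated hfm hgm (hf.associated_of_dvd hg h))

theorem sum_insert_le (k : ℕ) (S : Finset ℕ) : (insert k S).sum id ≤ S.sum id + k := by
  classical
  by_cases h : k ∈ S
  · rw [Finset.insert_eq_of_mem h]
    omega
  · rw [Finset.sum_insert h]
    simp only [id]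
    omega

theorem card_facts (p : ℕ) [Fact p.Prime] [CharP F p] :
    2 ≤ p ∧ p ≤ Fintype.card F ∧ 2 ≤ Fintype.card F := by
  have hp : p.Prime := Fact.out
  obtain ⟨n, -, hn⟩ := FiniteField.card F p
  refine ⟨hp.two_le, ?_, ?_⟩
  · rw [hn]
    calc p = p ^ 1 := (pow_one p).symm
      _ ≤ p ^ (n : ℕ) := Nat.pow_le_pow_right hp.pos n.pos
  · exact Fintype.one_lt_card

theorem bounded_one (p : ℕ) [Fact p.Prime] [CharP F p] : Bounded p (1 : F[X]) := by
  refine ⟨∅, 1, 0, 0, 0, ?_, le_refl _, ?_, ?_, ?_, ?_, ?_, ?_⟩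
  · intro k hk
    simp at hk
  · simp
  · simp
  · simp
  · rw [T_zero, pow_zero]
  · intro n _ _
    exact one_dvd _
  · intro _ h
    exact absurd rfl h

theorem T_max_le (p : ℕ) [Fact p.Prime] [CharP F p] {A a e k : ℕ} (hk : 1 ≤ k) (ha : 1 ≤ a)
    (hT : T p A ≤ Fintype.card F ^ e) :
    T p (max A a) ≤ Fintype.card F ^ (max e (k * (a - 1))) := by
  obtain ⟨hp2, hpq, hq2⟩ := card_facts (F := F) p
  rw [T_max hp2]
  apply max_le
  · exact hT.trans (Nat.pow_le_pow_right (by omega) (le_max_left _ _))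
  · calc T p a ≤ p ^ (a - 1) := T_le_pow_pred hp2 ha
      _ ≤ Fintype.card F ^ (a - 1) := Nat.pow_le_pow_left hpq _
      _ ≤ Fintype.card F ^ (k * (a - 1)) :=
          Nat.pow_le_pow_right (by omega) (Nat.le_mul_of_pos_left _ hk)
      _ ≤ Fintype.card F ^ (max e (k * (a - 1))) :=
          Nat.pow_le_pow_right (by omega) (le_max_right _ _)

theorem bounded_of_selfdual (p : ℕ) [Fact p.Prime] [CharP F p] :
    ∀ (d : ℕ) (ψ : F[X]), ψ.natDegree ≤ d → ψ.Monic → ψ.coeff 0 ≠ 0 → rd ψ = ψ →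
      ψ.eval 1 ≠ 0 → ψ.eval (-1) ≠ 0 → Bounded p ψ := by
  classical
  obtain ⟨hp2, hpq, hq2⟩ := card_facts (F := F) p
  intro d
  induction d with
  | zero =>
    intro ψ hd hm _ _ _ _
    have h0 : ψ.natDegree = 0 := Nat.le_zero.mp hd
    rw [eq_one_of_monic_natDegree_zero hm h0]
    exact bounded_one p
  | succ d ih =>
    intro ψ hd hm h0 hrd h1 hm1
    by_cases hdeg0 : ψ.natDegree = 0
    · rw [eq_one_of_monic_natDegree_zero hm hdeg0]
      exact bounded_one p
    have hu : ¬ IsUnit ψ := not_isUnit_of_natDegree_pos ψ (Nat.pos_of_ne_zero hdeg0)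
    obtain ⟨f, hfm, hfi, hfd⟩ := exists_monic_irreducible_factor ψ hu
    have hf0 : f.coeff 0 ≠ 0 := coeff_zero_ne_of_dvd hfd h0
    have hf1 : f.eval 1 ≠ 0 := eval_ne_of_dvd 1 hfd h1
    have hfm1 : f.eval (-1) ≠ 0 := eval_ne_of_dvd (-1) hfd hm1
    have hfdeg : 1 ≤ f.natDegree := hfi.natDegree_pos
    obtain ⟨a, ψ₁, hnd, hψ⟩ := WfDvdMonoid.max_power_factor hm.ne_zero hfi
    have ha : 1 ≤ a := by
      rcases Nat.eq_zero_or_pos a with h | h
      · exfalso
        rw [h, pow_zero, one_mul] at hψ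
        rw [hψ] at hfd
        exact hnd hfd
      · exact h
    have hψ₁m : ψ₁.Monic := (hfm.pow a).of_mul_monic_left (hψ ▸ hm)
    have hψ₁d : ψ₁ ∣ ψ := ⟨f ^ a, by rw [hψ, mul_comm]⟩
    have hdegψ : ψ.natDegree = a * f.natDegree + ψ₁.natDegree := by
      rw [hψ, (hfm.pow a).natDegree_mul hψ₁m, hfm.natDegree_pow]
    have hrdψ : rd ψ = rd f ^ a * rd ψ₁ := by
      rw [hψ, rd_mul, rd_pow]
    have hak : a * f.natDegree = f.natDegree + f.natDegree * (a - 1) := by
      obtain ⟨a', rfl⟩ : ∃ a', a = a' + 1 := ⟨a - 1, by omega⟩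
      rw [Nat.add_sub_cancel]
      ring
    by_cases hself : rd f = f
    · -- a self-reciprocal factor
      have hrd₁ : rd ψ₁ = ψ₁ := by
        have h2 : f ^ a * rd ψ₁ = f ^ a * ψ₁ := by
          rw [← hself, ← hrdψ, hrd, hself]
          exact hψ
        exact mul_left_cancel₀ (pow_ne_zero a hfi.ne_zero) h2
      have hd₁ : ψ₁.natDegree ≤ d := by
        have : 1 ≤ a * f.natDegree := Nat.mul_pos ha hfdeg
        omega
      obtain ⟨S, nm, cm, e, A, hS, hnm1, hnm, hcost, heven, hT, hdiv, hpar⟩ :=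
        ih ψ₁ hd₁ hψ₁m (coeff_zero_ne_of_dvd hψ₁d h0) hrd₁ (eval_ne_of_dvd 1 hψ₁d h1)
          (eval_ne_of_dvd (-1) hψ₁d hm1)
      obtain ⟨k, hk1, hfk2, hfk⟩ := selfdual_irreducible hfm hfi hf0 hself hf1 hfm1
      refine ⟨insert k S, nm, cm, max e (k * (a - 1)), max A a, ?_, hnm1, hnm, ?_, ?_, ?_, ?_, ?_⟩
      · intro k' hk'
        rcases Finset.mem_insert.mp hk' with h | h
        · rw [h]; exact hk1
        · exact hS k' h
      · have h3 := sum_insert_le k S
        have h4 : max e (k * (a - 1)) ≤ e + k * (a - 1) := max_le (by omega) (by omega)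
        rw [hdegψ, hak, hfk2]
        have h5 : 2 * k * (a - 1) = 2 * (k * (a - 1)) := by ring
        omega
      · rw [hdegψ, hfk2]
        exact Even.add (Even.mul_left (even_two_mul k) a) heven
      · exact T_max_le p hk1 ha hT
      · intro n hn hnm'
        have hS' : ∀ k' ∈ S, Fintype.card F ^ k' + 1 ∣ n :=
          fun k' hk' => hn k' (Finset.mem_insert_of_mem hk')
        have h2 : ψ₁ ∣ (X ^ n - 1) ^ max A a :=
          (hdiv n hS' hnm').trans (pow_dvd_pow _ (le_max_left _ _))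
        have h3 : f ∣ X ^ n - 1 := hfk.trans (X_pow_sub_one_dvd (hn k (Finset.mem_insert_self k S)))
        have h4 : f ^ a ∣ (X ^ n - 1) ^ max A a :=
          (pow_dvd_pow_of_dvd h3 a).trans (pow_dvd_pow _ (le_max_right _ _))
        have hcop : IsCoprime (f ^ a) ψ₁ := (hfi.coprime_iff_not_dvd.mpr hnd).pow_left
        rw [hψ]
        exact hcop.mul_dvd h4 h2
      · intro hodd _ n hn _
        have h3 := hn k (Finset.mem_insert_self k S)
        have h4 : 2 ∣ Fintype.card F ^ k + 1 := by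
          have : Odd (Fintype.card F ^ k) := hodd.pow
          exact (this.add_odd odd_one).two_dvd
        exact h4.trans h3
    · -- a pair of reciprocal factors
      set g := rd f with hg
      have hgm : g.Monic := rd_monic hf0
      have hgi : Irreducible g := rd_irreducible hfm hf0 hfi
      have hg0 : g.coeff 0 ≠ 0 := rd_coeff_zero_ne hfm hf0
      have hrg : rd g = f := rd_rd hfm hf0
      have hgdeg : g.natDegree = f.natDegree := rd_natDegree hf0
      have hcop : IsCoprime f g :=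
        isCoprime_of_irreducible_ne hfi hgi hfm hgm (fun h => hself h.symm)
      have hgdvd : g ^ a ∣ ψ₁ := by
        have h2 : g ^ a ∣ f ^ a * ψ₁ := by
          rw [← hψ, ← hrd, hrdψ]
          exact dvd_mul_right _ _
        exact (hcop.symm.pow).dvd_of_dvd_mul_left h2
      obtain ⟨ψ₂, hψ₂⟩ := hgdvd
      have hψ' : ψ = (f * g) ^ a * ψ₂ := by
        rw [hψ, hψ₂, mul_pow, mul_assoc]
      have hψ₂d : ψ₂ ∣ ψ := ⟨(f * g) ^ a, by rw [hψ', mul_comm]⟩
      have hfgm : ((f * g) ^ a).Monic := (hfm.mul hgm).pow a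
      have hψ₂m : ψ₂.Monic := hfgm.of_mul_monic_left (hψ' ▸ hm)
      have hrd₂ : rd ψ₂ = ψ₂ := by
        have h2 : (f * g) ^ a * rd ψ₂ = (f * g) ^ a * ψ₂ := by
          have h3 : rd ψ = (f * g) ^ a * rd ψ₂ := by
            rw [hψ', rd_mul, rd_pow, rd_mul, hrg, ← hg, mul_comm g f]
          rw [← h3, hrd]
          exact hψ'
        exact mul_left_cancel₀ (pow_ne_zero a (mul_ne_zero hfi.ne_zero hgi.ne_zero)) h2
      have hnf : ¬ f ∣ ψ₂ := fun h => hnd (h.trans ⟨g ^ a, by rw [hψ₂, mul_comm]⟩)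
      have hng : ¬ g ∣ ψ₂ := by
        intro h
        have h2 := rd_dvd h
        rw [hrg, hrd₂] at h2
        exact hnf h2
      have hdegψ' : ψ.natDegree = a * f.natDegree + (a * f.natDegree + ψ₂.natDegree) := by
        rw [hdegψ, hψ₂, (hgm.pow a).natDegree_mul hψ₂m, hgm.natDegree_pow, hgdeg]
      have hd₂ : ψ₂.natDegree ≤ d := by
        have : 1 ≤ a * f.natDegree := Nat.mul_pos ha hfdeg
        omega
      obtain ⟨S, nm, cm, e, A, hS, hnm1, hnm, hcost, heven, hT, hdiv, hpar⟩ :=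
        ih ψ₂ hd₂ hψ₂m (coeff_zero_ne_of_dvd hψ₂d h0) hrd₂ (eval_ne_of_dvd 1 hψ₂d h1)
          (eval_ne_of_dvd (-1) hψ₂d hm1)
      set k := f.natDegree with hk
      have hfk : f ∣ X ^ (Fintype.card F ^ k - 1) - 1 :=
        irreducible_dvd_X_pow_sub_one hfm hfi hf0
      have hgk : g ∣ X ^ (Fintype.card F ^ k - 1) - 1 := by
        have := irreducible_dvd_X_pow_sub_one hgm hgi hg0
        rwa [hgdeg] at this
      have hqk : 2 ≤ Fintype.card F ^ k := by
        calc 2 ≤ Fintype.card F := hq2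
          _ = Fintype.card F ^ 1 := (pow_one _).symm
          _ ≤ Fintype.card F ^ k := Nat.pow_le_pow_right (by omega) hfdeg
      refine ⟨S, Nat.lcm nm (Fintype.card F ^ k - 1), cm + k, max e (k * (a - 1)), max A a,
        hS, ?_, ?_, ?_, ?_, ?_, ?_, ?_⟩
      · exact Nat.lcm_pos (by omega) (by omega)
      · have h2 : Nat.lcm nm (Fintype.card F ^ k - 1) ≤ nm * (Fintype.card F ^ k - 1) :=
          Nat.le_of_dvd (Nat.mul_pos (by omega) (by omega)) (Nat.lcm_dvd_mul _ _)
        calc Nat.lcm nm (Fintype.card F ^ k - 1) ≤ nm * (Fintype.card F ^ k - 1) := h2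
          _ ≤ Fintype.card F ^ cm * Fintype.card F ^ k := Nat.mul_le_mul hnm (Nat.sub_le _ _)
          _ = Fintype.card F ^ (cm + k) := (pow_add _ _ _).symm
      · have h4 : max e (k * (a - 1)) ≤ e + k * (a - 1) := max_le (by omega) (by omega)
        rw [hdegψ', hak]
        omega
      · rw [hdegψ', ← add_assoc, ← two_mul]
        exact Even.add (even_two_mul _) heven
      · exact T_max_le p hfdeg ha hT
      · intro n hn hnm'
        have hnm'' : nm ∣ n := (Nat.dvd_lcm_left _ _).trans hnm'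
        have hqn : Fintype.card F ^ k - 1 ∣ n := (Nat.dvd_lcm_right _ _).trans hnm'
        have h2 : ψ₂ ∣ (X ^ n - 1) ^ max A a :=
          (hdiv n hn hnm'').trans (pow_dvd_pow _ (le_max_left _ _))
        have h3 : f ∣ X ^ n - 1 := hfk.trans (X_pow_sub_one_dvd hqn)
        have h3' : g ∣ X ^ n - 1 := hgk.trans (X_pow_sub_one_dvd hqn)
        have h4 : (f * g) ^ a ∣ (X ^ n - 1) ^ max A a :=
          (pow_dvd_pow_of_dvd (hcop.mul_dvd h3 h3') a).trans (pow_dvd_pow _ (le_max_right _ _))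
        have hcop2 : IsCoprime ((f * g) ^ a) ψ₂ :=
          (IsCoprime.mul_left (hfi.coprime_iff_not_dvd.mpr hnf)
            (hgi.coprime_iff_not_dvd.mpr hng)).pow_left
        rw [hψ']
        exact hcop2.mul_dvd h4 h2
      · intro hodd _ n _ hnm'
        have hqn : Fintype.card F ^ k - 1 ∣ n := (Nat.dvd_lcm_right _ _).trans hnm'
        have h4 : 2 ∣ Fintype.card F ^ k - 1 := by
          have : Odd (Fintype.card F ^ k) := hodd.pow
          obtain ⟨c, hc⟩ := this
          exact ⟨c, by omega⟩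
        exact h4.trans hqn

end Cfsg.Agent.Lib.Helper14.ElemOrd
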