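import Mathlib
import Cfsg.Agent.Lib.Helper14.ElemOrd3

set_option autoImplicit false
set_option linter.unusedSectionVars false

/-! # Bounds for element orders in classical groups: self-reciprocal polynomials -/

namespace Cfsg.Agent.Lib.Helper14.ElemOrd

open Polynomial

variable {F : Type*} [Field F] [Fintype F]

/-- the constant coefficient of a self-reciprocal polynomial without the root `1` -/
theorem coeff_zero_eq_one_of_rd {ψ : F[X]} (hrd : rd ψ = ψ) (h1 : ψ.eval 1 ≠ 0) :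
    ψ.coeff 0 = 1 := by
  have h2 : (rd ψ).eval 1 = (ψ.coeff 0)⁻¹ * ψ.eval 1 := by
    rw [rd_def, eval_mul, eval_C]
    congr 1
    have : Invertible (1 : F) := invertibleOne
    have h3 := eval₂_reverse_mul_pow (RingHom.id F) (1 : F) ψ
    rw [invOf_one, one_pow, mul_one, eval₂_id, eval₂_id] at h3
    exact h3
  rw [hrd] at h2
  have h3 : (ψ.coeff 0)⁻¹ = 1 := by
    have h4 : (ψ.coeff 0)⁻¹ * ψ.eval 1 = 1 * ψ.eval 1 := by rw [one_mul]; exact h2.symm
    exact mul_right_cancel₀ h1 h4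
  exact inv_eq_one.mp h3

/-- splitting off the roots `± 1` -/
theorem exists_decomp {χ : F[X]} (hm : χ.Monic) (h0 : χ.coeff 0 ≠ 0) (hrd : rd χ = χ) :
    ∃ (j l : ℕ) (ψ : F[X]), χ = (X - 1) ^ j * (X + 1) ^ l * ψ ∧ ψ.Monic ∧ ψ.coeff 0 ≠ 0 ∧
      rd ψ = ψ ∧ ψ.eval 1 ≠ 0 ∧ ψ.eval (-1) ≠ 0 ∧ ((2 : F) = 0 → l = 0) := by
  have hirr1 : Irreducible (X - 1 : F[X]) := by
    have := irreducible_X_sub_C (1 : F)
    rwa [map_one] at this
  have hirr2 : Irreducible (X + 1 : F[X]) := by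
    have := irreducible_X_sub_C (-1 : F)
    rwa [map_neg, map_one, sub_neg_eq_add] at this
  obtain ⟨j, χ₁, hnd1, hχ⟩ := WfDvdMonoid.max_power_factor hm.ne_zero hirr1
  have hχ₁0 : χ₁ ≠ 0 := by
    intro h
    rw [h, mul_zero] at hχ
    exact hm.ne_zero hχ
  obtain ⟨l, ψ, hnd2, hχ₁⟩ := WfDvdMonoid.max_power_factor hχ₁0 hirr2
  have hχ' : χ = (X - 1) ^ j * (X + 1) ^ l * ψ := by rw [hχ, hχ₁, mul_assoc]
  have hm1 : ((X - 1 : F[X]) ^ j * (X + 1) ^ l).Monic :=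
    ((monic_X_sub_C (1 : F)).pow j |>.mul ((monic_X_add_C (1 : F)).pow l)) |> fun h => by
      simpa using h
  have hψm : ψ.Monic := hm1.of_mul_monic_left (hχ' ▸ hm)
  have hψd : ψ ∣ χ := ⟨(X - 1) ^ j * (X + 1) ^ l, by rw [hχ', mul_comm]⟩
  have hψ1 : ψ.eval 1 ≠ 0 := by
    intro h
    apply hnd1
    have h2 : (X - 1 : F[X]) ∣ ψ := by
      have := dvd_iff_isRoot.mpr (show IsRoot ψ 1 from h)
      rwa [map_one] at this
    exact h2.trans ⟨(X + 1) ^ l, by rw [hχ₁, mul_comm]⟩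
  have hψm1 : ψ.eval (-1) ≠ 0 := by
    intro h
    apply hnd2
    have := dvd_iff_isRoot.mpr (show IsRoot ψ (-1) from h)
    rwa [map_neg, map_one, sub_neg_eq_add] at this
  refine ⟨j, l, ψ, hχ', hψm, coeff_zero_ne_of_dvd hψd h0, ?_, hψ1, hψm1, ?_⟩
  · have h2 : (X - 1) ^ j * (X + 1) ^ l * rd ψ = (X - 1) ^ j * (X + 1) ^ l * ψ := by
      have h3 : rd χ = (X - 1) ^ j * (X + 1) ^ l * rd ψ := by
        rw [hχ', rd_mul, rd_mul, rd_pow, rd_pow, rd_X_sub_one, rd_X_add_one]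
      rw [← h3, hrd]
      exact hχ'
    exact mul_left_cancel₀ hm1.ne_zero h2
  · intro h2
    by_contra hl
    apply hnd1
    have h3 : (X + 1 : F[X]) = X - 1 := by
      have h4 : (2 : F[X]) = 0 := by
        have h5 : (2 : F[X]) = C (2 : F) := (map_ofNat C 2).symm
        rw [h5, h2, C_0]
      linear_combination h4
    rw [hχ₁, h3]
    exact dvd_mul_of_dvd_left (dvd_pow_self _ hl) _

theorem X_sub_one_pow_mul_dvd (j l n : ℕ)
    (hn : (X ^ 2 - 1 : F[X]) ∣ X ^ n - 1) :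
    ((X - 1 : F[X]) ^ j * (X + 1) ^ l) ∣ (X ^ n - 1) ^ max j l := by
  have h1 : (X - 1 : F[X]) ^ j * (X + 1) ^ l ∣ (X - 1) ^ max j l * (X + 1) ^ max j l :=
    mul_dvd_mul (pow_dvd_pow _ (le_max_left _ _)) (pow_dvd_pow _ (le_max_right _ _))
  refine h1.trans ?_
  rw [← mul_pow]
  apply pow_dvd_pow_of_dvd
  have : (X - 1 : F[X]) * (X + 1) = X ^ 2 - 1 := by ring
  rw [this]
  exact hn

theorem frob_sub (p : ℕ) [Fact p.Prime] [CharP F p] (n t : ℕ) :
    ((X : F[X]) ^ n - 1) ^ (p ^ t) = X ^ (n * p ^ t) - 1 := by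
  rw [sub_pow_char_pow, one_pow, ← pow_mul]

theorem frob_add (p : ℕ) [Fact p.Prime] [CharP F p] (n t : ℕ) :
    ((X : F[X]) ^ n + 1) ^ (p ^ t) = X ^ (n * p ^ t) + 1 := by
  rw [add_pow_char_pow, one_pow, ← pow_mul]

/-- the main case: some factor other than `X ± 1` is present, or the characteristic is `2` -/
theorem assemble_main (p : ℕ) [Fact p.Prime] [CharP F p] (χ ψ : F[X]) (j l cj cl m : ℕ)
    (hχ : χ = (X - 1) ^ j * (X + 1) ^ l * ψ) (hb : Bounded p ψ)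
    (hψ1 : ψ.eval 1 ≠ 0) (hψm1 : ψ.eval (-1) ≠ 0)
    (hj : T p j ≤ Fintype.card F ^ cj) (hl : T p l ≤ Fintype.card F ^ cl)
    (hdeg : ψ.natDegree + 2 * cj + 2 * cl ≤ 2 * m)
    (hcase : ((2 : F) = 0 ∧ l = 0) ∨ (Odd (Fintype.card F) ∧ ψ ≠ 1)) :
    ∃ N, 1 ≤ N ∧ (Fintype.card F - 1) * N ≤ Fintype.card F ^ (m + 1) ∧ χ ∣ X ^ N - 1 := by
  classical
  obtain ⟨hp2, hpq, hq2⟩ := card_facts (F := F) p
  obtain ⟨S, nm, cm, e, A, hS, hnm1, hnm, hcost, heven, hT, hdiv, hpar⟩ := hb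
  set q := Fintype.card F with hq
  set L := S.lcm (fun k => q ^ k + 1) with hL
  have hLpos : 1 ≤ L := by
    apply Nat.pos_of_ne_zero
    rw [hL, Ne, Finset.lcm_eq_zero_iff]
    push Not
    intro k _
    positivity
  set n₀ := Nat.lcm L nm with hn₀
  have hn₀pos : 1 ≤ n₀ := Nat.lcm_pos hLpos hnm1
  have hc1 : ∀ k ∈ S, q ^ k + 1 ∣ n₀ := fun k hk =>
    (Finset.dvd_lcm (f := fun k => q ^ k + 1) hk).trans (Nat.dvd_lcm_left _ _)
  have hc2 : nm ∣ n₀ := Nat.dvd_lcm_right _ _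
  set At := max A (max j l) with hAt
  set t := Nat.clog p At with ht
  have hAt_le : At ≤ p ^ t := le_T hp2 At
  refine ⟨n₀ * p ^ t, Nat.mul_pos hn₀pos (pow_pos (by omega) _), ?_, ?_⟩
  · -- the bound
    have h1 := lcm_plus_bound (S.sum id) q S hq2 hS (le_refl _)
    rw [← hL] at h1
    have h2 : n₀ ≤ L * nm := Nat.le_of_dvd (Nat.mul_pos hLpos hnm1) (Nat.lcm_dvd_mul _ _)
    have h3 : p ^ t ≤ q ^ (e + cj + cl) := by
      have h4 : p ^ t = T p At := rfl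
      rw [h4, hAt, T_max hp2, T_max hp2]
      apply max_le
      · exact hT.trans (Nat.pow_le_pow_right (by omega) (by omega))
      · apply max_le
        · exact hj.trans (Nat.pow_le_pow_right (by omega) (by omega))
        · exact hl.trans (Nat.pow_le_pow_right (by omega) (by omega))
    have h5 : (q - 1) * L ≤ q ^ (S.sum id + 1) := by omega
    calc (q - 1) * (n₀ * p ^ t) ≤ (q - 1) * ((L * nm) * q ^ (e + cj + cl)) :=
          Nat.mul_le_mul_left _ (Nat.mul_le_mul h2 h3)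
      _ = ((q - 1) * L) * nm * q ^ (e + cj + cl) := by ring
      _ ≤ q ^ (S.sum id + 1) * q ^ cm * q ^ (e + cj + cl) :=
          Nat.mul_le_mul_right _ (Nat.mul_le_mul h5 hnm)
      _ = q ^ (S.sum id + 1 + cm + (e + cj + cl)) := by rw [← pow_add, ← pow_add]
      _ ≤ q ^ (m + 1) := Nat.pow_le_pow_right (by omega) (by omega)
  · -- the divisibility
    have h1 : ψ ∣ (X ^ n₀ - 1) ^ At := (hdiv n₀ hc1 hc2).trans (pow_dvd_pow _ (le_max_left _ _))
    have h2 : ((X - 1 : F[X]) ^ j * (X + 1) ^ l) ∣ (X ^ n₀ - 1) ^ At := by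
      rcases hcase with ⟨h2, hl0⟩ | ⟨hodd, hne⟩
      · rw [hl0, pow_zero, mul_one]
        have h3 : (X - 1 : F[X]) ∣ X ^ n₀ - 1 := by
          have := sub_dvd_pow_sub_pow (X : F[X]) 1 n₀
          rwa [one_pow] at this
        refine (pow_dvd_pow_of_dvd h3 j).trans (pow_dvd_pow _ ?_)
        exact (le_max_left j l).trans (le_max_right _ _)
      · have h3 : 2 ∣ n₀ := hpar hodd hne n₀ hc1 hc2
        exact (X_sub_one_pow_mul_dvd j l n₀ (X_pow_sub_one_dvd h3)).trans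
          (pow_dvd_pow _ (le_max_right _ _))
    have hcop : IsCoprime ((X - 1 : F[X]) ^ j * (X + 1) ^ l) ψ := by
      have hirr1 : Irreducible (X - 1 : F[X]) := by
        have := irreducible_X_sub_C (1 : F)
        rwa [map_one] at this
      have hirr2 : Irreducible (X + 1 : F[X]) := by
        have := irreducible_X_sub_C (-1 : F)
        rwa [map_neg, map_one, sub_neg_eq_add] at this
      have h3 : IsCoprime (X - 1 : F[X]) ψ := by
        rw [hirr1.coprime_iff_not_dvd]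
        intro h
        have : (X - C (1 : F)) ∣ ψ := by rwa [map_one]
        exact hψ1 (dvd_iff_isRoot.mp this)
      have h4 : IsCoprime (X + 1 : F[X]) ψ := by
        rw [hirr2.coprime_iff_not_dvd]
        intro h
        have : (X - C (-1 : F)) ∣ ψ := by rwa [map_neg, map_one, sub_neg_eq_add]
        exact hψm1 (dvd_iff_isRoot.mp this)
      exact IsCoprime.mul_left h3.pow_left h4.pow_left
    have h3 : χ ∣ (X ^ n₀ - 1) ^ At := by
      rw [hχ]
      exact hcop.mul_dvd h2 h1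
    have h4 : (X ^ n₀ - 1 : F[X]) ^ At ∣ (X ^ n₀ - 1) ^ (p ^ t) := pow_dvd_pow _ hAt_le
    rw [← frob_sub p n₀ t]
    exact h3.trans h4

/-- the case in which only the factors `X ± 1` occur -/
theorem assemble_pm (p : ℕ) [Fact p.Prime] [CharP F p] (j l m : ℕ) (hm : 1 ≤ m)
    (hj : l = 0 → T p j ≤ Fintype.card F ^ m) (hl : j = 0 → T p l ≤ Fintype.card F ^ m)
    (hboth : 0 < j → 0 < l → T p (max j l) ≤ Fintype.card F ^ (m - 1)) :
    ∃ N, 1 ≤ N ∧ (Fintype.card F - 1) * N ≤ Fintype.card F ^ (m + 1) ∧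
      (((X - 1 : F[X]) ^ j * (X + 1) ^ l) ∣ X ^ N - 1 ∨
        ((X - 1 : F[X]) ^ j * (X + 1) ^ l) ∣ X ^ N + 1) := by
  obtain ⟨hp2, hpq, hq2⟩ := card_facts (F := F) p
  set q := Fintype.card F with hq
  have hqq : (q - 1) * q ^ m ≤ q ^ (m + 1) := by
    rw [pow_succ, mul_comm]
    exact Nat.mul_le_mul_left _ (Nat.sub_le _ _)
  rcases Nat.eq_zero_or_pos l with hl0 | hlpos
  · refine ⟨T p j, T_pos hp2 j, ?_, Or.inl ?_⟩
    · exact (Nat.mul_le_mul_left _ (hj hl0)).trans hqq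
    · rw [hl0, pow_zero, mul_one]
      have h1 : (X - 1 : F[X]) ^ j ∣ (X - 1) ^ (p ^ Nat.clog p j) := pow_dvd_pow _ (le_T hp2 j)
      have h2 := frob_sub (F := F) p 1 (Nat.clog p j)
      rw [pow_one, one_mul] at h2
      rw [h2] at h1
      exact h1
  rcases Nat.eq_zero_or_pos j with hj0 | hjpos
  · refine ⟨T p l, T_pos hp2 l, ?_, Or.inr ?_⟩
    · exact (Nat.mul_le_mul_left _ (hl hj0)).trans hqq
    · rw [hj0, pow_zero, one_mul]
      have h1 : (X + 1 : F[X]) ^ l ∣ (X + 1) ^ (p ^ Nat.clog p l) := pow_dvd_pow _ (le_T hp2 l)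
      have h2 := frob_add (F := F) p 1 (Nat.clog p l)
      rw [pow_one, one_mul] at h2
      rw [h2] at h1
      exact h1
  · have hT := hboth hjpos hlpos
    refine ⟨2 * T p (max j l), Nat.mul_pos (by omega) (T_pos hp2 _), ?_, Or.inl ?_⟩
    · obtain ⟨m', rfl⟩ : ∃ m', m = m' + 1 := ⟨m - 1, by omega⟩
      rw [Nat.add_sub_cancel] at hT
      have h1 : (q - 1) * 2 ≤ q ^ 2 := by
        obtain ⟨r, hr⟩ : ∃ r, q = r + 1 := ⟨q - 1, by omega⟩
        rw [hr, Nat.add_sub_cancel]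
        nlinarith
      calc (q - 1) * (2 * T p (max j l)) = ((q - 1) * 2) * T p (max j l) := by ring
        _ ≤ q ^ 2 * q ^ m' := Nat.mul_le_mul h1 hT
        _ = q ^ (m' + 1 + 1) := by rw [← pow_add]; congr 1; omega
    · have h1 := X_sub_one_pow_mul_dvd (F := F) j l 2 (dvd_refl _)
      have h2 : (X ^ 2 - 1 : F[X]) ^ max j l ∣ (X ^ 2 - 1) ^ (p ^ Nat.clog p (max j l)) :=
        pow_dvd_pow _ (le_T hp2 _)
      rw [frob_sub p 2 (Nat.clog p (max j l))] at h2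
      exact h1.trans h2

end Cfsg.Agent.Lib.Helper14.ElemOrd
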