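import Mathlib
import Cfsg.Agent.Lib.Helper14.ElemOrd4

set_option autoImplicit false
set_option linter.unusedSectionVars false

/-! # Bounds for element orders in classical groups: the bound for a self-reciprocal
characteristic polynomial -/

namespace Cfsg.Agent.Lib.Helper14.ElemOrd

open Polynomial

variable {F : Type*} [Field F] [Fintype F]

theorem natDegree_decomp (j l : ℕ) {ψ : F[X]} (hψ : ψ.Monic) :
    ((X - 1 : F[X]) ^ j * (X + 1) ^ l * ψ).natDegree = j + l + ψ.natDegree := by
  have h1 : (X - 1 : F[X]).Monic := by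
    have := monic_X_sub_C (1 : F)
    rwa [map_one] at this
  have h2 : (X + 1 : F[X]).Monic := by
    have := monic_X_add_C (1 : F)
    rwa [map_one] at this
  have h3 : (X - 1 : F[X]).natDegree = 1 := by
    have := natDegree_X_sub_C (1 : F)
    rwa [map_one] at this
  have h4 : (X + 1 : F[X]).natDegree = 1 := by
    have := natDegree_X_add_C (1 : F)
    rwa [map_one] at this
  rw [((h1.pow j).mul (h2.pow l)).natDegree_mul hψ, (h1.pow j).natDegree_mul (h2.pow l),
    h1.natDegree_pow, h2.natDegree_pow, h3, h4, mul_one, mul_one]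

theorem eval_zero_decomp (j l : ℕ) (ψ : F[X]) :
    ((X - 1 : F[X]) ^ j * (X + 1) ^ l * ψ).coeff 0 = (-1) ^ j * ψ.coeff 0 := by
  rw [coeff_zero_eq_eval_zero, eval_mul, eval_mul, eval_pow, eval_pow, eval_sub, eval_add, eval_X,
    eval_one, zero_sub, zero_add, one_pow, mul_one, coeff_zero_eq_eval_zero]

theorem even_of_bounded {p : ℕ} {ψ : F[X]} (hb : Bounded p ψ) : Even ψ.natDegree := by
  obtain ⟨_, _, _, _, _, _, _, _, _, h, _⟩ := hb
  exact h

theorem odd_card_of_two_ne_zero (h2 : (2 : F) ≠ 0) : Odd (Fintype.card F) := by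
  rw [Nat.odd_iff]
  apply FiniteField.odd_card_of_char_ne_two
  intro h
  have : CharP F 2 := by
    have := ringChar.charP F
    rwa [h] at this
  apply h2
  have h3 := CharP.cast_eq_zero F 2
  exact_mod_cast h3

/-- the bound for a self-reciprocal polynomial of even degree with constant coefficient `1` -/
theorem even_bound (p : ℕ) [Fact p.Prime] [CharP F p] (χ : F[X]) (m : ℕ) (hm : 1 ≤ m)
    (hχm : χ.Monic) (hdeg : χ.natDegree = 2 * m) (hrd : rd χ = χ) (h0 : χ.coeff 0 = 1) :
    ∃ N, 1 ≤ N ∧ (Fintype.card F - 1) * N ≤ Fintype.card F ^ (m + 1) ∧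
      (χ ∣ X ^ N - 1 ∨ χ ∣ X ^ N + 1) := by
  obtain ⟨hp2, hpq, hq2⟩ := card_facts (F := F) p
  have h0' : χ.coeff 0 ≠ 0 := by rw [h0]; exact one_ne_zero
  obtain ⟨j, l, ψ, hχ, hψm, hψ0, hψrd, hψ1, hψm1, h2l⟩ := exists_decomp hχm h0' hrd
  have hb := bounded_of_selfdual p ψ.natDegree ψ le_rfl hψm hψ0 hψrd hψ1 hψm1
  have heven := even_of_bounded hb
  have hdeg' : j + l + ψ.natDegree = 2 * m := by
    rw [← hdeg, hχ, natDegree_decomp j l hψm]
  have hψc : ψ.coeff 0 = 1 := coeff_zero_eq_one_of_rd hψrd hψ1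
  have hsign : (-1 : F) ^ j = 1 := by
    have := eval_zero_decomp j l ψ
    rw [← hχ, h0, hψc, mul_one] at this
    exact this.symm
  have hpow : ∀ c : ℕ, p ^ c ≤ Fintype.card F ^ c := fun c => Nat.pow_le_pow_left hpq c
  by_cases h2 : (2 : F) = 0
  · -- characteristic two
    have hl0 : l = 0 := h2l h2
    have hjeven : Even j := by
      obtain ⟨c, hc⟩ := heven
      exact ⟨m - c, by omega⟩
    obtain ⟨cj, hcj⟩ := hjeven
    have hj2 : j = 2 * cj := by omega
    obtain ⟨N, hN1, hN2, hN3⟩ := assemble_main p χ ψ j l cj 0 m hχ hb hψ1 hψm1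
      (by rw [hj2]; exact (T_two_mul hp2 cj).trans (hpow cj))
      (by rw [hl0, T_zero, pow_zero]) (by omega) (Or.inl ⟨h2, hl0⟩)
    exact ⟨N, hN1, hN2, Or.inl hN3⟩
  · -- odd characteristic
    have hne : (-1 : F) ≠ 1 := by
      intro h
      apply h2
      have : (1 : F) + 1 = 0 := by
        nth_rewrite 1 [← h]
        exact neg_add_cancel 1
      rw [← one_add_one_eq_two]
      exact this
    have hjeven : Even j := (neg_one_pow_eq_one_iff_even hne).mp hsign
    have hleven : Even l := by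
      obtain ⟨c, hc⟩ := heven
      obtain ⟨c', hc'⟩ := hjeven
      exact ⟨m - c - c', by omega⟩
    obtain ⟨cj, hcj⟩ := hjeven
    obtain ⟨cl, hcl⟩ := hleven
    have hj2 : j = 2 * cj := by omega
    have hl2 : l = 2 * cl := by omega
    have hodd := odd_card_of_two_ne_zero h2
    by_cases hψ1' : ψ = 1
    · -- only the factors `X ± 1`
      have hdψ : ψ.natDegree = 0 := by rw [hψ1']; exact natDegree_one
      obtain ⟨N, hN1, hN2, hN3⟩ := assemble_pm (F := F) p j l m hm
        (by
          intro hl0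
          have : j = 2 * m := by omega
          rw [this]
          exact (T_two_mul hp2 m).trans (hpow m))
        (by
          intro hj0
          have : l = 2 * m := by omega
          rw [this]
          exact (T_two_mul hp2 m).trans (hpow m))
        (by
          intro hj hl
          have h3 : max j l ≤ 2 * (m - 1) := by
            apply max_le <;> omega
          exact ((T_mono hp2 h3).trans (T_two_mul hp2 (m - 1))).trans (hpow (m - 1)))
      refine ⟨N, hN1, hN2, ?_⟩
      rw [hχ, hψ1', mul_one]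
      exact hN3
    · obtain ⟨N, hN1, hN2, hN3⟩ := assemble_main p χ ψ j l cj cl m hχ hb hψ1 hψm1
        (by rw [hj2]; exact (T_two_mul hp2 cj).trans (hpow cj))
        (by rw [hl2]; exact (T_two_mul hp2 cl).trans (hpow cl)) (by omega)
        (Or.inr ⟨hodd, hψ1'⟩)
      exact ⟨N, hN1, hN2, Or.inl hN3⟩

/-- the bound for a self-reciprocal polynomial of odd degree with constant coefficient `-1`, in
odd characteristic -/
theorem odd_bound (p : ℕ) [Fact p.Prime] [CharP F p] (hp3 : 3 ≤ p) (χ : F[X]) (m : ℕ)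
    (hm : 3 ≤ m) (hχm : χ.Monic) (hdeg : χ.natDegree = 2 * m + 1) (hrd : rd χ = χ)
    (h0 : χ.coeff 0 = -1) :
    ∃ N, 1 ≤ N ∧ (Fintype.card F - 1) * N ≤ Fintype.card F ^ (m + 1) ∧
      (χ ∣ X ^ N - 1 ∨ χ ∣ X ^ N + 1) := by
  obtain ⟨hp2, hpq, hq2⟩ := card_facts (F := F) p
  have h2 : (2 : F) ≠ 0 := by
    intro h
    have h3 : ((2 : ℕ) : F) = 0 := by exact_mod_cast h
    rw [CharP.cast_eq_zero_iff F p] at h3
    have := Nat.le_of_dvd (by omega) h3
    omega
  have h0' : χ.coeff 0 ≠ 0 := by rw [h0]; exact neg_ne_zero.mpr one_ne_zero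
  obtain ⟨j, l, ψ, hχ, hψm, hψ0, hψrd, hψ1, hψm1, h2l⟩ := exists_decomp hχm h0' hrd
  have hb := bounded_of_selfdual p ψ.natDegree ψ le_rfl hψm hψ0 hψrd hψ1 hψm1
  have heven := even_of_bounded hb
  have hdeg' : j + l + ψ.natDegree = 2 * m + 1 := by
    rw [← hdeg, hχ, natDegree_decomp j l hψm]
  have hψc : ψ.coeff 0 = 1 := coeff_zero_eq_one_of_rd hψrd hψ1
  have hsign : (-1 : F) ^ j = -1 := by
    have := eval_zero_decomp j l ψ
    rw [← hχ, h0, hψc, mul_one] at this
    exact this.symm
  have hpow : ∀ c : ℕ, p ^ c ≤ Fintype.card F ^ c := fun c => Nat.pow_le_pow_left hpq c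
  have hne : (-1 : F) ≠ 1 := by
    intro h
    apply h2
    have : (1 : F) + 1 = 0 := by
      nth_rewrite 1 [← h]
      exact neg_add_cancel 1
    rw [← one_add_one_eq_two]
    exact this
  have hjodd : Odd j := (neg_one_pow_eq_neg_one_iff_odd hne).mp hsign
  have hleven : Even l := by
    obtain ⟨c, hc⟩ := heven
    obtain ⟨c', hc'⟩ := hjodd
    exact ⟨m - c - c', by omega⟩
  obtain ⟨cj, hcj⟩ := hjodd
  obtain ⟨cl, hcl⟩ := hleven
  have hl2 : l = 2 * cl := by omega
  have hodd := odd_card_of_two_ne_zero h2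
  by_cases hψ1' : ψ = 1
  · have hdψ : ψ.natDegree = 0 := by rw [hψ1']; exact natDegree_one
    obtain ⟨N, hN1, hN2, hN3⟩ := assemble_pm (F := F) p j l m (by omega)
      (by
        intro hl0
        have : j = 2 * m + 1 := by omega
        rw [this]
        exact (T_two_mul_add_one hp3 m).trans (hpow m))
      (by
        intro hj0
        omega)
      (by
        intro hj hl
        have h3 : max j l ≤ 2 * m := by
          apply max_le <;> omega
        exact ((T_mono hp2 h3).trans (T_two_mul_of_three_le hp3 m hm)).trans (hpow (m - 1)))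
    refine ⟨N, hN1, hN2, ?_⟩
    rw [hχ, hψ1', mul_one]
    exact hN3
  · obtain ⟨N, hN1, hN2, hN3⟩ := assemble_main p χ ψ j l cj cl m hχ hb hψ1 hψm1
      (by rw [hcj]; exact (T_two_mul_add_one hp3 cj).trans (hpow cj))
      (by rw [hl2]; exact (T_two_mul hp2 cl).trans (hpow cl)) (by omega)
      (Or.inr ⟨hodd, hψ1'⟩)
    exact ⟨N, hN1, hN2, Or.inl hN3⟩

end Cfsg.Agent.Lib.Helper14.ElemOrd
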