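import Mathlib
import Cfsg.Agent.Lib.Helper14.GL2Count

/-!
# Characters of `GL₂(F)` without unipotent-fixed vectors vanish on regular split elements
-/

set_option autoImplicit false

namespace Cfsg.Agent.Lib.Helper14

open Matrix Cfsg.Agent.Lib.Helper2

variable {F : Type*} [Field F]

theorem uel_mul (x y : F) : uel x * uel y = uel (x + y) := by
  apply Units.ext
  show (!![1, x; 0, 1] : Matrix (Fin 2) (Fin 2) F) * !![1, y; 0, 1] = !![1, x + y; 0, 1]
  rw [Matrix.mul_fin_two]
  apply mat2_mk_eq' <;> ring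

/-- A regular diagonal element times a unipotent element is conjugate to the diagonal element. -/
theorem isConj_mul_uel (g : GL (Fin 2) F) (h01 : (g : Matrix (Fin 2) (Fin 2) F) 0 1 = 0)
    (h10 : (g : Matrix (Fin 2) (Fin 2) F) 1 0 = 0)
    (hne : (g : Matrix (Fin 2) (Fin 2) F) 0 0 ≠ (g : Matrix (Fin 2) (Fin 2) F) 1 1) (c : F) :
    IsConj (g * uel c) g := by
  have hg : (g : Matrix (Fin 2) (Fin 2) F) =
      !![(g : Matrix (Fin 2) (Fin 2) F) 0 0, 0; 0, (g : Matrix (Fin 2) (Fin 2) F) 1 1] := by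
    apply mat2_ext <;> simp [h01, h10]
  have hprod : ((g * uel c : GL (Fin 2) F) : Matrix (Fin 2) (Fin 2) F) =
      !![(g : Matrix (Fin 2) (Fin 2) F) 0 0, (g : Matrix (Fin 2) (Fin 2) F) 0 0 * c; 0,
        (g : Matrix (Fin 2) (Fin 2) F) 1 1] := by
    show (g : Matrix (Fin 2) (Fin 2) F) * !![1, c; 0, 1] = _
    conv_lhs => rw [hg]
    rw [Matrix.mul_fin_two]
    apply mat2_mk_eq' <;> ring
  apply isConj_of_trace_det
  · rw [hprod]
    rintro ⟨-, -, h3⟩
    exact hne (by simpa using h3)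
  · rintro ⟨-, -, h3⟩
    exact hne h3
  · rw [hprod, Matrix.trace_fin_two, Matrix.trace_fin_two]
    simp
  · rw [hprod, Matrix.det_fin_two, Matrix.det_fin_two, h01, h10]
    simp

/-- If the values of a character on the unipotent radical sum to zero, then the character
vanishes at the regular diagonal elements. -/
theorem char_eq_zero_of_sum_uel_eq_zero [Fintype F] {V : Type*} [AddCommGroup V] [Module ℂ V]
    [FiniteDimensional ℂ V] (ρ : Representation ℂ (GL (Fin 2) F) V)
    (h0 : ∑ c : F, ρ.character (uel c) = 0) (g : GL (Fin 2) F)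
    (h01 : (g : Matrix (Fin 2) (Fin 2) F) 0 1 = 0) (h10 : (g : Matrix (Fin 2) (Fin 2) F) 1 0 = 0)
    (hne : (g : Matrix (Fin 2) (Fin 2) F) 0 0 ≠ (g : Matrix (Fin 2) (Fin 2) F) 1 1) :
    ρ.character g = 0 := by
  obtain ⟨P, hP⟩ : ∃ P : V →ₗ[ℂ] V, P = ∑ c : F, ρ (uel c) := ⟨_, rfl⟩
  have hq0 : (Fintype.card F : ℂ) ≠ 0 := by
    have : 0 < Fintype.card F := Fintype.card_pos
    exact_mod_cast this.ne'
  have hP1 : ∀ y : F, ρ (uel y) * P = P := by
    intro y
    rw [hP, Finset.mul_sum]
    exact Fintype.sum_equiv (Equiv.addLeft y) _ _ (fun c => by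
      rw [← map_mul, uel_mul]; rfl)
  have hP2 : P * P = (Fintype.card F : ℂ) • P := by
    nth_rewrite 1 [hP]
    rw [Finset.sum_mul]
    simp only [hP1]
    rw [Finset.sum_const, Finset.card_univ, ← Nat.cast_smul_eq_nsmul ℂ]
  have htr : LinearMap.trace ℂ V P = 0 := by
    rw [hP, map_sum]
    exact h0
  have hE : IsIdempotentElem ((Fintype.card F : ℂ)⁻¹ • P) := by
    show ((Fintype.card F : ℂ)⁻¹ • P) * ((Fintype.card F : ℂ)⁻¹ • P) = _
    rw [smul_mul_smul_comm, hP2, smul_smul, mul_assoc, inv_mul_cancel₀ hq0, mul_one]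
  have hE0 : (Fintype.card F : ℂ)⁻¹ • P = 0 := by
    apply LinearMap.IsIdempotentElem.eq_zero_of_trace_eq_zero hE
    rw [map_smul, htr, smul_zero]
  have hP0 : P = 0 := by
    rcases smul_eq_zero.mp hE0 with h | h
    · exact absurd (inv_eq_zero.mp h) hq0
    · exact h
  have hsum : ∑ c : F, ρ.character (g * uel c) = 0 := by
    have : ∑ c : F, ρ.character (g * uel c) = LinearMap.trace ℂ V (ρ g * P) := by
      rw [hP, Finset.mul_sum, map_sum]
      apply Finset.sum_congr rfl
      intro c _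
      rw [← map_mul]
      rfl
    rw [this, hP0, mul_zero, map_zero]
  have hconst : ∀ c : F, ρ.character (g * uel c) = ρ.character g := by
    intro c
    obtain ⟨x, hx⟩ := isConj_iff.mp (isConj_mul_uel g h01 h10 hne c)
    have := Representation.char_conj ρ (g * uel c) x
    rw [hx] at this
    exact this.symm
  simp only [hconst, Finset.sum_const, Finset.card_univ, nsmul_eq_mul] at hsum
  rcases mul_eq_zero.mp hsum with h | h
  · exact absurd h hq0
  · exact h

end Cfsg.Agent.Lib.Helper14
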