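import Mathlib

set_option autoImplicit false

/-! # Hilbert 90 and norm surjectivity in finite commutative rings with involution -/

namespace Cfsg.Agent.Lib.Helper14.GUConj

/-- in a finite commutative ring some positive power of an element is idempotent -/
theorem exists_idem_pow {S : Type*} [CommRing S] [Finite S] (x : S) :
    ∃ N : ℕ, 0 < N ∧ x ^ N * x ^ N = x ^ N := by
  obtain ⟨i, j, hij, h⟩ := Finite.exists_ne_map_eq_of_infinite (fun k : ℕ => x ^ (k + 1))
  wlog hlt : i < j generalizing i j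
  · exact this j i hij.symm h.symm (lt_of_le_of_ne (not_lt.mp hlt) hij.symm)
  have h' : x ^ (j + 1) = x ^ (i + 1) := h.symm
  obtain ⟨d, hd0, rfl⟩ : ∃ d, 0 < d ∧ j = i + d := ⟨j - i, by omega, by omega⟩
  have h1 : x ^ (i + 1 + d) = x ^ (i + 1) := by
    rw [show i + 1 + d = i + d + 1 by ring]
    exact h'
  have h2 : ∀ m, i + 1 ≤ m → x ^ (m + d) = x ^ m := by
    intro m hm
    obtain ⟨r, rfl⟩ := Nat.exists_eq_add_of_le hm
    rw [show i + 1 + r + d = (i + 1 + d) + r by ring, pow_add, h1, ← pow_add]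
  have h3 : ∀ k m, i + 1 ≤ m → x ^ (m + k * d) = x ^ m := by
    intro k
    induction k with
    | zero => intro m _; simp
    | succ k ih =>
      intro m hm
      rw [show m + (k + 1) * d = (m + k * d) + d by ring, h2 _ (by omega), ih m hm]
  refine ⟨(i + 1) * d, Nat.mul_pos (by omega) hd0, ?_⟩
  rw [← pow_add]
  exact h3 (i + 1) ((i + 1) * d) (Nat.le_mul_of_pos_right (i + 1) hd0)

/-- Hilbert 90 for a finite commutative ring with an involution which is nontrivial on all
residue fields -/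
theorem hilbert90_ring {S : Type*} [CommRing S] [Finite S] (τ : S ≃+* S)
    (hττ : ∀ x, τ (τ x) = x) (e : S) (he : IsUnit (e - τ e)) (s : S) (hs : s * τ s = 1) :
    ∃ z : S, IsUnit z ∧ z = s * τ z := by
  have key : ∀ a : S, a + s * τ a = s * τ (a + s * τ a) := by
    intro a
    rw [map_add, map_mul, hττ, mul_add, ← mul_assoc, hs, one_mul, add_comm]
  set z₁ := 1 + s with hz₁
  set z₂ := e + s * τ e with hz₂
  set n₁ := z₁ * τ z₁ with hn₁
  obtain ⟨N, hN, hidem⟩ := exists_idem_pow n₁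
  set ε := n₁ ^ N with hε
  have hτn : τ n₁ = n₁ := by rw [hn₁, map_mul, hττ, mul_comm]
  have hτε : τ ε = ε := by rw [hε, map_pow, hτn]
  have hτz₁ : τ z₁ = τ s * z₁ := by
    rw [hz₁, map_add, map_one, mul_add, mul_one, mul_comm (τ s) s, hs, add_comm]
  have hzz : z₁ * z₁ = s * n₁ := by
    rw [hn₁, hτz₁]
    calc z₁ * z₁ = (s * τ s) * (z₁ * z₁) := by rw [hs, one_mul]
      _ = s * (z₁ * (τ s * z₁)) := by ring
  have hε1 : ∃ y, z₁ * y = ε := by
    obtain ⟨M, rfl⟩ : ∃ M, N = M + 1 := ⟨N - 1, by omega⟩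
    refine ⟨τ z₁ * n₁ ^ M, ?_⟩
    rw [← mul_assoc, ← hn₁, hε, pow_succ']
  have hε2 : (z₁ * z₁) ^ N * (1 - ε) = 0 := by
    rw [hzz, mul_pow, ← hε, mul_assoc, mul_sub, mul_one, hidem, sub_self, mul_zero]
  set a := ε + (1 - ε) * e with ha
  set z := a + s * τ a with hz
  have hzeq : z = ε * z₁ + (1 - ε) * z₂ := by
    rw [hz, ha, map_add, map_mul, map_sub, map_one, hτε, hz₁, hz₂]
    ring
  refine ⟨z, ?_, ?_⟩
  · rw [isUnit_iff_mem_nonZeroDivisors_of_finite, mem_nonZeroDivisors_iff_right]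
    intro x hx
    have h1 : ε * x = 0 := by
      have e1 : x * z * ε = ε * x * z₁ := by
        rw [hzeq]
        calc x * (ε * z₁ + (1 - ε) * z₂) * ε
            = (ε * ε) * x * z₁ + (ε - ε * ε) * x * z₂ := by ring
          _ = ε * x * z₁ := by rw [hidem, sub_self, zero_mul, zero_mul, add_zero]
      rw [hx, zero_mul] at e1
      obtain ⟨y, hy⟩ := hε1
      calc ε * x = (ε * ε) * x := by rw [hidem]
        _ = ε * x * (z₁ * y) := by rw [hy]; ring
        _ = (ε * x * z₁) * y := by ring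
        _ = 0 := by rw [← e1, zero_mul]
    have h2 : z₂ * x = 0 := by
      have e1 : x * z = z₂ * x + (z₁ - z₂) * (ε * x) := by rw [hzeq]; ring
      rw [hx, h1, mul_zero, add_zero] at e1
      exact e1.symm
    have h3 : (z₁ * z₁) ^ N * x = 0 := by
      calc (z₁ * z₁) ^ N * x = ((z₁ * z₁) ^ N * (1 - ε)) * x + (z₁ * z₁) ^ N * (ε * x) := by ring
        _ = 0 := by rw [hε2, h1, zero_mul, mul_zero, add_zero]
    obtain ⟨u, hu⟩ := he
    have hz₂' : z₂ = (u : S) + τ e * z₁ := by
      rw [hu, hz₂, hz₁]; ring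
    set k := -(↑u⁻¹ : S) * τ e with hk
    have h4 : x = k * z₁ * x := by
      have e1 : (u : S) * x = -(τ e * z₁ * x) := by
        have : ((u : S) + τ e * z₁) * x = 0 := by rw [← hz₂', h2]
        rw [add_mul] at this
        exact eq_neg_of_add_eq_zero_left this
      calc x = (↑u⁻¹ : S) * ((u : S) * x) := by rw [← mul_assoc, Units.inv_mul, one_mul]
        _ = k * z₁ * x := by rw [e1, hk]; ring
    have h5 : ∀ m : ℕ, x = (k * z₁) ^ m * x := by
      intro m
      induction m with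
      | zero => rw [pow_zero, one_mul]
      | succ m ih =>
        calc x = (k * z₁) ^ m * x := ih
          _ = (k * z₁) ^ m * (k * z₁ * x) := by rw [← h4]
          _ = (k * z₁) ^ (m + 1) * x := by rw [pow_succ]; ring
    rw [h5 (2 * N)]
    calc (k * z₁) ^ (2 * N) * x = k ^ (2 * N) * ((z₁ * z₁) ^ N * x) := by
          rw [mul_pow, ← pow_two, ← pow_mul]; ring
      _ = 0 := by rw [h3, mul_zero]
  · exact key a

/-- surjectivity of the norm onto the fixed units -/
theorem norm_surj_ring {S : Type*} [CommRing S] [Finite S] (τ : S ≃+* S)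
    (hττ : ∀ x, τ (τ x) = x) (e : S) (he : IsUnit (e - τ e)) (c : Sˣ) (hc : τ (c : S) = c) :
    ∃ w : Sˣ, (w : S) * τ w = c := by
  let T : Sˣ →* Sˣ := Units.map (τ : S →* S)
  have hT : ∀ x : Sˣ, ((T x : Sˣ) : S) = τ (x : S) := fun x => rfl
  have hTT : ∀ x : Sˣ, T (T x) = x := fun x => Units.ext (by rw [hT, hT, hττ])
  let Nm : Sˣ →* Sˣ := MonoidHom.id Sˣ * T
  let Dv : Sˣ →* Sˣ := MonoidHom.id Sˣ / T
  have hNm : ∀ x, Nm x = x * T x := fun x => rfl
  have hDv : ∀ x, Dv x = x / T x := fun x => rfl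
  have hker : Nm.ker = Dv.range := by
    ext s
    rw [MonoidHom.mem_ker, MonoidHom.mem_range]
    constructor
    · intro h
      have hs : (s : S) * τ (s : S) = 1 := by
        have := congrArg (fun x : Sˣ => (x : S)) h
        simpa [hNm, hT] using this
      obtain ⟨z, hzu, hz⟩ := hilbert90_ring τ hττ e he (s : S) hs
      obtain ⟨z', rfl⟩ := hzu
      refine ⟨z', ?_⟩
      rw [hDv, div_eq_iff_eq_mul]
      apply Units.ext
      rw [Units.val_mul, hT]
      exact hz
    · rintro ⟨x, rfl⟩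
      rw [hNm, hDv, map_div, hTT]
      rw [div_mul_div_comm, mul_comm, div_self']
  have hle : Nm.range ≤ Dv.ker := by
    rintro _ ⟨x, rfl⟩
    rw [MonoidHom.mem_ker, hDv, hNm, map_mul, hTT, mul_comm, div_self']
  have h1 := Subgroup.card_mul_index Nm.ker
  have h2 := Subgroup.card_mul_index Dv.ker
  rw [Subgroup.index_ker] at h1 h2
  rw [hker] at h1
  have hpos : 0 < Nat.card Dv.range := Nat.card_pos
  have h3 : Nat.card Dv.ker = Nat.card Nm.range := by
    have : Nat.card Dv.range * Nat.card Nm.range = Nat.card Dv.range * Nat.card Dv.ker := by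
      rw [h1, mul_comm, h2]
    exact (Nat.eq_of_mul_eq_mul_left hpos this).symm
  have h4 : Nm.range = Dv.ker := Subgroup.eq_of_le_of_card_ge hle (le_of_eq h3)
  have hcm : c ∈ Dv.ker := by
    rw [MonoidHom.mem_ker, hDv, div_eq_one]
    apply Units.ext
    rw [hT, hc]
  rw [← h4] at hcm
  obtain ⟨w, hw⟩ := hcm
  refine ⟨w, ?_⟩
  have := congrArg (fun x : Sˣ => (x : S)) hw
  simpa [hNm, hT] using this

end Cfsg.Agent.Lib.Helper14.GUConj
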