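import Cfsg.Agent.Lib.Helper14.HSemi10
import Cfsg.Agent.Lib.Helper14.HCount1
import Cfsg.Agent.Lib.Helper14.SemiExist

set_option autoImplicit false

/-! # Counting semisimple classes of unitary groups: building blocks -/

namespace Cfsg.Agent.Lib.Helper14.HCount

open Matrix Cfsg Cfsg.Agent.Lib.Helper6 Cfsg.Agent.S0779 Module Polynomial
open Cfsg.Agent.Lib.Helper14.HSemi (sigQ sigQ_apply)

variable {F : Type*} [Field F] [Fintype F] {q : ℕ}

/-- an isometry of a nondegenerate hermitian space gives a matrix preserving the standard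
hermitian form, with the same characteristic polynomial -/
theorem exists_std_matrix (hF : Fintype.card F = q ^ 2) {U : Type*} [AddCommGroup U] [Module F U]
    [FiniteDimensional F U] (B : U →ₛₗ[conjQ hF] U →ₗ[F] F) (hS : B.IsSymm)
    (hN : ∀ u, (∀ v, B u v = 0) → u = 0) (k : ℕ) (hk : finrank F U = k) (T : U →ₗ[F] U)
    (hT : ∀ x y, B (T x) (T y) = B x y) :
    ∃ M : Matrix (Fin k) (Fin k) F,
      (∀ u v, hermForm k F q (M *ᵥ u) (M *ᵥ v) = hermForm k F q u v) ∧
        M.charpoly = T.charpoly := by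
  classical
  obtain ⟨φ, hφ⟩ := exists_std_herm hF B hS hN k hk
  set T' : (Fin k → F) →ₗ[F] (Fin k → F) := φ.conj T with hT'
  set M := LinearMap.toMatrix' T' with hM
  have hMv : ∀ x, M *ᵥ x = φ (T (φ.symm x)) := by
    intro x
    rw [hM, LinearMap.toMatrix'_mulVec, hT', LinearEquiv.conj_apply]
    rfl
  refine ⟨M, ?_, ?_⟩
  · intro x y
    rw [hMv, hMv, hφ, hT, ← hφ, LinearEquiv.apply_symm_apply, LinearEquiv.apply_symm_apply]
  · rw [← Matrix.charpoly_toLin', hM, Matrix.toLin'_toMatrix', hT', LinearEquiv.charpoly_conj]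

/-- orthogonal direct sums -/
theorem gu_sum (hF : Fintype.card F = q ^ 2) {a b : ℕ} (M₁ : Matrix (Fin a) (Fin a) F)
    (M₂ : Matrix (Fin b) (Fin b) F)
    (h₁ : ∀ u v, hermForm a F q (M₁ *ᵥ u) (M₁ *ᵥ v) = hermForm a F q u v)
    (h₂ : ∀ u v, hermForm b F q (M₂ *ᵥ u) (M₂ *ᵥ v) = hermForm b F q u v) :
    ∃ M : Matrix (Fin (a + b)) (Fin (a + b)) F,
      (∀ u v, hermForm (a + b) F q (M *ᵥ u) (M *ᵥ v) = hermForm (a + b) F q u v) ∧
        M.charpoly = M₁.charpoly * M₂.charpoly := by
  classical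
  let B : ((Fin a → F) × (Fin b → F)) →ₛₗ[conjQ hF] ((Fin a → F) × (Fin b → F)) →ₗ[F] F :=
    LinearMap.mk₂'ₛₗ (conjQ hF) (RingHom.id F)
      (fun x y => hermForm a F q y.1 x.1 + hermForm b F q y.2 x.2)
      (fun x x' y => by
        simp only [Prod.fst_add, Prod.snd_add, herm_add_right hF]; ring)
      (fun c x y => by
        simp only [Prod.smul_fst, Prod.smul_snd, herm_smul_right, smul_eq_mul, conjQ_apply]; ring)
      (fun x y y' => by
        simp only [Prod.fst_add, Prod.snd_add, herm_add_left]; ring)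
      (fun c x y => by
        simp only [Prod.smul_fst, Prod.smul_snd, herm_smul_left, smul_eq_mul, RingHom.id_apply]
        ring)
  have hB : ∀ x y, B x y = hermForm a F q y.1 x.1 + hermForm b F q y.2 x.2 := fun _ _ => rfl
  have hS : B.IsSymm := ⟨fun x y => by
    rw [hB, hB, map_add, conjQ_apply, conjQ_apply, herm_conj hF, herm_conj hF]⟩
  have hN : ∀ u, (∀ v, B u v = 0) → u = 0 := by
    intro u hu
    apply Prod.ext
    · apply herm_nondeg hF
      intro y
      apply herm_swap_zero hF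
      have := hu (y, 0)
      rwa [hB, herm_zero_left, add_zero] at this
    · apply herm_nondeg hF
      intro y
      apply herm_swap_zero hF
      have := hu (0, y)
      rwa [hB, herm_zero_left, zero_add] at this
  have hk : finrank F ((Fin a → F) × (Fin b → F)) = a + b := by
    rw [Module.finrank_prod, Module.finrank_fin_fun, Module.finrank_fin_fun]
  obtain ⟨M, hM1, hM2⟩ := exists_std_matrix hF B hS hN (a + b) hk
    ((Matrix.toLin' M₁).prodMap (Matrix.toLin' M₂)) (by
      intro x y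
      rw [hB, hB]
      simp only [LinearMap.prodMap_apply, Matrix.toLin'_apply]
      rw [h₁, h₂])
  refine ⟨M, hM1, ?_⟩
  rw [hM2, LinearMap.charpoly_prodMap, Matrix.charpoly_toLin', Matrix.charpoly_toLin']

/-- the standard hermitian form in matrix notation -/
theorem herm_eq_dot (hF : Fintype.card F = q ^ 2) {d : ℕ} (u v : Fin d → F) :
    hermForm d F q u v = u ⬝ᵥ (fun i => sigQ hF (v i)) := rfl

theorem herm_mul_mul (hF : Fintype.card F = q ^ 2) {d : ℕ} (A A' : Matrix (Fin d) (Fin d) F)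
    (hAA' : Aᵀ * A'.map (sigQ hF) = 1) (u v : Fin d → F) :
    hermForm d F q (A *ᵥ u) (A' *ᵥ v) = hermForm d F q u v := by
  rw [herm_eq_dot hF, herm_eq_dot hF]
  have h1 : (fun i => sigQ hF ((A' *ᵥ v) i)) = (A'.map (sigQ hF)) *ᵥ (fun i => sigQ hF (v i)) := by
    funext i
    simp only [Matrix.mulVec, dotProduct, map_sum, map_mul, Matrix.map_apply]
  rw [h1, Matrix.dotProduct_mulVec, Matrix.vecMul_mulVec, ← Matrix.dotProduct_mulVec, hAA',
    Matrix.one_mulVec]

/-- hyperbolic blocks -/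
theorem gu_hyp (hF : Fintype.card F = q ^ 2) {d : ℕ} (A A' : Matrix (Fin d) (Fin d) F)
    (hAA' : Aᵀ * A'.map (sigQ hF) = 1) :
    ∃ M : Matrix (Fin (d + d)) (Fin (d + d)) F,
      (∀ u v, hermForm (d + d) F q (M *ᵥ u) (M *ᵥ v) = hermForm (d + d) F q u v) ∧
        M.charpoly = A.charpoly * A'.charpoly := by
  classical
  let B : ((Fin d → F) × (Fin d → F)) →ₛₗ[conjQ hF] ((Fin d → F) × (Fin d → F)) →ₗ[F] F :=
    LinearMap.mk₂'ₛₗ (conjQ hF) (RingHom.id F)
      (fun x y => hermForm d F q y.1 x.2 + hermForm d F q y.2 x.1)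
      (fun x x' y => by
        simp only [Prod.fst_add, Prod.snd_add, herm_add_right hF]; ring)
      (fun c x y => by
        simp only [Prod.smul_fst, Prod.smul_snd, herm_smul_right, smul_eq_mul, conjQ_apply]; ring)
      (fun x y y' => by
        simp only [Prod.fst_add, Prod.snd_add, herm_add_left]; ring)
      (fun c x y => by
        simp only [Prod.smul_fst, Prod.smul_snd, herm_smul_left, smul_eq_mul, RingHom.id_apply]
        ring)
  have hB : ∀ x y, B x y = hermForm d F q y.1 x.2 + hermForm d F q y.2 x.1 := fun _ _ => rfl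
  have hS : B.IsSymm := ⟨fun x y => by
    rw [hB, hB, map_add, conjQ_apply, conjQ_apply, herm_conj hF, herm_conj hF, add_comm]⟩
  have hN : ∀ u, (∀ v, B u v = 0) → u = 0 := by
    intro u hu
    apply Prod.ext
    · apply herm_nondeg hF
      intro y
      apply herm_swap_zero hF
      have := hu (0, y)
      rwa [hB, herm_zero_left, zero_add] at this
    · apply herm_nondeg hF
      intro y
      apply herm_swap_zero hF
      have := hu (y, 0)
      rwa [hB, herm_zero_left, add_zero] at this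
  have hk : finrank F ((Fin d → F) × (Fin d → F)) = d + d := by
    rw [Module.finrank_prod, Module.finrank_fin_fun]
  obtain ⟨M, hM1, hM2⟩ := exists_std_matrix hF B hS hN (d + d) hk
    ((Matrix.toLin' A).prodMap (Matrix.toLin' A')) (by
      intro x y
      rw [hB, hB]
      simp only [LinearMap.prodMap_apply, Matrix.toLin'_apply]
      rw [herm_mul_mul hF A A' hAA', ← herm_conj hF (A *ᵥ x.1) (A' *ᵥ y.2),
        herm_mul_mul hF A A' hAA', herm_conj hF])
  refine ⟨M, hM1, ?_⟩
  rw [hM2, LinearMap.charpoly_prodMap, Matrix.charpoly_toLin', Matrix.charpoly_toLin']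

theorem sigQ_sigQ (hF : Fintype.card F = q ^ 2) (a : F) : sigQ hF (sigQ hF a) = a :=
  conjQ_conjQ hF a

theorem map_map_sigQ (hF : Fintype.card F = q ^ 2) {d : ℕ} (A : Matrix (Fin d) (Fin d) F) :
    (A.map (sigQ hF)).map (sigQ hF) = A := by
  ext i j
  simp only [Matrix.map_apply, sigQ_sigQ]

/-- the characteristic polynomial of the inverse conjugate transpose -/
theorem charpoly_inv_conj_transpose (hF : Fintype.card F = q ^ 2) {d : ℕ}
    (A : Matrix (Fin d) (Fin d) F) (hA : IsUnit A.det) :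
    (((A.map (sigQ hF))ᵀ)⁻¹).charpoly = dual (sigQ hF) A.charpoly := by
  have hmap : A.map (sigQ hF) = (sigQ hF : F →+* F).mapMatrix A := rfl
  have hdet : ((A.map (sigQ hF))ᵀ).det = sigQ hF A.det := by
    rw [Matrix.det_transpose, hmap, ← RingHom.map_det]
    rfl
  have hN : IsUnit ((A.map (sigQ hF))ᵀ) := by
    rw [Matrix.isUnit_iff_isUnit_det, hdet]
    exact hA.map (sigQ hF)
  have hcp : (A.map (sigQ hF)).charpoly = A.charpoly.map (sigQ hF : F →+* F) :=
    Matrix.charpoly_map A (sigQ hF : F →+* F)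
  rw [Matrix.charpoly_inv _ hN, ← Matrix.reverse_charpoly, Matrix.charpoly_transpose, hcp,
    hdet, Ring.inverse_eq_inv', Matrix.det_eq_sign_charpoly_coeff, Fintype.card_fin]
  unfold dual
  set ε : F := (-1) ^ d with hε
  have hεε : ε * ε = 1 := by
    rw [hε, ← mul_pow, neg_one_mul, neg_neg, one_pow]
  have hε1 : (-1 : F[X]) ^ d = C ε := by
    rw [hε, map_pow, map_neg, map_one]
  have hσε : sigQ hF ε = ε := by
    rw [hε, map_pow, map_neg, map_one]
  rw [hε1, ← C_mul, map_mul (sigQ hF), hσε, mul_inv, ← mul_assoc]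
  have : ε * ε⁻¹ = 1 := by
    apply mul_inv_cancel₀
    intro h0
    rw [h0, mul_zero] at hεε
    exact zero_ne_one hεε
  rw [this, one_mul]

/-- the hyperbolic block of a monic polynomial -/
theorem gu_hyp_poly (hF : Fintype.card F = q ^ 2) (p : ℕ) [Fact p.Prime] [CharP F p] (f : F[X])
    (hm : f.Monic) (h0 : f.coeff 0 ≠ 0) :
    ∃ M : Matrix (Fin (f.natDegree + f.natDegree)) (Fin (f.natDegree + f.natDegree)) F,
      (∀ u v, hermForm (f.natDegree + f.natDegree) F q (M *ᵥ u) (M *ᵥ v) =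
        hermForm (f.natDegree + f.natDegree) F q u v) ∧
        M.charpoly = f * dual (sigQ hF) f := by
  obtain ⟨A, k, -, -, hA⟩ := exists_matrix_charpoly p f.natDegree f hm rfl h0
  have hdet : IsUnit A.det := by
    rw [Matrix.det_eq_sign_charpoly_coeff, hA, isUnit_iff_ne_zero]
    exact mul_ne_zero (pow_ne_zero _ (neg_ne_zero.mpr one_ne_zero)) h0
  set N := (A.map (sigQ hF))ᵀ with hN
  have hNu : IsUnit N.det := by
    rw [hN, Matrix.det_transpose]
    have hmap : A.map (sigQ hF) = (sigQ hF : F →+* F).mapMatrix A := rfl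
    rw [hmap, ← RingHom.map_det]
    exact hdet.map (sigQ hF : F →+* F)
  have hAA' : Aᵀ * (N⁻¹).map (sigQ hF) = 1 := by
    have h1 : N.map (sigQ hF) = Aᵀ := by
      rw [hN, Matrix.transpose_map, map_map_sigQ]
    have hm1 : ∀ X : Matrix (Fin f.natDegree) (Fin f.natDegree) F,
        X.map (sigQ hF) = (sigQ hF : F →+* F).mapMatrix X := fun _ => rfl
    rw [← h1, hm1, hm1, ← map_mul, Matrix.mul_nonsing_inv _ hNu, map_one]
  obtain ⟨M, hM1, hM2⟩ := gu_hyp hF A N⁻¹ hAA'
  refine ⟨M, hM1, ?_⟩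
  rw [hM2, hA, hN, charpoly_inv_conj_transpose hF A hdet, hA]

end Cfsg.Agent.Lib.Helper14.HCount
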