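import Cfsg.Agent.Lib.Helper14.GUConj1
import Cfsg.Agent.Lib.Helper14.HCount2

set_option autoImplicit false
set_option linter.unusedSectionVars false

/-! # Conjugacy in the general unitary group: the conjugate transpose and polynomials -/

namespace Cfsg.Agent.Lib.Helper14.GUConj

open Matrix Cfsg Cfsg.Agent.Lib.Helper6 Cfsg.Agent.S0779 Module Polynomial
open Cfsg.Agent.Lib.Helper14.HSemi (sigQ sigQ_apply)
open Cfsg.Agent.Lib.Helper14.HCount (sigQ_sigQ herm_mul_mul)

variable {F : Type*} [Field F] [Fintype F] {q : ℕ} (hF : Fintype.card F = q ^ 2) {n : ℕ}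

/-- the conjugate transpose -/
noncomputable def sharp (M : Matrix (Fin n) (Fin n) F) : Matrix (Fin n) (Fin n) F :=
  ((sigQ hF : F →+* F).mapMatrix M)ᵀ

theorem sharp_apply (M : Matrix (Fin n) (Fin n) F) (i j : Fin n) :
    sharp hF M i j = sigQ hF (M j i) := rfl

theorem sharp_eq (M : Matrix (Fin n) (Fin n) F) : sharp hF M = (M.map (sigQ hF))ᵀ := rfl

theorem sharp_mul (M N : Matrix (Fin n) (Fin n) F) :
    sharp hF (M * N) = sharp hF N * sharp hF M := by
  unfold sharp
  rw [map_mul, Matrix.transpose_mul]

theorem sharp_sharp (M : Matrix (Fin n) (Fin n) F) : sharp hF (sharp hF M) = M := by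
  ext i j
  rw [sharp_apply, sharp_apply, sigQ_sigQ]

theorem sharp_one : sharp hF (1 : Matrix (Fin n) (Fin n) F) = 1 := by
  unfold sharp
  rw [map_one, Matrix.transpose_one]

theorem sharp_zero : sharp hF (0 : Matrix (Fin n) (Fin n) F) = 0 := by
  unfold sharp
  rw [map_zero, Matrix.transpose_zero]

theorem sharp_add (M N : Matrix (Fin n) (Fin n) F) :
    sharp hF (M + N) = sharp hF M + sharp hF N := by
  unfold sharp
  rw [map_add, Matrix.transpose_add]

theorem sharp_smul (a : F) (M : Matrix (Fin n) (Fin n) F) :
    sharp hF (a • M) = sigQ hF a • sharp hF M := by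
  ext i j
  simp only [sharp_apply, Matrix.smul_apply, smul_eq_mul, map_mul]

theorem sharp_pow (M : Matrix (Fin n) (Fin n) F) (k : ℕ) :
    sharp hF (M ^ k) = sharp hF M ^ k := by
  induction k with
  | zero => rw [pow_zero, pow_zero, sharp_one]
  | succ k ih => rw [pow_succ, sharp_mul, ih, pow_succ']

theorem det_sharp (M : Matrix (Fin n) (Fin n) F) : (sharp hF M).det = sigQ hF M.det := by
  unfold sharp
  rw [Matrix.det_transpose, ← RingHom.map_det]
  rfl

theorem sharp_injective : Function.Injective (sharp hF (n := n)) := by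
  intro M N h
  rw [← sharp_sharp hF M, h, sharp_sharp]

theorem sharp_inv (M : Matrix (Fin n) (Fin n) F) (hM : IsUnit M.det) :
    sharp hF M⁻¹ = (sharp hF M)⁻¹ := by
  symm
  apply Matrix.inv_eq_right_inv
  rw [← sharp_mul, Matrix.nonsing_inv_mul _ hM, sharp_one]

/-- preservation of the hermitian form in matrix terms -/
theorem pres_iff (M : Matrix (Fin n) (Fin n) F) :
    (∀ u v, hermForm n F q (M *ᵥ u) (M *ᵥ v) = hermForm n F q u v) ↔ sharp hF M * M = 1 := by
  constructor
  · intro h
    have h1 := Cfsg.Agent.Lib.Helper14.HSemi.herm_pres_matrix hF M h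
    have h2 := congrArg Matrix.transpose h1
    rw [Matrix.transpose_mul, Matrix.transpose_transpose, Matrix.transpose_one] at h2
    exact h2
  · intro h u v
    apply herm_mul_mul hF M M
    have h2 := congrArg Matrix.transpose h
    rw [Matrix.transpose_mul, Matrix.transpose_one] at h2
    rw [← h2, sharp_eq, Matrix.transpose_transpose]

/-- the conjugate transpose of a polynomial in a matrix -/
theorem sharp_aeval (M : Matrix (Fin n) (Fin n) F) (P : F[X]) :
    sharp hF (aeval M P) = aeval (sharp hF M) (P.map (sigQ hF : F →+* F)) := by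
  induction P using Polynomial.induction_on' with
  | add p r hp hr => rw [map_add, sharp_add, hp, hr, Polynomial.map_add, map_add]
  | monomial k a =>
    rw [Polynomial.map_monomial, aeval_monomial, aeval_monomial, Algebra.algebraMap_eq_smul_one,
      Algebra.algebraMap_eq_smul_one, smul_mul_assoc, one_mul, smul_mul_assoc, one_mul, sharp_smul,
      sharp_pow]
    rfl

/-- polynomials in intertwined matrices are intertwined -/
theorem aeval_intertwine {X Y T : Matrix (Fin n) (Fin n) F} (h : X * T = T * Y) (Q : F[X]) :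
    aeval X Q * T = T * aeval Y Q := by
  have hpow : ∀ k : ℕ, X ^ k * T = T * Y ^ k := by
    intro k
    induction k with
    | zero => rw [pow_zero, pow_zero, one_mul, mul_one]
    | succ k ih => rw [pow_succ, Matrix.mul_assoc, h, ← Matrix.mul_assoc, ih, Matrix.mul_assoc,
        ← pow_succ]
  induction Q using Polynomial.induction_on' with
  | add p r hp hr => rw [map_add, map_add, add_mul, mul_add, hp, hr]
  | monomial k a =>
    simp only [aeval_monomial, Algebra.algebraMap_eq_smul_one, smul_mul_assoc, one_mul,
      Matrix.mul_smul, hpow]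

end Cfsg.Agent.Lib.Helper14.GUConj
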