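import Cfsg.Agent.Lib.Helper14.GUConj2

set_option autoImplicit false
set_option linter.unusedSectionVars false

/-! # Conjugacy in the general unitary group: hermitian square roots -/

namespace Cfsg.Agent.Lib.Helper14.GUConj

open Matrix Cfsg Cfsg.Agent.Lib.Helper6 Cfsg.Agent.S0779 Module Polynomial
open Cfsg.Agent.Lib.Helper14.HSemi (sigQ sigQ_apply)
open Cfsg.Agent.Lib.Helper14.HCount (sigQ_sigQ herm_mul_mul)

section poly

variable {K : Type*} [Field K]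

theorem finite_adjoinRoot [Finite K] (μ : K[X]) (hμ : μ ≠ 0) : Finite (AdjoinRoot μ) := by
  have : Module.Finite K (AdjoinRoot μ) := (AdjoinRoot.powerBasis hμ).finite
  exact Module.finite_of_finite K

/-- the inverse of the root -/
noncomputable def rinv (μ : K[X]) : AdjoinRoot μ :=
  AdjoinRoot.mk μ (-(C (μ.coeff 0)⁻¹ * divX μ))

theorem root_mul_rinv (μ : K[X]) (h0 : μ.coeff 0 ≠ 0) : AdjoinRoot.root μ * rinv μ = 1 := by
  unfold rinv
  rw [← AdjoinRoot.mk_X, ← map_mul, ← map_one (AdjoinRoot.mk μ), AdjoinRoot.mk_eq_mk]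
  refine ⟨-(C (μ.coeff 0)⁻¹), ?_⟩
  have h1 := Polynomial.divX_mul_X_add μ
  have h2 : C (μ.coeff 0)⁻¹ * C (μ.coeff 0) = 1 := by
    rw [← C_mul, inv_mul_cancel₀ h0, C_1]
  calc X * -(C (μ.coeff 0)⁻¹ * divX μ) - 1
      = -(C (μ.coeff 0)⁻¹ * (divX μ * X + C (μ.coeff 0))) + (C (μ.coeff 0)⁻¹ * C (μ.coeff 0) - 1) := by
        ring
    _ = μ * -(C (μ.coeff 0)⁻¹) := by rw [h1, h2, sub_self, add_zero]; ring

theorem mk_map_sigma (σ : K ≃+* K) (μ : K[X]) (y : AdjoinRoot μ) (P : K[X]) :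
    P.eval₂ ((AdjoinRoot.of μ).comp (σ : K →+* K)) y =
      aeval y (P.map (σ : K →+* K)) := by
  rw [aeval_def, AdjoinRoot.algebraMap_eq, Polynomial.eval₂_map]

/-- the involution fixing the root -/
theorem exists_tau_fix (σ : K ≃+* K) (hσσ : ∀ a, σ (σ a) = a) (μ : K[X])
    (hμσ : μ.map (σ : K →+* K) = μ) :
    ∃ τ : AdjoinRoot μ ≃+* AdjoinRoot μ, (∀ x, τ (τ x) = x) ∧
      ∀ P : K[X], τ (AdjoinRoot.mk μ P) = AdjoinRoot.mk μ (P.map (σ : K →+* K)) := by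
  have h0 : μ.eval₂ ((AdjoinRoot.of μ).comp (σ : K →+* K)) (AdjoinRoot.root μ) = 0 := by
    rw [← Polynomial.eval₂_map, hμσ]
    exact AdjoinRoot.eval₂_root μ
  let τ₀ : AdjoinRoot μ →+* AdjoinRoot μ :=
    AdjoinRoot.lift ((AdjoinRoot.of μ).comp (σ : K →+* K)) (AdjoinRoot.root μ) h0
  have hτ₀ : ∀ P : K[X], τ₀ (AdjoinRoot.mk μ P) = AdjoinRoot.mk μ (P.map (σ : K →+* K)) := by
    intro P
    show AdjoinRoot.lift _ _ h0 (AdjoinRoot.mk μ P) = _
    rw [AdjoinRoot.lift_mk, mk_map_sigma, AdjoinRoot.aeval_eq]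
  have hσ2 : ∀ x, τ₀ (τ₀ x) = x := by
    intro x
    obtain ⟨P, rfl⟩ := AdjoinRoot.mk_surjective x
    rw [hτ₀, hτ₀, Polynomial.map_map]
    have : (σ : K →+* K).comp (σ : K →+* K) = RingHom.id K := by
      ext a
      exact hσσ a
    rw [this, Polynomial.map_id]
  exact ⟨RingEquiv.ofRingHom τ₀ τ₀ (RingHom.ext hσ2) (RingHom.ext hσ2), hσ2, hτ₀⟩

end poly

variable {F : Type*} [Field F] [Fintype F] {q : ℕ} (hF : Fintype.card F = q ^ 2) {n : ℕ}

theorem sig_ne (hF : Fintype.card F = q ^ 2) : ∃ a, sigQ hF a ≠ a := by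
  by_contra hcon
  push Not at hcon
  exact conjQ_ne_id hF (RingHom.ext hcon)

/-- the unit hypothesis of Hilbert 90 in `F[X]/(μ)` -/
theorem exists_e_unit (hF : Fintype.card F = q ^ 2) (μ : F[X])
    (τ : AdjoinRoot μ ≃+* AdjoinRoot μ)
    (hτ : ∀ P : F[X], τ (AdjoinRoot.mk μ P) = AdjoinRoot.mk μ (P.map (sigQ hF : F →+* F))) :
    ∃ e : AdjoinRoot μ, IsUnit (e - τ e) := by
  obtain ⟨a, ha⟩ := sig_ne hF
  refine ⟨AdjoinRoot.mk μ (C a), ?_⟩
  rw [hτ, Polynomial.map_C, ← map_sub, ← C_sub]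
  have hu : IsUnit (a - sigQ hF a) := by
    rw [isUnit_iff_ne_zero]
    exact sub_ne_zero.mpr (Ne.symm ha)
  exact (hu.map (C : F →+* F[X])).map (AdjoinRoot.mk μ)

/-- a hermitian invertible matrix `c` is of the form `w^♯ w` with `w` a polynomial in `c` -/
theorem exists_sharp_root (c : Matrix (Fin n) (Fin n) F) (hc : sharp hF c = c)
    (hdet : IsUnit c.det) :
    ∃ P : F[X], aeval c (P.map (sigQ hF : F →+* F)) * aeval c P = c := by
  set σ := sigQ hF with hσ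
  set μ := c.charpoly with hμ
  have hμσ : μ.map (σ : F →+* F) = μ := by
    have h1 : (c.map σ).charpoly = μ.map (σ : F →+* F) := Matrix.charpoly_map c (σ : F →+* F)
    have h2 : c.map σ = cᵀ := by
      have := congrArg Matrix.transpose hc
      rw [sharp_eq, Matrix.transpose_transpose] at this
      exact this
    rw [← h1, h2, Matrix.charpoly_transpose]
  have hμ0 : μ ≠ 0 := (Matrix.charpoly_monic c).ne_zero
  have hc0 : μ.coeff 0 ≠ 0 := by
    intro h0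
    have h1 := Matrix.det_eq_sign_charpoly_coeff c
    rw [← hμ, h0, mul_zero] at h1
    rw [h1] at hdet
    exact not_isUnit_zero hdet
  have hfin : Finite (AdjoinRoot μ) := finite_adjoinRoot μ hμ0
  obtain ⟨τ, hττ, hτ⟩ := exists_tau_fix σ (sigQ_sigQ hF) μ hμσ
  obtain ⟨e, he⟩ := exists_e_unit hF μ τ hτ
  -- the root as a unit
  let r : (AdjoinRoot μ)ˣ :=
    ⟨AdjoinRoot.root μ, rinv μ, root_mul_rinv μ hc0, by rw [mul_comm]; exact root_mul_rinv μ hc0⟩
  have hr : τ (r : AdjoinRoot μ) = r := by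
    show τ (AdjoinRoot.root μ) = AdjoinRoot.root μ
    rw [← AdjoinRoot.mk_X, hτ, Polynomial.map_X]
  obtain ⟨w, hw⟩ := norm_surj_ring τ hττ e he r hr
  obtain ⟨P, hP⟩ := AdjoinRoot.mk_surjective (w : AdjoinRoot μ)
  refine ⟨P, ?_⟩
  have h1 : AdjoinRoot.mk μ (P * P.map (σ : F →+* F)) = AdjoinRoot.mk μ X := by
    rw [map_mul, ← hτ, hP, hw]
    rfl
  rw [AdjoinRoot.mk_eq_mk] at h1
  obtain ⟨R, hR⟩ := h1
  have h2 := congrArg (aeval c) hR
  rw [map_sub, map_mul, map_mul, aeval_X, hμ, Matrix.aeval_self_charpoly, zero_mul,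
    sub_eq_zero] at h2
  rw [← map_mul, mul_comm, map_mul]
  exact h2

end Cfsg.Agent.Lib.Helper14.GUConj
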