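import Cfsg.Agent.Lib.Helper14.GUConj3

set_option autoImplicit false
set_option linter.unusedSectionVars false

/-! # Conjugacy in the general unitary group is controlled by the general linear group -/

namespace Cfsg.Agent.Lib.Helper14.GUConj

open Matrix Cfsg Cfsg.Agent.Lib.Helper6 Cfsg.Agent.S0779 Module Polynomial
open Cfsg.Agent.Lib.Helper14.HSemi (sigQ sigQ_apply)
open Cfsg.Agent.Lib.Helper14.HCount (sigQ_sigQ herm_mul_mul)

variable {F : Type*} [Field F] [Fintype F] {q : ℕ} (hF : Fintype.card F = q ^ 2) {n : ℕ}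

/-- unitary matrices which are conjugate by an invertible matrix are conjugate by a unitary
matrix -/
theorem gu_conj_core (MA MB G : Matrix (Fin n) (Fin n) F) (hA : sharp hF MA * MA = 1)
    (hB : sharp hF MB * MB = 1) (hG : IsUnit G.det) (hconj : G * MA = MB * G) :
    ∃ U : Matrix (Fin n) (Fin n) F, IsUnit U.det ∧ sharp hF U * U = 1 ∧ U * MA = MB * U := by
  have hA' : MA * sharp hF MA = 1 := _root_.mul_eq_one_comm.mp hA
  set c := sharp hF G * G with hc
  have hcs : sharp hF c = c := by rw [hc, sharp_mul, sharp_sharp]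
  have hcdet : IsUnit c.det := by
    rw [hc, Matrix.det_mul, det_sharp]
    exact (hG.map (sigQ hF)).mul hG
  -- `c` commutes with `MA`
  have h1 : sharp hF MA * sharp hF G = sharp hF G * sharp hF MB := by
    rw [← sharp_mul, ← sharp_mul, hconj]
  have h2 : sharp hF G * MB = MA * sharp hF G := by
    calc sharp hF G * MB = (MA * sharp hF MA) * sharp hF G * MB := by rw [hA', Matrix.one_mul]
      _ = MA * (sharp hF MA * sharp hF G) * MB := by rw [Matrix.mul_assoc MA]
      _ = MA * (sharp hF G * sharp hF MB) * MB := by rw [h1]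
      _ = MA * sharp hF G * (sharp hF MB * MB) := by
        rw [Matrix.mul_assoc, Matrix.mul_assoc, Matrix.mul_assoc]
      _ = MA * sharp hF G := by rw [hB, Matrix.mul_one]
  have hcomm : c * MA = MA * c := by
    rw [hc, Matrix.mul_assoc, hconj, ← Matrix.mul_assoc, h2, Matrix.mul_assoc]
  obtain ⟨P, hP⟩ := exists_sharp_root hF c hcs hcdet
  set W := aeval c P with hW
  have hWs : sharp hF W = aeval c (P.map (sigQ hF : F →+* F)) := by
    rw [hW, sharp_aeval, hcs]
  have hWc : sharp hF W * W = c := by rw [hWs]; exact hP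
  have hWdet : IsUnit W.det := by
    have h3 : (sharp hF W).det * W.det = c.det := by rw [← Matrix.det_mul, hWc]
    rw [← h3] at hcdet
    exact isUnit_of_mul_isUnit_right hcdet
  have hWA : W * MA = MA * W := aeval_intertwine hcomm P
  have hWiA : W⁻¹ * MA = MA * W⁻¹ := by
    calc W⁻¹ * MA = W⁻¹ * (MA * W) * W⁻¹ := by
          rw [Matrix.mul_assoc, Matrix.mul_assoc, Matrix.mul_nonsing_inv _ hWdet, Matrix.mul_one]
      _ = W⁻¹ * (W * MA) * W⁻¹ := by rw [hWA]
      _ = MA * W⁻¹ := by
          rw [← Matrix.mul_assoc W⁻¹, Matrix.nonsing_inv_mul _ hWdet, Matrix.one_mul]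
  refine ⟨G * W⁻¹, ?_, ?_, ?_⟩
  · rw [Matrix.det_mul, Matrix.det_nonsing_inv]
    exact hG.mul (by rw [Ring.inverse_eq_inv']; exact hWdet.inv)
  · rw [sharp_mul, sharp_inv hF W hWdet]
    calc (sharp hF W)⁻¹ * sharp hF G * (G * W⁻¹)
        = (sharp hF W)⁻¹ * (sharp hF G * G) * W⁻¹ := by
          rw [Matrix.mul_assoc, Matrix.mul_assoc, Matrix.mul_assoc]
      _ = (sharp hF W)⁻¹ * (sharp hF W * W) * W⁻¹ := by rw [← hc, hWc]
      _ = 1 := by
          have hsd : IsUnit (sharp hF W).det := by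
            rw [det_sharp]; exact hWdet.map (sigQ hF)
          rw [← Matrix.mul_assoc (sharp hF W)⁻¹, Matrix.nonsing_inv_mul _ hsd, Matrix.one_mul,
            Matrix.mul_nonsing_inv _ hWdet]
  · rw [Matrix.mul_assoc, hWiA, ← Matrix.mul_assoc, hconj, Matrix.mul_assoc]

end Cfsg.Agent.Lib.Helper14.GUConj
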