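import Cfsg.Agent.Lib.Helper14.GUConj4

set_option autoImplicit false
set_option linter.unusedSectionVars false

/-! # Matrices similar to unitary matrices: the involution inverting the root -/

namespace Cfsg.Agent.Lib.Helper14.GUConj

open Matrix Cfsg Cfsg.Agent.Lib.Helper6 Cfsg.Agent.S0779 Module Polynomial
open Cfsg.Agent.Lib.Helper14.HSemi (sigQ sigQ_apply)
open Cfsg.Agent.Lib.Helper14.HCount (sigQ_sigQ herm_mul_mul)

section poly

variable {K : Type*} [Field K]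

/-- the involution inverting the root -/
theorem exists_tau_inv (σ : K ≃+* K) (hσσ : ∀ a, σ (σ a) = a) (μ : K[X]) (h0 : μ.coeff 0 ≠ 0)
    (κ : K) (hμσ : μ.map (σ : K →+* K) = C κ * μ.reverse) :
    ∃ τ : AdjoinRoot μ ≃+* AdjoinRoot μ, (∀ x, τ (τ x) = x) ∧
      (∀ a : K, τ (AdjoinRoot.of μ a) = AdjoinRoot.of μ (σ a)) ∧
      τ (AdjoinRoot.root μ) = rinv μ ∧
      ∀ P : K[X], τ (AdjoinRoot.mk μ P) = aeval (rinv μ) (P.map (σ : K →+* K)) := by
  have hri : AdjoinRoot.root μ * rinv μ = 1 := root_mul_rinv μ h0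
  have hir : rinv μ * AdjoinRoot.root μ = 1 := by rw [mul_comm]; exact hri
  have h00 : μ.eval₂ ((AdjoinRoot.of μ).comp (σ : K →+* K)) (rinv μ) = 0 := by
    rw [mk_map_sigma, hμσ, map_mul, aeval_C]
    let _ : Invertible (AdjoinRoot.root μ) := ⟨rinv μ, hir, hri⟩
    have h1 := (eval₂_reverse_eq_zero_iff (AdjoinRoot.of μ) (AdjoinRoot.root μ) μ).mpr
      (AdjoinRoot.eval₂_root μ)
    have h2 : aeval (rinv μ) μ.reverse = 0 := by
      rw [aeval_def, AdjoinRoot.algebraMap_eq]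
      exact h1
    rw [h2, mul_zero]
  let τ₀ : AdjoinRoot μ →+* AdjoinRoot μ :=
    AdjoinRoot.lift ((AdjoinRoot.of μ).comp (σ : K →+* K)) (rinv μ) h00
  have hτ₀of : ∀ a : K, τ₀ (AdjoinRoot.of μ a) = AdjoinRoot.of μ (σ a) := fun a =>
    AdjoinRoot.lift_of h00
  have hτ₀root : τ₀ (AdjoinRoot.root μ) = rinv μ := AdjoinRoot.lift_root h00
  have hτ₀mk : ∀ P : K[X], τ₀ (AdjoinRoot.mk μ P) = aeval (rinv μ) (P.map (σ : K →+* K)) := by
    intro P
    show AdjoinRoot.lift _ _ h00 (AdjoinRoot.mk μ P) = _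
    rw [AdjoinRoot.lift_mk, mk_map_sigma]
  have hτ₀rinv : τ₀ (rinv μ) = AdjoinRoot.root μ := by
    have h1 : τ₀ (rinv μ) * rinv μ = 1 := by
      calc τ₀ (rinv μ) * rinv μ = τ₀ (rinv μ) * τ₀ (AdjoinRoot.root μ) := by rw [hτ₀root]
        _ = τ₀ (rinv μ * AdjoinRoot.root μ) := (map_mul τ₀ _ _).symm
        _ = 1 := by rw [hir, map_one]
    calc τ₀ (rinv μ) = τ₀ (rinv μ) * (rinv μ * AdjoinRoot.root μ) := by rw [hir, mul_one]
      _ = AdjoinRoot.root μ := by rw [← mul_assoc, h1, one_mul]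
  have hσ2 : ∀ x, τ₀ (τ₀ x) = x := by
    intro x
    obtain ⟨P, rfl⟩ := AdjoinRoot.mk_surjective x
    have h1 : AdjoinRoot.mk μ P = P.eval₂ (AdjoinRoot.of μ) (AdjoinRoot.root μ) := by
      rw [← AdjoinRoot.aeval_eq, aeval_def]
      rfl
    have h2 : (τ₀.comp τ₀).comp (AdjoinRoot.of μ) = AdjoinRoot.of μ := by
      ext a
      simp only [RingHom.comp_apply]
      rw [hτ₀of, hτ₀of, hσσ]
    have h3 : (τ₀.comp τ₀) (AdjoinRoot.root μ) = AdjoinRoot.root μ := by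
      rw [RingHom.comp_apply, hτ₀root, hτ₀rinv]
    rw [h1, ← RingHom.comp_apply, Polynomial.hom_eval₂, h2, h3]
  exact ⟨RingEquiv.ofRingHom τ₀ τ₀ (RingHom.ext hσ2) (RingHom.ext hσ2), hσ2, hτ₀of, hτ₀root,
    hτ₀mk⟩

end poly

end Cfsg.Agent.Lib.Helper14.GUConj
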