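import Cfsg.Agent.Lib.Helper14.GUConj6
import Cfsg.Agent.Lib.Helper14.UnipClasses

set_option autoImplicit false
set_option linter.unusedSectionVars false

/-! # Unipotent elements are similar to their inverse conjugate transposes -/

namespace Cfsg.Agent.Lib.Helper14.GUConj

open Matrix Cfsg Cfsg.Agent.Lib.Helper6 Cfsg.Agent.S0779 Module Polynomial
open Cfsg.Agent.Lib.Helper14.HSemi (sigQ sigQ_apply)
open Cfsg.Agent.Lib.Helper14.HCount (sigQ_sigQ herm_mul_mul)

variable {F : Type*} [Field F] [Fintype F] {q : ℕ} (hF : Fintype.card F = q ^ 2) {n : ℕ}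

/-- the kernel dimension of a matrix -/
noncomputable def kdim (M : Matrix (Fin n) (Fin n) F) : ℕ :=
  finrank F (LinearMap.ker (Matrix.toLin' M))

theorem kdim_add_rank (M : Matrix (Fin n) (Fin n) F) : M.rank + kdim M = n := by
  have h := LinearMap.finrank_range_add_finrank_ker (Matrix.toLin' M)
  rw [Module.finrank_fin_fun] at h
  exact h

theorem kdim_transpose (M : Matrix (Fin n) (Fin n) F) : kdim Mᵀ = kdim M := by
  have h1 := kdim_add_rank M
  have h2 := kdim_add_rank Mᵀ
  rw [Matrix.rank_transpose] at h2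
  omega

theorem kdim_unit_mul (U M : Matrix (Fin n) (Fin n) F) (hU : IsUnit U.det) :
    kdim (U * M) = kdim M := by
  have hker : LinearMap.ker (Matrix.toLin' (U * M)) = LinearMap.ker (Matrix.toLin' M) := by
    ext v
    simp only [LinearMap.mem_ker, Matrix.toLin'_apply]
    rw [← Matrix.mulVec_mulVec]
    constructor
    · intro h
      have := congrArg (fun w => U⁻¹ *ᵥ w) h
      simp only [Matrix.mulVec_zero] at this
      rw [Matrix.mulVec_mulVec, Matrix.nonsing_inv_mul _ hU, Matrix.one_mulVec] at this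
      exact this
    · intro h
      rw [h, Matrix.mulVec_zero]
  unfold kdim
  rw [hker]

theorem kdim_map (M : Matrix (Fin n) (Fin n) F) : kdim (M.map (sigQ hF)) = kdim M := by
  let e : (Fin n → F) ≃ (Fin n → F) := Equiv.piCongrRight (fun _ => (sigQ hF).toEquiv)
  have he : ∀ v i, e v i = sigQ hF (v i) := fun v i => rfl
  have hmul : ∀ v, (M.map (sigQ hF)) *ᵥ (e v) = e (M *ᵥ v) := by
    intro v
    funext i
    rw [he]
    simp only [Matrix.mulVec, dotProduct, map_sum, map_mul, Matrix.map_apply, he]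
  have hcard : Nat.card (LinearMap.ker (Matrix.toLin' M)) =
      Nat.card (LinearMap.ker (Matrix.toLin' (M.map (sigQ hF)))) := by
    apply Nat.card_congr
    refine Equiv.subtypeEquiv e ?_
    intro v
    simp only [LinearMap.mem_ker, Matrix.toLin'_apply]
    rw [hmul]
    constructor
    · intro h
      rw [h]
      funext i
      rw [he]
      exact map_zero _
    · intro h
      apply e.injective
      rw [h]
      funext i
      rw [he]
      exact (map_zero _).symm
  have c1 : Nat.card (LinearMap.ker (Matrix.toLin' M)) = Nat.card F ^ kdim M :=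
    Module.natCard_eq_pow_finrank (K := F) (V := LinearMap.ker (Matrix.toLin' M))
  have c2 : Nat.card (LinearMap.ker (Matrix.toLin' (M.map (sigQ hF)))) =
      Nat.card F ^ kdim (M.map (sigQ hF)) :=
    Module.natCard_eq_pow_finrank (K := F) (V := LinearMap.ker (Matrix.toLin' (M.map (sigQ hF))))
  rw [c1, c2] at hcard
  have h2 : 2 ≤ Nat.card F := by
    rw [Nat.card_eq_fintype_card]
    exact Fintype.one_lt_card
  exact (Nat.pow_right_injective h2 hcard).symm

theorem kdim_sharp (M : Matrix (Fin n) (Fin n) F) : kdim (sharp hF M) = kdim M := by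
  rw [sharp_eq, kdim_transpose, kdim_map]

theorem kd_nilOf (g : GL (Fin n) F) (k : ℕ) :
    kd (nilOf g) k = kdim (((g : Matrix (Fin n) (Fin n) F) - 1) ^ k) := by
  unfold kd nilOf kdim
  rw [Matrix.toLin'_pow]

/-- the kernel dimensions of `g^{-♯} - 1` -/
theorem kd_sharp_inv (g g' : GL (Fin n) F)
    (hg' : (g' : Matrix (Fin n) (Fin n) F) = (sharp hF (g : Matrix (Fin n) (Fin n) F))⁻¹)
    (k : ℕ) : kd (nilOf g') k = kd (nilOf g) k := by
  set G := (g : Matrix (Fin n) (Fin n) F) with hG
  have hGd : IsUnit G.det := (Matrix.isUnit_iff_isUnit_det _).mp g.isUnit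
  have hsd : IsUnit (sharp hF G).det := by
    rw [det_sharp]; exact hGd.map (sigQ hF)
  set U := -(sharp hF G)⁻¹ with hU
  have hUd : IsUnit U.det := by
    have h1 : U = (-1 : F) • (sharp hF G)⁻¹ := by rw [hU, neg_smul, one_smul]
    rw [h1, Matrix.det_smul, Matrix.det_nonsing_inv, Ring.inverse_eq_inv']
    exact (IsUnit.pow _ (isUnit_one.neg)).mul hsd.inv
  have hN : sharp hF (G - 1) = sharp hF G - 1 := by
    rw [sub_eq_add_neg, sharp_add, ← neg_one_smul F (1 : Matrix (Fin n) (Fin n) F), sharp_smul,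
      sharp_one, map_neg, map_one, neg_one_smul, ← sub_eq_add_neg]
  have h1 : (g' : Matrix (Fin n) (Fin n) F) - 1 = U * sharp hF (G - 1) := by
    rw [hg', hN, hU, Matrix.neg_mul, Matrix.mul_sub, Matrix.nonsing_inv_mul _ hsd, Matrix.mul_one,
      neg_sub]
  have hcomm : Commute U (sharp hF (G - 1)) := by
    rw [hN, hU]
    apply Commute.neg_left
    apply Commute.sub_right
    · show (sharp hF G)⁻¹ * sharp hF G = sharp hF G * (sharp hF G)⁻¹
      rw [Matrix.nonsing_inv_mul _ hsd, Matrix.mul_nonsing_inv _ hsd]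
    · exact Commute.one_right _
  rw [kd_nilOf, kd_nilOf, h1, hcomm.mul_pow, ← sharp_pow,
    kdim_unit_mul _ _ (by rw [Matrix.det_pow]; exact hUd.pow k), kdim_sharp]

/-- a unipotent element is conjugate to its inverse conjugate transpose -/
theorem isConj_sharp_inv (g g' : GL (Fin n) F)
    (hg' : (g' : Matrix (Fin n) (Fin n) F) = (sharp hF (g : Matrix (Fin n) (Fin n) F))⁻¹)
    (hg : IsNilpotent (nilOf g)) : IsConj g g' := by
  apply isConj_of_kd_eq hg
  · obtain ⟨m, hm⟩ := hg
    refine ⟨m, ?_⟩
    rw [← kd_eq_finrank_iff, kd_sharp_inv hF g g' hg', kd_eq_finrank_iff]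
    exact hm
  · intro k
    exact (kd_sharp_inv hF g g' hg' k).symm

end Cfsg.Agent.Lib.Helper14.GUConj
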