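import Mathlib
import Cfsg.Prelude.Def_GeometricClasses
import Cfsg.Agent.Lib.Helper16.GeoTRDefs

/-!
# GeoTR group TR-K (helper14): transport of the class-3 vocabulary (field subalgebras, adjoints, normalisers)
along a bijection of index types.  Exact signatures of `Lib/Helper16/GeoTRSkel.lean`.
-/

set_option autoImplicit false
set_option linter.unusedSectionVars false

namespace Cfsg.Agent.Lib.Helper14.GeoTR

open Matrix Cfsg.Geo Cfsg.Agent.Lib.Helper16.GeoTR
open scoped Kronecker

variable {κ ι : Type} [Fintype κ] [DecidableEq κ] [Fintype ι] [DecidableEq ι] {F : Type*} [Field F]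

/-- the transported subalgebra consists of the reindexed matrices -/
theorem reindex_mem_tK (e : κ ≃ ι) (K : Subalgebra F (Matrix κ κ F)) {k : Matrix κ κ F} (hk : k ∈ K) :
    Matrix.reindex e e k ∈ tK e K := by
  rw [mem_tK]
  have : Matrix.reindex e.symm e.symm (Matrix.reindex e e k) = k := by
    ext i j
    simp
  rw [this]
  exact hk

theorem exists_of_mem_tK (e : κ ≃ ι) (K : Subalgebra F (Matrix κ κ F)) {x : Matrix ι ι F} (hx : x ∈ tK e K) :
    ∃ k ∈ K, x = Matrix.reindex e e k := by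
  refine ⟨Matrix.reindex e.symm e.symm x, (mem_tK e K x).1 hx, ?_⟩
  ext i j
  simp

theorem reindex_mul (e : κ ≃ ι) (a b : Matrix κ κ F) :
    Matrix.reindex e e (a * b) = Matrix.reindex e e a * Matrix.reindex e e b := by
  have := map_mul (Matrix.reindexAlgEquiv F F e) a b
  simp only [Matrix.coe_reindexAlgEquiv] at this
  exact this

theorem reindex_one (e : κ ≃ ι) : Matrix.reindex e e (1 : Matrix κ κ F) = 1 := by
  have := map_one (Matrix.reindexAlgEquiv F F e)
  simp only [Matrix.coe_reindexAlgEquiv] at this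
  exact this

theorem reindex_mulVec_comp (e : κ ≃ ι) (x : Matrix κ κ F) (v : ι → F) :
    ((Matrix.reindex e e x) *ᵥ v) ∘ e = x *ᵥ (v ∘ e) := by
  rw [reindex_mulVec, rv_comp']

theorem isFieldSubalgebra_tK (e : κ ≃ ι) (r : ℕ) (K : Subalgebra F (Matrix κ κ F)) (h : IsFieldSubalgebra r K) :
    IsFieldSubalgebra r (tK e K) := by
  refine ⟨?_, ?_, ?_⟩
  · intro x hx y hy
    obtain ⟨a, ha, rfl⟩ := exists_of_mem_tK e K hx
    obtain ⟨b, hb, rfl⟩ := exists_of_mem_tK e K hy
    rw [← reindex_mul, ← reindex_mul, h.comm a ha b hb]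
  · intro x hx hx0
    obtain ⟨a, ha, rfl⟩ := exists_of_mem_tK e K hx
    have ha0 : a ≠ 0 := by
      rintro rfl
      apply hx0
      ext i j
      simp
    obtain ⟨b, hb, hab⟩ := h.inv a ha ha0
    exact ⟨Matrix.reindex e e b, reindex_mem_tK e K hb, by rw [← reindex_mul, hab, reindex_one]⟩
  · rw [← h.finrank_eq]
    unfold tK
    exact (AlgEquiv.subalgebraMap (Matrix.reindexAlgEquiv F F e) K).toLinearEquiv.finrank_eq.symm

theorem isSelfAdjointFor_tK (e : κ ≃ ι) {f : (κ → F) → (κ → F) → F} (K : Subalgebra F (Matrix κ κ F))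
    (h : IsSelfAdjointFor f K) : IsSelfAdjointFor (tf e f) (tK e K) := by
  intro x hx u v
  obtain ⟨k, hk, rfl⟩ := exists_of_mem_tK e K hx
  rw [tf_apply, tf_apply, reindex_mulVec_comp, reindex_mulVec_comp]
  exact h k hk _ _

/-- the converse (needed for `¬ IsSelfAdjointFor`) -/
theorem isSelfAdjointFor_of_tK (e : κ ≃ ι) {f : (κ → F) → (κ → F) → F} (K : Subalgebra F (Matrix κ κ F))
    (h : IsSelfAdjointFor (tf e f) (tK e K)) : IsSelfAdjointFor f K := by
  intro k hk u v
  have := h _ (reindex_mem_tK e K hk) (rv e u) (rv e v)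
  rw [tf_apply, tf_apply, reindex_mulVec_comp, reindex_mulVec_comp, rv_comp', rv_comp'] at this
  exact this

theorem isAdjointClosedFor_tK (e : κ ≃ ι) {f : (κ → F) → (κ → F) → F} (K : Subalgebra F (Matrix κ κ F))
    (h : IsAdjointClosedFor f K) : IsAdjointClosedFor (tf e f) (tK e K) := by
  intro x hx
  obtain ⟨k, hk, rfl⟩ := exists_of_mem_tK e K hx
  obtain ⟨k', hk', hkk'⟩ := h k hk
  refine ⟨Matrix.reindex e e k', reindex_mem_tK e K hk', fun u v => ?_⟩
  rw [tf_apply, tf_apply, reindex_mulVec_comp, reindex_mulVec_comp]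
  exact hkk' _ _

theorem alt_tK (e : κ ≃ ι) {f : (κ → F) → (κ → F) → F} (K : Subalgebra F (Matrix κ κ F))
    (h : ∀ k ∈ K, ∀ v, f (k *ᵥ v) v = 0) : ∀ k ∈ tK e K, ∀ v, tf e f (k *ᵥ v) v = 0 := by
  intro x hx v
  obtain ⟨k, hk, rfl⟩ := exists_of_mem_tK e K hx
  rw [tf_apply, reindex_mulVec_comp]
  exact h k hk _

theorem mem_subalgebraNormalizer_tK (e : κ ≃ ι) (K : Subalgebra F (Matrix κ κ F)) {g : GL κ F}
    (h : g ∈ subalgebraNormalizer K) : glReindex e g ∈ subalgebraNormalizer (tK e K) := by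
  intro x
  have hconj : Matrix.reindex e.symm e.symm (((glReindex e g : GL ι F) : Matrix ι ι F) * x *
      (((glReindex e g)⁻¹ : GL ι F) : Matrix ι ι F)) =
      (g : Matrix κ κ F) * Matrix.reindex e.symm e.symm x * ((g⁻¹ : GL κ F) : Matrix κ κ F) := by
    rw [reindex_mul, reindex_mul, ← map_inv, glReindex_val, glReindex_val]
    congr 1
    · congr 1
      ext i j
      simp
    · ext i j
      simp
  rw [mem_tK, mem_tK, hconj]
  exact h _

end Cfsg.Agent.Lib.Helper14.GeoTR
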