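import Mathlib
import Cfsg.Prelude.Def_GeometricClasses
import Cfsg.Agent.Lib.Helper16.GeoTRDefs

/-!
# GeoTR groups TR-T and TR-P (helper14): transport of the class-4 and class-7 vocabulary (tensor product subgroups,
tensor wreath subgroups, tensor form structures) along a bijection of index types.
Exact signatures of `Lib/Helper16/GeoTRSkel.lean`.
-/

set_option autoImplicit false
set_option linter.unusedSectionVars false

namespace Cfsg.Agent.Lib.Helper14.GeoTR

open Matrix Cfsg.Geo Cfsg.Agent.Lib.Helper16.GeoTR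
open scoped Kronecker

variable {κ ι : Type} [Fintype κ] [DecidableEq κ] [Fintype ι] [DecidableEq ι] {F : Type*} [Field F]

/-- reindexing twice -/
theorem glReindex_glReindex {μ : Type} [Fintype μ] [DecidableEq μ] (e' : μ ≃ κ) (e : κ ≃ ι) (k : GL μ F) :
    glReindex e (glReindex e' k) = glReindex (e'.trans e) k := by
  apply Units.ext
  ext i j
  rfl

/-- conjugates of reindexed elements -/
theorem glReindex_conj (e : κ ≃ ι) (P x : GL κ F) :
    glReindex e ((MulAut.conj P) x) = (MulAut.conj (glReindex e P)) (glReindex e x) := by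
  simp only [MulAut.conj_apply, map_mul, map_inv]

theorem comp_trans_comp {μ : Type} (e : κ ≃ ι) (e₁ : κ ≃ μ) (x : μ → F) : (x ∘ (e.symm.trans e₁)) ∘ e = x ∘ e₁ := by
  ext i
  simp

/-! ## TR-T  class 4 -/

theorem mem_tensorProductSubgroup_glReindex (e : κ ≃ ι) (n₁ n₂ : ℕ) (e₁ : κ ≃ Fin n₁ × Fin n₂) (P : GL κ F) {g : GL κ F}
    (h : g ∈ tensorProductSubgroup n₁ n₂ e₁ P) :
    glReindex e g ∈ tensorProductSubgroup n₁ n₂ (e.symm.trans e₁) (glReindex e P) := by
  unfold tensorProductSubgroup at h ⊢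
  obtain ⟨y, ⟨k, hk, rfl⟩, rfl⟩ := h
  refine ⟨glReindex (e.symm.trans e₁).symm k, ⟨k, hk, rfl⟩, ?_⟩
  simp only [MulEquiv.toMonoidHom_eq_coe, MonoidHom.coe_coe]
  rw [glReindex_conj, glReindex_glReindex]
  rfl

theorem isTensorFormStructure_tf (e : κ ≃ ι) (σ : F → F) {f : (κ → F) → (κ → F) → F} {n₁ n₂ : ℕ}
    (f₁ : (Fin n₁ → F) → (Fin n₁ → F) → F) (f₂ : (Fin n₂ → F) → (Fin n₂ → F) → F) (e₁ : κ ≃ Fin n₁ × Fin n₂) (P : GL κ F)
    (h : IsTensorFormStructure σ f f₁ f₂ e₁ P) :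
    IsTensorFormStructure σ (tf e f) f₁ f₂ (e.symm.trans e₁) (glReindex e P) := by
  obtain ⟨c, hc, hform⟩ := h
  refine ⟨c, hc, fun x y => ?_⟩
  rw [tf_apply, glReindex_mulVec_comp, glReindex_mulVec_comp, comp_trans_comp, comp_trans_comp]
  exact hform x y

/-! ## TR-P  class 7 -/

theorem mem_tensorWreathSubgroup_glReindex (e : κ ≃ ι) (k t : ℕ) (e₁ : κ ≃ (Fin t → Fin k)) (P : GL κ F) {g : GL κ F}
    (h : g ∈ tensorWreathSubgroup k t e₁ P) :
    glReindex e g ∈ tensorWreathSubgroup k t (e.symm.trans e₁) (glReindex e P) := by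
  unfold tensorWreathSubgroup at h ⊢
  obtain ⟨y, ⟨w, hw, rfl⟩, rfl⟩ := h
  refine ⟨glReindex (e.symm.trans e₁).symm w, ⟨w, hw, rfl⟩, ?_⟩
  simp only [MulEquiv.toMonoidHom_eq_coe, MonoidHom.coe_coe]
  rw [glReindex_conj, glReindex_glReindex]
  rfl

theorem isTensorPowerFormStructure_tf (e : κ ≃ ι) (σ : F → F) {f : (κ → F) → (κ → F) → F} {k t : ℕ}
    (f₁ : (Fin k → F) → (Fin k → F) → F) (e₁ : κ ≃ (Fin t → Fin k)) (P : GL κ F)
    (h : IsTensorPowerFormStructure σ f f₁ e₁ P) :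
    IsTensorPowerFormStructure σ (tf e f) f₁ (e.symm.trans e₁) (glReindex e P) := by
  obtain ⟨c, hc, hform⟩ := h
  refine ⟨c, hc, fun x y => ?_⟩
  rw [tf_apply, glReindex_mulVec_comp, glReindex_mulVec_comp, comp_trans_comp, comp_trans_comp]
  exact hform x y

end Cfsg.Agent.Lib.Helper14.GeoTR
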