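import Cfsg.Agent.Lib.Helper14.HCount2

set_option autoImplicit false

/-! # Counting semisimple classes of unitary groups: anisotropic blocks -/

namespace Cfsg.Agent.Lib.Helper14.HCount

open Matrix Cfsg Cfsg.Agent.Lib.Helper6 Cfsg.Agent.S0779 Module Polynomial
open Cfsg.Agent.Lib.Helper14.HSemi (sigQ sigQ_apply)

variable {F : Type*} [Field F] [Fintype F] {q : ℕ}

/-- the block of a self-dual irreducible polynomial -/
theorem gu_irr (hF : Fintype.card F = q ^ 2) (f : F[X]) (hm : f.Monic) (hirr : Irreducible f)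
    (h0 : f.coeff 0 ≠ 0) (hd : dual (sigQ hF) f = f) :
    ∃ M : Matrix (Fin f.natDegree) (Fin f.natDegree) F,
      (∀ u v, hermForm f.natDegree F q (M *ᵥ u) (M *ᵥ v) = hermForm f.natDegree F q u v) ∧
        M.charpoly = f := by
  classical
  have : Fact (Irreducible f) := ⟨hirr⟩
  set σ := sigQ hF with hσ
  have hσσ : ∀ a, σ (σ a) = a := sigQ_sigQ hF
  obtain ⟨a₀, ha₀⟩ : ∃ a, σ a ≠ a := by
    by_contra hcon
    push Not at hcon
    exact conjQ_ne_id hF (RingHom.ext hcon)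
  let E := AdjoinRoot f
  let pb := AdjoinRoot.powerBasis hirr.ne_zero
  have hfin : FiniteDimensional F E := pb.finite
  set ρ : E := AdjoinRoot.root f with hρ
  have hρ0 : ρ ≠ 0 := by
    intro h
    have h1 : aeval ρ f = 0 := by
      rw [AdjoinRoot.aeval_eq, AdjoinRoot.mk_self]
    rw [h, ← Polynomial.coeff_zero_eq_aeval_zero'] at h1
    exact h0 ((map_eq_zero_iff _ (algebraMap F E).injective).mp h1)
  -- the reversed polynomial
  have hσf0 : σ (f.coeff 0) ≠ 0 := (map_ne_zero σ).mpr h0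
  have hrev : (f.map (σ : F →+* F)).reverse = C (σ (f.coeff 0)) * f := by
    have h1 : dual σ f = C (σ (f.coeff 0))⁻¹ * (f.map (σ : F →+* F)).reverse := rfl
    have h2 : C (σ (f.coeff 0)) * dual σ f = (f.map (σ : F →+* F)).reverse := by
      rw [h1, ← mul_assoc, ← C_mul, mul_inv_cancel₀ hσf0, C_1, one_mul]
    rw [← h2, hd]
  -- the involution
  have h00 : f.eval₂ ((AdjoinRoot.of f).comp (σ : F →+* F)) ρ⁻¹ = 0 := by
    rw [← Polynomial.eval₂_map]
    let _ : Invertible ρ := invertibleOfNonzero hρ0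
    have h1 := eval₂_reverse_eq_zero_iff (AdjoinRoot.of f) ρ ((f.map (σ : F →+* F)).reverse)
    rw [reverse_reverse' (coeff_zero_map_ne σ h0), invOf_eq_inv] at h1
    rw [h1, hrev, eval₂_mul, AdjoinRoot.eval₂_root, mul_zero]
  let σ₀ : E →+* E := AdjoinRoot.lift ((AdjoinRoot.of f).comp (σ : F →+* F)) ρ⁻¹ h00
  have hσ₀of : ∀ a : F, σ₀ (AdjoinRoot.of f a) = AdjoinRoot.of f (σ a) := fun a =>
    AdjoinRoot.lift_of h00
  have hσ₀ρ : σ₀ ρ = ρ⁻¹ := AdjoinRoot.lift_root h00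
  have hσ₀2 : ∀ x, σ₀ (σ₀ x) = x := by
    intro x
    obtain ⟨P, rfl⟩ := AdjoinRoot.mk_surjective x
    have h1 : AdjoinRoot.mk f P = P.eval₂ (AdjoinRoot.of f) ρ := by
      rw [← AdjoinRoot.aeval_eq, aeval_def]
      rfl
    have h2 : (σ₀.comp σ₀).comp (AdjoinRoot.of f) = AdjoinRoot.of f := by
      ext a
      simp only [RingHom.comp_apply]
      rw [hσ₀of, hσ₀of, hσσ]
    have h3 : (σ₀.comp σ₀) ρ = ρ := by
      rw [RingHom.comp_apply, hσ₀ρ, map_inv₀, hσ₀ρ, inv_inv]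
    rw [h1, ← RingHom.comp_apply, Polynomial.hom_eval₂, h2, h3]
  have hσ₀smul : ∀ (c : F) (x : E), σ₀ (c • x) = σ c • σ₀ x := by
    intro c x
    rw [Algebra.smul_def, map_mul, Algebra.smul_def]
    congr 1
    exact hσ₀of c
  -- a hermitian functional
  obtain ⟨Λ₀, hΛ₀⟩ : ∃ Λ₀ : Module.Dual F E, Λ₀ 1 ≠ 0 := by
    by_contra hcon
    push Not at hcon
    exact one_ne_zero ((Module.forall_dual_apply_eq_zero_iff F (1 : E)).mp hcon)
  let L : F → (E →ₗ[F] F) := fun c =>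
    { toFun := fun x => c * Λ₀ x + σ (c * Λ₀ (σ₀ x))
      map_add' := fun x y => by
        simp only [map_add, mul_add]; ring
      map_smul' := fun b x => by
        simp only [hσ₀smul, map_smul, smul_eq_mul, map_mul, hσσ, RingHom.id_apply]; ring }
  have hL : ∀ c x, L c x = c * Λ₀ x + σ (c * Λ₀ (σ₀ x)) := fun _ _ => rfl
  have hLH : ∀ c x, L c (σ₀ x) = σ (L c x) := by
    intro c x
    rw [hL, hL, hσ₀2, map_add, hσσ, add_comm]
  obtain ⟨Λ, hΛ0, hΛH⟩ : ∃ Λ : E →ₗ[F] F, Λ ≠ 0 ∧ ∀ x, Λ (σ₀ x) = σ (Λ x) := by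
    by_cases h1 : L 1 = 0
    · refine ⟨L a₀, ?_, hLH a₀⟩
      intro h2
      have e1 := congrArg (fun l : E →ₗ[F] F => l 1) h1
      have e2 := congrArg (fun l : E →ₗ[F] F => l 1) h2
      simp only [hL, LinearMap.zero_apply, one_mul, map_mul] at e1 e2
      have e3 : σ (Λ₀ (σ₀ 1)) = - Λ₀ 1 := by
        rw [eq_neg_iff_add_eq_zero, add_comm]; exact e1
      rw [e3] at e2
      have e4 : (a₀ - σ a₀) * Λ₀ 1 = 0 := by
        rw [sub_mul, sub_eq_add_neg, ← mul_neg]; exact e2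
      rcases mul_eq_zero.mp e4 with h | h
      · exact ha₀ (sub_eq_zero.mp h).symm
      · exact hΛ₀ h
    · exact ⟨L 1, h1, hLH 1⟩
  -- the form
  let B : E →ₛₗ[conjQ hF] E →ₗ[F] F :=
    LinearMap.mk₂'ₛₗ (conjQ hF) (RingHom.id F) (fun x y => Λ (y * σ₀ x))
      (fun x x' y => by
        simp only [map_add, mul_add])
      (fun c x y => by
        simp only [hσ₀smul, mul_smul_comm, map_smul]
        rfl)
      (fun x y y' => by
        simp only [add_mul, map_add])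
      (fun c x y => by
        simp only [smul_mul_assoc, map_smul, RingHom.id_apply])
  have hB : ∀ x y, B x y = Λ (y * σ₀ x) := fun _ _ => rfl
  have hS : B.IsSymm := ⟨fun x y => by
    rw [hB, hB]
    show σ (Λ (y * σ₀ x)) = Λ (x * σ₀ y)
    rw [← hΛH, map_mul, hσ₀2, mul_comm]⟩
  have hN : ∀ u, (∀ v, B u v = 0) → u = 0 := by
    intro u hu
    by_contra hu0
    apply hΛ0
    ext z
    have hsu : σ₀ u ≠ 0 := (map_ne_zero σ₀).mpr hu0
    have := hu (z * (σ₀ u)⁻¹)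
    rw [hB, inv_mul_cancel_right₀ hsu] at this
    rw [this, LinearMap.zero_apply]
  have hk : finrank F E = f.natDegree := by
    rw [pb.finrank, AdjoinRoot.powerBasis_dim]
  obtain ⟨M, hM1, hM2⟩ := exists_std_matrix hF B hS hN f.natDegree hk (Algebra.lmul F E ρ) (by
    intro x y
    rw [hB, hB]
    show Λ (ρ * y * σ₀ (ρ * x)) = Λ (y * σ₀ x)
    rw [map_mul σ₀, hσ₀ρ, mul_comm ρ y, mul_assoc, mul_inv_cancel_left₀ hρ0])
  refine ⟨M, hM1, ?_⟩
  rw [hM2, ← LinearMap.charpoly_toMatrix _ pb.basis, ← Algebra.leftMulMatrix_apply]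
  have hgen : pb.gen = ρ := AdjoinRoot.powerBasis_gen hirr.ne_zero
  rw [← hgen, charpoly_leftMulMatrix, AdjoinRoot.minpoly_powerBasis_gen_of_monic hm]

end Cfsg.Agent.Lib.Helper14.HCount
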