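import Cfsg.Agent.Lib.Helper14.HCount3

set_option autoImplicit false

/-! # Counting semisimple classes of unitary groups: existence of elements -/

namespace Cfsg.Agent.Lib.Helper14.HCount

open Matrix Cfsg Cfsg.Agent.Lib.Helper6 Cfsg.Agent.S0779 Module Polynomial
open Cfsg.Agent.Lib.Helper14.HSemi (sigQ sigQ_apply)

variable {F : Type*} [Field F] [Fintype F] {q : ℕ}

theorem exists_gu_charpoly_aux (hF : Fintype.card F = q ^ 2) (p : ℕ) [Fact p.Prime] [CharP F p]
    (n : ℕ) : ∀ f : F[X], f.Monic → f.natDegree = n → f.coeff 0 ≠ 0 → dual (sigQ hF) f = f →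
      ∃ k : ℕ, k = n ∧ ∃ M : Matrix (Fin k) (Fin k) F,
        (∀ u v, hermForm k F q (M *ᵥ u) (M *ᵥ v) = hermForm k F q u v) ∧ M.charpoly = f := by
  induction n using Nat.strong_induction_on with
  | _ n ih =>
    intro f hm hn h0 hd
    have hσσ : ∀ a, sigQ hF (sigQ hF a) = a := sigQ_sigQ hF
    rcases Nat.eq_zero_or_pos n with hz | hpos
    · subst hz
      have hf1 : f = 1 := (Polynomial.Monic.natDegree_eq_zero hm).mp hn
      refine ⟨0, rfl, 1, fun u v => ?_, ?_⟩
      · rw [Subsingleton.elim ((1 : Matrix (Fin 0) (Fin 0) F) *ᵥ u) u,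
          Subsingleton.elim ((1 : Matrix (Fin 0) (Fin 0) F) *ᵥ v) v]
      · rw [hf1]
        exact Matrix.charpoly_isEmpty
    · have hu : ¬ IsUnit f := Polynomial.not_isUnit_of_natDegree_pos f (by omega)
      obtain ⟨g, hgm, hgi, s, hs⟩ := Polynomial.exists_monic_irreducible_factor f hu
      have hsm : s.Monic := hgm.of_mul_monic_left (hs ▸ hm)
      have hdeg : f.natDegree = g.natDegree + s.natDegree := by
        rw [hs, hgm.natDegree_mul hsm]
      have hgpos : 0 < g.natDegree := hgi.natDegree_pos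
      have hc0 : f.coeff 0 = g.coeff 0 * s.coeff 0 := by rw [hs, Polynomial.mul_coeff_zero]
      have hg0 : g.coeff 0 ≠ 0 := fun h => h0 (by rw [hc0, h, zero_mul])
      have hs0 : s.coeff 0 ≠ 0 := fun h => h0 (by rw [hc0, h, mul_zero])
      have hdf : dual (sigQ hF) g * dual (sigQ hF) s = g * s := by
        rw [← dual_mul, ← hs, hd]
      by_cases hgd : dual (sigQ hF) g = g
      · -- self-dual irreducible factor
        have hsd : dual (sigQ hF) s = s := by
          rw [hgd] at hdf
          exact mul_left_cancel₀ hgm.ne_zero hdf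
        obtain ⟨M₁, hM₁, hc₁⟩ := gu_irr hF g hgm hgi hg0 hgd
        obtain ⟨k, hk, M₂, hM₂, hc₂⟩ := ih s.natDegree (by omega) s hsm rfl hs0 hsd
        subst hk
        obtain ⟨M, hM, hc⟩ := gu_sum hF M₁ M₂ hM₁ hM₂
        exact ⟨_, by omega, M, hM, by rw [hc, hc₁, hc₂, hs]⟩
      · -- a pair of dual factors
        set g' := dual (sigQ hF) g with hg'
        have hg'm : g'.Monic := dual_monic _ hg0
        have hg'deg : g'.natDegree = g.natDegree := dual_natDegree _ hg0
        have hg'0 : g'.coeff 0 ≠ 0 := dual_coeff_zero_ne _ hgm.ne_zero hg0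
        have hg'dvd : g' ∣ f := by
          rw [hs, ← hdf]
          exact dvd_mul_right _ _
        have hndvd : ¬ g ∣ g' := by
          intro hdvd
          exact hgd (Polynomial.eq_of_monic_of_dvd_of_natDegree_le hgm hg'm hdvd (le_of_eq hg'deg))
        have hcop : IsCoprime g g' := (Irreducible.coprime_iff_not_dvd hgi).mpr hndvd
        obtain ⟨t, ht⟩ := IsCoprime.mul_dvd hcop (hs ▸ dvd_mul_right g s) hg'dvd
        have hgg'm : (g * g').Monic := hgm.mul hg'm
        have htm : t.Monic := hgg'm.of_mul_monic_left (ht ▸ hm)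
        have hdeg2 : f.natDegree = g.natDegree + g.natDegree + t.natDegree := by
          rw [ht, hgg'm.natDegree_mul htm, hgm.natDegree_mul hg'm, hg'deg]
        have hc02 : f.coeff 0 = g.coeff 0 * g'.coeff 0 * t.coeff 0 := by
          rw [ht, Polynomial.mul_coeff_zero, Polynomial.mul_coeff_zero]
        have ht0 : t.coeff 0 ≠ 0 := fun h => h0 (by rw [hc02, h, mul_zero])
        have htd : dual (sigQ hF) t = t := by
          have h1 : dual (sigQ hF) f = g' * g * dual (sigQ hF) t := by
            rw [ht, dual_mul, dual_mul, ← hg', hg', dual_dual _ hσσ hgm hg0]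
          rw [hd, ht] at h1
          have h2 : g * g' * t = g * g' * dual (sigQ hF) t := by
            rw [h1]; ring
          exact (mul_left_cancel₀ hgg'm.ne_zero h2).symm
        obtain ⟨M₁, hM₁, hc₁⟩ := gu_hyp_poly hF p g hgm hg0
        obtain ⟨k, hk, M₂, hM₂, hc₂⟩ := ih t.natDegree (by omega) t htm rfl ht0 htd
        subst hk
        obtain ⟨M, hM, hc⟩ := gu_sum hF M₁ M₂ hM₁ hM₂
        exact ⟨_, by omega, M, hM, by rw [hc, hc₁, hc₂, ht]⟩

/-- every self-dual monic polynomial is the characteristic polynomial of an isometry of the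
standard hermitian form -/
theorem exists_gu_charpoly (hF : Fintype.card F = q ^ 2) (p : ℕ) [Fact p.Prime] [CharP F p]
    (n : ℕ) (f : F[X]) (hm : f.Monic) (hn : f.natDegree = n) (h0 : f.coeff 0 ≠ 0)
    (hd : dual (sigQ hF) f = f) :
    ∃ M : Matrix (Fin n) (Fin n) F,
      (∀ u v, hermForm n F q (M *ᵥ u) (M *ᵥ v) = hermForm n F q u v) ∧ M.charpoly = f := by
  obtain ⟨k, rfl, M, hM, hc⟩ := exists_gu_charpoly_aux hF p n f hm hn h0 hd
  exact ⟨M, hM, hc⟩

end Cfsg.Agent.Lib.Helper14.HCount
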