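import Cfsg.Agent.Lib.Helper14.HCount4

set_option autoImplicit false
set_option linter.unusedSectionVars false

/-! # Counting semisimple classes of unitary groups: admissible polynomials -/

namespace Cfsg.Agent.Lib.Helper14.HCount

open Matrix Cfsg Cfsg.Agent.Lib.Helper6 Cfsg.Agent.S0779 Module Polynomial
open Cfsg.Agent.Lib.Helper14.HSemi (sigQ sigQ_apply)

variable {F : Type*} [Field F] [Fintype F] {q : ℕ}

/-- the characteristic polynomials of elements of `SU_n(q)` -/
def Adm (hF : Fintype.card F = q ^ 2) (n : ℕ) (f : F[X]) : Prop :=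
  f.Monic ∧ f.natDegree = n ∧ f.map (sigQ hF : F →+* F) = C ((-1 : F) ^ n) * f.reverse

theorem eps_sq (n : ℕ) : ((-1 : F) ^ n) * (-1) ^ n = 1 := by
  rw [← mul_pow, neg_one_mul, neg_neg, one_pow]

theorem eps_ne (n : ℕ) : ((-1 : F) ^ n) ≠ 0 := pow_ne_zero _ (neg_ne_zero.mpr one_ne_zero)

theorem sig_eps (hF : Fintype.card F = q ^ 2) (n : ℕ) : sigQ hF ((-1) ^ n) = (-1) ^ n := by
  rw [map_pow, map_neg, map_one]

variable {hF : Fintype.card F = q ^ 2} {n : ℕ} {f : F[X]}

theorem Adm.coeff (h : Adm hF n f) {j : ℕ} (hj : j ≤ n) :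
    sigQ hF (f.coeff j) = (-1) ^ n * f.coeff (n - j) := by
  have := congrArg (fun g => Polynomial.coeff g j) h.2.2
  simp only [coeff_map, coeff_C_mul, coeff_reverse, h.2.1, revAt_le hj] at this
  exact this

theorem Adm.coeff_n (h : Adm hF n f) : f.coeff n = 1 := by
  rw [← h.2.1]
  exact h.1.coeff_natDegree

theorem Adm.coeff_zero (h : Adm hF n f) : f.coeff 0 = (-1) ^ n := by
  have h1 := h.coeff (le_refl n)
  rw [h.coeff_n, map_one, Nat.sub_self] at h1
  calc f.coeff 0 = ((-1) ^ n * (-1) ^ n) * f.coeff 0 := by rw [eps_sq, one_mul]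
    _ = (-1) ^ n * ((-1) ^ n * f.coeff 0) := mul_assoc _ _ _
    _ = (-1) ^ n := by rw [← h1, mul_one]

theorem Adm.coeff_zero_ne (h : Adm hF n f) : f.coeff 0 ≠ 0 := by
  rw [h.coeff_zero]
  exact eps_ne n

theorem Adm.dual_eq (h : Adm hF n f) : HCount.dual (sigQ hF) f = f := by
  have h1 : HCount.dual (sigQ hF) f =
      C (sigQ hF (f.coeff 0))⁻¹ * (f.map (sigQ hF : F →+* F)).reverse := rfl
  rw [h1, h.2.2, h.coeff_zero, sig_eps, reverse_mul_of_domain, reverse_C,
    reverse_reverse' h.coeff_zero_ne, ← mul_assoc, ← C_mul, inv_mul_cancel₀ (eps_ne n), C_1,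
    one_mul]

theorem Adm.ext {g : F[X]} (h : Adm hF n f) (h' : Adm hF n g)
    (hc : ∀ i, i + 1 < n → f.coeff (i + 1) = g.coeff (i + 1)) : f = g := by
  ext k
  rcases Nat.lt_trichotomy k n with hk | hk | hk
  · rcases Nat.eq_zero_or_pos k with h0 | h0
    · rw [h0, h.coeff_zero, h'.coeff_zero]
    · have := hc (k - 1) (by omega)
      rwa [Nat.sub_add_cancel h0] at this
  · rw [hk, h.coeff_n, h'.coeff_n]
  · rw [coeff_eq_zero_of_natDegree_lt (by rw [h.2.1]; exact hk),
      coeff_eq_zero_of_natDegree_lt (by rw [h'.2.1]; exact hk)]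

/-- the characteristic polynomial of an element of `SU_n(q)` is admissible -/
theorem charpoly_adm (hF : Fintype.card F = q ^ 2) {n : ℕ} (M : Matrix (Fin n) (Fin n) F)
    (hM : ∀ u v, hermForm n F q (M *ᵥ u) (M *ᵥ v) = hermForm n F q u v) (hdet : M.det = 1) :
    Adm hF n M.charpoly := by
  refine ⟨Matrix.charpoly_monic M, by rw [Matrix.charpoly_natDegree_eq_dim, Fintype.card_fin], ?_⟩
  have h1 := Cfsg.Agent.Lib.Helper14.HSemi.herm_pres_matrix hF M hM
  have h2 : (Mᵀ)⁻¹ = M.map (sigQ hF) := Matrix.inv_eq_right_inv h1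
  have hcp : (M.map (sigQ hF)).charpoly = M.charpoly.map (sigQ hF : F →+* F) :=
    Matrix.charpoly_map M (sigQ hF : F →+* F)
  have hu : IsUnit Mᵀ := by
    rw [Matrix.isUnit_iff_isUnit_det, Matrix.det_transpose, hdet]
    exact isUnit_one
  have hC : C ((-1 : F) ^ n) = (-1 : F[X]) ^ n := by rw [map_pow, map_neg, map_one]
  rw [← hcp, ← h2, Matrix.charpoly_inv _ hu, ← Matrix.reverse_charpoly, Matrix.charpoly_transpose,
    Matrix.det_transpose, hdet, Ring.inverse_one, C_1, mul_one, Fintype.card_fin, hC]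

/-- every admissible polynomial is the characteristic polynomial of an element of `SU_n(q)` -/
theorem exists_su_charpoly (hF : Fintype.card F = q ^ 2) (p : ℕ) [Fact p.Prime] [CharP F p]
    {n : ℕ} {f : F[X]} (h : Adm hF n f) :
    ∃ M : Matrix (Fin n) (Fin n) F,
      (∀ u v, hermForm n F q (M *ᵥ u) (M *ᵥ v) = hermForm n F q u v) ∧ M.det = 1 ∧
        M.charpoly = f := by
  obtain ⟨M, hM, hc⟩ := exists_gu_charpoly hF p n f h.1 h.2.1 h.coeff_zero_ne h.dual_eq
  refine ⟨M, hM, ?_, hc⟩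
  rw [Matrix.det_eq_sign_charpoly_coeff, hc, h.coeff_zero, Fintype.card_fin, eps_sq]

/-- the semilinear involution on the middle coefficients -/
noncomputable def tau (hF : Fintype.card F = q ^ 2) (n : ℕ) (t : Fin (n - 1) → F) : Fin (n - 1) → F :=
  fun i => (-1) ^ n * sigQ hF (t (Fin.rev i))

theorem card_fix_tau (hF : Fintype.card F = q ^ 2) (n : ℕ) :
    Nat.card {t : Fin (n - 1) → F // tau hF n t = t} = q ^ (n - 1) := by
  have hne : ∃ a, sigQ hF a ≠ a := by
    by_contra hcon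
    push Not at hcon
    exact conjQ_ne_id hF (RingHom.ext hcon)
  have h := card_fixed_sq (sigQ hF) (sigQ_sigQ hF) hne (tau hF n)
    (fun x y => by
      funext i
      simp only [tau, Pi.add_apply, map_add, mul_add])
    (fun c w => by
      funext i
      simp only [tau, Pi.smul_apply, smul_eq_mul, map_mul]
      ring)
    (fun w => by
      funext i
      simp only [tau, map_mul, sig_eps, sigQ_sigQ, Fin.rev_rev]
      rw [← mul_assoc, eps_sq, one_mul])
  rw [Nat.card_eq_fintype_card (α := Fin (n - 1) → F), Fintype.card_fun, Fintype.card_fin, hF,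
    ← pow_mul, mul_comm, pow_mul] at h
  exact Nat.pow_left_injective (by norm_num : 2 ≠ 0) h

variable [DecidableEq F]

/-- the polynomial with given middle coefficients -/
noncomputable def polyOf (n : ℕ) (t : Fin (n - 1) → F) : F[X] :=
  X ^ n + X * Polynomial.ofFn (n - 1) t + C ((-1) ^ n)

theorem polyOf_coeff_zero (hn : 1 ≤ n) (t : Fin (n - 1) → F) :
    (polyOf n t).coeff 0 = (-1) ^ n := by
  unfold polyOf
  rw [coeff_add, coeff_add, coeff_X_pow, mul_coeff_zero, coeff_X_zero, zero_mul, coeff_C_zero,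
    if_neg (by omega), zero_add, zero_add]

theorem polyOf_coeff_succ (t : Fin (n - 1) → F) (k : ℕ) :
    (polyOf n t).coeff (k + 1) = (if k + 1 = n then 1 else 0) + (Polynomial.ofFn (n - 1) t).coeff k := by
  unfold polyOf
  rw [coeff_add, coeff_add, coeff_X_pow, coeff_X_mul, coeff_C_succ, add_zero]

theorem polyOf_coeff_mid (t : Fin (n - 1) → F) (i : Fin (n - 1)) :
    (polyOf n t).coeff ((i : ℕ) + 1) = t i := by
  rw [polyOf_coeff_succ, if_neg (by omega), zero_add, ofFn_coeff_eq_val_of_lt t i.2]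

theorem polyOf_coeff_n (hn : 1 ≤ n) (t : Fin (n - 1) → F) : (polyOf n t).coeff n = 1 := by
  obtain ⟨k, rfl⟩ : ∃ k, n = k + 1 := ⟨n - 1, by omega⟩
  rw [polyOf_coeff_succ, if_pos rfl, ofFn_coeff_eq_zero_of_ge t (by omega), add_zero]

theorem polyOf_coeff_gt (t : Fin (n - 1) → F) {k : ℕ} (hk : n < k) : (polyOf n t).coeff k = 0 := by
  obtain ⟨j, rfl⟩ : ∃ j, k = j + 1 := ⟨k - 1, by omega⟩
  rw [polyOf_coeff_succ, if_neg (by omega), ofFn_coeff_eq_zero_of_ge t (by omega), add_zero]

theorem polyOf_natDegree (hn : 1 ≤ n) (t : Fin (n - 1) → F) : (polyOf n t).natDegree = n := by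
  apply le_antisymm
  · rw [natDegree_le_iff_coeff_eq_zero]
    intro N hN
    exact polyOf_coeff_gt t hN
  · apply le_natDegree_of_ne_zero
    rw [polyOf_coeff_n hn]
    exact one_ne_zero

theorem polyOf_adm (hF : Fintype.card F = q ^ 2) (hn : 1 ≤ n) (t : Fin (n - 1) → F)
    (ht : tau hF n t = t) : Adm hF n (polyOf n t) := by
  have hdeg := polyOf_natDegree hn t
  refine ⟨?_, hdeg, ?_⟩
  · unfold Monic leadingCoeff
    rw [hdeg, polyOf_coeff_n hn]
  · ext k
    rw [coeff_map, coeff_C_mul, coeff_reverse, hdeg]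
    show sigQ hF ((polyOf n t).coeff k) = _
    rcases Nat.lt_trichotomy k n with hk | hk | hk
    · rw [revAt_le hk.le]
      rcases Nat.eq_zero_or_pos k with h0 | h0
      · rw [h0, polyOf_coeff_zero hn, Nat.sub_zero, polyOf_coeff_n hn, sig_eps, mul_one]
      · -- middle coefficients
        have hi : k - 1 < n - 1 := by omega
        have hk1 : (polyOf n t).coeff k = t ⟨k - 1, hi⟩ := by
          have := polyOf_coeff_mid t ⟨k - 1, hi⟩
          have e : ((⟨k - 1, hi⟩ : Fin (n - 1)) : ℕ) + 1 = k := by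
            show k - 1 + 1 = k
            omega
          rwa [e] at this
        have hk2 : (polyOf n t).coeff (n - k) = t (Fin.rev ⟨k - 1, hi⟩) := by
          have := polyOf_coeff_mid t (Fin.rev ⟨k - 1, hi⟩)
          have e : ((Fin.rev ⟨k - 1, hi⟩ : Fin (n - 1)) : ℕ) + 1 = n - k := by
            rw [Fin.val_rev]
            show n - 1 - (k - 1 + 1) + 1 = n - k
            omega
          rwa [e] at this
        rw [hk1, hk2]
        have h1 := congrFun ht (Fin.rev ⟨k - 1, hi⟩)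
        unfold tau at h1
        rw [Fin.rev_rev] at h1
        rw [← h1, ← mul_assoc, eps_sq, one_mul]
    · rw [hk, revAt_le (le_refl n), Nat.sub_self, polyOf_coeff_n hn, polyOf_coeff_zero hn, map_one,
        eps_sq]
    · rw [revAt_eq_self_of_lt hk, polyOf_coeff_gt t hk, map_zero, mul_zero]

theorem Adm.mid_fixed (h : Adm hF n f) :
    tau hF n (fun i : Fin (n - 1) => f.coeff ((i : ℕ) + 1)) =
      fun i : Fin (n - 1) => f.coeff ((i : ℕ) + 1) := by
  funext i
  unfold tau
  have h1 := h.coeff (j := ((Fin.rev i : Fin (n - 1)) : ℕ) + 1) (by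
    rw [Fin.val_rev]; omega)
  have e : n - (((Fin.rev i : Fin (n - 1)) : ℕ) + 1) = (i : ℕ) + 1 := by
    rw [Fin.val_rev]
    have := i.2
    omega
  rw [e] at h1
  show (-1) ^ n * sigQ hF (f.coeff (((Fin.rev i : Fin (n - 1)) : ℕ) + 1)) = f.coeff ((i : ℕ) + 1)
  rw [h1, ← mul_assoc, eps_sq, one_mul]

end Cfsg.Agent.Lib.Helper14.HCount
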