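import Cfsg.Agent.Lib.Helper14.SpSemi5

set_option autoImplicit false

/-! # Semisimple isometries of hermitian forms: basic algebra -/

namespace Cfsg.Agent.Lib.Helper14.HSemi

open Polynomial Cfsg.Agent.Lib.Helper14.SpSemi

variable {K : Type*} [Field K] {V : Type*} [AddCommGroup V] [Module K V]

/-- a hermitian form `β` (linear in the first variable) with respect to the involution `σ`, an
isometry `g` with inverse `h`, of order dividing `m` prime to the characteristic -/
structure HSetup (σ : K ≃+* K) (β : V → V → K) (g h : Module.End K V) (m : ℕ) : Prop where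
  σσ : ∀ a, σ (σ a) = a
  σne : ∃ a, σ a ≠ a
  add_left : ∀ x y z, β (x + y) z = β x z + β y z
  smul_left : ∀ (a : K) x z, β (a • x) z = a * β x z
  herm : ∀ x y, β y x = σ (β x y)
  gh : g * h = 1
  hg : h * g = 1
  pres : ∀ x y, β (g x) (g y) = β x y
  hm : (m : K) ≠ 0
  gm : g ^ m = 1

/-- `β` is nondegenerate on the subspace `W` -/
def NDegH (β : V → V → K) (W : Submodule K V) : Prop :=
  ∀ x ∈ W, (∀ y ∈ W, β x y = 0) → x = 0

namespace HSetup

variable {σ : K ≃+* K} {β : V → V → K} {g h : Module.End K V} {m : ℕ}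

theorem add_right (S : HSetup σ β g h m) (x y z : V) : β x (y + z) = β x y + β x z := by
  rw [S.herm, S.add_left, map_add, ← S.herm, ← S.herm]

theorem smul_right (S : HSetup σ β g h m) (a : K) (x y : V) : β x (a • y) = σ a * β x y := by
  rw [S.herm, S.smul_left, map_mul, ← S.herm]

theorem zero_left (S : HSetup σ β g h m) (y : V) : β 0 y = 0 := by
  have := S.smul_left 0 0 y
  rwa [zero_smul, zero_mul] at this

theorem zero_right (S : HSetup σ β g h m) (x : V) : β x 0 = 0 := by
  rw [S.herm, S.zero_left, map_zero]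

theorem neg_left (S : HSetup σ β g h m) (x y : V) : β (-x) y = - β x y := by
  have := S.smul_left (-1) x y
  rwa [neg_one_smul, neg_one_mul] at this

theorem neg_right (S : HSetup σ β g h m) (x y : V) : β x (-y) = - β x y := by
  rw [S.herm, S.neg_left, map_neg, ← S.herm]

theorem sub_left (S : HSetup σ β g h m) (x y z : V) : β (x - y) z = β x z - β y z := by
  rw [sub_eq_add_neg, S.add_left, S.neg_left, ← sub_eq_add_neg]

theorem sub_right (S : HSetup σ β g h m) (x y z : V) : β x (y - z) = β x y - β x z := by
  rw [sub_eq_add_neg, S.add_right, S.neg_right, ← sub_eq_add_neg]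

/-- the linear functional `x ↦ β x v` -/
def lin (S : HSetup σ β g h m) (v : V) : V →ₗ[K] K where
  toFun x := β x v
  map_add' x y := S.add_left x y v
  map_smul' a x := by
    rw [S.smul_left, RingHom.id_apply, smul_eq_mul]

@[simp] theorem lin_apply (S : HSetup σ β g h m) (v x : V) : S.lin v x = β x v := rfl

/-- the underlying algebraic setup, with the zero form -/
theorem toSetup (S : HSetup σ β g h m) : Setup (0 : LinearMap.BilinForm K V) g h m where
  alt := fun _ => rfl
  gh := S.gh
  hg := S.hg
  pres := fun _ _ => rfl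
  hm := S.hm
  gm := S.gm

theorem g_h_apply (S : HSetup σ β g h m) (x : V) : g (h x) = x := S.toSetup.g_h_apply x

theorem h_g_apply (S : HSetup σ β g h m) (x : V) : h (g x) = x := S.toSetup.h_g_apply x

theorem m_pos (S : HSetup σ β g h m) : 0 < m := S.toSetup.m_pos

theorem h_eq (S : HSetup σ β g h m) : h = g ^ (m - 1) := S.toSetup.h_eq

theorem aeval_h (S : HSetup σ β g h m) (P : K[X]) :
    aeval h P = aeval g (P.comp (X ^ (m - 1))) := S.toSetup.aeval_h P

theorem split (S : HSetup σ β g h m) {f : K[X]} (hf : Irreducible f) :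
    ∃ A B : K[X], ∀ w : V, aeval g f (aeval g A w) = 0 ∧
      w = aeval g A w + aeval g f (aeval g B w) := S.toSetup.split hf

theorem adj (S : HSetup σ β g h m) (x y : V) : β (g x) y = β x (h y) := by
  rw [← S.pres x (h y), S.g_h_apply]

theorem adj' (S : HSetup σ β g h m) (x y : V) : β (h x) y = β x (g y) := by
  rw [← S.pres (h x) y, S.g_h_apply]

theorem symm (S : HSetup σ β g h m) : HSetup σ β h g m where
  σσ := S.σσ
  σne := S.σne
  add_left := S.add_left
  smul_left := S.smul_left
  herm := S.herm
  gh := S.hg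
  hg := S.gh
  pres := fun x y => by rw [S.adj', S.g_h_apply]
  hm := S.hm
  gm := S.toSetup.symm.gm

theorem adj_pow (S : HSetup σ β g h m) (n : ℕ) (x y : V) : β ((g ^ n) x) y = β x ((h ^ n) y) := by
  induction n generalizing x y with
  | zero => simp
  | succ n ih =>
    rw [pow_succ, pow_succ', Module.End.mul_apply, Module.End.mul_apply, ih, S.adj]

/-- the adjoint of a polynomial in `g` -/
theorem adjP (S : HSetup σ β g h m) (P : K[X]) (x y : V) :
    β (aeval g P x) y = β x (aeval h (P.map (σ : K →+* K)) y) := by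
  induction P using Polynomial.induction_on' with
  | add p q hp hq =>
    rw [map_add, LinearMap.add_apply, S.add_left, hp, hq, Polynomial.map_add, map_add,
      LinearMap.add_apply, S.add_right]
  | monomial n a =>
    rw [Polynomial.map_monomial, aeval_monomial, aeval_monomial, Module.End.mul_apply,
      Module.End.mul_apply, Module.algebraMap_end_apply, Module.algebraMap_end_apply, S.smul_left,
      S.smul_right, S.adj_pow, RingHom.coe_coe, S.σσ]

theorem adjP' (S : HSetup σ β g h m) (P : K[X]) (x y : V) :
    β x (aeval g P y) = β (aeval h (P.map (σ : K →+* K)) x) y := by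
  rw [S.herm, S.adjP, ← S.herm]

/-- the twist of a polynomial -/
noncomputable def tw (σ : K ≃+* K) (m : ℕ) (P : K[X]) : K[X] :=
  (P.map (σ : K →+* K)).comp (X ^ (m - 1))

theorem adjT (S : HSetup σ β g h m) (P : K[X]) (x y : V) :
    β (aeval g P x) y = β x (aeval g (tw σ m P) y) := by
  rw [S.adjP, S.aeval_h]
  rfl

theorem adjT' (S : HSetup σ β g h m) (P : K[X]) (x y : V) :
    β x (aeval g P y) = β (aeval g (tw σ m P) x) y := by
  rw [S.adjP', S.aeval_h]
  rfl

theorem map_map_σ (S : HSetup σ β g h m) (P : K[X]) :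
    (P.map (σ : K →+* K)).map (σ : K →+* K) = P := by
  rw [Polynomial.map_map]
  have : (σ : K →+* K).comp (σ : K →+* K) = RingHom.id K := by
    ext a
    exact S.σσ a
  rw [this, Polynomial.map_id]

theorem irreducible_map (_S : HSetup σ β g h m) {f : K[X]} (hf : Irreducible f) :
    Irreducible (f.map (σ : K →+* K)) := by
  have h1 : f.map (σ : K →+* K) = Polynomial.mapEquiv σ f := rfl
  rw [h1]
  exact (MulEquiv.irreducible_iff (Polynomial.mapEquiv σ).toMulEquiv).mpr hf

end HSetup

end Cfsg.Agent.Lib.Helper14.HSemi
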