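import Cfsg.Agent.Lib.Helper14.HSemi9
import Cfsg.Agent.Lib.Helper6.Unitary

set_option autoImplicit false

/-! # Semisimple classes of the unitary groups: the matrix form -/

namespace Cfsg.Agent.Lib.Helper14.HSemi

open Matrix Cfsg Cfsg.Agent.Lib.Helper6 Cfsg.Agent.S0779

variable {F : Type*} [Field F] [Fintype F] {q : ℕ}

/-- the involution `x ↦ x ^ q` as a ring equivalence -/
noncomputable def sigQ (hF : Fintype.card F = q ^ 2) : F ≃+* F :=
  RingEquiv.ofRingHom (conjQ hF) (conjQ hF) (RingHom.ext (conjQ_conjQ hF))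
    (RingHom.ext (conjQ_conjQ hF))

theorem sigQ_apply (hF : Fintype.card F = q ^ 2) (x : F) : sigQ hF x = x ^ q := rfl

variable {n : ℕ}

theorem herm_ndeg (hF : Fintype.card F = q ^ 2) : NDegH (hermForm n F q) ⊤ :=
  fun x _ h => herm_nondeg hF x (fun y => h y Submodule.mem_top)

theorem herm_setup (hF : Fintype.card F = q ^ 2) (p : ℕ) [Fact p.Prime] [CharP F p]
    (M M' : Matrix (Fin n) (Fin n) F) (h1 : M * M' = 1) (h2 : M' * M = 1)
    (hpres : ∀ u v, hermForm n F q (M *ᵥ u) (M *ᵥ v) = hermForm n F q u v) (m : ℕ)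
    (hMm : M ^ m = 1) (hm : ¬ p ∣ m) :
    HSetup (sigQ hF) (hermForm n F q) (Matrix.toLin' M) (Matrix.toLin' M') m where
  σσ := conjQ_conjQ hF
  σne := by
    by_contra hcon
    push Not at hcon
    exact conjQ_ne_id hF (RingHom.ext hcon)
  add_left := herm_add_left
  smul_left := herm_smul_left
  herm := fun x y => (herm_conj hF x y).symm
  gh := by
    rw [Module.End.mul_eq_comp, ← Matrix.toLin'_mul, h1, Matrix.toLin'_one]
    rfl
  hg := by
    rw [Module.End.mul_eq_comp, ← Matrix.toLin'_mul, h2, Matrix.toLin'_one]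
    rfl
  pres := fun x y => by
    rw [Matrix.toLin'_apply, Matrix.toLin'_apply]
    exact hpres x y
  hm := fun h0 => hm ((CharP.cast_eq_zero_iff F p m).mp h0)
  gm := by
    rw [← Matrix.toLin'_pow, hMm, Matrix.toLin'_one]
    rfl

/-- the matrix identity expressing that `C` preserves the hermitian form -/
theorem herm_pres_matrix (hF : Fintype.card F = q ^ 2) (C : Matrix (Fin n) (Fin n) F)
    (hC : ∀ u v, hermForm n F q (C *ᵥ u) (C *ᵥ v) = hermForm n F q u v) :
    Cᵀ * C.map (sigQ hF) = 1 := by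
  ext i j
  have h := hC (Pi.single i 1) (Pi.single j 1)
  rw [herm_single_right hF] at h
  simp only [hermForm, Matrix.mulVec_single_one, Matrix.col_apply] at h
  rw [Matrix.mul_apply]
  simp only [Matrix.transpose_apply, Matrix.map_apply, sigQ_apply]
  rw [h, Matrix.one_apply, Pi.single_apply]
  by_cases hij : i = j
  · simp [hij]
  · simp [hij, Ne.symm hij]

theorem herm_det_norm (hF : Fintype.card F = q ^ 2) (C : Matrix (Fin n) (Fin n) F)
    (hC : ∀ u v, hermForm n F q (C *ᵥ u) (C *ᵥ v) = hermForm n F q u v) :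
    C.det * sigQ hF C.det = 1 := by
  have h := congrArg Matrix.det (herm_pres_matrix hF C hC)
  rw [Matrix.det_mul, Matrix.det_transpose, Matrix.det_one] at h
  rw [← h]
  congr 1
  exact (RingHom.map_det (sigQ hF : F →+* F) C)

/-- Semisimple isometries of the standard hermitian form with the same characteristic polynomial
are conjugate by an isometry of determinant one. -/
theorem herm_conj_of_charpoly (hF : Fintype.card F = q ^ 2) (p : ℕ) [Fact p.Prime] [CharP F p]
    (hn : 0 < n)
    (M M' N N' : Matrix (Fin n) (Fin n) F) (h1 : M * M' = 1) (h2 : M' * M = 1)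
    (h3 : N * N' = 1) (h4 : N' * N = 1)
    (hM : ∀ u v, hermForm n F q (M *ᵥ u) (M *ᵥ v) = hermForm n F q u v)
    (hN : ∀ u v, hermForm n F q (N *ᵥ u) (N *ᵥ v) = hermForm n F q u v) (m : ℕ)
    (hMm : M ^ m = 1) (hNm : N ^ m = 1) (hm : ¬ p ∣ m) (hc : M.charpoly = N.charpoly) :
    ∃ C : Matrix (Fin n) (Fin n) F, C.det = 1 ∧
      (∀ u v, hermForm n F q (C *ᵥ u) (C *ᵥ v) = hermForm n F q u v) ∧ C * M = N * C := by
  have S := herm_setup hF p M M' h1 h2 hM m hMm hm
  have S' := herm_setup hF p N N' h3 h4 hN m hNm hm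
  obtain ⟨φ, hφ1, hφ2⟩ := main S S' (herm_ndeg hF)
    (by rw [Matrix.charpoly_toLin', Matrix.charpoly_toLin', hc])
  set C := LinearMap.toMatrix' (φ : (Fin n → F) →ₗ[F] (Fin n → F)) with hC
  have hCx : ∀ x, φ x = C *ᵥ x := fun x => (LinearMap.toMatrix'_mulVec _ x).symm
  have hCpres : ∀ u v, hermForm n F q (C *ᵥ u) (C *ᵥ v) = hermForm n F q u v := by
    intro u v
    rw [← hCx, ← hCx]
    exact hφ1 u v
  have hdet := herm_det_norm hF C hCpres
  have hd0 : C.det ≠ 0 := by
    intro h0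
    rw [h0, zero_mul] at hdet
    exact zero_ne_one hdet
  have hV : 0 < Module.finrank F (Fin n → F) := by
    rw [Module.finrank_fin_fun]
    exact hn
  have hdinv : (C.det)⁻¹ * sigQ hF (C.det)⁻¹ = 1 := by
    rw [map_inv₀, ← mul_inv, hdet, inv_one]
  obtain ⟨z, hz1, hz2, hz3⟩ := S.exists_centralizer_det (herm_ndeg hF) hV _ hdinv
  set Z := LinearMap.toMatrix' z with hZ
  have hZx : ∀ x, z x = Z *ᵥ x := fun x => (LinearMap.toMatrix'_mulVec _ x).symm
  have hZdet : Z.det = (C.det)⁻¹ := by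
    rw [hZ, LinearMap.det_toMatrix']
    exact hz3
  refine ⟨C * Z, ?_, ?_, ?_⟩
  · rw [Matrix.det_mul, hZdet, mul_inv_cancel₀ hd0]
  · intro u v
    rw [← Matrix.mulVec_mulVec, ← Matrix.mulVec_mulVec, hCpres, ← hZx, ← hZx]
    exact hz1 u v
  · have hcomm : C * M = N * C := by
      apply Matrix.toLin'.injective
      apply LinearMap.ext
      intro x
      rw [Matrix.toLin'_mul, Matrix.toLin'_mul, LinearMap.comp_apply, LinearMap.comp_apply,
        Matrix.toLin'_apply C, Matrix.toLin'_apply C, ← hCx, ← hCx]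
      exact hφ2 x
    have hcomm2 : Z * M = M * Z := by
      apply Matrix.toLin'.injective
      apply LinearMap.ext
      intro x
      rw [Matrix.toLin'_mul, Matrix.toLin'_mul, LinearMap.comp_apply, LinearMap.comp_apply,
        Matrix.toLin'_apply Z, Matrix.toLin'_apply Z, ← hZx, ← hZx]
      exact hz2 x
    rw [Matrix.mul_assoc, hcomm2, ← Matrix.mul_assoc, hcomm, Matrix.mul_assoc]

end Cfsg.Agent.Lib.Helper14.HSemi
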