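import Cfsg.Agent.Lib.Helper14.HSemi1

set_option autoImplicit false

/-! # Semisimple isometries of hermitian forms: hyperbolic blocks -/

namespace Cfsg.Agent.Lib.Helper14.HSemi

open Polynomial Cfsg.Agent.Lib.Helper14.SpSemi

variable {K : Type*} [Field K] {V : Type*} [AddCommGroup V] [Module K V]
  {V' : Type*} [AddCommGroup V'] [Module K V']

/-- `φ` induces an equivariant isometry of `H` onto `H'` -/
structure HBlock (β : V → V → K) (β' : V' → V' → K)
    (g : Module.End K V) (g' : Module.End K V') (H : Submodule K V) (H' : Submodule K V')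
    (φ : V →ₗ[K] V') : Prop where
  maps : ∀ x ∈ H, φ x ∈ H'
  surj : ∀ y ∈ H', ∃ x ∈ H, φ x = y
  isom : ∀ x ∈ H, ∀ y ∈ H, β' (φ x) (φ y) = β x y
  equi : ∀ x ∈ H, φ (g x) = g' (φ x)

theorem HBlock.ndeg {β : V → V → K} {β' : V' → V' → K}
    {g : Module.End K V} {g' : Module.End K V'} {H : Submodule K V} {H' : Submodule K V'}
    {φ : V →ₗ[K] V'} (B : HBlock β β' g g' H H' φ) (hH : NDegH β H) : NDegH β' H' := by
  intro x' hx' hx'0
  obtain ⟨x, hx, rfl⟩ := B.surj x' hx'
  have : x = 0 := by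
    apply hH x hx
    intro y hy
    rw [← B.isom x hx y hy]
    exact hx'0 _ (B.maps y hy)
  rw [this, map_zero]

namespace HSetup

variable {σ : K ≃+* K} {β : V → V → K} {g h : Module.End K V} {m : ℕ}

/-- representing a functional on a nondegenerate subspace -/
theorem exists_repr [Finite K] [FiniteDimensional K V] (S : HSetup σ β g h m)
    {W : Submodule K V} (hW : NDegH β W) (ℓ : V →ₗ[K] K) :
    ∃ w ∈ W, ∀ x ∈ W, β x w = ℓ x := by
  have : Finite V := Module.finite_of_finite K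
  let T : W → Module.Dual K W := fun w => (S.lin w.1).comp W.subtype
  have hT : ∀ (w x : W), T w x = β (x : V) (w : V) := fun w x => rfl
  have hinj : Function.Injective T := by
    intro w₁ w₂ h12
    have h0 : ∀ x ∈ W, β ((w₁ : V) - w₂) x = 0 := by
      intro x hx
      have := LinearMap.congr_fun h12 ⟨x, hx⟩
      rw [hT, hT] at this
      rw [S.herm, S.sub_right, this, sub_self, map_zero]
    have := hW _ (W.sub_mem w₁.2 w₂.2) h0
    exact Subtype.ext (sub_eq_zero.mp this)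
  have : Finite (Module.Dual K W) := Module.finite_of_finite K
  have hcard : Nat.card (Module.Dual K W) = Nat.card W := by
    rw [Module.natCard_eq_pow_finrank (K := K) (V := Module.Dual K W),
      Module.natCard_eq_pow_finrank (K := K) (V := W), Subspace.dual_finrank_eq]
  have hbij : Function.Bijective T :=
    (Nat.bijective_iff_injective_and_card T).mpr ⟨hinj, hcard.symm⟩
  obtain ⟨w, hw⟩ := hbij.2 (ℓ.comp W.subtype)
  refine ⟨w.1, w.2, fun x hx => ?_⟩
  have := LinearMap.congr_fun hw ⟨x, hx⟩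
  rw [hT] at this
  exact this

/-- a vector killed by `f(g)` pairs nontrivially with a vector killed by `f^σ(g⁻¹)` -/
theorem partner (S : HSetup σ β g h m) {W : Submodule K V} (hW : NDegH β W)
    (hWh : ∀ x ∈ W, h x ∈ W) {f : K[X]} (hf : Irreducible f) {u : V} (huW : u ∈ W)
    (hu : u ≠ 0) (hfu : aeval g f u = 0) :
    ∃ v ∈ W, aeval h (f.map (σ : K →+* K)) v = 0 ∧ β u v ≠ 0 := by
  obtain ⟨w, hwW, hw⟩ : ∃ w ∈ W, β u w ≠ 0 := by
    by_contra hcon
    push Not at hcon
    exact hu (hW u huW hcon)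
  obtain ⟨A, B, hAB⟩ := S.symm.split (S.irreducible_map hf)
  refine ⟨aeval h A w, aeval_mem hWh A hwW, (hAB w).1, ?_⟩
  have h1 : β u w = β u (aeval h A w) := by
    have h2 : β u (aeval h (f.map (σ : K →+* K)) (aeval h B w)) = 0 := by
      rw [← S.adjP, hfu, S.zero_left]
    conv_lhs => rw [(hAB w).2]
    rw [S.add_right, h2, add_zero]
  rwa [← h1]

/-- if `f` is prime to its twist, `ker f(g)` is totally isotropic -/
theorem iso_of_coprime (S : HSetup σ β g h m) {f : K[X]}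
    (hc : IsCoprime f (tw σ m f)) {x y : V} (hx : aeval g f x = 0)
    (hy : aeval g f y = 0) : β x y = 0 := by
  obtain ⟨a, b, hab⟩ := hc
  have h1 : aeval g (a * f + b * tw σ m f) y = y := by
    rw [hab, map_one, Module.End.one_apply]
  rw [map_add, LinearMap.add_apply, aeval_mul_apply, hy, map_zero, zero_add, aeval_mul_apply'] at h1
  rw [← h1, ← S.adjT, hx, S.zero_left]

theorem tw_map_σ (_S : HSetup σ β g h m) (f : K[X]) :
    tw σ m (f.map (σ : K →+* K)) = (tw σ m f).map (σ : K →+* K) := by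
  unfold tw
  rw [Polynomial.map_comp, Polynomial.map_pow, Polynomial.map_X]

theorem coprime_map (S : HSetup σ β g h m) {f : K[X]} (hc : IsCoprime f (tw σ m f)) :
    IsCoprime (f.map (σ : K →+* K)) (tw σ m (f.map (σ : K →+* K))) := by
  rw [S.tw_map_σ]
  exact hc.map (Polynomial.mapRingHom (σ : K →+* K))

/-- perfectness of the pairing between the two cyclic modules, right side -/
theorem pair_right (S : HSetup σ β g h m) {f : K[X]} (hf : Irreducible f) {u v : V}
    (hfv : aeval h f v = 0) (huv : β u v ≠ 0) (R : K[X])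
    (hR : ∀ P : K[X], β (aeval g P u) (aeval h R v) = 0) : aeval h R v = 0 := by
  by_contra hne
  let L : Submodule K V :=
    { carrier := {y | ∀ P : K[X], β (aeval g P u) y = 0}
      add_mem' := fun {a b} ha hb P => by
        show β (aeval g P u) (a + b) = 0
        rw [S.add_right, ha P, hb P, add_zero]
      zero_mem' := fun P => by
        show β (aeval g P u) 0 = 0
        rw [S.zero_right]
      smul_mem' := fun c a ha P => by
        show β (aeval g P u) (c • a) = 0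
        rw [S.smul_right, ha P, mul_zero] }
  have hLh : ∀ y ∈ L, h y ∈ L := fun y hy P => by
    show β (aeval g P u) (h y) = 0
    rw [← S.adj, Setup.g_aeval]
    exact hy _
  have hv : v ∈ L := cyc_irr (g := h) hf hfv hLh (P := R) hR hne
  apply huv
  have := hv (1 : K[X])
  simpa using this

/-- perfectness of the pairing between the two cyclic modules, left side -/
theorem pair_left (S : HSetup σ β g h m) {f : K[X]} (hf : Irreducible f) {u v : V}
    (hfu : aeval g f u = 0) (huv : β u v ≠ 0) (P : K[X])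
    (hP : ∀ R : K[X], β (aeval g P u) (aeval h R v) = 0) : aeval g P u = 0 := by
  apply S.symm.pair_right hf hfu (u := v) (v := u) _ P
  · intro R
    rw [S.herm, hP R, map_zero]
  · rw [S.herm]
    intro h0
    apply huv
    have := congrArg σ h0
    rwa [S.σσ, map_zero] at this

theorem hyp_block [Finite K] [FiniteDimensional K V'] {β' : V' → V' → K}
    {g' h' : Module.End K V'}
    (S : HSetup σ β g h m) (S' : HSetup σ β' g' h' m) {f : K[X]} (hf : Irreducible f)
    {W : Submodule K V} {W' : Submodule K V'} (hW : NDegH β W) (hW' : NDegH β' W')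
    (hWg : ∀ x ∈ W, g x ∈ W) (hWh : ∀ x ∈ W, h x ∈ W)
    (hWg' : ∀ x ∈ W', g' x ∈ W') (hWh' : ∀ x ∈ W', h' x ∈ W')
    {u : V} (huW : u ∈ W) (hu : u ≠ 0) (hfu : aeval g f u = 0)
    {u' : V'} (huW' : u' ∈ W') (hu' : u' ≠ 0) (hfu' : aeval g' f u' = 0)
    (isoU : ∀ P Q : K[X], β (aeval g P u) (aeval g Q u) = 0)
    (isoC : ∀ v, aeval h (f.map (σ : K →+* K)) v = 0 →
      ∀ P Q : K[X], β (aeval h P v) (aeval h Q v) = 0)
    (isoU' : ∀ P Q : K[X], β' (aeval g' P u') (aeval g' Q u') = 0)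
    (isoC' : ∀ v, aeval h' (f.map (σ : K →+* K)) v = 0 →
      ∀ P Q : K[X], β' (aeval h' P v) (aeval h' Q v) = 0) :
    ∃ (H : Submodule K V) (H' : Submodule K V') (φ : V →ₗ[K] V'),
      u ∈ H ∧ H ≤ W ∧ H' ≤ W' ∧ (∀ x ∈ H, g x ∈ H) ∧ (∀ x ∈ H, h x ∈ H) ∧
      (∀ x ∈ H', g' x ∈ H') ∧ (∀ x ∈ H', h' x ∈ H') ∧ NDegH β H ∧ HBlock β β' g g' H H' φ := by
  have hfσ : Irreducible (f.map (σ : K →+* K)) := S.irreducible_map hf
  -- the partner of `u`
  obtain ⟨v, hvW, hfv, huv⟩ := S.partner hW hWh hf huW hu hfu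
  -- transport of the pairing functional
  obtain ⟨ψ, hψ⟩ := factor_exists (evl g' u') (evl g u) (by
    intro P hP
    rw [LinearMap.mem_ker, evl_apply] at hP ⊢
    obtain ⟨c, rfl⟩ := ann_dvd hf hu' hfu' hP
    rw [aeval_mul_apply', hfu, map_zero])
  obtain ⟨w', hw'W, hw'⟩ := S'.exists_repr hW' ((S.lin v).comp ψ)
  obtain ⟨A, B, hAB⟩ := S'.symm.split hfσ
  set v' : V' := aeval h' A w' with hv'def
  have hfv' : aeval h' (f.map (σ : K →+* K)) v' = 0 := (hAB w').1
  have hv'W : v' ∈ W' := aeval_mem hWh' A hw'W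
  -- the key compatibility
  have key : ∀ P : K[X], β' (aeval g' P u') v' = β (aeval g P u) v := by
    intro P
    have h1 : β' (aeval g' P u') w' = β (aeval g P u) v := by
      rw [hw' _ (aeval_mem hWg' P huW')]
      have := hψ P
      rw [evl_apply, evl_apply] at this
      rw [LinearMap.comp_apply, this, HSetup.lin_apply]
    have h2 : β' (aeval g' P u') (aeval h' (f.map (σ : K →+* K)) (aeval h' B w')) = 0 := by
      rw [← S'.adjP, aeval_comm_zero hfu', S'.zero_left]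
    rw [← h1]
    conv_rhs => rw [(hAB w').2]
    rw [S'.add_right, h2, add_zero]
  have huv' : β' u' v' ≠ 0 := by
    have := key (1 : K[X])
    simp only [map_one, Module.End.one_apply] at this
    rw [this]
    exact huv
  -- the general pairing
  have key2 : ∀ P R : K[X],
      β' (aeval g' P u') (aeval h' R v') = β (aeval g P u) (aeval h R v) := by
    intro P R
    rw [S'.symm.adjP', S.symm.adjP', ← aeval_mul_apply, ← aeval_mul_apply, key]
  -- the two maps
  set Φ : (K[X] × K[X]) →ₗ[K] V := (evl g u).coprod (evl h v) with hΦ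
  set Φ' : (K[X] × K[X]) →ₗ[K] V' := (evl g' u').coprod (evl h' v') with hΦ'
  have hΦa : ∀ P R, Φ (P, R) = aeval g P u + aeval h R v := fun P R => by
    rw [hΦ, LinearMap.coprod_apply, evl_apply, evl_apply]
  have hΦ'a : ∀ P R, Φ' (P, R) = aeval g' P u' + aeval h' R v' := fun P R => by
    rw [hΦ', LinearMap.coprod_apply, evl_apply, evl_apply]
  -- vanishing
  have hvan : ∀ P R : K[X], (∀ x ∈ LinearMap.range Φ, β (aeval g P u + aeval h R v) x = 0) →
      aeval g P u = 0 ∧ aeval h R v = 0 := by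
    intro P R hx
    constructor
    · apply S.pair_left hf hfu huv P
      intro R₂
      have := hx (aeval h R₂ v) ⟨(0, R₂), by rw [hΦa]; simp⟩
      rw [S.add_left, isoC v hfv, add_zero] at this
      exact this
    · apply S.pair_right hfσ hfv huv R
      intro P₂
      have := hx (aeval g P₂ u) ⟨(P₂, 0), by rw [hΦa]; simp⟩
      rw [S.add_left, isoU, zero_add] at this
      rw [S.herm, this, map_zero]
  have hker : LinearMap.ker Φ ≤ LinearMap.ker Φ' := by
    rintro ⟨P, R⟩ hPR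
    rw [LinearMap.mem_ker, hΦa] at hPR
    rw [LinearMap.mem_ker, hΦ'a]
    obtain ⟨h1, h2⟩ := hvan P R (fun x _ => by rw [hPR, S.zero_left])
    obtain ⟨c, rfl⟩ := ann_dvd hf hu hfu h1
    have hv0 : v ≠ 0 := by
      rintro rfl
      apply huv
      rw [S.zero_right]
    obtain ⟨d, rfl⟩ := ann_dvd hfσ hv0 hfv h2
    rw [aeval_mul_apply', hfu', map_zero, aeval_mul_apply', hfv', map_zero, add_zero]
  obtain ⟨φ, hφ⟩ := factor_exists Φ Φ' hker
  have gΦ : ∀ P R, g (Φ (P, R)) = Φ (X * P, X ^ (m - 1) * R) := by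
    intro P R
    rw [hΦa, hΦa, map_add, Setup.g_aeval]
    congr 1
    rw [aeval_mul_apply, aeval_X_pow, ← S.symm.h_eq]
  have hΦh : ∀ P R, h (Φ (P, R)) = Φ (X ^ (m - 1) * P, X * R) := by
    intro P R
    rw [hΦa, hΦa, map_add, Setup.g_aeval]
    congr 1
    rw [aeval_mul_apply, aeval_X_pow, ← S.h_eq]
  have gΦ' : ∀ P R, g' (Φ' (P, R)) = Φ' (X * P, X ^ (m - 1) * R) := by
    intro P R
    rw [hΦ'a, hΦ'a, map_add, Setup.g_aeval]
    congr 1
    rw [aeval_mul_apply, aeval_X_pow, ← S'.symm.h_eq]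
  have hΦ'h : ∀ P R, h' (Φ' (P, R)) = Φ' (X ^ (m - 1) * P, X * R) := by
    intro P R
    rw [hΦ'a, hΦ'a, map_add, Setup.g_aeval]
    congr 1
    rw [aeval_mul_apply, aeval_X_pow, ← S'.h_eq]
  refine ⟨LinearMap.range Φ, LinearMap.range Φ', φ, ⟨(1, 0), by rw [hΦa]; simp⟩, ?_, ?_, ?_, ?_,
    ?_, ?_, ?_, ?_⟩
  · rintro _ ⟨⟨P, R⟩, rfl⟩
    rw [hΦa]
    exact W.add_mem (aeval_mem hWg P huW) (aeval_mem hWh R hvW)
  · rintro _ ⟨⟨P, R⟩, rfl⟩
    rw [hΦ'a]
    exact W'.add_mem (aeval_mem hWg' P huW') (aeval_mem hWh' R hv'W)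
  · rintro _ ⟨⟨P, R⟩, rfl⟩
    exact ⟨_, (gΦ P R).symm⟩
  · rintro _ ⟨⟨P, R⟩, rfl⟩
    exact ⟨_, (hΦh P R).symm⟩
  · rintro _ ⟨⟨P, R⟩, rfl⟩
    exact ⟨_, (gΦ' P R).symm⟩
  · rintro _ ⟨⟨P, R⟩, rfl⟩
    exact ⟨_, (hΦ'h P R).symm⟩
  · rintro _ ⟨⟨P, R⟩, rfl⟩ hx
    rw [hΦa] at hx ⊢
    obtain ⟨h1, h2⟩ := hvan P R hx
    rw [h1, h2, add_zero]
  · refine ⟨?_, ?_, ?_, ?_⟩
    · rintro _ ⟨x, rfl⟩
      exact ⟨x, (hφ x).symm⟩
    · rintro _ ⟨x, rfl⟩
      exact ⟨Φ x, ⟨x, rfl⟩, hφ x⟩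
    · rintro _ ⟨⟨P₁, R₁⟩, rfl⟩ _ ⟨⟨P₂, R₂⟩, rfl⟩
      rw [hφ, hφ, hΦa, hΦa, hΦ'a, hΦ'a]
      rw [S'.add_left, S'.add_right, S'.add_right, S.add_left, S.add_right, S.add_right]
      rw [isoU, isoU', isoC v hfv, isoC' v' hfv', key2, S'.herm (aeval g' P₂ u'), key2,
        ← S.herm]
    · rintro _ ⟨⟨P, R⟩, rfl⟩
      rw [gΦ, hφ, hφ, gΦ']

end HSetup


end Cfsg.Agent.Lib.Helper14.HSemi
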