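import Cfsg.Agent.Lib.Helper14.HSemi2

set_option autoImplicit false

/-! # Semisimple isometries of hermitian forms: anisotropic cyclic blocks -/

namespace Cfsg.Agent.Lib.Helper14.HSemi

open Polynomial Cfsg.Agent.Lib.Helper14.SpSemi
open HSetup (tw)

/-- Two nonzero hermitian functionals on a finite field with involution differ by a norm. -/
theorem normformH {K E : Type*} [Field K] [Field E] [Algebra K E] [Finite E]
    (σ : K ≃+* K) (hσσ : ∀ a, σ (σ a) = a)
    (σE : E ≃+* E) (hσ2 : ∀ x, σE (σE x) = x) (hσ : ∃ x, σE x ≠ x)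
    (Λ Λ' : E →ₗ[K] K) (hΛ : Λ ≠ 0) (hΛ' : Λ' ≠ 0)
    (hH : ∀ a, Λ (σE a) = σ (Λ a)) (hH' : ∀ a, Λ' (σE a) = σ (Λ' a)) :
    ∃ c : E, c ≠ 0 ∧ ∀ s, Λ' (c * σE c * s) = Λ s := by
  have : Module.Finite K E := Module.Finite.of_finite
  let T : E →ₗ[K] Module.Dual K E := (LinearMap.mul K E).compr₂ Λ'
  have hT : ∀ t s, T t s = Λ' (t * s) := fun t s => rfl
  have hker : ∀ t, (∀ s, Λ' (t * s) = 0) → t = 0 := by
    intro t ht
    by_contra ht0
    apply hΛ'
    ext x
    have := ht (t⁻¹ * x)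
    rw [mul_inv_cancel_left₀ ht0] at this
    rw [this, LinearMap.zero_apply]
  have hinj : Function.Injective T := by
    rw [← LinearMap.ker_eq_bot, LinearMap.ker_eq_bot']
    intro t ht
    apply hker
    intro s
    rw [← hT, ht, LinearMap.zero_apply]
  have hsurj : Function.Surjective T :=
    (LinearMap.injective_iff_surjective_of_finrank_eq_finrank
      (Subspace.dual_finrank_eq).symm).mp hinj
  obtain ⟨t, ht⟩ := hsurj Λ
  have htΛ : ∀ s, Λ' (t * s) = Λ s := fun s => by rw [← hT, ht]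
  have hσt : σE t = t := by
    have : σE t - t = 0 := by
      apply hker
      intro s
      rw [sub_mul, map_sub, htΛ]
      have e : σE t * s = σE (t * σE s) := by rw [map_mul, hσ2]
      rw [e, hH', htΛ, hH, hσσ, sub_self]
    exact sub_eq_zero.mp this
  have ht0 : t ≠ 0 := by
    rintro rfl
    apply hΛ
    ext s
    rw [← htΛ, zero_mul, map_zero, LinearMap.zero_apply]
  obtain ⟨c, hc⟩ := norm_surj σE hσ2 hσ t hσt
  refine ⟨c, ?_, fun s => ?_⟩
  · rintro rfl
    apply ht0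
    rw [← hc, zero_mul]
  · rw [hc, htΛ]

section sigma

variable {K : Type*} [Field K] {f : K[X]} [Fact (Irreducible f)] {m : ℕ}

theorem mk_tw (σ : K ≃+* K) (P : K[X]) :
    AdjoinRoot.mk f (tw σ m P) =
      P.eval₂ ((AdjoinRoot.of f).comp (σ : K →+* K)) (AdjoinRoot.root f ^ (m - 1)) := by
  unfold tw
  rw [mk_comp, map_pow, AdjoinRoot.mk_X, aeval_def, AdjoinRoot.algebraMap_eq,
    Polynomial.eval₂_map]

/-- the involution of `K[X]/(f)` extending `σ` and inverting the root -/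
theorem exists_sigmaH (σ : K ≃+* K) (hσσ : ∀ a, σ (σ a) = a) (hm : 0 < m)
    (hm1 : f ∣ X ^ m - C (1 : K)) (hdvd : f ∣ tw σ m f) :
    ∃ σE : AdjoinRoot f ≃+* AdjoinRoot f, (∀ x, σE (σE x) = x) ∧
      ∀ P : K[X], σE (AdjoinRoot.mk f P) = AdjoinRoot.mk f (tw σ m P) := by
  have hrm : AdjoinRoot.root f ^ m = 1 := root_pow_eq_one hm1
  have h0 : f.eval₂ ((AdjoinRoot.of f).comp (σ : K →+* K)) (AdjoinRoot.root f ^ (m - 1)) = 0 := by
    rw [← mk_tw]
    exact AdjoinRoot.mk_eq_zero.mpr hdvd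
  let σ₀ : AdjoinRoot f →+* AdjoinRoot f :=
    AdjoinRoot.lift ((AdjoinRoot.of f).comp (σ : K →+* K)) (AdjoinRoot.root f ^ (m - 1)) h0
  have hσ₀ : ∀ P : K[X], σ₀ (AdjoinRoot.mk f P) = AdjoinRoot.mk f (tw σ m P) := by
    intro P
    rw [mk_tw]
    exact AdjoinRoot.lift_mk h0 P
  have hrk : AdjoinRoot.root f ^ ((m - 1) * (m - 1)) = AdjoinRoot.root f := by
    have h1 : AdjoinRoot.root f ^ (m - 1) * AdjoinRoot.root f = 1 := by
      rw [← pow_succ, Nat.sub_add_cancel hm, hrm]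
    have h2 : AdjoinRoot.root f ^ ((m - 1) * (m - 1)) * AdjoinRoot.root f ^ (m - 1) = 1 := by
      rw [← pow_add, ← Nat.mul_succ, Nat.succ_eq_add_one, Nat.sub_add_cancel hm, mul_comm,
        pow_mul, hrm, one_pow]
    calc AdjoinRoot.root f ^ ((m - 1) * (m - 1))
        = AdjoinRoot.root f ^ ((m - 1) * (m - 1)) *
            (AdjoinRoot.root f ^ (m - 1) * AdjoinRoot.root f) := by rw [h1, mul_one]
      _ = AdjoinRoot.root f := by rw [← mul_assoc, h2, one_mul]
  have htt : ∀ P : K[X], tw σ m (tw σ m P) = P.comp (X ^ ((m - 1) * (m - 1))) := by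
    intro P
    unfold tw
    rw [Polynomial.map_comp, Polynomial.map_pow, Polynomial.map_X, Polynomial.map_map,
      Polynomial.comp_assoc, X_pow_comp, ← pow_mul]
    have : (σ : K →+* K).comp (σ : K →+* K) = RingHom.id K := by
      ext a
      exact hσσ a
    rw [this, Polynomial.map_id]
  have hσ2 : ∀ x, σ₀ (σ₀ x) = x := by
    intro x
    obtain ⟨P, rfl⟩ := AdjoinRoot.mk_surjective x
    rw [hσ₀, hσ₀, htt, mk_comp, map_pow, AdjoinRoot.mk_X, hrk, AdjoinRoot.aeval_eq]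
  exact ⟨RingEquiv.ofRingHom σ₀ σ₀ (RingHom.ext hσ2) (RingHom.ext hσ2), hσ2, hσ₀⟩

end sigma

end Cfsg.Agent.Lib.Helper14.HSemi
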