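import Cfsg.Agent.Lib.Helper14.HSemi3

set_option autoImplicit false

/-! # Semisimple isometries of hermitian forms: anisotropic cyclic blocks, II -/

namespace Cfsg.Agent.Lib.Helper14.HSemi

open Polynomial Cfsg.Agent.Lib.Helper14.SpSemi
open HSetup (tw)

variable {K : Type*} [Field K] {V : Type*} [AddCommGroup V] [Module K V]
  {V' : Type*} [AddCommGroup V'] [Module K V']

namespace HSetup

variable {σ : K ≃+* K} {β : V → V → K} {g h : Module.End K V} {m : ℕ}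

/-- in the self-dual case some vector killed by `f(g)` is anisotropic -/
theorem exists_aniso (S : HSetup σ β g h m) {f : K[X]} (hf : Irreducible f)
    (hdvd : f ∣ tw σ m f)
    {W : Submodule K V} (hW : NDegH β W) (hWg : ∀ x ∈ W, g x ∈ W)
    {u₀ : V} (hu₀W : u₀ ∈ W) (hu₀ : u₀ ≠ 0) (hfu₀ : aeval g f u₀ = 0) :
    ∃ u ∈ W, aeval g f u = 0 ∧ β u u ≠ 0 := by
  by_contra hcon
  have hall : ∀ u ∈ W, aeval g f u = 0 → β u u = 0 := by
    intro u hu hfu
    by_contra hne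
    exact hcon ⟨u, hu, hfu, hne⟩
  have hpol : ∀ x ∈ W, ∀ y ∈ W, aeval g f x = 0 → aeval g f y = 0 → β x y = 0 := by
    intro x hx y hy hfx hfy
    have key : ∀ a : K, a * β x y + σ a * σ (β x y) = 0 := by
      intro a
      have h1 := hall (a • x + y) (W.add_mem (W.smul_mem a hx) hy)
        (by rw [map_add, map_smul, hfx, hfy, smul_zero, add_zero])
      simp only [S.add_left, S.add_right, S.smul_left, S.smul_right, hall x hx hfx,
        hall y hy hfy, mul_zero, zero_add, add_zero, S.herm x y] at h1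
      exact h1
    obtain ⟨a, ha⟩ := S.σne
    have k1 := key 1
    rw [map_one, one_mul, one_mul] at k1
    have k2 := key a
    have hσb : σ (β x y) = - β x y := eq_neg_of_add_eq_zero_right k1
    have h3 : (a - σ a) * β x y = 0 := by
      rw [hσb] at k2
      linear_combination k2
    rcases mul_eq_zero.mp h3 with h0 | h0
    · exact absurd (sub_eq_zero.mp h0).symm ha
    · exact h0
  apply hu₀
  apply hW u₀ hu₀W
  intro w hw
  obtain ⟨A, B, hAB⟩ := S.split hf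
  rw [(hAB w).2, S.add_right, hpol u₀ hu₀W _ (aeval_mem hWg A hw) hfu₀ (hAB w).1, zero_add,
    S.adjT']
  obtain ⟨s, hs⟩ := hdvd
  rw [hs, aeval_mul_apply', hfu₀, map_zero, S.zero_left]

/-- the norm functional of a vector killed by `f(g)` -/
theorem cyc_functional (S : HSetup σ β g h m) {f : K[X]} {u : V}
    (hfu : aeval g f u = 0) :
    ∃ Λ : AdjoinRoot f →ₗ[K] K, ∀ P : K[X], Λ (AdjoinRoot.mk f P) = β (aeval g P u) u := by
  obtain ⟨ι, hι⟩ := factor_exists (AdjoinRoot.mkₐ f).toLinearMap (evl g u) (by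
    intro P hP
    rw [LinearMap.mem_ker] at hP ⊢
    have hP' : AdjoinRoot.mk f P = 0 := hP
    obtain ⟨c, rfl⟩ := AdjoinRoot.mk_eq_zero.mp hP'
    rw [evl_apply, aeval_mul_apply', hfu, map_zero])
  refine ⟨(S.lin u).comp ι, fun P => ?_⟩
  have := hι P
  rw [evl_apply] at this
  have e : (AdjoinRoot.mkₐ f).toLinearMap P = AdjoinRoot.mk f P := rfl
  rw [e] at this
  rw [LinearMap.comp_apply, this, HSetup.lin_apply]

theorem tw_C (a : K) : tw σ m (C a) = C (σ a) := by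
  unfold tw
  rw [Polynomial.map_C, Polynomial.C_comp]
  rfl

theorem cyc_block [Finite K] {β' : V' → V' → K} {g' h' : Module.End K V'}
    (S : HSetup σ β g h m) (S' : HSetup σ β' g' h' m) {f : K[X]} (hf : Irreducible f)
    (hdvd : f ∣ tw σ m f)
    {W : Submodule K V} {W' : Submodule K V'} (hW : NDegH β W) (hW' : NDegH β' W')
    (hWg : ∀ x ∈ W, g x ∈ W) (hWg' : ∀ x ∈ W', g' x ∈ W')
    {u₀ : V} (hu₀W : u₀ ∈ W) (hu₀ : u₀ ≠ 0) (hfu₀ : aeval g f u₀ = 0)
    {u₀' : V'} (hu₀W' : u₀' ∈ W') (hu₀' : u₀' ≠ 0) (hfu₀' : aeval g' f u₀' = 0) :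
    ∃ (H : Submodule K V) (H' : Submodule K V') (φ : V →ₗ[K] V'),
      (∃ x ∈ H, x ≠ 0) ∧ H ≤ W ∧ H' ≤ W' ∧ (∀ x ∈ H, g x ∈ H) ∧ (∀ x ∈ H, h x ∈ H) ∧
      (∀ x ∈ H', g' x ∈ H') ∧ (∀ x ∈ H', h' x ∈ H') ∧ NDegH β H ∧ HBlock β β' g g' H H' φ := by
  have : Fact (Irreducible f) := ⟨hf⟩
  obtain ⟨u, huW, hfu, huu⟩ := S.exists_aniso hf hdvd hW hWg hu₀W hu₀ hfu₀
  obtain ⟨u', huW', hfu', huu'⟩ := S'.exists_aniso hf hdvd hW' hWg' hu₀W' hu₀' hfu₀'
  have hu : u ≠ 0 := by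
    rintro rfl
    apply huu
    rw [S.zero_left]
  have hm1 : f ∣ X ^ m - C (1 : K) := by
    apply ann_dvd hf hu hfu
    rw [map_sub, aeval_X_pow, aeval_C, S.gm, map_one, sub_self, LinearMap.zero_apply]
  -- the field and its involution
  have : Module.Finite K (AdjoinRoot f) := (AdjoinRoot.powerBasis hf.ne_zero).finite
  have : Finite (AdjoinRoot f) := Module.finite_of_finite K
  obtain ⟨σE, hσ2, hσE⟩ := exists_sigmaH (f := f) σ S.σσ S.m_pos hm1 hdvd
  have hσne : ∃ x, σE x ≠ x := by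
    obtain ⟨a, ha⟩ := S.σne
    refine ⟨AdjoinRoot.mk f (C a), ?_⟩
    rw [hσE, tw_C]
    intro heq
    apply ha
    have h1 : AdjoinRoot.of f (σ a) = AdjoinRoot.of f a := heq
    exact (AdjoinRoot.of f).injective h1
  -- the norm functionals
  obtain ⟨Λ, hΛ⟩ := S.cyc_functional hfu
  obtain ⟨Λ', hΛ'⟩ := S'.cyc_functional hfu'
  have hH : ∀ a, Λ (σE a) = σ (Λ a) := by
    intro a
    obtain ⟨P, rfl⟩ := AdjoinRoot.mk_surjective a
    rw [hσE, hΛ, hΛ, ← S.adjT', ← S.herm]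
  have hH' : ∀ a, Λ' (σE a) = σ (Λ' a) := by
    intro a
    obtain ⟨P, rfl⟩ := AdjoinRoot.mk_surjective a
    rw [hσE, hΛ', hΛ', ← S'.adjT', ← S'.herm]
  have hΛ0 : Λ ≠ 0 := by
    intro h0
    apply huu
    have := hΛ 1
    rw [h0, LinearMap.zero_apply, map_one, Module.End.one_apply] at this
    exact this.symm
  have hΛ0' : Λ' ≠ 0 := by
    intro h0
    apply huu'
    have := hΛ' 1
    rw [h0, LinearMap.zero_apply, map_one, Module.End.one_apply] at this
    exact this.symm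
  obtain ⟨c, hc0, hc⟩ := normformH σ S.σσ σE hσ2 hσne Λ Λ' hΛ0 hΛ0' hH hH'
  obtain ⟨c₀, rfl⟩ := AdjoinRoot.mk_surjective c
  set ũ : V' := aeval g' c₀ u' with hũ
  have hfũ : aeval g' f ũ = 0 := by
    rw [hũ, ← aeval_mul_apply, mul_comm, aeval_mul_apply, hfu', map_zero]
  have hũW : ũ ∈ W' := aeval_mem hWg' c₀ huW'
  have key : ∀ P : K[X], β' (aeval g' P ũ) ũ = β (aeval g P u) u := by
    intro P
    rw [hũ, ← aeval_mul_apply, S'.adjT', ← aeval_mul_apply, ← hΛ', ← hΛ, ← hc]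
    congr 1
    rw [hσE, ← map_mul, ← map_mul]
    congr 1
    ring
  clear_value ũ
  -- the map
  obtain ⟨φ, hφ⟩ := factor_exists (evl g u) (evl g' ũ) (by
    intro P hP
    rw [LinearMap.mem_ker, evl_apply] at hP ⊢
    obtain ⟨d, rfl⟩ := ann_dvd hf hu hfu hP
    rw [aeval_mul_apply', hfũ, map_zero])
  have hφ' : ∀ P : K[X], φ (aeval g P u) = aeval g' P ũ := hφ
  have hform : ∀ P Q : K[X],
      β' (aeval g' P ũ) (aeval g' Q ũ) = β (aeval g P u) (aeval g Q u) := by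
    intro P Q
    rw [S'.adjT', S.adjT', ← aeval_mul_apply, ← aeval_mul_apply, key]
  have hHi : ∀ (k : Module.End K V) (u : V), k = g ∨ k = h →
      ∀ x ∈ LinearMap.range (evl g u), k x ∈ LinearMap.range (evl g u) := by
    rintro k u (rfl | rfl) _ ⟨P, rfl⟩
    · exact ⟨X * P, by rw [evl_apply, evl_apply, Setup.g_aeval]⟩
    · refine ⟨X ^ (m - 1) * P, ?_⟩
      rw [evl_apply, evl_apply, aeval_mul_apply, aeval_X_pow, ← S.h_eq]
  have hHi' : ∀ (k : Module.End K V') (u : V'), k = g' ∨ k = h' →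
      ∀ x ∈ LinearMap.range (evl g' u), k x ∈ LinearMap.range (evl g' u) := by
    rintro k u (rfl | rfl) _ ⟨P, rfl⟩
    · exact ⟨X * P, by rw [evl_apply, evl_apply, Setup.g_aeval]⟩
    · refine ⟨X ^ (m - 1) * P, ?_⟩
      rw [evl_apply, evl_apply, aeval_mul_apply, aeval_X_pow, ← S'.h_eq]
  refine ⟨LinearMap.range (evl g u), LinearMap.range (evl g' ũ), φ,
    ⟨u, ⟨1, by simp⟩, hu⟩, ?_, ?_, hHi g u (Or.inl rfl), hHi h u (Or.inr rfl),
    hHi' g' ũ (Or.inl rfl), hHi' h' ũ (Or.inr rfl), ?_, ?_⟩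
  · rintro _ ⟨P, rfl⟩
    exact aeval_mem hWg P huW
  · rintro _ ⟨P, rfl⟩
    exact aeval_mem hWg' P hũW
  · -- nondegeneracy
    rintro _ ⟨P, rfl⟩ hx
    rw [evl_apply] at hx ⊢
    by_contra hne
    let L : Submodule K V :=
      { carrier := {y | ∀ Q : K[X], β y (aeval g Q u) = 0}
        add_mem' := fun {a b} ha hb Q => by
          show β (a + b) (aeval g Q u) = 0
          rw [S.add_left, ha Q, hb Q, add_zero]
        zero_mem' := fun Q => by
          show β 0 (aeval g Q u) = 0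
          rw [S.zero_left]
        smul_mem' := fun c a ha Q => by
          show β (c • a) (aeval g Q u) = 0
          rw [S.smul_left, ha Q, mul_zero] }
    have hLg : ∀ y ∈ L, g y ∈ L := fun y hy Q => by
      show β (g y) (aeval g Q u) = 0
      rw [S.adj]
      have : h (aeval g Q u) = aeval g (X ^ (m - 1) * Q) u := by
        rw [aeval_mul_apply, aeval_X_pow, ← S.h_eq]
      rw [this]
      exact hy _
    have huL : u ∈ L := cyc_irr hf hfu hLg (P := P)
      (fun Q => hx _ ⟨Q, rfl⟩) hne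
    apply huu
    have := huL 1
    rwa [map_one, Module.End.one_apply] at this
  · refine ⟨?_, ?_, ?_, ?_⟩
    · rintro _ ⟨P, rfl⟩
      exact ⟨P, (hφ P).symm⟩
    · rintro _ ⟨P, rfl⟩
      exact ⟨_, ⟨P, rfl⟩, hφ P⟩
    · rintro _ ⟨P, rfl⟩ _ ⟨Q, rfl⟩
      rw [hφ, hφ, evl_apply, evl_apply, evl_apply, evl_apply, hform]
    · rintro _ ⟨P, rfl⟩
      rw [evl_apply, Setup.g_aeval, hφ', hφ', Setup.g_aeval]

end HSetup

end Cfsg.Agent.Lib.Helper14.HSemi
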