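import Cfsg.Agent.Lib.Helper14.HSemi4

set_option autoImplicit false

/-! # Semisimple isometries of hermitian forms: orthogonal splitting and the main induction -/

namespace Cfsg.Agent.Lib.Helper14.HSemi

open Polynomial Cfsg.Agent.Lib.Helper14.SpSemi
open HSetup (tw)

variable {K : Type*} [Field K] {V : Type*} [AddCommGroup V] [Module K V]
  {V' : Type*} [AddCommGroup V'] [Module K V']

theorem HBlock.charpoly_eq [FiniteDimensional K V] [FiniteDimensional K V']
    {σ : K ≃+* K} {β : V → V → K} {β' : V' → V' → K}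
    {g : Module.End K V} {g' h' : Module.End K V'} {m : ℕ} (S' : HSetup σ β' g' h' m)
    {H : Submodule K V} {H' : Submodule K V'}
    {φ : V →ₗ[K] V'} (B : HBlock β β' g g' H H' φ) (hH : NDegH β H)
    (hHg : ∀ x ∈ H, g x ∈ H) (hHg' : ∀ x ∈ H', g' x ∈ H') :
    (g.restrict hHg).charpoly = (g'.restrict hHg').charpoly := by
  let e₀ : H →ₗ[K] H' := φ.restrict B.maps
  have hinj : Function.Injective e₀ := by
    rw [← LinearMap.ker_eq_bot, LinearMap.ker_eq_bot']
    intro x hx
    have hx' : φ x = 0 := congrArg Subtype.val hx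
    apply Subtype.ext
    apply hH x x.2
    intro y hy
    rw [← B.isom x x.2 y hy, hx', S'.zero_left]
  have hsurj : Function.Surjective e₀ := by
    rintro ⟨y, hy⟩
    obtain ⟨x, hx, rfl⟩ := B.surj y hy
    exact ⟨⟨x, hx⟩, rfl⟩
  let e := LinearEquiv.ofBijective e₀ ⟨hinj, hsurj⟩
  have h1 : g'.restrict hHg' = e.conj (g.restrict hHg) := by
    apply LinearMap.ext
    intro y
    obtain ⟨x, rfl⟩ := e.surjective y
    rw [LinearEquiv.conj_apply_apply, LinearEquiv.symm_apply_apply]
    apply Subtype.ext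
    show g' (φ x) = φ (g x)
    rw [B.equi x x.2]
  rw [h1, LinearEquiv.charpoly_conj]

namespace HSetup

variable {σ : K ≃+* K} {β : V → V → K} {g h : Module.End K V} {m : ℕ}

/-- the orthogonal complement of `H` inside `W` -/
def perp (S : HSetup σ β g h m) (W H : Submodule K V) : Submodule K V where
  carrier := {x | x ∈ W ∧ ∀ y ∈ H, β y x = 0}
  add_mem' := fun {a b} ha hb => ⟨W.add_mem ha.1 hb.1, fun y hy => by
    rw [S.add_right, ha.2 y hy, hb.2 y hy, add_zero]⟩
  zero_mem' := ⟨W.zero_mem, fun y _ => S.zero_right y⟩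
  smul_mem' := fun c a ha => ⟨W.smul_mem c ha.1, fun y hy => by
    rw [S.smul_right, ha.2 y hy, mul_zero]⟩

theorem mem_perp (S : HSetup σ β g h m) {W H : Submodule K V} {x : V} :
    x ∈ S.perp W H ↔ x ∈ W ∧ ∀ y ∈ H, β y x = 0 := Iff.rfl

theorem perp_decomp [Finite K] [FiniteDimensional K V] (S : HSetup σ β g h m)
    {W H : Submodule K V} (hH : NDegH β H) (hHW : H ≤ W) :
    ∀ w ∈ W, ∃ a ∈ H, ∃ b ∈ S.perp W H, w = a + b := by
  intro w hw
  obtain ⟨a, ha, hax⟩ := S.exists_repr hH (S.lin w)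
  refine ⟨a, ha, w - a, ⟨W.sub_mem hw (hHW ha), fun y hy => ?_⟩, by abel⟩
  rw [S.sub_right, hax y hy, HSetup.lin_apply, sub_self]

theorem perp_disj (S : HSetup σ β g h m) {W H : Submodule K V} (hH : NDegH β H) :
    ∀ x, x ∈ H → x ∈ S.perp W H → x = 0 := by
  intro x hx hxK
  apply hH x hx
  intro y hy
  rw [S.herm, hxK.2 y hy, map_zero]

theorem perp_ndeg [Finite K] [FiniteDimensional K V] (S : HSetup σ β g h m)
    {W H : Submodule K V} (hW : NDegH β W) (hH : NDegH β H)
    (hHW : H ≤ W) : NDegH β (S.perp W H) := by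
  intro x hx hx0
  apply hW x hx.1
  intro w hw
  obtain ⟨a, ha, b, hb, rfl⟩ := S.perp_decomp hH hHW w hw
  rw [S.add_right, hx0 b hb, add_zero, S.herm, hx.2 a ha, map_zero]

theorem perp_g (S : HSetup σ β g h m) {W H : Submodule K V} (hWg : ∀ x ∈ W, g x ∈ W)
    (hHh : ∀ x ∈ H, h x ∈ H) : ∀ x ∈ S.perp W H, g x ∈ S.perp W H := by
  intro x hx
  refine ⟨hWg x hx.1, fun y hy => ?_⟩
  rw [← S.adj']
  exact hx.2 _ (hHh y hy)

theorem perp_symm (S : HSetup σ β g h m) (W H : Submodule K V) :
    S.symm.perp W H = S.perp W H := rfl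

/-- gluing two linear maps along an orthogonal splitting -/
theorem glue [Finite K] [FiniteDimensional K V] (S : HSetup σ β g h m)
    {H : Submodule K V} (hH : NDegH β H) (φH φK : V →ₗ[K] V') :
    ∃ φ : V →ₗ[K] V', ∀ a ∈ H, ∀ b ∈ S.perp ⊤ H, φ (a + b) = φH a + φK b := by
  have hc : IsCompl H (S.perp ⊤ H) := by
    constructor
    · rw [Submodule.disjoint_def]
      intro x hx hx'
      exact S.perp_disj hH x hx hx'
    · rw [codisjoint_iff, eq_top_iff]
      intro w _
      obtain ⟨a, ha, b, hb, rfl⟩ := S.perp_decomp hH le_top w trivial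
      exact Submodule.add_mem_sup ha hb
  let π : V →ₗ[K] V := H.subtype.comp (Submodule.projectionOnto H _ hc)
  refine ⟨φH.comp π + φK.comp (LinearMap.id - π), ?_⟩
  intro a ha b hb
  have h1 : π (a + b) = a := by
    have e1 := Submodule.projectionOnto_apply_left hc ⟨a, ha⟩
    have e2 := Submodule.projectionOnto_apply_right hc ⟨b, hb⟩
    simp only [π, LinearMap.comp_apply, map_add]
    rw [e1, e2, map_zero, add_zero]
    rfl
  simp only [LinearMap.add_apply, LinearMap.comp_apply, LinearMap.sub_apply, LinearMap.id_apply,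
    h1, add_sub_cancel_left]

end HSetup

theorem main_aux [Finite K] [FiniteDimensional K V] [FiniteDimensional K V']
    {σ : K ≃+* K} {β : V → V → K} {β' : V' → V' → K} {g h : Module.End K V}
    {g' h' : Module.End K V'} {m : ℕ} (S : HSetup σ β g h m) (S' : HSetup σ β' g' h' m) :
    ∀ (d : ℕ) (W : Submodule K V) (W' : Submodule K V'), Module.finrank K W = d →
      NDegH β W → NDegH β' W' →
      ∀ (hWg : ∀ x ∈ W, g x ∈ W) (_ : ∀ x ∈ W, h x ∈ W) (hWg' : ∀ x ∈ W', g' x ∈ W')
        (_ : ∀ x ∈ W', h' x ∈ W'),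
      (g.restrict hWg).charpoly = (g'.restrict hWg').charpoly →
      ∃ φ : V →ₗ[K] V', HBlock β β' g g' W W' φ := by
  intro d
  induction d using Nat.strong_induction_on with
  | _ d ih =>
  intro W W' hd hW hW' hWg hWh hWg' hWh' hchar
  by_cases hd0 : d = 0
  · subst hd0
    have hWbot : W = ⊥ := Submodule.finrank_eq_zero.mp hd
    have hd' : Module.finrank K W' = 0 := by
      rw [← LinearMap.charpoly_natDegree (g'.restrict hWg'), ← hchar,
        LinearMap.charpoly_natDegree, hd]
    have hW'bot : W' = ⊥ := Submodule.finrank_eq_zero.mp hd'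
    refine ⟨0, ?_, ?_, ?_, ?_⟩
    · intro x _
      rw [LinearMap.zero_apply]
      exact W'.zero_mem
    · intro y hy
      rw [hW'bot, Submodule.mem_bot] at hy
      exact ⟨0, W.zero_mem, by rw [hy, map_zero]⟩
    · intro x hx y _
      rw [hWbot, Submodule.mem_bot] at hx
      rw [hx, LinearMap.zero_apply, S'.zero_left, S.zero_left]
    · intro x _
      rw [LinearMap.zero_apply, LinearMap.zero_apply, map_zero]
  · have hdeg : (g.restrict hWg).charpoly.natDegree = d := by
      rw [LinearMap.charpoly_natDegree, hd]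
    have hnu : ¬ IsUnit (g.restrict hWg).charpoly := by
      intro hu
      have := Polynomial.natDegree_eq_zero_of_isUnit hu
      omega
    have hne : (g.restrict hWg).charpoly ≠ 0 := (LinearMap.charpoly_monic _).ne_zero
    obtain ⟨f, hf, hfd⟩ := WfDvdMonoid.exists_irreducible_factor hnu hne
    obtain ⟨u, huW, hu, hfu⟩ := exists_ker_of_dvd_charpoly g hWg hf hfd
    obtain ⟨u', huW', hu', hfu'⟩ := exists_ker_of_dvd_charpoly g' hWg' hf (hchar ▸ hfd)
    obtain ⟨H, H', φH, hHne, hHW, hHW', hHg, hHh, hHg', hHh', hHnd, BH⟩ :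
        ∃ (H : Submodule K V) (H' : Submodule K V') (φ : V →ₗ[K] V'),
          (∃ x ∈ H, x ≠ 0) ∧ H ≤ W ∧ H' ≤ W' ∧ (∀ x ∈ H, g x ∈ H) ∧ (∀ x ∈ H, h x ∈ H) ∧
          (∀ x ∈ H', g' x ∈ H') ∧ (∀ x ∈ H', h' x ∈ H') ∧ NDegH β H ∧
          HBlock β β' g g' H H' φ := by
      by_cases hc : IsCoprime f (tw σ m f)
      · obtain ⟨H, H', φ, huH, rest⟩ := S.hyp_block S' hf hW hW' hWg hWh hWg' hWh' huW hu hfu
          huW' hu' hfu'
          (fun P Q => S.iso_of_coprime hc (aeval_comm_zero hfu P) (aeval_comm_zero hfu Q))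
          (fun v hfv P Q => S.symm.iso_of_coprime (S.coprime_map hc)
            (aeval_comm_zero hfv P) (aeval_comm_zero hfv Q))
          (fun P Q => S'.iso_of_coprime hc (aeval_comm_zero hfu' P) (aeval_comm_zero hfu' Q))
          (fun v hfv P Q => S'.symm.iso_of_coprime (S'.coprime_map hc)
            (aeval_comm_zero hfv P) (aeval_comm_zero hfv Q))
        exact ⟨H, H', φ, ⟨u, huH, hu⟩, rest⟩
      · have hdvd : f ∣ tw σ m f := by
          by_contra hnd
          exact hc ((hf.coprime_iff_not_dvd).mpr hnd)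
        exact S.cyc_block S' hf hdvd hW hW' hWg hWg' huW hu hfu huW' hu' hfu'
    have hHnd' : NDegH β' H' := BH.ndeg hHnd
    have hKW : S.perp W H ≤ W := fun x hx => hx.1
    have hKW' : S'.perp W' H' ≤ W' := fun x hx => hx.1
    have hKg : ∀ x ∈ S.perp W H, g x ∈ S.perp W H := S.perp_g hWg hHh
    have hKh : ∀ x ∈ S.perp W H, h x ∈ S.perp W H := S.symm.perp_g hWh hHg
    have hKg' : ∀ x ∈ S'.perp W' H', g' x ∈ S'.perp W' H' := S'.perp_g hWg' hHh'
    have hKh' : ∀ x ∈ S'.perp W' H', h' x ∈ S'.perp W' H' := S'.symm.perp_g hWh' hHg'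
    have hKnd : NDegH β (S.perp W H) := S.perp_ndeg hW hHnd hHW
    have hKnd' : NDegH β' (S'.perp W' H') := S'.perp_ndeg hW' hHnd' hHW'
    have hsplit := charpoly_split g hWg hHg hKg hHW hKW (S.perp_disj hHnd)
      (S.perp_decomp hHnd hHW)
    have hsplit' := charpoly_split g' hWg' hHg' hKg' hHW' hKW' (S'.perp_disj hHnd')
      (S'.perp_decomp hHnd' hHW')
    have hHchar := BH.charpoly_eq S' hHnd hHg hHg'
    have hKchar : (g.restrict hKg).charpoly = (g'.restrict hKg').charpoly := by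
      rw [hsplit, hsplit', hHchar] at hchar
      exact mul_left_cancel₀ (LinearMap.charpoly_monic _).ne_zero hchar
    have hlt : Module.finrank K (S.perp W H) < d := by
      have h1 := congrArg Polynomial.natDegree hsplit
      rw [Polynomial.natDegree_mul (LinearMap.charpoly_monic _).ne_zero
        (LinearMap.charpoly_monic _).ne_zero, LinearMap.charpoly_natDegree,
        LinearMap.charpoly_natDegree, LinearMap.charpoly_natDegree, hd] at h1
      have h2 : 0 < Module.finrank K H := by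
        obtain ⟨x, hx, hx0⟩ := hHne
        exact Module.finrank_pos_iff_exists_ne_zero.mpr
          ⟨⟨x, hx⟩, fun h => hx0 (congrArg Subtype.val h)⟩
      omega
    obtain ⟨φK, BK⟩ := ih _ hlt (S.perp W H) (S'.perp W' H') rfl hKnd hKnd' hKg hKh hKg' hKh'
      hKchar
    obtain ⟨φ, hφ⟩ := S.glue hHnd φH φK
    have hφ' : ∀ a ∈ H, ∀ b ∈ S.perp W H, φ (a + b) = φH a + φK b :=
      fun a ha b hb => hφ a ha b ⟨trivial, hb.2⟩
    refine ⟨φ, ?_, ?_, ?_, ?_⟩
    · intro x hx
      obtain ⟨a, ha, b, hb, rfl⟩ := S.perp_decomp hHnd hHW x hx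
      rw [hφ' a ha b hb]
      exact W'.add_mem (hHW' (BH.maps a ha)) ((BK.maps b hb).1)
    · intro y hy
      obtain ⟨a', ha', b', hb', rfl⟩ := S'.perp_decomp hHnd' hHW' y hy
      obtain ⟨a, ha, rfl⟩ := BH.surj a' ha'
      obtain ⟨b, hb, rfl⟩ := BK.surj b' hb'
      exact ⟨a + b, W.add_mem (hHW ha) hb.1, hφ' a ha b hb⟩
    · intro x hx y hy
      obtain ⟨a, ha, b, hb, rfl⟩ := S.perp_decomp hHnd hHW x hx
      obtain ⟨c, hc, e, he, rfl⟩ := S.perp_decomp hHnd hHW y hy
      rw [hφ' a ha b hb, hφ' c hc e he]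
      rw [S'.add_left, S'.add_right, S'.add_right, S.add_left, S.add_right, S.add_right]
      have c1 : β' (φH a) (φK e) = 0 := (BK.maps e he).2 _ (BH.maps a ha)
      have c2 : β' (φK b) (φH c) = 0 := by
        rw [S'.herm, (BK.maps b hb).2 _ (BH.maps c hc), map_zero]
      have c3 : β a e = 0 := he.2 a ha
      have c4 : β b c = 0 := by rw [S.herm, hb.2 c hc, map_zero]
      rw [BH.isom a ha c hc, BK.isom b hb e he, c1, c2, c3, c4]
    · intro x hx
      obtain ⟨a, ha, b, hb, rfl⟩ := S.perp_decomp hHnd hHW x hx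
      rw [map_add, hφ' _ (hHg a ha) _ (hKg b hb), hφ' a ha b hb, map_add, BH.equi a ha,
        BK.equi b hb]

/-- semisimple isometries of a nondegenerate hermitian form over a finite field with the same
characteristic polynomial are conjugate by an isometry -/
theorem main [Finite K] [FiniteDimensional K V] {σ : K ≃+* K} {β : V → V → K}
    {g h g' h' : Module.End K V} {m : ℕ} (S : HSetup σ β g h m) (S' : HSetup σ β g' h' m)
    (hβ : NDegH β ⊤) (hchar : g.charpoly = g'.charpoly) :
    ∃ φ : V ≃ₗ[K] V, (∀ x y, β (φ x) (φ y) = β x y) ∧ ∀ x, φ (g x) = g' (φ x) := by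
  obtain ⟨φ, B⟩ := main_aux S S' _ ⊤ ⊤ rfl hβ hβ (fun _ _ => Submodule.mem_top)
    (fun _ _ => Submodule.mem_top) (fun _ _ => Submodule.mem_top) (fun _ _ => Submodule.mem_top)
    (by rw [charpoly_restrict_top, charpoly_restrict_top, hchar])
  have hinj : Function.Injective φ := by
    rw [← LinearMap.ker_eq_bot, LinearMap.ker_eq_bot']
    intro x hx
    apply hβ x trivial
    intro y _
    rw [← B.isom x trivial y trivial, hx, S.zero_left]
  exact ⟨LinearEquiv.ofBijective φ ⟨hinj, LinearMap.surjective_of_injective hinj⟩,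
    fun x y => B.isom x trivial y trivial, fun x => B.equi x trivial⟩

end Cfsg.Agent.Lib.Helper14.HSemi
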