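import Cfsg.Agent.Lib.Helper14.HSemi5

set_option autoImplicit false

/-! # Norms in finite fields with involutions -/

namespace Cfsg.Agent.Lib.Helper14.HSemi

open Polynomial Cfsg.Agent.Lib.Helper14.SpSemi

/-- Hilbert 90 for an involution of a field -/
theorem hilbert90 {K : Type*} [Field K] (σ : K ≃+* K) (hσ2 : ∀ x, σ (σ x) = x)
    (hσ : ∃ x, σ x ≠ x) (k : K) (hk : k * σ k = 1) : ∃ c : K, c ≠ 0 ∧ k * σ c = c := by
  obtain ⟨a, ha⟩ : ∃ a : K, a + k * σ a ≠ 0 := by
    by_cases hk1 : k = -1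
    · obtain ⟨x, hx⟩ := hσ
      refine ⟨x, ?_⟩
      rw [hk1, neg_one_mul, ← sub_eq_add_neg]
      exact sub_ne_zero.mpr (Ne.symm hx)
    · refine ⟨1, ?_⟩
      rw [map_one, mul_one]
      intro h0
      apply hk1
      exact (eq_neg_of_add_eq_zero_right h0)
  refine ⟨a + k * σ a, ha, ?_⟩
  rw [map_add, map_mul, hσ2, mul_add, ← mul_assoc, hk, one_mul, add_comm]

/-- the norm commutes with semilinear field homomorphisms of finite fields of equal size -/
theorem norm_semilinear {K E E' : Type*} [Field K] [Field E] [Field E'] [Algebra K E]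
    [Algebra K E'] [Finite E] [Finite E'] (σ : K ≃+* K) (τ : E →+* E')
    (hτ : ∀ a : K, τ (algebraMap K E a) = algebraMap K E' (σ a))
    (hcard : Nat.card E = Nat.card E') (x : E) :
    Algebra.norm K (τ x) = σ (Algebra.norm K x) := by
  apply (algebraMap K E').injective
  rw [FiniteField.algebraMap_norm_eq_pow, ← hτ, FiniteField.algebraMap_norm_eq_pow, map_pow,
    hcard]

end Cfsg.Agent.Lib.Helper14.HSemi
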