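import Cfsg.Agent.Lib.Helper14.HSemi6

set_option autoImplicit false

/-! # Centralisers of semisimple isometries: isometries supported on a cyclic block -/

namespace Cfsg.Agent.Lib.Helper14.HSemi

open Polynomial Cfsg.Agent.Lib.Helper14.SpSemi
open HSetup (tw)

variable {K : Type*} [Field K] {V : Type*} [AddCommGroup V] [Module K V]

/-- the cyclic module of a vector killed by an irreducible polynomial, as an image of `K[X]/(f)` -/
theorem cyc_embed {g : Module.End K V} {f : K[X]} (hf : Irreducible f) {u : V} (hu : u ≠ 0)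
    (hfu : aeval g f u = 0) :
    ∃ ι : AdjoinRoot f →ₗ[K] V, Function.Injective ι ∧
      ∀ P : K[X], ι (AdjoinRoot.mk f P) = aeval g P u := by
  obtain ⟨ι, hι⟩ := factor_exists (AdjoinRoot.mkₐ f).toLinearMap (evl g u) (by
    intro P hP
    rw [LinearMap.mem_ker] at hP ⊢
    have hP' : AdjoinRoot.mk f P = 0 := hP
    obtain ⟨c, rfl⟩ := AdjoinRoot.mk_eq_zero.mp hP'
    rw [evl_apply, aeval_mul_apply', hfu, map_zero])
  have hι' : ∀ P : K[X], ι (AdjoinRoot.mk f P) = aeval g P u := fun P => hι P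
  refine ⟨ι, ?_, hι'⟩
  rw [← LinearMap.ker_eq_bot, LinearMap.ker_eq_bot']
  intro x hx
  obtain ⟨P, rfl⟩ := AdjoinRoot.mk_surjective x
  rw [hι'] at hx
  exact AdjoinRoot.mk_eq_zero.mpr (ann_dvd hf hu hfu hx)

namespace HSetup

variable {σ : K ≃+* K} {β : V → V → K} {g h : Module.End K V} {m : ℕ}

theorem perp_isCompl [Finite K] [FiniteDimensional K V] (S : HSetup σ β g h m)
    {H : Submodule K V} (hH : NDegH β H) : IsCompl H (S.perp ⊤ H) := by
  constructor
  · rw [Submodule.disjoint_def]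
    intro x hx hx'
    exact S.perp_disj hH x hx hx'
  · rw [codisjoint_iff, eq_top_iff]
    intro w _
    obtain ⟨a, ha, b, hb, rfl⟩ := S.perp_decomp hH le_top w trivial
    exact Submodule.add_mem_sup ha hb

/-- an equivariant isometry of a nondegenerate invariant subspace extends by the identity on the
orthogonal complement -/
theorem extend_block [Finite K] [FiniteDimensional K V] (S : HSetup σ β g h m)
    {H : Submodule K V} (hH : NDegH β H) (hHg : ∀ x ∈ H, g x ∈ H) (hHh : ∀ x ∈ H, h x ∈ H)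
    {φ : V →ₗ[K] V} (B : HBlock β β g g H H φ) :
    ∃ z : V →ₗ[K] V, (∀ x y, β (z x) (z y) = β x y) ∧ (∀ x, z (g x) = g (z x)) ∧
      LinearMap.det z = LinearMap.det (φ.restrict B.maps) := by
  obtain ⟨z, hz⟩ := S.glue hH φ LinearMap.id
  have hdec := S.perp_decomp hH (le_top : H ≤ ⊤)
  have hYg : ∀ x ∈ S.perp ⊤ H, g x ∈ S.perp ⊤ H :=
    S.perp_g (fun _ _ => Submodule.mem_top) hHh
  refine ⟨z, ?_, ?_, ?_⟩
  · intro x y
    obtain ⟨a, ha, b, hb, rfl⟩ := hdec x trivial
    obtain ⟨c, hc, d, hd, rfl⟩ := hdec y trivial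
    rw [hz a ha b hb, hz c hc d hd, LinearMap.id_apply, LinearMap.id_apply]
    rw [S.add_left, S.add_right, S.add_right, S.add_left, S.add_right, S.add_right]
    have c1 : β (φ a) d = 0 := hd.2 _ (B.maps a ha)
    have c2 : β b (φ c) = 0 := by rw [S.herm, hb.2 _ (B.maps c hc), map_zero]
    have c3 : β a d = 0 := hd.2 a ha
    have c4 : β b c = 0 := by rw [S.herm, hb.2 c hc, map_zero]
    rw [B.isom a ha c hc, c1, c2, c3, c4]
  · intro x
    obtain ⟨a, ha, b, hb, rfl⟩ := hdec x trivial
    rw [map_add, hz _ (hHg a ha) _ (hYg b hb), hz a ha b hb, LinearMap.id_apply,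
      LinearMap.id_apply, map_add, B.equi a ha]
  · have hc := S.perp_isCompl hH
    let e := Submodule.prodEquivOfIsCompl H (S.perp ⊤ H) hc
    have h1 : z = e.conj ((φ.restrict B.maps).prodMap LinearMap.id) := by
      apply LinearMap.ext
      intro x
      obtain ⟨⟨a, b⟩, rfl⟩ := e.surjective x
      rw [LinearEquiv.conj_apply_apply, LinearEquiv.symm_apply_apply]
      simp only [e, Submodule.coe_prodEquivOfIsCompl', LinearMap.prodMap_apply,
        LinearMap.id_apply]
      rw [hz a a.2 b b.2, LinearMap.id_apply]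
      rfl
    rw [h1, LinearEquiv.conj_apply, LinearMap.comp_assoc, LinearMap.det_conj,
      LinearMap.det_prodMap, LinearMap.det_id, mul_one]

theorem range_evl_g (_S : HSetup σ β g h m) (u : V) :
    ∀ x ∈ LinearMap.range (evl g u), g x ∈ LinearMap.range (evl g u) := by
  rintro _ ⟨P, rfl⟩
  exact ⟨X * P, by rw [evl_apply, evl_apply, Setup.g_aeval]⟩

theorem range_evl_h (S : HSetup σ β g h m) (u : V) :
    ∀ x ∈ LinearMap.range (evl g u), h x ∈ LinearMap.range (evl g u) := by
  rintro _ ⟨P, rfl⟩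
  refine ⟨X ^ (m - 1) * P, ?_⟩
  rw [evl_apply, evl_apply, aeval_mul_apply, aeval_X_pow, ← S.h_eq]

/-- the cyclic module of an anisotropic vector killed by an irreducible polynomial is
nondegenerate -/
theorem cyc_ndeg (S : HSetup σ β g h m) {f : K[X]} (hf : Irreducible f) {u : V}
    (hfu : aeval g f u = 0) (huu : β u u ≠ 0) : NDegH β (LinearMap.range (evl g u)) := by
  rintro _ ⟨P, rfl⟩ hx
  rw [evl_apply] at hx ⊢
  by_contra hne
  let L : Submodule K V :=
    { carrier := {y | ∀ Q : K[X], β y (aeval g Q u) = 0}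
      add_mem' := fun {a b} ha hb Q => by
        show β (a + b) (aeval g Q u) = 0
        rw [S.add_left, ha Q, hb Q, add_zero]
      zero_mem' := fun Q => by
        show β 0 (aeval g Q u) = 0
        rw [S.zero_left]
      smul_mem' := fun c a ha Q => by
        show β (c • a) (aeval g Q u) = 0
        rw [S.smul_left, ha Q, mul_zero] }
  have hLg : ∀ y ∈ L, g y ∈ L := fun y hy Q => by
    show β (g y) (aeval g Q u) = 0
    rw [S.adj]
    have : h (aeval g Q u) = aeval g (X ^ (m - 1) * Q) u := by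
      rw [aeval_mul_apply, aeval_X_pow, ← S.h_eq]
    rw [this]
    exact hy _
  have huL : u ∈ L := cyc_irr hf hfu hLg (P := P) (fun Q => hx _ ⟨Q, rfl⟩) hne
  apply huu
  have := huL 1
  rwa [map_one, Module.End.one_apply] at this

/-- isometries of an anisotropic cyclic block given by unitary elements of `K[X]/(f)` -/
theorem aniso_unit (S : HSetup σ β g h m) {f : K[X]} (hf : Irreducible f) {u : V} (hu : u ≠ 0)
    (hfu : aeval g f u = 0) {P : K[X]} (hP : f ∣ tw σ m P * P - 1) :
    ∃ B : HBlock β β g g (LinearMap.range (evl g u)) (LinearMap.range (evl g u)) (aeval g P),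
      LinearMap.det ((aeval g P).restrict B.maps) = Algebra.norm K (AdjoinRoot.mk f P) := by
  have hmaps : ∀ x ∈ LinearMap.range (evl g u), aeval g P x ∈ LinearMap.range (evl g u) := by
    rintro _ ⟨P₁, rfl⟩
    exact ⟨P * P₁, by rw [evl_apply, evl_apply, aeval_mul_apply]⟩
  have hkill : ∀ x ∈ LinearMap.range (evl g u), aeval g (tw σ m P * P) x = x := by
    rintro _ ⟨P₁, rfl⟩
    rw [evl_apply, ← aeval_mul_apply]
    have h1 : f ∣ tw σ m P * P * P₁ - P₁ := by
      have : tw σ m P * P * P₁ - P₁ = (tw σ m P * P - 1) * P₁ := by ring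
      rw [this]
      exact Dvd.dvd.mul_right hP P₁
    exact aeval_eq_of_dvd_sub hfu h1
  have B : HBlock β β g g (LinearMap.range (evl g u)) (LinearMap.range (evl g u)) (aeval g P) := by
    refine ⟨hmaps, ?_, ?_, ?_⟩
    · intro y hy
      refine ⟨aeval g (tw σ m P) y, ?_, ?_⟩
      · obtain ⟨P₁, rfl⟩ := hy
        exact ⟨tw σ m P * P₁, by rw [evl_apply, evl_apply, aeval_mul_apply]⟩
      · rw [← aeval_mul_apply, mul_comm]
        exact hkill y hy
    · intro x _ y hy
      rw [S.adjT, ← aeval_mul_apply, hkill y hy]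
    · intro x _
      have h2 : aeval g P * g = g * aeval g P := by
        have := congrArg (aeval g) (mul_comm P X)
        rw [map_mul, map_mul, aeval_X] at this
        exact this
      rw [← Module.End.mul_apply, h2, Module.End.mul_apply]
  refine ⟨B, ?_⟩
  obtain ⟨ι, hιinj, hι⟩ := cyc_embed hf hu hfu
  have hrange : ∀ x, ι x ∈ LinearMap.range (evl g u) := by
    intro x
    obtain ⟨P₁, rfl⟩ := AdjoinRoot.mk_surjective x
    exact ⟨P₁, (hι P₁).symm⟩
  let ι₁ : AdjoinRoot f →ₗ[K] LinearMap.range (evl g u) := ι.codRestrict _ hrange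
  have hι₁ : Function.Bijective ι₁ := by
    constructor
    · intro x y hxy
      exact hιinj (congrArg Subtype.val hxy)
    · rintro ⟨_, P₁, rfl⟩
      exact ⟨AdjoinRoot.mk f P₁, Subtype.ext (hι P₁)⟩
  let ι' := LinearEquiv.ofBijective ι₁ hι₁
  have h1 : (aeval g P).restrict B.maps =
      ι'.conj (LinearMap.mul K (AdjoinRoot f) (AdjoinRoot.mk f P)) := by
    apply LinearMap.ext
    intro y
    obtain ⟨x, rfl⟩ := ι'.surjective y
    rw [LinearEquiv.conj_apply_apply, LinearEquiv.symm_apply_apply]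
    obtain ⟨P₁, rfl⟩ := AdjoinRoot.mk_surjective x
    apply Subtype.ext
    show aeval g P (ι (AdjoinRoot.mk f P₁)) = ι (AdjoinRoot.mk f P * AdjoinRoot.mk f P₁)
    rw [← map_mul, hι, hι, aeval_mul_apply]
  rw [h1, LinearEquiv.conj_apply, LinearMap.comp_assoc, LinearMap.det_conj]
  rfl

end HSetup

end Cfsg.Agent.Lib.Helper14.HSemi
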