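import Cfsg.Agent.Lib.Helper14.HSemi7

set_option autoImplicit false

/-! # Centralisers of semisimple isometries: hyperbolic blocks and determinants -/

namespace Cfsg.Agent.Lib.Helper14.HSemi

open Polynomial Cfsg.Agent.Lib.Helper14.SpSemi
open HSetup (tw)

variable {K : Type*} [Field K] {V : Type*} [AddCommGroup V] [Module K V]

section tau

variable (σ : K ≃+* K) (f : K[X])

/-- the semilinear map `K[X]/(f) → K[X]/(f^σ)` -/
noncomputable def tauHom : AdjoinRoot f →+* AdjoinRoot (f.map (σ : K →+* K)) :=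
  AdjoinRoot.lift ((AdjoinRoot.of (f.map (σ : K →+* K))).comp (σ : K →+* K))
    (AdjoinRoot.root (f.map (σ : K →+* K))) (by
      rw [← Polynomial.eval₂_map]
      exact AdjoinRoot.eval₂_root _)

theorem tauHom_mk (R : K[X]) :
    tauHom σ f (AdjoinRoot.mk f R) = AdjoinRoot.mk (f.map (σ : K →+* K)) (R.map (σ : K →+* K)) := by
  unfold tauHom
  rw [AdjoinRoot.lift_mk, ← Polynomial.eval₂_map, ← AdjoinRoot.algebraMap_eq, ← aeval_def,
    AdjoinRoot.aeval_eq]

theorem tauHom_algebraMap (a : K) :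
    tauHom σ f (algebraMap K (AdjoinRoot f) a) =
      algebraMap K (AdjoinRoot (f.map (σ : K →+* K))) (σ a) := by
  have h1 : algebraMap K (AdjoinRoot f) a = AdjoinRoot.mk f (C a) := rfl
  have h2 : algebraMap K (AdjoinRoot (f.map (σ : K →+* K))) (σ a) =
      AdjoinRoot.mk (f.map (σ : K →+* K)) (C (σ a)) := rfl
  rw [h1, h2, tauHom_mk, Polynomial.map_C]
  rfl

theorem card_adjoinRoot [Finite K] (hf : f ≠ 0) :
    Nat.card (AdjoinRoot f) = Nat.card K ^ f.natDegree := by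
  have : Module.Finite K (AdjoinRoot f) := (AdjoinRoot.powerBasis hf).finite
  rw [Module.natCard_eq_pow_finrank (K := K) (V := AdjoinRoot f),
    (AdjoinRoot.powerBasis hf).finrank, AdjoinRoot.powerBasis_dim]

end tau

/-- norms of `σ`-conjugate elements -/
theorem norm_tau [Finite K] (σ : K ≃+* K) {f : K[X]} (hf : Irreducible f)
    (hfσ : Irreducible (f.map (σ : K →+* K))) (R : K[X]) :
    Algebra.norm K (AdjoinRoot.mk (f.map (σ : K →+* K)) (R.map (σ : K →+* K))) =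
      σ (Algebra.norm K (AdjoinRoot.mk f R)) := by
  have : Fact (Irreducible f) := ⟨hf⟩
  have : Fact (Irreducible (f.map (σ : K →+* K))) := ⟨hfσ⟩
  have : Module.Finite K (AdjoinRoot f) := (AdjoinRoot.powerBasis hf.ne_zero).finite
  have : Finite (AdjoinRoot f) := Module.finite_of_finite K
  have : Module.Finite K (AdjoinRoot (f.map (σ : K →+* K))) :=
    (AdjoinRoot.powerBasis hfσ.ne_zero).finite
  have : Finite (AdjoinRoot (f.map (σ : K →+* K))) := Module.finite_of_finite K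
  rw [← tauHom_mk]
  apply norm_semilinear σ (tauHom σ f) (tauHom_algebraMap σ f)
  rw [card_adjoinRoot f hf.ne_zero, card_adjoinRoot _ hfσ.ne_zero,
    Polynomial.natDegree_map]

namespace HSetup

variable {σ : K ≃+* K} {β : V → V → K} {g h : Module.End K V} {m : ℕ}

/-- the basic facts about a hyperbolic pair of cyclic modules -/
theorem hyp_core (S : HSetup σ β g h m) {f : K[X]} (hf : Irreducible f) {u v : V}
    (hfu : aeval g f u = 0) (hfv : aeval h (f.map (σ : K →+* K)) v = 0) (huv : β u v ≠ 0)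
    (isoU : ∀ P Q : K[X], β (aeval g P u) (aeval g Q u) = 0)
    (isoV : ∀ P Q : K[X], β (aeval h P v) (aeval h Q v) = 0) :
    (∀ P R : K[X], aeval g P u + aeval h R v = 0 → aeval g P u = 0 ∧ aeval h R v = 0) ∧
    NDegH β (LinearMap.range ((evl g u).coprod (evl h v))) ∧
    (∀ x ∈ LinearMap.range ((evl g u).coprod (evl h v)),
      g x ∈ LinearMap.range ((evl g u).coprod (evl h v))) ∧
    (∀ x ∈ LinearMap.range ((evl g u).coprod (evl h v)),
      h x ∈ LinearMap.range ((evl g u).coprod (evl h v))) := by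
  have hfσ : Irreducible (f.map (σ : K →+* K)) := S.irreducible_map hf
  set Φ : (K[X] × K[X]) →ₗ[K] V := (evl g u).coprod (evl h v) with hΦ
  have hΦa : ∀ P R, Φ (P, R) = aeval g P u + aeval h R v := fun P R => by
    rw [hΦ, LinearMap.coprod_apply, evl_apply, evl_apply]
  have hvan : ∀ P R : K[X], (∀ x ∈ LinearMap.range Φ, β (aeval g P u + aeval h R v) x = 0) →
      aeval g P u = 0 ∧ aeval h R v = 0 := by
    intro P R hx
    constructor
    · apply S.pair_left hf hfu huv P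
      intro R₂
      have := hx (aeval h R₂ v) ⟨(0, R₂), by rw [hΦa]; simp⟩
      rw [S.add_left, isoV, add_zero] at this
      exact this
    · apply S.pair_right hfσ hfv huv R
      intro P₂
      have := hx (aeval g P₂ u) ⟨(P₂, 0), by rw [hΦa]; simp⟩
      rw [S.add_left, isoU, zero_add] at this
      rw [S.herm, this, map_zero]
  refine ⟨?_, ?_, ?_, ?_⟩
  · intro P R hPR
    exact hvan P R (fun x _ => by rw [hPR, S.zero_left])
  · rintro _ ⟨⟨P, R⟩, rfl⟩ hx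
    rw [hΦa] at hx ⊢
    obtain ⟨h1, h2⟩ := hvan P R hx
    rw [h1, h2, add_zero]
  · rintro _ ⟨⟨P, R⟩, rfl⟩
    refine ⟨(X * P, X ^ (m - 1) * R), ?_⟩
    rw [hΦa, hΦa, map_add, Setup.g_aeval]
    congr 1
    rw [aeval_mul_apply, aeval_X_pow, ← S.symm.h_eq]
  · rintro _ ⟨⟨P, R⟩, rfl⟩
    refine ⟨(X ^ (m - 1) * P, X * R), ?_⟩
    rw [hΦa, hΦa, map_add, Setup.g_aeval]
    congr 1
    rw [aeval_mul_apply, aeval_X_pow, ← S.h_eq]

/-- isometries of a hyperbolic pair of cyclic blocks given by units of `K[X]/(f)` -/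
theorem hyp_unit (S : HSetup σ β g h m) {f : K[X]} (hf : Irreducible f) {u v : V}
    (hu : u ≠ 0) (hfu : aeval g f u = 0) (hfv : aeval h (f.map (σ : K →+* K)) v = 0)
    (huv : β u v ≠ 0)
    (isoU : ∀ P Q : K[X], β (aeval g P u) (aeval g Q u) = 0)
    (isoV : ∀ P Q : K[X], β (aeval h P v) (aeval h Q v) = 0)
    {P R : K[X]} (hPR : f ∣ R * P - 1) :
    ∃ (φ : V →ₗ[K] V) (B : HBlock β β g g (LinearMap.range ((evl g u).coprod (evl h v)))
        (LinearMap.range ((evl g u).coprod (evl h v))) φ),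
      LinearMap.det (φ.restrict B.maps) = Algebra.norm K (AdjoinRoot.mk f P) *
        Algebra.norm K (AdjoinRoot.mk (f.map (σ : K →+* K)) (R.map (σ : K →+* K))) := by
  have hfσ : Irreducible (f.map (σ : K →+* K)) := S.irreducible_map hf
  obtain ⟨hvan, -, -, -⟩ := S.hyp_core hf hfu hfv huv isoU isoV
  have hv : v ≠ 0 := by
    rintro rfl
    apply huv
    rw [S.zero_right]
  set Q : K[X] := R.map (σ : K →+* K) with hQ
  set Pσ : K[X] := P.map (σ : K →+* K) with hPσ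
  have hQP : f.map (σ : K →+* K) ∣ Pσ * Q - 1 := by
    have h1 : Pσ * Q - 1 = (R * P - 1).map (σ : K →+* K) := by
      rw [Polynomial.map_sub, Polynomial.map_mul, Polynomial.map_one, mul_comm]
    rw [h1]
    exact Polynomial.map_dvd _ hPR
  set Φ : (K[X] × K[X]) →ₗ[K] V := (evl g u).coprod (evl h v) with hΦ
  have hΦa : ∀ P R, Φ (P, R) = aeval g P u + aeval h R v := fun P R => by
    rw [hΦ, LinearMap.coprod_apply, evl_apply, evl_apply]
  -- reductions modulo `f` and `f^σ`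
  have redu : ∀ A B : K[X], f ∣ A - B → aeval g A u = aeval g B u :=
    fun A B hAB => aeval_eq_of_dvd_sub hfu hAB
  have redv : ∀ A B : K[X], f.map (σ : K →+* K) ∣ A - B → aeval h A v = aeval h B v :=
    fun A B hAB => aeval_eq_of_dvd_sub hfv hAB
  -- the map
  obtain ⟨φ, hφ⟩ := factor_exists Φ
    (Φ.comp ((LinearMap.mulLeft K P).prodMap (LinearMap.mulLeft K Q))) (by
    rintro ⟨P₁, R₁⟩ h0
    rw [LinearMap.mem_ker, hΦa] at h0
    obtain ⟨h1, h2⟩ := hvan P₁ R₁ h0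
    rw [LinearMap.mem_ker, LinearMap.comp_apply, LinearMap.prodMap_apply,
      LinearMap.mulLeft_apply, LinearMap.mulLeft_apply, hΦa, aeval_mul_apply, h1, map_zero,
      aeval_mul_apply, h2, map_zero, add_zero])
  have hφ' : ∀ P₁ R₁, φ (Φ (P₁, R₁)) = Φ (P * P₁, Q * R₁) := fun P₁ R₁ => hφ (P₁, R₁)
  have key3 : ∀ P₁ R₂ : K[X], β (aeval g (P * P₁) u) (aeval h (Q * R₂) v) =
      β (aeval g P₁ u) (aeval h R₂ v) := by
    intro P₁ R₂
    rw [aeval_mul_apply, S.adjP, ← aeval_mul_apply]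
    congr 1
    apply redv
    have : Pσ * (Q * R₂) - R₂ = (Pσ * Q - 1) * R₂ := by ring
    rw [this]
    exact Dvd.dvd.mul_right hQP R₂
  have B : HBlock β β g g (LinearMap.range Φ) (LinearMap.range Φ) φ := by
    refine ⟨?_, ?_, ?_, ?_⟩
    · rintro _ ⟨⟨P₁, R₁⟩, rfl⟩
      exact ⟨_, (hφ' P₁ R₁).symm⟩
    · rintro _ ⟨⟨P₁, R₁⟩, rfl⟩
      refine ⟨Φ (R * P₁, Pσ * R₁), ⟨_, rfl⟩, ?_⟩
      rw [hφ', hΦa, hΦa]
      congr 1
      · apply redu
        have : P * (R * P₁) - P₁ = (R * P - 1) * P₁ := by ring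
        rw [this]
        exact Dvd.dvd.mul_right hPR P₁
      · apply redv
        have : Q * (Pσ * R₁) - R₁ = (Pσ * Q - 1) * R₁ := by ring
        rw [this]
        exact Dvd.dvd.mul_right hQP R₁
    · rintro _ ⟨⟨P₁, R₁⟩, rfl⟩ _ ⟨⟨P₂, R₂⟩, rfl⟩
      rw [hφ', hφ', hΦa, hΦa, hΦa, hΦa]
      rw [S.add_left, S.add_right, S.add_right, S.add_left, S.add_right, S.add_right]
      rw [isoU, isoU, isoV, isoV, key3, S.herm (aeval g (P * P₂) u), key3, ← S.herm]
    · rintro _ ⟨⟨P₁, R₁⟩, rfl⟩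
      have gΦ : ∀ P R, g (Φ (P, R)) = Φ (X * P, X ^ (m - 1) * R) := by
        intro P R
        rw [hΦa, hΦa, map_add, Setup.g_aeval]
        congr 1
        rw [aeval_mul_apply, aeval_X_pow, ← S.symm.h_eq]
      rw [gΦ, hφ', hφ', gΦ]
      congr 2 <;> ring
  refine ⟨φ, B, ?_⟩
  -- the determinant
  obtain ⟨ι, hιinj, hι⟩ := cyc_embed hf hu hfu
  obtain ⟨ι', hι'inj, hι'⟩ := cyc_embed hfσ hv hfv
  let Ψ₀ : (AdjoinRoot f × AdjoinRoot (f.map (σ : K →+* K))) →ₗ[K] V := ι.coprod ι'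
  have hΨ₀ : ∀ P₁ R₁, Ψ₀ (AdjoinRoot.mk f P₁, AdjoinRoot.mk _ R₁) = Φ (P₁, R₁) := by
    intro P₁ R₁
    rw [LinearMap.coprod_apply, hι, hι', hΦa]
  have hrange : ∀ x, Ψ₀ x ∈ LinearMap.range Φ := by
    rintro ⟨x, y⟩
    obtain ⟨P₁, rfl⟩ := AdjoinRoot.mk_surjective x
    obtain ⟨R₁, rfl⟩ := AdjoinRoot.mk_surjective y
    exact ⟨(P₁, R₁), (hΨ₀ P₁ R₁).symm⟩
  let Ψ₁ : (AdjoinRoot f × AdjoinRoot (f.map (σ : K →+* K))) →ₗ[K] LinearMap.range Φ :=
    Ψ₀.codRestrict _ hrange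
  have hΨ₁ : Function.Bijective Ψ₁ := by
    constructor
    · rw [← LinearMap.ker_eq_bot, LinearMap.ker_eq_bot']
      rintro ⟨x, y⟩ hxy
      have h0 : Ψ₀ (x, y) = 0 := congrArg Subtype.val hxy
      obtain ⟨P₁, rfl⟩ := AdjoinRoot.mk_surjective x
      obtain ⟨R₁, rfl⟩ := AdjoinRoot.mk_surjective y
      rw [hΨ₀, hΦa] at h0
      obtain ⟨h1, h2⟩ := hvan P₁ R₁ h0
      rw [← hι] at h1
      rw [← hι'] at h2
      have e1 : AdjoinRoot.mk f P₁ = 0 := hιinj (by rw [h1, map_zero])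
      have e2 : AdjoinRoot.mk (f.map (σ : K →+* K)) R₁ = 0 := hι'inj (by rw [h2, map_zero])
      rw [e1, e2]
      rfl
    · rintro ⟨_, ⟨P₁, R₁⟩, rfl⟩
      exact ⟨(AdjoinRoot.mk f P₁, AdjoinRoot.mk _ R₁), Subtype.ext (hΨ₀ P₁ R₁)⟩
  let Ψ := LinearEquiv.ofBijective Ψ₁ hΨ₁
  have h1 : φ.restrict B.maps =
      Ψ.conj ((LinearMap.mul K (AdjoinRoot f) (AdjoinRoot.mk f P)).prodMap
        (LinearMap.mul K (AdjoinRoot (f.map (σ : K →+* K))) (AdjoinRoot.mk _ Q))) := by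
    apply LinearMap.ext
    intro y
    obtain ⟨⟨x, y⟩, rfl⟩ := Ψ.surjective y
    rw [LinearEquiv.conj_apply_apply, LinearEquiv.symm_apply_apply]
    obtain ⟨P₁, rfl⟩ := AdjoinRoot.mk_surjective x
    obtain ⟨R₁, rfl⟩ := AdjoinRoot.mk_surjective y
    apply Subtype.ext
    show φ (Ψ₀ (AdjoinRoot.mk f P₁, AdjoinRoot.mk _ R₁)) =
      Ψ₀ (AdjoinRoot.mk f P * AdjoinRoot.mk f P₁, AdjoinRoot.mk _ Q * AdjoinRoot.mk _ R₁)
    rw [hΨ₀, ← map_mul, ← map_mul, hΨ₀, hφ']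
  have : Module.Finite K (AdjoinRoot f) := (AdjoinRoot.powerBasis hf.ne_zero).finite
  have : Module.Finite K (AdjoinRoot (f.map (σ : K →+* K))) :=
    (AdjoinRoot.powerBasis hfσ.ne_zero).finite
  rw [h1, LinearEquiv.conj_apply, LinearMap.comp_assoc, LinearMap.det_conj, LinearMap.det_prodMap]
  rfl

end HSetup

end Cfsg.Agent.Lib.Helper14.HSemi
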