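import Cfsg.Agent.Lib.Helper14.HSemi8

set_option autoImplicit false

/-! # Centralisers of semisimple isometries: the determinant is onto the norm-one group -/

namespace Cfsg.Agent.Lib.Helper14.HSemi

open Polynomial Cfsg.Agent.Lib.Helper14.SpSemi
open HSetup (tw)

variable {K : Type*} [Field K] {V : Type*} [AddCommGroup V] [Module K V]

theorem norm_inv' {E : Type*} [Field E] [Algebra K E] (s : E) (hs : s ≠ 0) :
    Algebra.norm K s⁻¹ = (Algebra.norm K s)⁻¹ := by
  apply eq_inv_of_mul_eq_one_left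
  rw [← map_mul, inv_mul_cancel₀ hs, map_one]

namespace HSetup

variable {σ : K ≃+* K} {β : V → V → K} {g h : Module.End K V} {m : ℕ}

/-- the centraliser of a semisimple isometry contains isometries of every determinant of norm
one -/
theorem exists_centralizer_det [Finite K] [FiniteDimensional K V] (S : HSetup σ β g h m)
    (hβ : NDegH β ⊤) (hV : 0 < Module.finrank K V) (d : K) (hd : d * σ d = 1) :
    ∃ z : V →ₗ[K] V, (∀ x y, β (z x) (z y) = β x y) ∧ (∀ x, z (g x) = g (z x)) ∧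
      LinearMap.det z = d := by
  have hT : ∀ x ∈ (⊤ : Submodule K V), g x ∈ (⊤ : Submodule K V) :=
    fun _ _ => Submodule.mem_top
  have hTh : ∀ x ∈ (⊤ : Submodule K V), h x ∈ (⊤ : Submodule K V) :=
    fun _ _ => Submodule.mem_top
  have hnu : ¬ IsUnit g.charpoly := by
    intro hu
    have h1 := Polynomial.natDegree_eq_zero_of_isUnit hu
    rw [LinearMap.charpoly_natDegree] at h1
    omega
  obtain ⟨f, hf, hfd⟩ := WfDvdMonoid.exists_irreducible_factor hnu
    (LinearMap.charpoly_monic g).ne_zero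
  obtain ⟨u₀, -, hu₀, hfu₀⟩ := exists_ker_of_dvd_charpoly g hT hf
    (by rw [charpoly_restrict_top]; exact hfd)
  obtain ⟨t, ht0, ht⟩ := hilbert90 σ S.σσ S.σne d hd
  have hσt0 : σ t ≠ 0 := by
    intro h0
    apply ht0
    rw [← S.σσ t, h0, map_zero]
  have hdt : d = t * (σ t)⁻¹ := by
    rw [eq_mul_inv_iff_mul_eq₀ hσt0]
    exact ht
  have : Fact (Irreducible f) := ⟨hf⟩
  have : Module.Finite K (AdjoinRoot f) := (AdjoinRoot.powerBasis hf.ne_zero).finite
  have : Finite (AdjoinRoot f) := Module.finite_of_finite K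
  obtain ⟨s, hs⟩ := FiniteField.norm_surjective K (AdjoinRoot f) t
  have hs0 : s ≠ 0 := by
    rintro rfl
    rw [Algebra.norm_zero] at hs
    exact ht0 hs.symm
  by_cases hc : IsCoprime f (tw σ m f)
  · -- the hyperbolic case
    obtain ⟨v, -, hfv, huv⟩ := S.partner hβ hTh hf Submodule.mem_top hu₀ hfu₀
    have isoU : ∀ P Q : K[X], β (aeval g P u₀) (aeval g Q u₀) = 0 :=
      fun P Q => S.iso_of_coprime hc (aeval_comm_zero hfu₀ P) (aeval_comm_zero hfu₀ Q)
    have isoV : ∀ P Q : K[X], β (aeval h P v) (aeval h Q v) = 0 :=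
      fun P Q => S.symm.iso_of_coprime (S.coprime_map hc) (aeval_comm_zero hfv P)
        (aeval_comm_zero hfv Q)
    obtain ⟨P, rfl⟩ := AdjoinRoot.mk_surjective s
    obtain ⟨R, hR⟩ := AdjoinRoot.mk_surjective (AdjoinRoot.mk f P)⁻¹
    have hPR : f ∣ R * P - 1 := by
      rw [← AdjoinRoot.mk_eq_zero, map_sub, map_mul, map_one, hR, inv_mul_cancel₀ hs0, sub_self]
    obtain ⟨φ, B, hdet⟩ := S.hyp_unit hf hu₀ hfu₀ hfv huv isoU isoV hPR
    obtain ⟨-, hnd, hHg, hHh⟩ := S.hyp_core hf hfu₀ hfv huv isoU isoV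
    obtain ⟨z, hz1, hz2, hz3⟩ := S.extend_block hnd hHg hHh B
    refine ⟨z, hz1, hz2, ?_⟩
    rw [hz3, hdet, norm_tau σ hf (S.irreducible_map hf), hR, norm_inv' _ hs0, hs, map_inv₀, hdt]
  · -- the anisotropic case
    have hdvd : f ∣ tw σ m f := by
      by_contra hnd
      exact hc ((hf.coprime_iff_not_dvd).mpr hnd)
    obtain ⟨u, -, hfu, huu⟩ := S.exists_aniso hf hdvd hβ hT Submodule.mem_top hu₀ hfu₀
    have hu : u ≠ 0 := by
      rintro rfl
      apply huu
      rw [S.zero_left]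
    have hm1 : f ∣ X ^ m - C (1 : K) := by
      apply ann_dvd hf hu hfu
      rw [map_sub, aeval_X_pow, aeval_C, S.gm, map_one, sub_self, LinearMap.zero_apply]
    obtain ⟨σE, hσ2, hσE⟩ := exists_sigmaH (f := f) σ S.σσ S.m_pos hm1 hdvd
    have hσEa : ∀ a : K, (σE : AdjoinRoot f →+* AdjoinRoot f) (algebraMap K (AdjoinRoot f) a) =
        algebraMap K (AdjoinRoot f) (σ a) := by
      intro a
      have h1 : ∀ b : K, algebraMap K (AdjoinRoot f) b = AdjoinRoot.mk f (C b) := fun b => rfl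
      rw [h1, h1, RingHom.coe_coe, hσE, HSetup.tw_C]
    have hNσ : Algebra.norm K (σE s) = σ t := by
      have := norm_semilinear σ (σE : AdjoinRoot f →+* AdjoinRoot f) hσEa rfl s
      rw [hs] at this
      exact this
    have hσs0 : σE s ≠ 0 := by
      intro h0
      apply hs0
      rw [← hσ2 s, h0, map_zero]
    set e : AdjoinRoot f := s * (σE s)⁻¹ with he
    have heσ : σE e * e = 1 := by
      rw [he, map_mul, map_inv₀, hσ2]
      field_simp
    have hNe : Algebra.norm K e = d := by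
      rw [he, map_mul, norm_inv' _ hσs0, hs, hNσ, hdt]
    obtain ⟨P, hP⟩ := AdjoinRoot.mk_surjective e
    have hPdvd : f ∣ tw σ m P * P - 1 := by
      rw [← AdjoinRoot.mk_eq_zero, map_sub, map_mul, map_one, ← hσE, hP, heσ, sub_self]
    obtain ⟨B, hdet⟩ := S.aniso_unit hf hu hfu hPdvd
    have hnd := S.cyc_ndeg hf hfu huu
    obtain ⟨z, hz1, hz2, hz3⟩ := S.extend_block hnd (S.range_evl_g u) (S.range_evl_h u) B
    refine ⟨z, hz1, hz2, ?_⟩
    rw [hz3, hdet, hP, hNe]

end HSetup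

end Cfsg.Agent.Lib.Helper14.HSemi
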