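import Cfsg.Agent.Lib.Helper14.IcoB4
import Cfsg.Agent.Lib.Helper29.IcoEnum

/-!
# Icosian model, BLOCK B: classification of the minimal vectors (helper14)

`classify`: every minimal vector of the model icosian Leech lattice is `lsmul u c` with `u` one of
the 120 units and `c` one of the 315 canonical vectors.  (Enumeration of the small norms:
helper29's `IcoEnum`.)
-/

set_option autoImplicit false

namespace Cfsg.Agent.Lib.Helper14.IcoB

open Cfsg.Agent.Lib.Helper11.Ico

theorem enum_real : Enum where
  e40 := fun _ hI h => Cfsg.Agent.Lib.Helper29.IcoEnum.enum_4_0 hI h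
  e80 := fun _ hI h => by
    obtain ⟨u, hu, k, hk, e⟩ := Cfsg.Agent.Lib.Helper29.IcoEnum.enum_8_0 hI h
    have : Cfsg.Agent.Lib.Helper29.IcoEnum.H5 = Hs := by decide
    exact ⟨u, hu, k, this ▸ hk, e⟩
  e44 := fun _ hI h => Cfsg.Agent.Lib.Helper29.IcoEnum.enum_4_4 hI h
  e84 := fun _ hI h => Cfsg.Agent.Lib.Helper29.IcoEnum.enum_8_m4 hI h

/-- **Classification of the minimal vectors of the icosian Leech lattice (model).** -/
theorem classify (v : V3) (hv : V3.isMin v = true) : ∃ u ∈ U, ∃ c ∈ C, v = V3.lsmul u c :=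
  classify_of_enum enum_real v hv

end Cfsg.Agent.Lib.Helper14.IcoB
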