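import Cfsg.Agent.Lib.Helper11.IcoData

/-!
# Icosian model: structural lemmas for the classification of minimal vectors (helper14)
-/

set_option autoImplicit false

namespace Cfsg.Agent.Lib.Helper14.IcoB

open Cfsg.Agent.Lib.Helper11.Ico
open Quaternion Cfsg.Spor

/-- the product of `ℤ[τ]` on pairs -/
def zmul (p q : ℤ × ℤ) : ℤ × ℤ := (p.1 * q.1 + p.2 * q.2, p.1 * q.2 + p.2 * q.1 + p.2 * q.2)

theorem nrm_mulRaw (x y : Q8) : Q8.nrm (Q8.mulRaw x y) = zmul (Q8.nrm x) (Q8.nrm y) := by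
  ext
  · simp only [Q8.nrm, Q8.mulRaw, zmul]; ring
  · simp only [Q8.nrm, Q8.mulRaw, zmul]; ring

theorem nrm_dbl (x : Q8) : Q8.nrm (Q8.dbl x) = (4 * (Q8.nrm x).1, 4 * (Q8.nrm x).2) := by
  ext
  · simp only [Q8.nrm, Q8.dbl, Q8.zs]; ring
  · simp only [Q8.nrm, Q8.dbl, Q8.zs]; ring

theorem nrm_conj (x : Q8) : Q8.nrm (Q8.conj x) = Q8.nrm x := by
  ext
  · simp only [Q8.nrm, Q8.conj]; ring
  · simp only [Q8.nrm, Q8.conj]; ring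

theorem nrm_neg (x : Q8) : Q8.nrm (Q8.neg x) = Q8.nrm x := by
  ext
  · simp only [Q8.nrm, Q8.neg]; ring
  · simp only [Q8.nrm, Q8.neg]; ring

theorem conj_conj (x : Q8) : Q8.conj (Q8.conj x) = x := by
  ext <;> simp [Q8.conj]

theorem inI_conj {x : Q8} (hx : Q8.inI x = true) : Q8.inI (Q8.conj x) = true := by
  simp only [Q8.inI, Bool.and_eq_true, beq_iff_eq, Q8.ell0, Q8.ell1, Q8.ell2, Q8.ell3, Q8.ell4,
    Q8.ell5, Q8.conj] at hx ⊢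
  omega

theorem nrm_nonneg (x : Q8) : 0 ≤ (Q8.nrm x).1 := by
  simp only [Q8.nrm]
  nlinarith [mul_self_nonneg x.a0, mul_self_nonneg x.b0, mul_self_nonneg x.a1,
    mul_self_nonneg x.b1, mul_self_nonneg x.a2, mul_self_nonneg x.b2, mul_self_nonneg x.a3,
    mul_self_nonneg x.b3]

theorem eq_zero_of_nrm {x : Q8} (h : (Q8.nrm x).1 = 0) : x = Q8.zero := by
  simp only [Q8.nrm] at h
  ext <;> simp only [Q8.zero] <;> nlinarith [sq_nonneg x.a0, sq_nonneg x.b0, sq_nonneg x.a1,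
    sq_nonneg x.b1, sq_nonneg x.a2, sq_nonneg x.b2, sq_nonneg x.a3, sq_nonneg x.b3]

theorem nrm_zero : Q8.nrm Q8.zero = (0, 0) := by decide

theorem lo_id (x : Q8) : 2 * (2 * (Q8.nrm x).1 + 3 * (Q8.nrm x).2) =
    ((2 * x.a0 + 3 * x.b0) ^ 2 + x.b0 ^ 2) + ((2 * x.a1 + 3 * x.b1) ^ 2 + x.b1 ^ 2) +
    ((2 * x.a2 + 3 * x.b2) ^ 2 + x.b2 ^ 2) + ((2 * x.a3 + 3 * x.b3) ^ 2 + x.b3 ^ 2) := by
  simp only [Q8.nrm]; ring

theorem hi_id (x : Q8) : 2 * (5 * (Q8.nrm x).1 - 3 * (Q8.nrm x).2) =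
    ((3 * x.a0 - 2 * x.b0) ^ 2 + x.a0 ^ 2) + ((3 * x.a1 - 2 * x.b1) ^ 2 + x.a1 ^ 2) +
    ((3 * x.a2 - 2 * x.b2) ^ 2 + x.a2 ^ 2) + ((3 * x.a3 - 2 * x.b3) ^ 2 + x.a3 ^ 2) := by
  simp only [Q8.nrm]; ring

theorem sq_pair_zero {a b : ℤ} (h : a ^ 2 + b ^ 2 ≤ 0) : a = 0 ∧ b = 0 := by
  have ha := sq_nonneg a
  have hb := sq_nonneg b
  constructor
  · have : a ^ 2 = 0 := by omega
    exact pow_eq_zero_iff (two_ne_zero) |>.mp this
  · have : b ^ 2 = 0 := by omega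
    exact pow_eq_zero_iff (two_ne_zero) |>.mp this

theorem nrm_lo {x : Q8} (hx : x ≠ Q8.zero) : 0 < 2 * (Q8.nrm x).1 + 3 * (Q8.nrm x).2 := by
  by_contra hneg
  apply hx
  have h := lo_id x
  have p0 := sq_nonneg (2 * x.a0 + 3 * x.b0); have q0 := sq_nonneg x.b0
  have p1 := sq_nonneg (2 * x.a1 + 3 * x.b1); have q1 := sq_nonneg x.b1
  have p2 := sq_nonneg (2 * x.a2 + 3 * x.b2); have q2 := sq_nonneg x.b2
  have p3 := sq_nonneg (2 * x.a3 + 3 * x.b3); have q3 := sq_nonneg x.b3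
  obtain ⟨e0, f0⟩ := sq_pair_zero (a := 2 * x.a0 + 3 * x.b0) (b := x.b0) (by omega)
  obtain ⟨e1, f1⟩ := sq_pair_zero (a := 2 * x.a1 + 3 * x.b1) (b := x.b1) (by omega)
  obtain ⟨e2, f2⟩ := sq_pair_zero (a := 2 * x.a2 + 3 * x.b2) (b := x.b2) (by omega)
  obtain ⟨e3, f3⟩ := sq_pair_zero (a := 2 * x.a3 + 3 * x.b3) (b := x.b3) (by omega)
  ext <;> simp only [Q8.zero] <;> omega

theorem nrm_hi {x : Q8} (hx : x ≠ Q8.zero) : 0 < 5 * (Q8.nrm x).1 - 3 * (Q8.nrm x).2 := by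
  by_contra hneg
  apply hx
  have h := hi_id x
  have p0 := sq_nonneg (3 * x.a0 - 2 * x.b0); have q0 := sq_nonneg x.a0
  have p1 := sq_nonneg (3 * x.a1 - 2 * x.b1); have q1 := sq_nonneg x.a1
  have p2 := sq_nonneg (3 * x.a2 - 2 * x.b2); have q2 := sq_nonneg x.a2
  have p3 := sq_nonneg (3 * x.a3 - 2 * x.b3); have q3 := sq_nonneg x.a3
  obtain ⟨e0, f0⟩ := sq_pair_zero (a := 3 * x.a0 - 2 * x.b0) (b := x.a0) (by omega)
  obtain ⟨e1, f1⟩ := sq_pair_zero (a := 3 * x.a1 - 2 * x.b1) (b := x.a1) (by omega)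
  obtain ⟨e2, f2⟩ := sq_pair_zero (a := 3 * x.a2 - 2 * x.b2) (b := x.a2) (by omega)
  obtain ⟨e3, f3⟩ := sq_pair_zero (a := 3 * x.a3 - 2 * x.b3) (b := x.a3) (by omega)
  ext <;> simp only [Q8.zero] <;> omega

/-- the norm of an icosian is divisible by `4` in doubled coordinates -/
theorem nrm_dvd {x : Q8} (hx : Q8.inI x = true) : 4 ∣ (Q8.nrm x).1 ∧ 4 ∣ (Q8.nrm x).2 := by
  obtain ⟨z, hz, h⟩ := Q8.inI_mul hx (inI_conj hx)
  rw [V3.mulRaw_conj_self] at h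
  have h0 := congrArg Q8.a0 h
  have h1 := congrArg Q8.b0 h
  have h2 := congrArg Q8.a1 h
  have h3 := congrArg Q8.b1 h
  have h4 := congrArg Q8.a2 h
  have h5 := congrArg Q8.b2 h
  have h6 := congrArg Q8.a3 h
  have h7 := congrArg Q8.b3 h
  simp only [Q8.dbl, Q8.zs] at h0 h1 h2 h3 h4 h5 h6 h7
  simp only [Q8.inI, Bool.and_eq_true, beq_iff_eq, Q8.ell0, Q8.ell1, Q8.ell2, Q8.ell3, Q8.ell4,
    Q8.ell5] at hz
  constructor <;> omega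

/-- elements of a left ideal `I q`, `q` of norm 2, have norm divisible by `8` -/
theorem nrm_dvd8 {q x : Q8} (hq : Q8.nrm q = (8, 0)) (hx : Q8.inIq q x = true) :
    8 ∣ (Q8.nrm x).1 ∧ 8 ∣ (Q8.nrm x).2 := by
  simp only [Q8.inIq, Bool.and_eq_true] at hx
  obtain ⟨h4, hI⟩ := hx
  have h1 := Q8.dbl_dbl_quarter h4
  have h2 := nrm_mulRaw x (Q8.conj q)
  rw [← h1, nrm_dbl, nrm_dbl, nrm_conj, hq] at h2
  obtain ⟨d1, d2⟩ := nrm_dvd hI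
  simp only [zmul, Prod.mk.injEq] at h2
  obtain ⟨e1, e2⟩ := h2
  constructor <;> omega

end Cfsg.Agent.Lib.Helper14.IcoB
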