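import Cfsg.Agent.Lib.Helper14.IcoB1

/-!
# Icosian model: units, left multiplication on the Leech lattice (helper14)
-/

set_option autoImplicit false

namespace Cfsg.Agent.Lib.Helper14.IcoB

open Cfsg.Agent.Lib.Helper11.Ico
open Quaternion Cfsg.Spor

theorem half_dbl (x : Q8) : Q8.half (Q8.dbl x) = x := by
  ext <;> simp only [Q8.dbl, Q8.zs, Q8.half] <;> omega

/-- the model product of two icosians -/
theorem mul_spec {x y : Q8} (hx : Q8.inI x = true) (hy : Q8.inI y = true) :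
    Q8.mulRaw x y = Q8.dbl (Q8.mul x y) ∧ Q8.inI (Q8.mul x y) = true := by
  obtain ⟨z, hz, hxy⟩ := Q8.inI_mul hx hy
  have hzz : Q8.mul x y = z := by
    unfold Q8.mul
    rw [hxy, half_dbl]
  rw [hzz]
  exact ⟨hxy, hz⟩

theorem nrm_mul {x y : Q8} (hx : Q8.inI x = true) (hy : Q8.inI y = true) :
    (4 * (Q8.nrm (Q8.mul x y)).1, 4 * (Q8.nrm (Q8.mul x y)).2) = zmul (Q8.nrm x) (Q8.nrm y) := by
  rw [← nrm_mulRaw, (mul_spec hx hy).1, nrm_dbl]

/-- left multiplication by a unit preserves the norm -/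
theorem nrm_mul_unit {u x : Q8} (hu : Q8.inI u = true) (hn : Q8.nrm u = (4, 0))
    (hx : Q8.inI x = true) : Q8.nrm (Q8.mul u x) = Q8.nrm x := by
  have h := nrm_mul hu hx
  rw [hn] at h
  simp only [zmul, Prod.mk.injEq] at h
  obtain ⟨h1, h2⟩ := h
  ext <;> omega

theorem mul_one' (x : Q8) : Q8.mul x Q8.one = x := by
  unfold Q8.mul
  have : Q8.mulRaw x Q8.one = Q8.dbl x := by
    ext <;> simp only [Q8.mulRaw, Q8.one, Q8.dbl, Q8.zs] <;> ring
  rw [this, half_dbl]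

theorem mul_zero' (x : Q8) : Q8.mul x Q8.zero = Q8.zero := by
  unfold Q8.mul
  have : Q8.mulRaw x Q8.zero = Q8.dbl Q8.zero := by
    ext <;> simp only [Q8.mulRaw, Q8.zero, Q8.dbl, Q8.zs] <;> ring
  rw [this, half_dbl]

theorem mul_two' (x : Q8) : Q8.mul x ⟨4, 0, 0, 0, 0, 0, 0, 0⟩ = Q8.dbl x := by
  unfold Q8.mul
  have : Q8.mulRaw x ⟨4, 0, 0, 0, 0, 0, 0, 0⟩ = Q8.dbl (Q8.dbl x) := by
    ext <;> simp only [Q8.mulRaw, Q8.dbl, Q8.zs] <;> ring
  rw [this, half_dbl]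

/-- `ū u = 1` for a unit -/
theorem toH_star_mul_self {u : Q8} (hn : Q8.nrm u = (4, 0)) : star u.toH * u.toH = 1 := by
  have h := V3.mulRaw_conj_self (Q8.conj u)
  rw [conj_conj, nrm_conj, hn] at h
  have h1 : Q8.mulRaw (Q8.conj u) u = Q8.dbl Q8.one := by rw [h]; decide
  have h2 := Q8.toH_mul_of_eq h1
  rw [Q8.toH_one, Q8.toH_conj] at h2
  exact h2.symm

theorem toH_mul_star_self {u : Q8} (hn : Q8.nrm u = (4, 0)) : u.toH * star u.toH = 1 := by
  have h := V3.mulRaw_conj_self u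
  rw [hn] at h
  have h1 : Q8.mulRaw u (Q8.conj u) = Q8.dbl Q8.one := by rw [h]; decide
  have h2 := Q8.toH_mul_of_eq h1
  rw [Q8.toH_one, Q8.toH_conj] at h2
  exact h2.symm

theorem mul_assoc' {x y z : Q8} (hx : Q8.inI x = true) (hy : Q8.inI y = true)
    (hz : Q8.inI z = true) : Q8.mul (Q8.mul x y) z = Q8.mul x (Q8.mul y z) := by
  apply Q8.toH_injective
  obtain ⟨e1, i1⟩ := V3.toH_mul hx hy
  obtain ⟨e2, i2⟩ := V3.toH_mul hy hz
  rw [(V3.toH_mul i1 hz).1, e1, (V3.toH_mul hx i2).1, e2, mul_assoc]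

theorem mul_conj_cancel {u x : Q8} (hu : Q8.inI u = true) (hn : Q8.nrm u = (4, 0))
    (hx : Q8.inI x = true) : Q8.mul (Q8.conj u) (Q8.mul u x) = x := by
  apply Q8.toH_injective
  obtain ⟨e1, i1⟩ := V3.toH_mul hu hx
  rw [(V3.toH_mul (inI_conj hu) i1).1, e1, Q8.toH_conj, ← mul_assoc, toH_star_mul_self hn, one_mul]

theorem mul_cancel_conj {u x : Q8} (hu : Q8.inI u = true) (hn : Q8.nrm u = (4, 0))
    (hx : Q8.inI x = true) : Q8.mul u (Q8.mul (Q8.conj u) x) = x := by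
  apply Q8.toH_injective
  obtain ⟨e1, i1⟩ := V3.toH_mul (inI_conj hu) hx
  rw [(V3.toH_mul hu i1).1, e1, Q8.toH_conj, ← mul_assoc, toH_mul_star_self hn, one_mul]

/-- the model Leech lattice is stable under left multiplication by icosians -/
theorem inLeech_lsmul {u : Q8} (hu : Q8.inI u = true) {v : V3} (hv : V3.inLeech v = true) :
    V3.inLeech (V3.lsmul u v) = true := by
  have hI : Q8.inI v.x = true ∧ Q8.inI v.y = true ∧ Q8.inI v.z = true := by
    simp only [V3.inLeech, Bool.and_eq_true] at hv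
    exact ⟨hv.1.1.1.1.1, hv.1.1.1.1.2, hv.1.1.1.2⟩
  have hmem : v.toV ∈ icoLeech := (V3.mem_icoLeech_iff _).mpr ⟨v, hv, rfl⟩
  have hu' : u.toH ∈ icosians := Q8.toH_mem_icosians hu
  have hmem' : (fun t => u.toH * v.toV t) ∈ icoLeech := by
    obtain ⟨h0, h1, h2, h3⟩ := hmem
    refine ⟨fun t => Subring.mul_mem _ hu' (h0 t), ?_, ?_, ?_⟩
    · obtain ⟨a, ha, e⟩ := h1
      refine ⟨u.toH * a, Subring.mul_mem _ hu' ha, ?_⟩
      simp only
      rw [← mul_sub, e, mul_assoc]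
    · obtain ⟨a, ha, e⟩ := h2
      refine ⟨u.toH * a, Subring.mul_mem _ hu' ha, ?_⟩
      simp only
      rw [← mul_sub, e, mul_assoc]
    · obtain ⟨a, ha, e⟩ := h3
      refine ⟨u.toH * a, Subring.mul_mem _ hu' ha, ?_⟩
      simp only
      rw [← mul_add, ← mul_add, e, mul_assoc]
  obtain ⟨w, hw, e⟩ := (V3.mem_icoLeech_iff _).mp hmem'
  have : w = V3.lsmul u v := by
    apply V3.toV_injective
    rw [e, V3.toV_lsmul hu hI.1 hI.2.1 hI.2.2]
  rw [← this]; exact hw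

theorem inI_of_inLeech {v : V3} (hv : V3.inLeech v = true) :
    Q8.inI v.x = true ∧ Q8.inI v.y = true ∧ Q8.inI v.z = true := by
  simp only [V3.inLeech, Bool.and_eq_true] at hv
  exact ⟨hv.1.1.1.1.1, hv.1.1.1.1.2, hv.1.1.1.2⟩

theorem nrm3_lsmul_unit {u : Q8} (hu : Q8.inI u = true) (hn : Q8.nrm u = (4, 0)) {v : V3}
    (hv : Q8.inI v.x = true ∧ Q8.inI v.y = true ∧ Q8.inI v.z = true) :
    V3.nrm3 (V3.lsmul u v) = V3.nrm3 v := by
  simp only [V3.nrm3, V3.lsmul, nrm_mul_unit hu hn hv.1, nrm_mul_unit hu hn hv.2.1,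
    nrm_mul_unit hu hn hv.2.2]

theorem isMin_lsmul_unit {u : Q8} (hu : Q8.inI u = true) (hn : Q8.nrm u = (4, 0)) {v : V3}
    (hv : V3.isMin v = true) : V3.isMin (V3.lsmul u v) = true := by
  rw [V3.isMin_iff] at hv ⊢
  exact ⟨inLeech_lsmul hu hv.1, by rw [nrm3_lsmul_unit hu hn (inI_of_inLeech hv.1)]; exact hv.2⟩

theorem lsmul_cancel_conj {u : Q8} (hu : Q8.inI u = true) (hn : Q8.nrm u = (4, 0)) {v : V3}
    (hv : Q8.inI v.x = true ∧ Q8.inI v.y = true ∧ Q8.inI v.z = true) :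
    V3.lsmul u (V3.lsmul (Q8.conj u) v) = v := by
  ext1 <;> simp only [V3.lsmul]
  · exact mul_cancel_conj hu hn hv.1
  · exact mul_cancel_conj hu hn hv.2.1
  · exact mul_cancel_conj hu hn hv.2.2

end Cfsg.Agent.Lib.Helper14.IcoB
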