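import Cfsg.Agent.Lib.Helper14.IcoB2

/-!
# Icosian model: the possible norm shapes of a minimal vector (helper14)
-/

set_option autoImplicit false

namespace Cfsg.Agent.Lib.Helper14.IcoB

open Cfsg.Agent.Lib.Helper11.Ico
open Quaternion Cfsg.Spor

theorem leftIdeal_sub {q a b : ℍ[ℝ]} (ha : a ∈ leftIdeal q) (hb : b ∈ leftIdeal q) :
    a - b ∈ leftIdeal q := by
  obtain ⟨a', ha', rfl⟩ := ha
  obtain ⟨b', hb', rfl⟩ := hb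
  exact ⟨a' - b', Subring.sub_mem _ ha' hb', by rw [sub_mul]⟩

theorem inIq_hQ_sub {x y : Q8} (hx : Q8.inI x = true) (hy : Q8.inI y = true)
    (h1 : Q8.inIq Q8.hQ x = true) (h2 : Q8.inIq Q8.hQ y = true) :
    Q8.inIq Q8.hQ (Q8.sub x y) = true := by
  rw [← Q8.mem_leftIdeal_iff V3.hQ_norm.1 V3.hQ_norm.2 (Q8.inI_sub hx hy), Q8.toH_sub]
  exact leftIdeal_sub ((Q8.mem_leftIdeal_iff V3.hQ_norm.1 V3.hQ_norm.2 hx).mpr h1)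
    ((Q8.mem_leftIdeal_iff V3.hQ_norm.1 V3.hQ_norm.2 hy).mpr h2)

theorem sub_sub_self' (a b : Q8) : Q8.sub a (Q8.sub a b) = b := by
  ext <;> simp only [Q8.sub] <;> omega

theorem sub_add_self' (a b : Q8) : Q8.sub (Q8.sub a b) (Q8.neg b) = a := by
  ext <;> simp only [Q8.sub, Q8.neg] <;> omega

theorem inIq_hQ_of_sub {a b : Q8} (ha : Q8.inI a = true) (hb : Q8.inI b = true)
    (h : Q8.inIq Q8.hQ (Q8.sub a b) = true) (h1 : Q8.inIq Q8.hQ a = true) :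
    Q8.inIq Q8.hQ b = true := by
  have := inIq_hQ_sub ha (Q8.inI_sub ha hb) h1 h
  rwa [sub_sub_self'] at this

theorem sub_zero' (a : Q8) : Q8.sub a Q8.zero = a := by
  ext <;> simp only [Q8.sub, Q8.zero] <;> omega

theorem sub_sub_cancel' (a b : Q8) : Q8.sub (Q8.sub a b) (Q8.sub Q8.zero b) = a := by
  ext <;> simp only [Q8.sub, Q8.zero] <;> omega

theorem inIq_hQ_zero : Q8.inIq Q8.hQ Q8.zero = true := by decide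

theorem inIq_hQ_of_sub' {a b : Q8} (ha : Q8.inI a = true) (hb : Q8.inI b = true)
    (h : Q8.inIq Q8.hQ (Q8.sub a b) = true) (h1 : Q8.inIq Q8.hQ b = true) :
    Q8.inIq Q8.hQ a = true := by
  have h0 : Q8.inI Q8.zero = true := by decide
  have h2 : Q8.inIq Q8.hQ (Q8.sub Q8.zero b) = true := inIq_hQ_sub h0 hb inIq_hQ_zero h1
  have := inIq_hQ_sub (Q8.inI_sub ha hb) (Q8.inI_sub h0 hb) h h2
  rwa [sub_sub_cancel'] at this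

theorem nrm_hQ : Q8.nrm Q8.hQ = (8, 0) := by decide

/-- a vector of the model Leech lattice with a zero coordinate has all coordinates in `I h` -/
theorem inIq_of_zero {v : V3} (hv : V3.inLeech v = true)
    (h0 : v.x = Q8.zero ∨ v.y = Q8.zero ∨ v.z = Q8.zero) :
    Q8.inIq Q8.hQ v.x = true ∧ Q8.inIq Q8.hQ v.y = true ∧ Q8.inIq Q8.hQ v.z = true := by
  obtain ⟨ix, iy, iz⟩ := inI_of_inLeech hv
  simp only [V3.inLeech, Bool.and_eq_true] at hv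
  obtain ⟨⟨⟨-, h1⟩, h2⟩, -⟩ := hv
  rcases h0 with h0 | h0 | h0
  · have hx : Q8.inIq Q8.hQ v.x = true := by rw [h0]; exact inIq_hQ_zero
    have hy := inIq_hQ_of_sub ix iy h1 hx
    exact ⟨hx, hy, inIq_hQ_of_sub iy iz h2 hy⟩
  · have hy : Q8.inIq Q8.hQ v.y = true := by rw [h0]; exact inIq_hQ_zero
    exact ⟨inIq_hQ_of_sub' ix iy h1 hy, hy, inIq_hQ_of_sub iy iz h2 hy⟩
  · have hz : Q8.inIq Q8.hQ v.z = true := by rw [h0]; exact inIq_hQ_zero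
    have hy := inIq_hQ_of_sub' iy iz h2 hz
    exact ⟨inIq_hQ_of_sub' ix iy h1 hy, hy, hz⟩

theorem coord_facts {x : Q8} (hx : Q8.inI x = true) :
    0 ≤ (Q8.nrm x).1 ∧ 4 ∣ (Q8.nrm x).1 ∧ 4 ∣ (Q8.nrm x).2 ∧
    ((Q8.nrm x).1 = 0 → (Q8.nrm x).2 = 0) ∧
    ((Q8.nrm x).1 ≠ 0 → 0 < 2 * (Q8.nrm x).1 + 3 * (Q8.nrm x).2 ∧
      0 < 5 * (Q8.nrm x).1 - 3 * (Q8.nrm x).2) := by
  refine ⟨nrm_nonneg x, (nrm_dvd hx).1, (nrm_dvd hx).2, ?_, ?_⟩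
  · intro h
    rw [eq_zero_of_nrm h]; decide
  · intro h
    have hne : x ≠ Q8.zero := by
      rintro rfl
      exact h (by decide)
    exact ⟨nrm_lo hne, nrm_hi hne⟩

/-- the fifteen possible norm shapes -/
def shapeList : List ((ℤ × ℤ) × (ℤ × ℤ) × (ℤ × ℤ)) :=
  [((16, 0), (0, 0), (0, 0)), ((8, 0), (8, 0), (0, 0)), ((8, 0), (0, 0), (8, 0)),
   ((8, 0), (4, 0), (4, 0)), ((4, 0), (8, 0), (4, 0)), ((4, 0), (4, 0), (8, 0)),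
   ((4, 0), (4, 4), (8, -4)), ((4, 0), (8, -4), (4, 4)), ((4, 4), (4, 0), (8, -4)),
   ((4, 4), (8, -4), (4, 0)), ((8, -4), (4, 0), (4, 4)), ((8, -4), (4, 4), (4, 0)),
   ((0, 0), (16, 0), (0, 0)), ((0, 0), (8, 0), (8, 0)), ((0, 0), (0, 0), (16, 0))]

/-- the constraint on the norm `a + bτ` of a coordinate -/
def cOK (a b : ℤ) : Prop := (a = 0 → b = 0) ∧ (a ≠ 0 → 0 < 2 * a + 3 * b ∧ 0 < 5 * a - 3 * b)

instance (a b : ℤ) : Decidable (cOK a b) := by unfold cOK; infer_instance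

def Ia : List ℤ := [0, 1, 2, 3, 4]
def Ib : List ℤ := [-2, -1, 0, 1, 2, 3, 4, 5, 6]

set_option synthInstance.maxSize 2048 in
set_option synthInstance.maxHeartbeats 400000 in
theorem shapes_fin : ∀ a1 ∈ Ia, ∀ b1 ∈ Ib, ∀ a2 ∈ Ia, ∀ b2 ∈ Ib,
    0 ≤ 4 - a1 - a2 → cOK a1 b1 → cOK a2 b2 → cOK (4 - a1 - a2) (-b1 - b2) →
    ((a1 = 0 ∨ a2 = 0 ∨ 4 - a1 - a2 = 0) →
      a1 % 2 = 0 ∧ b1 % 2 = 0 ∧ a2 % 2 = 0 ∧ b2 % 2 = 0 ∧ (-b1 - b2) % 2 = 0) →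
    ((4 * a1, 4 * b1), (4 * a2, 4 * b2), (4 * (4 - a1 - a2), 4 * (-b1 - b2))) ∈ shapeList := by
  decide +kernel

theorem mem_Ia {a : ℤ} (h0 : 0 ≤ a) (h4 : a ≤ 4) : a ∈ Ia := by
  interval_cases a <;> decide

theorem mem_Ib {b : ℤ} (h0 : -2 ≤ b) (h4 : b ≤ 6) : b ∈ Ib := by
  interval_cases b <;> decide

theorem shapes_arith {A1 B1 A2 B2 A3 B3 : ℤ}
    (f1 : 0 ≤ A1 ∧ 4 ∣ A1 ∧ 4 ∣ B1 ∧ (A1 = 0 → B1 = 0) ∧
      (A1 ≠ 0 → 0 < 2 * A1 + 3 * B1 ∧ 0 < 5 * A1 - 3 * B1))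
    (f2 : 0 ≤ A2 ∧ 4 ∣ A2 ∧ 4 ∣ B2 ∧ (A2 = 0 → B2 = 0) ∧
      (A2 ≠ 0 → 0 < 2 * A2 + 3 * B2 ∧ 0 < 5 * A2 - 3 * B2))
    (f3 : 0 ≤ A3 ∧ 4 ∣ A3 ∧ 4 ∣ B3 ∧ (A3 = 0 → B3 = 0) ∧
      (A3 ≠ 0 → 0 < 2 * A3 + 3 * B3 ∧ 0 < 5 * A3 - 3 * B3))
    (hz : (A1 = 0 ∨ A2 = 0 ∨ A3 = 0) →
      8 ∣ A1 ∧ 8 ∣ B1 ∧ 8 ∣ A2 ∧ 8 ∣ B2 ∧ 8 ∣ A3 ∧ 8 ∣ B3)
    (hA : A1 + A2 + A3 = 16) (hB : B1 + B2 + B3 = 0) :
    ((A1, B1), (A2, B2), (A3, B3)) ∈ shapeList := by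
  obtain ⟨p1, ⟨a1, rfl⟩, ⟨b1, rfl⟩, z1, q1⟩ := f1
  obtain ⟨p2, ⟨a2, rfl⟩, ⟨b2, rfl⟩, z2, q2⟩ := f2
  obtain ⟨p3, ⟨a3, rfl⟩, ⟨b3, rfl⟩, z3, q3⟩ := f3
  obtain rfl : a3 = 4 - a1 - a2 := by omega
  obtain rfl : b3 = - b1 - b2 := by omega
  have ha1 : 0 ≤ a1 := by omega
  have ha2 : 0 ≤ a2 := by omega
  have ha3 : 0 ≤ 4 - a1 - a2 := by omega
  have c1 : cOK a1 b1 := ⟨by omega, by omega⟩
  have c2 : cOK a2 b2 := ⟨by omega, by omega⟩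
  have c3 : cOK (4 - a1 - a2) (-b1 - b2) := ⟨by omega, by omega⟩
  have hb1 : -2 ≤ b1 ∧ b1 ≤ 6 := by
    by_cases h : a1 = 0
    · have := z1 (by omega); omega
    · have := q1 (by omega); omega
  have hb2 : -2 ≤ b2 ∧ b2 ≤ 6 := by
    by_cases h : a2 = 0
    · have := z2 (by omega); omega
    · have := q2 (by omega); omega
  refine shapes_fin a1 (mem_Ia ha1 (by omega)) b1 (mem_Ib hb1.1 hb1.2) a2 (mem_Ia ha2 (by omega)) b2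
    (mem_Ib hb2.1 hb2.2) ha3 c1 c2 c3 ?_
  intro h0
  have := hz (by omega)
  omega

/-- **The norm shapes of a minimal vector.** -/
theorem shapes {v : V3} (hv : V3.isMin v = true) :
    (Q8.nrm v.x, Q8.nrm v.y, Q8.nrm v.z) ∈ shapeList := by
  rw [V3.isMin_iff] at hv
  obtain ⟨hL, hn⟩ := hv
  obtain ⟨ix, iy, iz⟩ := inI_of_inLeech hL
  simp only [V3.nrm3, Prod.mk.injEq] at hn
  refine shapes_arith (coord_facts ix) (coord_facts iy) (coord_facts iz) ?_ hn.1 hn.2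
  intro h0
  have h0' : v.x = Q8.zero ∨ v.y = Q8.zero ∨ v.z = Q8.zero := by
    rcases h0 with h | h | h
    · exact Or.inl (eq_zero_of_nrm h)
    · exact Or.inr (Or.inl (eq_zero_of_nrm h))
    · exact Or.inr (Or.inr (eq_zero_of_nrm h))
  obtain ⟨qx, qy, qz⟩ := inIq_of_zero hL h0'
  exact ⟨(nrm_dvd8 nrm_hQ qx).1, (nrm_dvd8 nrm_hQ qx).2, (nrm_dvd8 nrm_hQ qy).1,
    (nrm_dvd8 nrm_hQ qy).2, (nrm_dvd8 nrm_hQ qz).1, (nrm_dvd8 nrm_hQ qz).2⟩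

end Cfsg.Agent.Lib.Helper14.IcoB
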