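import Cfsg.Agent.Lib.Helper14.IcoBData

/-!
# Icosian model: the canonical-form check (helper14)
-/

set_option autoImplicit false
set_option maxRecDepth 100000

namespace Cfsg.Agent.Lib.Helper14.IcoB

open Cfsg.Agent.Lib.Helper11.Ico

/-- every vector `(ρ, y, z)` of the icosian Leech lattice with `y ∈ Ly`, `z ∈ Lz` is one of the
315 canonical vectors -/
def canonOK (ρ : Q8) (Ly Lz : List Q8) : Bool :=
  Ly.all fun y => !(Q8.inIq Q8.hQ (Q8.sub ρ y)) ||
    Lz.all fun z => !(Q8.inIq Q8.hQ (Q8.sub y z)) ||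
      (!(Q8.inIq (Q8.conj Q8.hQ) (Q8.add (Q8.add ρ y) z)) || decide ((⟨ρ, y, z⟩ : V3) ∈ C))

theorem canonOK_spec {ρ : Q8} {Ly Lz : List Q8} (h : canonOK ρ Ly Lz = true) {y z : Q8}
    (hy : y ∈ Ly) (hz : z ∈ Lz) (hL : V3.inLeech ⟨ρ, y, z⟩ = true) : (⟨ρ, y, z⟩ : V3) ∈ C := by
  simp only [V3.inLeech, Bool.and_eq_true] at hL
  obtain ⟨⟨⟨-, h1⟩, h2⟩, h3⟩ := hL
  simp only [canonOK, List.all_eq_true, Bool.or_eq_true, Bool.not_eq_true', decide_eq_true_eq] at h
  rcases h y hy with h | h
  · rw [h1] at h; exact absurd h (by decide)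
  rcases h z hz with h | h
  · rw [h2] at h; exact absurd h (by decide)
  rcases h with h | h
  · rw [h3] at h; exact absurd h (by decide)
  exact h

theorem canon_one_L2_U : canonOK Q8.one L2 U = true := by decide +kernel
theorem canon_one_U_L2 : canonOK Q8.one U L2 = true := by decide +kernel
theorem canon_one_Lt_Ls : canonOK Q8.one Lt Ls = true := by decide +kernel
theorem canon_one_Ls_Lt : canonOK Q8.one Ls Lt = true := by decide +kernel
theorem canon_tau_U_Ls : canonOK tauQ U Ls = true := by decide +kernel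
theorem canon_tau_Ls_U : canonOK tauQ Ls U = true := by decide +kernel
theorem canon_sig_U_Lt : canonOK sigQ U Lt = true := by decide +kernel
theorem canon_sig_Lt_U : canonOK sigQ Lt U = true := by decide +kernel
theorem canon_Hs_L2_Z : ∀ h ∈ Hs, canonOK h L2 [Q8.zero] = true := by decide +kernel
theorem canon_Hs_Z_L2 : ∀ h ∈ Hs, canonOK h [Q8.zero] L2 = true := by decide +kernel
theorem canon_Hs_U_U : ∀ h ∈ Hs, canonOK h U U = true := by decide +kernel
theorem canon_two : canonOK twoQ [Q8.zero] [Q8.zero] = true := by decide +kernel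
theorem canon_Z_Hs_L2 : canonOK Q8.zero Hs L2 = true := by decide +kernel
theorem canon_Z_two_Z : canonOK Q8.zero [twoQ] [Q8.zero] = true := by decide +kernel
theorem canon_Z_Z_two : canonOK Q8.zero [Q8.zero] [twoQ] = true := by decide +kernel

theorem U_unit : ∀ u ∈ U, Q8.inI u = true ∧ Q8.nrm u = (4, 0) := by decide +kernel

theorem Hs_inI : ∀ h ∈ Hs, Q8.inI h = true := by decide +kernel

end Cfsg.Agent.Lib.Helper14.IcoB
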