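import Cfsg.Agent.Lib.Helper14.IcoB3
import Cfsg.Agent.Lib.Helper14.IcoBCanonA

/-!
# Icosian model: every minimal vector is a unit multiple of a canonical one (helper14)

`classify_of_enum`: given the enumeration of the icosians of norm `1, 2, τ², σ²` (`Enum`), every
minimal vector of the model Leech lattice is `lsmul u c` with `u ∈ U`, `c ∈ C`.
-/

set_option autoImplicit false

namespace Cfsg.Agent.Lib.Helper14.IcoB

open Cfsg.Agent.Lib.Helper11.Ico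
open Quaternion Cfsg.Spor

theorem icoH_add_star : icoH + star icoH = ((-(Real.sqrt 5) : ℝ) : ℍ[ℝ]) := by
  rw [Quaternion.self_add_star']
  congr 1
  simp only [icoH]
  ring

theorem toH_sqrt5 : (⟨-2, 4, 0, 0, 0, 0, 0, 0⟩ : Q8).toH = ((Real.sqrt 5 : ℝ) : ℍ[ℝ]) := by
  ext
  · simp only [Q8.toH_re, Quaternion.re_coe, tau]; push_cast; ring
  · simp [Q8.toH]
  · simp [Q8.toH]
  · simp [Q8.toH]

/-- `I h ∩ I h̄ = 2 I` -/
theorem even_of_both {x : Q8} (hx : Q8.inI x = true) (h1 : Q8.inIq Q8.hQ x = true)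
    (h2 : Q8.inIq (Q8.conj Q8.hQ) x = true) : ∃ u : Q8, Q8.inI u = true ∧ x = Q8.dbl u := by
  obtain ⟨a, ha, ea⟩ := (Q8.mem_leftIdeal_iff V3.hQ_norm.1 V3.hQ_norm.2 hx).mpr h1
  obtain ⟨b, hb, eb⟩ := (Q8.mem_leftIdeal_iff V3.hQc_norm.1 V3.hQc_norm.2 hx).mpr h2
  rw [Q8.toH_hQ] at ea
  rw [Q8.toH_conj, Q8.toH_hQ] at eb
  have k1 : x.toH * star icoH = (2 : ℝ) • a := by
    rw [ea, mul_assoc, Q8.icoH_mul_star, two_smul, mul_two]
  have k2 : x.toH * icoH = (2 : ℝ) • b := by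
    rw [eb, mul_assoc, Q8.star_icoH_mul, two_smul, mul_two]
  set s5 : ℍ[ℝ] := ((Real.sqrt 5 : ℝ) : ℍ[ℝ]) with hs5
  have k3 : x.toH * s5 = -((2 : ℝ) • (a + b)) := by
    have : s5 = -(icoH + star icoH) := by
      rw [icoH_add_star, hs5]; push_cast; simp
    rw [this, mul_neg, mul_add, k1, k2, smul_add, add_comm]
  have hs : s5 * s5 = 5 := by
    rw [hs5, ← Quaternion.coe_mul, Real.mul_self_sqrt (by norm_num)]; norm_cast
  have hc : x.toH * s5 = s5 * x.toH := by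
    rw [hs5]; exact (Quaternion.coe_commutes _ _).symm
  have hs5I : s5 ∈ icosians := by
    rw [hs5, ← toH_sqrt5]; exact Q8.toH_mem_icosians (by decide)
  have hxI := Q8.toH_mem_icosians hx
  have hw : -(s5 * (a + b)) - (2 : ℝ) • x.toH ∈ icosians := by
    refine Subring.sub_mem _ (Subring.neg_mem _ (Subring.mul_mem _ hs5I (Subring.add_mem _ ha hb))) ?_
    rw [two_smul]; exact Subring.add_mem _ hxI hxI
  obtain ⟨u, hu, eu⟩ := (Q8.mem_icosians_iff _).mp hw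
  refine ⟨u, hu, ?_⟩
  apply Q8.toH_injective
  rw [Q8.toH_dbl, eu]
  have h5 : (5 : ℍ[ℝ]) * x.toH = -((2 : ℝ) • (s5 * (a + b))) := by
    rw [← hs, mul_assoc, ← hc, k3, mul_neg, mul_smul_comm]
  rw [smul_sub, smul_neg, ← h5, smul_smul]
  norm_num
  rw [show (4 : ℝ) • x.toH = (4 : ℍ[ℝ]) * x.toH by
    rw [show (4 : ℍ[ℝ]) = ((4 : ℝ) : ℍ[ℝ]) by norm_cast, Quaternion.coe_mul_eq_smul]]
  rw [← sub_mul]; norm_num

/-- the enumeration of the icosians of small norm (supplied by the ENUM block) -/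
structure Enum : Prop where
  e40 : ∀ x : Q8, Q8.inI x = true → Q8.nrm x = (4, 0) → x ∈ U
  e80 : ∀ x : Q8, Q8.inI x = true → Q8.nrm x = (8, 0) → ∃ u ∈ U, ∃ h ∈ Hs, x = Q8.mul u h
  e44 : ∀ x : Q8, Q8.inI x = true → Q8.nrm x = (4, 4) → ∃ u ∈ U, x = Q8.mul u tauQ
  e84 : ∀ x : Q8, Q8.inI x = true → Q8.nrm x = (8, -4) → ∃ u ∈ U, x = Q8.mul u sigQ

theorem mem_L2 (E : Enum) {x : Q8} (hx : Q8.inI x = true) (hn : Q8.nrm x = (8, 0)) : x ∈ L2 := by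
  obtain ⟨u, hu, h, hh, rfl⟩ := E.e80 x hx hn
  rw [L2_eq, List.mem_flatMap]
  exact ⟨u, hu, List.mem_map.mpr ⟨h, hh, rfl⟩⟩

theorem mem_Lt (E : Enum) {x : Q8} (hx : Q8.inI x = true) (hn : Q8.nrm x = (4, 4)) : x ∈ Lt := by
  obtain ⟨u, hu, rfl⟩ := E.e44 x hx hn
  rw [Lt_eq]
  exact List.mem_map.mpr ⟨u, hu, rfl⟩

theorem mem_Ls (E : Enum) {x : Q8} (hx : Q8.inI x = true) (hn : Q8.nrm x = (8, -4)) : x ∈ Ls := by
  obtain ⟨u, hu, rfl⟩ := E.e84 x hx hn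
  rw [Ls_eq]
  exact List.mem_map.mpr ⟨u, hu, rfl⟩

theorem mem_Z {x : Q8} (hn : Q8.nrm x = (0, 0)) : x ∈ [Q8.zero] := by
  rw [List.mem_singleton]
  exact eq_zero_of_nrm (by rw [hn])

/-- transport of a coordinate by a unit -/
theorem mem_of_nrm {n : ℤ × ℤ} {L : List Q8}
    (hL : ∀ x : Q8, Q8.inI x = true → Q8.nrm x = n → x ∈ L) {u w : Q8} (hu : u ∈ U)
    (hw : Q8.inI w = true) (hn : Q8.nrm w = n) : Q8.mul (Q8.conj u) w ∈ L := by
  obtain ⟨iu, nu⟩ := U_unit u hu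
  have ic := inI_conj iu
  have nc : Q8.nrm (Q8.conj u) = (4, 0) := by rw [nrm_conj]; exact nu
  exact hL _ (mul_spec ic hw).2 (by rw [nrm_mul_unit ic nc hw]; exact hn)

/-- the normalisation step -/
theorem step {v : V3} (hv : V3.isMin v = true) {u : Q8} (hu : u ∈ U) {ρ : Q8} {Ly Lz : List Q8}
    (hc : canonOK ρ Ly Lz = true) (hx : Q8.mul (Q8.conj u) v.x = ρ)
    (hy : Q8.mul (Q8.conj u) v.y ∈ Ly) (hz : Q8.mul (Q8.conj u) v.z ∈ Lz) :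
    ∃ u ∈ U, ∃ c ∈ C, v = V3.lsmul u c := by
  obtain ⟨iu, nu⟩ := U_unit u hu
  have hv' := isMin_lsmul_unit (inI_conj iu) (by rw [nrm_conj]; exact nu) hv
  rw [V3.isMin_iff] at hv hv'
  have e : V3.lsmul (Q8.conj u) v = ⟨ρ, Q8.mul (Q8.conj u) v.y, Q8.mul (Q8.conj u) v.z⟩ := by
    simp only [V3.lsmul, hx]
  have hm := canonOK_spec hc hy hz (by rw [← e]; exact hv'.1)
  refine ⟨u, hu, _, hm, ?_⟩
  rw [← e, lsmul_cancel_conj iu nu (inI_of_inLeech hv.1)]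

/-- normalising a coordinate of norm `1` -/
theorem norm40 (E : Enum) {w : Q8} (hw : Q8.inI w = true) (hn : Q8.nrm w = (4, 0)) :
    ∃ u ∈ U, Q8.mul (Q8.conj u) w = Q8.one := by
  refine ⟨w, E.e40 w hw hn, ?_⟩
  have := mul_conj_cancel hw hn (x := Q8.one) (by decide)
  rwa [mul_one'] at this

theorem norm80 (E : Enum) {w : Q8} (hw : Q8.inI w = true) (hn : Q8.nrm w = (8, 0)) :
    ∃ u ∈ U, ∃ h ∈ Hs, Q8.mul (Q8.conj u) w = h := by
  obtain ⟨u, hu, h, hh, rfl⟩ := E.e80 w hw hn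
  obtain ⟨iu, nu⟩ := U_unit u hu
  exact ⟨u, hu, h, hh, mul_conj_cancel iu nu (Hs_inI h hh)⟩

theorem norm44 (E : Enum) {w : Q8} (hw : Q8.inI w = true) (hn : Q8.nrm w = (4, 4)) :
    ∃ u ∈ U, Q8.mul (Q8.conj u) w = tauQ := by
  obtain ⟨u, hu, rfl⟩ := E.e44 w hw hn
  obtain ⟨iu, nu⟩ := U_unit u hu
  exact ⟨u, hu, mul_conj_cancel iu nu (by decide)⟩

theorem norm84 (E : Enum) {w : Q8} (hw : Q8.inI w = true) (hn : Q8.nrm w = (8, -4)) :
    ∃ u ∈ U, Q8.mul (Q8.conj u) w = sigQ := by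
  obtain ⟨u, hu, rfl⟩ := E.e84 w hw hn
  obtain ⟨iu, nu⟩ := U_unit u hu
  exact ⟨u, hu, mul_conj_cancel iu nu (by decide)⟩

theorem norm160 (E : Enum) {w : Q8} (hw : Q8.inI w = true) (hn : Q8.nrm w = (16, 0))
    (h1 : Q8.inIq Q8.hQ w = true) (h2 : Q8.inIq (Q8.conj Q8.hQ) w = true) :
    ∃ u ∈ U, Q8.mul (Q8.conj u) w = twoQ := by
  obtain ⟨u, iu, rfl⟩ := even_of_both hw h1 h2
  have nu : Q8.nrm u = (4, 0) := by
    rw [nrm_dbl] at hn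
    simp only [Prod.mk.injEq] at hn
    ext <;> simp only <;> omega
  refine ⟨u, E.e40 u iu nu, ?_⟩
  have := mul_conj_cancel iu nu (x := twoQ) (by decide)
  rwa [show Q8.mul u twoQ = Q8.dbl u from mul_two' u] at this

theorem add_zero_zero (x : Q8) : Q8.add (Q8.add x Q8.zero) Q8.zero = x := by
  ext <;> simp only [Q8.add, Q8.zero] <;> omega

theorem add_zero_mid (x : Q8) : Q8.add (Q8.add Q8.zero x) Q8.zero = x := by
  ext <;> simp only [Q8.add, Q8.zero] <;> omega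

theorem add_zero_last (x : Q8) : Q8.add (Q8.add Q8.zero Q8.zero) x = x := by
  ext <;> simp only [Q8.add, Q8.zero] <;> omega

theorem mul_conj_zero (u : Q8) : Q8.mul (Q8.conj u) Q8.zero = Q8.zero := mul_zero' _

/-- **Classification of the minimal vectors, modulo the enumeration of small norms.** -/
theorem classify_of_enum (E : Enum) (v : V3) (hv : V3.isMin v = true) :
    ∃ u ∈ U, ∃ c ∈ C, v = V3.lsmul u c := by
  have hs := shapes hv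
  have hv0 := hv
  rw [V3.isMin_iff] at hv0
  obtain ⟨hL, -⟩ := hv0
  obtain ⟨ix, iy, iz⟩ := inI_of_inLeech hL
  have hLL := hL
  simp only [V3.inLeech, Bool.and_eq_true] at hLL
  obtain ⟨⟨⟨-, q1⟩, q2⟩, q3⟩ := hLL
  have mZ : ∀ x : Q8, Q8.inI x = true → Q8.nrm x = (0, 0) → x ∈ [Q8.zero] := fun x _ h => mem_Z h
  have mU : ∀ x : Q8, Q8.inI x = true → Q8.nrm x = (4, 0) → x ∈ U := E.e40
  have m2 : ∀ x : Q8, Q8.inI x = true → Q8.nrm x = (8, 0) → x ∈ L2 := fun x h1 h2 => mem_L2 E h1 h2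
  have mt : ∀ x : Q8, Q8.inI x = true → Q8.nrm x = (4, 4) → x ∈ Lt := fun x h1 h2 => mem_Lt E h1 h2
  have ms : ∀ x : Q8, Q8.inI x = true → Q8.nrm x = (8, -4) → x ∈ Ls := fun x h1 h2 => mem_Ls E h1 h2
  simp only [shapeList, List.mem_cons, Prod.mk.injEq, List.not_mem_nil, or_false] at hs
  rcases hs with ⟨nx, ny, nz⟩ | ⟨nx, ny, nz⟩ | ⟨nx, ny, nz⟩ | ⟨nx, ny, nz⟩ | ⟨nx, ny, nz⟩ |
    ⟨nx, ny, nz⟩ | ⟨nx, ny, nz⟩ | ⟨nx, ny, nz⟩ | ⟨nx, ny, nz⟩ | ⟨nx, ny, nz⟩ | ⟨nx, ny, nz⟩ |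
    ⟨nx, ny, nz⟩ | ⟨nx, ny, nz⟩ | ⟨nx, ny, nz⟩ | ⟨nx, ny, nz⟩
  · -- (16,0),(0,0),(0,0)
    have y0 : v.y = Q8.zero := eq_zero_of_nrm (by rw [ny])
    have z0 : v.z = Q8.zero := eq_zero_of_nrm (by rw [nz])
    rw [y0, sub_zero'] at q1
    rw [y0, z0, add_zero_zero] at q3
    obtain ⟨u, hu, hx⟩ := norm160 E ix nx q1 q3
    exact step hv hu canon_two hx (mem_of_nrm mZ hu iy ny) (mem_of_nrm mZ hu iz nz)
  · -- (8,0),(8,0),(0,0)
    obtain ⟨u, hu, h, hh, hx⟩ := norm80 E ix nx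
    exact step hv hu (canon_Hs_L2_Z h hh) hx (mem_of_nrm m2 hu iy ny) (mem_of_nrm mZ hu iz nz)
  · -- (8,0),(0,0),(8,0)
    obtain ⟨u, hu, h, hh, hx⟩ := norm80 E ix nx
    exact step hv hu (canon_Hs_Z_L2 h hh) hx (mem_of_nrm mZ hu iy ny) (mem_of_nrm m2 hu iz nz)
  · -- (8,0),(4,0),(4,0)
    obtain ⟨u, hu, h, hh, hx⟩ := norm80 E ix nx
    exact step hv hu (canon_Hs_U_U h hh) hx (mem_of_nrm mU hu iy ny) (mem_of_nrm mU hu iz nz)
  · -- (4,0),(8,0),(4,0)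
    obtain ⟨u, hu, hx⟩ := norm40 E ix nx
    exact step hv hu canon_one_L2_U hx (mem_of_nrm m2 hu iy ny) (mem_of_nrm mU hu iz nz)
  · -- (4,0),(4,0),(8,0)
    obtain ⟨u, hu, hx⟩ := norm40 E ix nx
    exact step hv hu canon_one_U_L2 hx (mem_of_nrm mU hu iy ny) (mem_of_nrm m2 hu iz nz)
  · -- (4,0),(4,4),(8,-4)
    obtain ⟨u, hu, hx⟩ := norm40 E ix nx
    exact step hv hu canon_one_Lt_Ls hx (mem_of_nrm mt hu iy ny) (mem_of_nrm ms hu iz nz)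
  · -- (4,0),(8,-4),(4,4)
    obtain ⟨u, hu, hx⟩ := norm40 E ix nx
    exact step hv hu canon_one_Ls_Lt hx (mem_of_nrm ms hu iy ny) (mem_of_nrm mt hu iz nz)
  · -- (4,4),(4,0),(8,-4)
    obtain ⟨u, hu, hx⟩ := norm44 E ix nx
    exact step hv hu canon_tau_U_Ls hx (mem_of_nrm mU hu iy ny) (mem_of_nrm ms hu iz nz)
  · -- (4,4),(8,-4),(4,0)
    obtain ⟨u, hu, hx⟩ := norm44 E ix nx
    exact step hv hu canon_tau_Ls_U hx (mem_of_nrm ms hu iy ny) (mem_of_nrm mU hu iz nz)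
  · -- (8,-4),(4,0),(4,4)
    obtain ⟨u, hu, hx⟩ := norm84 E ix nx
    exact step hv hu canon_sig_U_Lt hx (mem_of_nrm mU hu iy ny) (mem_of_nrm mt hu iz nz)
  · -- (8,-4),(4,4),(4,0)
    obtain ⟨u, hu, hx⟩ := norm84 E ix nx
    exact step hv hu canon_sig_Lt_U hx (mem_of_nrm mt hu iy ny) (mem_of_nrm mU hu iz nz)
  · -- (0,0),(16,0),(0,0)
    have x0 : v.x = Q8.zero := eq_zero_of_nrm (by rw [nx])
    have z0 : v.z = Q8.zero := eq_zero_of_nrm (by rw [nz])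
    rw [z0, sub_zero'] at q2
    rw [x0, z0, add_zero_mid] at q3
    obtain ⟨u, hu, hy⟩ := norm160 E iy ny q2 q3
    refine step hv hu canon_Z_two_Z ?_ ?_ (mem_of_nrm mZ hu iz nz)
    · rw [x0]; exact mul_conj_zero u
    · rw [hy]; exact List.mem_singleton.mpr rfl
  · -- (0,0),(8,0),(8,0)
    have x0 : v.x = Q8.zero := eq_zero_of_nrm (by rw [nx])
    obtain ⟨u, hu, h, hh, hy⟩ := norm80 E iy ny
    refine step hv hu canon_Z_Hs_L2 ?_ ?_ (mem_of_nrm m2 hu iz nz)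
    · rw [x0]; exact mul_conj_zero u
    · rw [hy]; exact hh
  · -- (0,0),(0,0),(16,0)
    have x0 : v.x = Q8.zero := eq_zero_of_nrm (by rw [nx])
    have y0 : v.y = Q8.zero := eq_zero_of_nrm (by rw [ny])
    rw [y0] at q2
    have q2' := inIq_hQ_of_sub (by decide) iz q2 inIq_hQ_zero
    rw [x0, y0, add_zero_last] at q3
    obtain ⟨u, hu, hz⟩ := norm160 E iz nz q2' q3
    refine step hv hu canon_Z_Z_two ?_ ?_ ?_
    · rw [x0]; exact mul_conj_zero u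
    · rw [y0, mul_conj_zero u]; exact List.mem_singleton.mpr rfl
    · rw [hz]; exact List.mem_singleton.mpr rfl

end Cfsg.Agent.Lib.Helper14.IcoB
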