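import Cfsg.Agent.Lib.Helper11.IcoData

/-!
# Icosian model: literal candidate lists for the canonical form of minimal vectors (helper14)
-/

set_option autoImplicit false
set_option maxRecDepth 100000

namespace Cfsg.Agent.Lib.Helper14.IcoB

open Cfsg.Agent.Lib.Helper11.Ico

/-- `τ` -/
def tauQ : Q8 := ⟨0, 2, 0, 0, 0, 0, 0, 0⟩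
/-- `σ = 1 - τ` -/
def sigQ : Q8 := ⟨2, -2, 0, 0, 0, 0, 0, 0⟩
/-- `2` -/
def twoQ : Q8 := ⟨4, 0, 0, 0, 0, 0, 0, 0⟩

/-- the five representatives of norm 2 -/
def Hs : List Q8 :=
  [⟨-2, 0, -2, 0, 0, 0, 0, 0⟩,
   ⟨-2, 0, -1, 0, -1, 1, 0, -1⟩,
   ⟨-2, 0, -1, 0, -1, 1, 0, 1⟩,
   ⟨-2, 0, -1, 0, 1, -1, 0, -1⟩,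
   ⟨-2, 0, -1, 0, 1, -1, 0, 1⟩]

/-- the 120 icosians of norm `τ²` -/
def Lt : List Q8 :=
  [⟨0, -2, 0, 0, 0, 0, 0, 0⟩,
   ⟨0, -1, 0, -1, 0, -1, 0, -1⟩,
   ⟨0, -1, 0, -1, 0, -1, 0, 1⟩,
   ⟨0, -1, 0, -1, 0, 1, 0, -1⟩,
   ⟨0, -1, 0, -1, 0, 1, 0, 1⟩,
   ⟨0, -1, 1, 0, 0, 0, -1, -1⟩,
   ⟨0, -1, 1, 0, 0, 0, 1, 1⟩,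
   ⟨0, -1, -1, -1, 1, 0, 0, 0⟩,
   ⟨0, -1, -1, -1, -1, 0, 0, 0⟩,
   ⟨0, -1, 0, 0, -1, -1, 1, 0⟩,
   ⟨0, -1, 0, 0, -1, -1, -1, 0⟩,
   ⟨0, -1, 0, 0, 1, 1, 1, 0⟩,
   ⟨0, -1, 0, 0, 1, 1, -1, 0⟩,
   ⟨0, -1, 1, 1, 1, 0, 0, 0⟩,
   ⟨0, -1, 1, 1, -1, 0, 0, 0⟩,
   ⟨0, -1, -1, 0, 0, 0, -1, -1⟩,
   ⟨0, -1, -1, 0, 0, 0, 1, 1⟩,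
   ⟨0, -1, 0, 1, 0, -1, 0, -1⟩,
   ⟨0, -1, 0, 1, 0, -1, 0, 1⟩,
   ⟨0, -1, 0, 1, 0, 1, 0, -1⟩,
   ⟨0, -1, 0, 1, 0, 1, 0, 1⟩,
   ⟨1, 0, 0, -1, -1, -1, 0, 0⟩,
   ⟨1, 0, 0, -1, 1, 1, 0, 0⟩,
   ⟨1, 0, -1, -1, 0, 0, 0, -1⟩,
   ⟨1, 0, -1, -1, 0, 0, 0, 1⟩,
   ⟨1, 0, 0, 0, 0, -1, -1, -1⟩,
   ⟨1, 0, 0, 0, 0, -1, 1, 1⟩,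
   ⟨1, 0, 0, 0, 0, 1, -1, -1⟩,
   ⟨1, 0, 0, 0, 0, 1, 1, 1⟩,
   ⟨1, 0, 1, 1, 0, 0, 0, -1⟩,
   ⟨1, 0, 1, 1, 0, 0, 0, 1⟩,
   ⟨1, 0, 0, 1, -1, -1, 0, 0⟩,
   ⟨1, 0, 0, 1, 1, 1, 0, 0⟩,
   ⟨-1, -1, 0, -1, 0, 0, 1, 0⟩,
   ⟨-1, -1, 0, -1, 0, 0, -1, 0⟩,
   ⟨-1, -1, 1, 0, 0, -1, 0, 0⟩,
   ⟨-1, -1, 1, 0, 0, 1, 0, 0⟩,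
   ⟨-1, -1, 0, 0, 1, 0, 0, -1⟩,
   ⟨-1, -1, 0, 0, 1, 0, 0, 1⟩,
   ⟨-1, -1, 0, 0, -1, 0, 0, -1⟩,
   ⟨-1, -1, 0, 0, -1, 0, 0, 1⟩,
   ⟨-1, -1, -1, 0, 0, -1, 0, 0⟩,
   ⟨-1, -1, -1, 0, 0, 1, 0, 0⟩,
   ⟨-1, -1, 0, 1, 0, 0, 1, 0⟩,
   ⟨-1, -1, 0, 1, 0, 0, -1, 0⟩,
   ⟨0, 0, 0, -2, 0, 0, 0, 0⟩,
   ⟨0, 0, 0, -1, 1, 0, -1, -1⟩,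
   ⟨0, 0, 0, -1, 1, 0, 1, 1⟩,
   ⟨0, 0, 0, -1, -1, 0, -1, -1⟩,
   ⟨0, 0, 0, -1, -1, 0, 1, 1⟩,
   ⟨0, 0, 1, 0, -1, -1, 0, -1⟩,
   ⟨0, 0, 1, 0, -1, -1, 0, 1⟩,
   ⟨0, 0, 1, 0, 1, 1, 0, -1⟩,
   ⟨0, 0, 1, 0, 1, 1, 0, 1⟩,
   ⟨0, 0, -1, -1, 0, -1, 1, 0⟩,
   ⟨0, 0, -1, -1, 0, -1, -1, 0⟩,
   ⟨0, 0, -1, -1, 0, 1, 1, 0⟩,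
   ⟨0, 0, -1, -1, 0, 1, -1, 0⟩,
   ⟨0, 0, 0, 0, 0, -2, 0, 0⟩,
   ⟨0, 0, 0, 0, 0, 0, 0, -2⟩,
   ⟨0, 0, 0, 0, 0, 0, 0, 2⟩,
   ⟨0, 0, 0, 0, 0, 2, 0, 0⟩,
   ⟨0, 0, 1, 1, 0, -1, 1, 0⟩,
   ⟨0, 0, 1, 1, 0, -1, -1, 0⟩,
   ⟨0, 0, 1, 1, 0, 1, 1, 0⟩,
   ⟨0, 0, 1, 1, 0, 1, -1, 0⟩,
   ⟨0, 0, -1, 0, -1, -1, 0, -1⟩,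
   ⟨0, 0, -1, 0, -1, -1, 0, 1⟩,
   ⟨0, 0, -1, 0, 1, 1, 0, -1⟩,
   ⟨0, 0, -1, 0, 1, 1, 0, 1⟩,
   ⟨0, 0, 0, 1, 1, 0, -1, -1⟩,
   ⟨0, 0, 0, 1, 1, 0, 1, 1⟩,
   ⟨0, 0, 0, 1, -1, 0, -1, -1⟩,
   ⟨0, 0, 0, 1, -1, 0, 1, 1⟩,
   ⟨0, 0, 0, 2, 0, 0, 0, 0⟩,
   ⟨1, 1, 0, -1, 0, 0, 1, 0⟩,
   ⟨1, 1, 0, -1, 0, 0, -1, 0⟩,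
   ⟨1, 1, 1, 0, 0, -1, 0, 0⟩,
   ⟨1, 1, 1, 0, 0, 1, 0, 0⟩,
   ⟨1, 1, 0, 0, 1, 0, 0, -1⟩,
   ⟨1, 1, 0, 0, 1, 0, 0, 1⟩,
   ⟨1, 1, 0, 0, -1, 0, 0, -1⟩,
   ⟨1, 1, 0, 0, -1, 0, 0, 1⟩,
   ⟨1, 1, -1, 0, 0, -1, 0, 0⟩,
   ⟨1, 1, -1, 0, 0, 1, 0, 0⟩,
   ⟨1, 1, 0, 1, 0, 0, 1, 0⟩,
   ⟨1, 1, 0, 1, 0, 0, -1, 0⟩,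
   ⟨-1, 0, 0, -1, -1, -1, 0, 0⟩,
   ⟨-1, 0, 0, -1, 1, 1, 0, 0⟩,
   ⟨-1, 0, -1, -1, 0, 0, 0, -1⟩,
   ⟨-1, 0, -1, -1, 0, 0, 0, 1⟩,
   ⟨-1, 0, 0, 0, 0, -1, -1, -1⟩,
   ⟨-1, 0, 0, 0, 0, -1, 1, 1⟩,
   ⟨-1, 0, 0, 0, 0, 1, -1, -1⟩,
   ⟨-1, 0, 0, 0, 0, 1, 1, 1⟩,
   ⟨-1, 0, 1, 1, 0, 0, 0, -1⟩,
   ⟨-1, 0, 1, 1, 0, 0, 0, 1⟩,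
   ⟨-1, 0, 0, 1, -1, -1, 0, 0⟩,
   ⟨-1, 0, 0, 1, 1, 1, 0, 0⟩,
   ⟨0, 1, 0, -1, 0, -1, 0, -1⟩,
   ⟨0, 1, 0, -1, 0, -1, 0, 1⟩,
   ⟨0, 1, 0, -1, 0, 1, 0, -1⟩,
   ⟨0, 1, 0, -1, 0, 1, 0, 1⟩,
   ⟨0, 1, 1, 0, 0, 0, -1, -1⟩,
   ⟨0, 1, 1, 0, 0, 0, 1, 1⟩,
   ⟨0, 1, -1, -1, 1, 0, 0, 0⟩,
   ⟨0, 1, -1, -1, -1, 0, 0, 0⟩,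
   ⟨0, 1, 0, 0, -1, -1, 1, 0⟩,
   ⟨0, 1, 0, 0, -1, -1, -1, 0⟩,
   ⟨0, 1, 0, 0, 1, 1, 1, 0⟩,
   ⟨0, 1, 0, 0, 1, 1, -1, 0⟩,
   ⟨0, 1, 1, 1, 1, 0, 0, 0⟩,
   ⟨0, 1, 1, 1, -1, 0, 0, 0⟩,
   ⟨0, 1, -1, 0, 0, 0, -1, -1⟩,
   ⟨0, 1, -1, 0, 0, 0, 1, 1⟩,
   ⟨0, 1, 0, 1, 0, -1, 0, -1⟩,
   ⟨0, 1, 0, 1, 0, -1, 0, 1⟩,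
   ⟨0, 1, 0, 1, 0, 1, 0, -1⟩,
   ⟨0, 1, 0, 1, 0, 1, 0, 1⟩,
   ⟨0, 2, 0, 0, 0, 0, 0, 0⟩]

/-- the 120 icosians of norm `σ²` -/
def Ls : List Q8 :=
  [⟨-2, 2, 0, 0, 0, 0, 0, 0⟩,
   ⟨-1, 1, -1, 1, -1, 1, -1, 1⟩,
   ⟨-1, 1, -1, 1, -1, 1, 1, -1⟩,
   ⟨-1, 1, -1, 1, 1, -1, -1, 1⟩,
   ⟨-1, 1, -1, 1, 1, -1, 1, -1⟩,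
   ⟨-1, 1, -2, 1, 0, 0, 1, 0⟩,
   ⟨-1, 1, -2, 1, 0, 0, -1, 0⟩,
   ⟨-1, 1, 1, 0, -2, 1, 0, 0⟩,
   ⟨-1, 1, 1, 0, 2, -1, 0, 0⟩,
   ⟨-1, 1, 0, 0, 1, 0, -2, 1⟩,
   ⟨-1, 1, 0, 0, 1, 0, 2, -1⟩,
   ⟨-1, 1, 0, 0, -1, 0, -2, 1⟩,
   ⟨-1, 1, 0, 0, -1, 0, 2, -1⟩,
   ⟨-1, 1, -1, 0, -2, 1, 0, 0⟩,
   ⟨-1, 1, -1, 0, 2, -1, 0, 0⟩,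
   ⟨-1, 1, 2, -1, 0, 0, 1, 0⟩,
   ⟨-1, 1, 2, -1, 0, 0, -1, 0⟩,
   ⟨-1, 1, 1, -1, -1, 1, -1, 1⟩,
   ⟨-1, 1, 1, -1, -1, 1, 1, -1⟩,
   ⟨-1, 1, 1, -1, 1, -1, -1, 1⟩,
   ⟨-1, 1, 1, -1, 1, -1, 1, -1⟩,
   ⟨-2, 1, -1, 1, 1, 0, 0, 0⟩,
   ⟨-2, 1, -1, 1, -1, 0, 0, 0⟩,
   ⟨-2, 1, 1, 0, 0, 0, -1, 1⟩,
   ⟨-2, 1, 1, 0, 0, 0, 1, -1⟩,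
   ⟨-2, 1, 0, 0, -1, 1, 1, 0⟩,
   ⟨-2, 1, 0, 0, -1, 1, -1, 0⟩,
   ⟨-2, 1, 0, 0, 1, -1, 1, 0⟩,
   ⟨-2, 1, 0, 0, 1, -1, -1, 0⟩,
   ⟨-2, 1, -1, 0, 0, 0, -1, 1⟩,
   ⟨-2, 1, -1, 0, 0, 0, 1, -1⟩,
   ⟨-2, 1, 1, -1, 1, 0, 0, 0⟩,
   ⟨-2, 1, 1, -1, -1, 0, 0, 0⟩,
   ⟨1, 0, -1, 1, 0, 0, -2, 1⟩,
   ⟨1, 0, -1, 1, 0, 0, 2, -1⟩,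
   ⟨1, 0, -2, 1, -1, 1, 0, 0⟩,
   ⟨1, 0, -2, 1, 1, -1, 0, 0⟩,
   ⟨1, 0, 0, 0, -2, 1, -1, 1⟩,
   ⟨1, 0, 0, 0, -2, 1, 1, -1⟩,
   ⟨1, 0, 0, 0, 2, -1, -1, 1⟩,
   ⟨1, 0, 0, 0, 2, -1, 1, -1⟩,
   ⟨1, 0, 2, -1, -1, 1, 0, 0⟩,
   ⟨1, 0, 2, -1, 1, -1, 0, 0⟩,
   ⟨1, 0, 1, -1, 0, 0, -2, 1⟩,
   ⟨1, 0, 1, -1, 0, 0, 2, -1⟩,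
   ⟨0, 0, -2, 2, 0, 0, 0, 0⟩,
   ⟨0, 0, -1, 1, -2, 1, 1, 0⟩,
   ⟨0, 0, -1, 1, -2, 1, -1, 0⟩,
   ⟨0, 0, -1, 1, 2, -1, 1, 0⟩,
   ⟨0, 0, -1, 1, 2, -1, -1, 0⟩,
   ⟨0, 0, -2, 1, 1, 0, -1, 1⟩,
   ⟨0, 0, -2, 1, 1, 0, 1, -1⟩,
   ⟨0, 0, -2, 1, -1, 0, -1, 1⟩,
   ⟨0, 0, -2, 1, -1, 0, 1, -1⟩,
   ⟨0, 0, 1, 0, -1, 1, -2, 1⟩,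
   ⟨0, 0, 1, 0, -1, 1, 2, -1⟩,
   ⟨0, 0, 1, 0, 1, -1, -2, 1⟩,
   ⟨0, 0, 1, 0, 1, -1, 2, -1⟩,
   ⟨0, 0, 0, 0, -2, 2, 0, 0⟩,
   ⟨0, 0, 0, 0, 0, 0, -2, 2⟩,
   ⟨0, 0, 0, 0, 0, 0, 2, -2⟩,
   ⟨0, 0, 0, 0, 2, -2, 0, 0⟩,
   ⟨0, 0, -1, 0, -1, 1, -2, 1⟩,
   ⟨0, 0, -1, 0, -1, 1, 2, -1⟩,
   ⟨0, 0, -1, 0, 1, -1, -2, 1⟩,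
   ⟨0, 0, -1, 0, 1, -1, 2, -1⟩,
   ⟨0, 0, 2, -1, 1, 0, -1, 1⟩,
   ⟨0, 0, 2, -1, 1, 0, 1, -1⟩,
   ⟨0, 0, 2, -1, -1, 0, -1, 1⟩,
   ⟨0, 0, 2, -1, -1, 0, 1, -1⟩,
   ⟨0, 0, 1, -1, -2, 1, 1, 0⟩,
   ⟨0, 0, 1, -1, -2, 1, -1, 0⟩,
   ⟨0, 0, 1, -1, 2, -1, 1, 0⟩,
   ⟨0, 0, 1, -1, 2, -1, -1, 0⟩,
   ⟨0, 0, 2, -2, 0, 0, 0, 0⟩,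
   ⟨-1, 0, -1, 1, 0, 0, -2, 1⟩,
   ⟨-1, 0, -1, 1, 0, 0, 2, -1⟩,
   ⟨-1, 0, -2, 1, -1, 1, 0, 0⟩,
   ⟨-1, 0, -2, 1, 1, -1, 0, 0⟩,
   ⟨-1, 0, 0, 0, -2, 1, -1, 1⟩,
   ⟨-1, 0, 0, 0, -2, 1, 1, -1⟩,
   ⟨-1, 0, 0, 0, 2, -1, -1, 1⟩,
   ⟨-1, 0, 0, 0, 2, -1, 1, -1⟩,
   ⟨-1, 0, 2, -1, -1, 1, 0, 0⟩,
   ⟨-1, 0, 2, -1, 1, -1, 0, 0⟩,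
   ⟨-1, 0, 1, -1, 0, 0, -2, 1⟩,
   ⟨-1, 0, 1, -1, 0, 0, 2, -1⟩,
   ⟨2, -1, -1, 1, 1, 0, 0, 0⟩,
   ⟨2, -1, -1, 1, -1, 0, 0, 0⟩,
   ⟨2, -1, 1, 0, 0, 0, -1, 1⟩,
   ⟨2, -1, 1, 0, 0, 0, 1, -1⟩,
   ⟨2, -1, 0, 0, -1, 1, 1, 0⟩,
   ⟨2, -1, 0, 0, -1, 1, -1, 0⟩,
   ⟨2, -1, 0, 0, 1, -1, 1, 0⟩,
   ⟨2, -1, 0, 0, 1, -1, -1, 0⟩,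
   ⟨2, -1, -1, 0, 0, 0, -1, 1⟩,
   ⟨2, -1, -1, 0, 0, 0, 1, -1⟩,
   ⟨2, -1, 1, -1, 1, 0, 0, 0⟩,
   ⟨2, -1, 1, -1, -1, 0, 0, 0⟩,
   ⟨1, -1, -1, 1, -1, 1, -1, 1⟩,
   ⟨1, -1, -1, 1, -1, 1, 1, -1⟩,
   ⟨1, -1, -1, 1, 1, -1, -1, 1⟩,
   ⟨1, -1, -1, 1, 1, -1, 1, -1⟩,
   ⟨1, -1, -2, 1, 0, 0, 1, 0⟩,
   ⟨1, -1, -2, 1, 0, 0, -1, 0⟩,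
   ⟨1, -1, 1, 0, -2, 1, 0, 0⟩,
   ⟨1, -1, 1, 0, 2, -1, 0, 0⟩,
   ⟨1, -1, 0, 0, 1, 0, -2, 1⟩,
   ⟨1, -1, 0, 0, 1, 0, 2, -1⟩,
   ⟨1, -1, 0, 0, -1, 0, -2, 1⟩,
   ⟨1, -1, 0, 0, -1, 0, 2, -1⟩,
   ⟨1, -1, -1, 0, -2, 1, 0, 0⟩,
   ⟨1, -1, -1, 0, 2, -1, 0, 0⟩,
   ⟨1, -1, 2, -1, 0, 0, 1, 0⟩,
   ⟨1, -1, 2, -1, 0, 0, -1, 0⟩,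
   ⟨1, -1, 1, -1, -1, 1, -1, 1⟩,
   ⟨1, -1, 1, -1, -1, 1, 1, -1⟩,
   ⟨1, -1, 1, -1, 1, -1, -1, 1⟩,
   ⟨1, -1, 1, -1, 1, -1, 1, -1⟩,
   ⟨2, -2, 0, 0, 0, 0, 0, 0⟩]

/-- the 600 icosians of norm 2 -/
def L2 : List Q8 :=
  [⟨2, 0, 2, 0, 0, 0, 0, 0⟩,
   ⟨2, 0, 1, 0, 1, -1, 0, 1⟩,
   ⟨2, 0, 1, 0, 1, -1, 0, -1⟩,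
   ⟨2, 0, 1, 0, -1, 1, 0, 1⟩,
   ⟨2, 0, 1, 0, -1, 1, 0, -1⟩,
   ⟨0, 0, 2, 0, 2, 0, 0, 0⟩,
   ⟨0, 0, 1, 1, 2, -1, 1, 0⟩,
   ⟨0, 1, 1, 0, 2, 0, 1, -1⟩,
   ⟨1, -1, 2, 0, 1, 0, 0, 1⟩,
   ⟨1, 0, 2, -1, 1, 1, 0, 0⟩,
   ⟨0, 0, 2, 0, 0, 0, -2, 0⟩,
   ⟨0, 1, 2, 0, 1, -1, -1, 0⟩,
   ⟨0, 0, 2, -1, 1, 0, -1, -1⟩,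
   ⟨1, 0, 1, 1, 0, 0, -2, 1⟩,
   ⟨1, -1, 1, 0, 0, 1, -2, 0⟩,
   ⟨0, 0, 2, 0, 0, 0, 2, 0⟩,
   ⟨1, -1, 1, 0, 0, -1, 2, 0⟩,
   ⟨1, 0, 1, 1, 0, 0, 2, -1⟩,
   ⟨0, 0, 2, -1, -1, 0, 1, 1⟩,
   ⟨0, 1, 2, 0, -1, 1, 1, 0⟩,
   ⟨0, 0, 2, 0, -2, 0, 0, 0⟩,
   ⟨1, 0, 2, -1, -1, -1, 0, 0⟩,
   ⟨1, -1, 2, 0, -1, 0, 0, -1⟩,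
   ⟨0, 1, 1, 0, -2, 0, -1, 1⟩,
   ⟨0, 0, 1, 1, -2, 1, -1, 0⟩,
   ⟨0, 1, 2, -1, 0, 1, 0, 1⟩,
   ⟨0, 0, 2, -1, 1, 0, 1, 1⟩,
   ⟨1, 1, 2, -1, 0, 0, 1, 0⟩,
   ⟨0, 0, 1, -1, 0, 1, -1, 2⟩,
   ⟨1, 1, 1, -1, -1, 1, -1, 1⟩,
   ⟨0, 1, 2, -1, 0, -1, 0, -1⟩,
   ⟨1, 1, 1, -1, 1, -1, 1, -1⟩,
   ⟨0, 0, 1, -1, 0, -1, 1, -2⟩,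
   ⟨1, 1, 2, -1, 0, 0, -1, 0⟩,
   ⟨0, 0, 2, -1, -1, 0, -1, -1⟩,
   ⟨1, -1, 1, 1, 1, -1, -1, 1⟩,
   ⟨0, 0, 0, 1, 1, -2, -1, 1⟩,
   ⟨0, 0, 1, 1, 2, -1, -1, 0⟩,
   ⟨2, -1, 0, 1, 0, -1, 0, 1⟩,
   ⟨2, -1, 1, 1, 1, 0, 0, 0⟩,
   ⟨1, -1, 1, 1, -1, 1, 1, -1⟩,
   ⟨2, -1, 1, 1, -1, 0, 0, 0⟩,
   ⟨2, -1, 0, 1, 0, 1, 0, -1⟩,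
   ⟨0, 0, 1, 1, -2, 1, 1, 0⟩,
   ⟨0, 0, 0, 1, -1, 2, 1, -1⟩,
   ⟨1, 0, 1, 0, 1, 0, 1, -2⟩,
   ⟨2, 0, 0, 1, 1, 0, 1, -1⟩,
   ⟨1, 0, -1, 0, 1, 0, 1, -2⟩,
   ⟨1, 0, 2, 0, 0, 1, 1, -1⟩,
   ⟨0, 0, 1, -1, 0, 1, 1, -2⟩,
   ⟨1, 0, 1, 0, -1, 2, -1, 0⟩,
   ⟨1, 0, 2, 0, 0, 1, -1, 1⟩,
   ⟨2, 0, 1, -1, 0, 1, -1, 0⟩,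
   ⟨0, 0, 0, 1, -1, 2, -1, 1⟩,
   ⟨1, 0, -1, 0, -1, 2, -1, 0⟩,
   ⟨1, 0, 1, 0, 1, -2, 1, 0⟩,
   ⟨1, 0, -1, 0, 1, -2, 1, 0⟩,
   ⟨0, 0, 0, 1, 1, -2, 1, -1⟩,
   ⟨2, 0, 1, -1, 0, -1, 1, 0⟩,
   ⟨1, 0, 2, 0, 0, -1, 1, -1⟩,
   ⟨1, 0, 1, 0, -1, 0, -1, 2⟩,
   ⟨0, 0, 1, -1, 0, -1, -1, 2⟩,
   ⟨1, 0, 2, 0, 0, -1, -1, 1⟩,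
   ⟨1, 0, -1, 0, -1, 0, -1, 2⟩,
   ⟨2, 0, 0, 1, -1, 0, -1, 1⟩,
   ⟨1, 1, 1, -1, 1, -1, -1, 1⟩,
   ⟨0, 1, 0, -1, 2, -1, 0, 1⟩,
   ⟨0, 1, 1, -1, 1, -2, 0, 0⟩,
   ⟨2, 0, 0, -1, 1, 0, -1, 1⟩,
   ⟨2, 0, 1, -1, 0, -1, -1, 0⟩,
   ⟨1, 1, 1, -1, -1, 1, 1, -1⟩,
   ⟨2, 0, 1, -1, 0, 1, 1, 0⟩,
   ⟨2, 0, 0, -1, -1, 0, 1, -1⟩,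
   ⟨0, 1, 1, -1, -1, 2, 0, 0⟩,
   ⟨0, 1, 0, -1, -2, 1, 0, -1⟩,
   ⟨2, -1, 0, 1, 0, 1, 0, 1⟩,
   ⟨1, -1, 0, 1, 0, 0, -1, 2⟩,
   ⟨2, 0, 0, 1, 1, 0, -1, 1⟩,
   ⟨1, -1, -1, 1, -1, 1, 1, 1⟩,
   ⟨2, 0, -1, 1, 0, 1, 1, 0⟩,
   ⟨2, -1, 0, 1, 0, -1, 0, -1⟩,
   ⟨2, 0, -1, 1, 0, -1, -1, 0⟩,
   ⟨1, -1, -1, 1, 1, -1, -1, -1⟩,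
   ⟨2, 0, 0, 1, -1, 0, 1, -1⟩,
   ⟨1, -1, 0, 1, 0, 0, 1, -2⟩,
   ⟨2, 0, 0, 0, 2, 0, 0, 0⟩,
   ⟨1, 0, -1, 1, 2, 0, 0, 1⟩,
   ⟨1, 1, -1, 0, 2, -1, 0, 0⟩,
   ⟨2, -1, 0, 0, 1, 1, 1, 0⟩,
   ⟨2, 0, 0, -1, 1, 0, 1, -1⟩,
   ⟨2, 0, 0, 0, 0, 0, -2, 0⟩,
   ⟨1, 1, 0, 0, 1, 0, -2, 1⟩,
   ⟨1, 0, 0, -1, 1, -1, -2, 0⟩,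
   ⟨2, 0, -1, 1, 0, 1, -1, 0⟩,
   ⟨2, -1, -1, 0, 0, 0, -1, -1⟩,
   ⟨2, 0, 0, 0, 0, 0, 2, 0⟩,
   ⟨2, -1, -1, 0, 0, 0, 1, 1⟩,
   ⟨2, 0, -1, 1, 0, -1, 1, 0⟩,
   ⟨1, 0, 0, -1, -1, 1, 2, 0⟩,
   ⟨1, 1, 0, 0, -1, 0, 2, -1⟩,
   ⟨2, 0, 0, 0, -2, 0, 0, 0⟩,
   ⟨2, 0, 0, -1, -1, 0, -1, 1⟩,
   ⟨2, -1, 0, 0, -1, -1, -1, 0⟩,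
   ⟨1, 1, -1, 0, -2, 1, 0, 0⟩,
   ⟨1, 0, -1, 1, -2, 0, 0, -1⟩,
   ⟨0, -1, 2, -1, 0, 1, 0, -1⟩,
   ⟨1, -1, 2, 0, 1, 0, 0, -1⟩,
   ⟨1, -1, 1, -1, 1, 1, 1, -1⟩,
   ⟨0, -1, 2, 0, -1, 1, -1, 0⟩,
   ⟨0, -1, 1, -1, -1, 2, 0, 0⟩,
   ⟨0, -1, 2, -1, 0, -1, 0, 1⟩,
   ⟨0, -1, 1, -1, 1, -2, 0, 0⟩,
   ⟨0, -1, 2, 0, 1, -1, 1, 0⟩,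
   ⟨1, -1, 1, -1, -1, -1, -1, 1⟩,
   ⟨1, -1, 2, 0, -1, 0, 0, 1⟩,
   ⟨1, -2, 1, 0, 1, 0, 1, 0⟩,
   ⟨1, -2, 0, 1, 1, -1, 0, 0⟩,
   ⟨1, -1, 0, 1, 2, 0, 1, 0⟩,
   ⟨1, -2, 1, 0, -1, 0, 1, 0⟩,
   ⟨1, -1, 1, 0, 0, 1, 2, 0⟩,
   ⟨1, -2, 1, 0, -1, 0, -1, 0⟩,
   ⟨1, -1, 1, 0, 0, -1, -2, 0⟩,
   ⟨1, -2, 1, 0, 1, 0, -1, 0⟩,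
   ⟨1, -1, 0, 1, -2, 0, -1, 0⟩,
   ⟨1, -2, 0, 1, -1, 1, 0, 0⟩,
   ⟨1, -1, 1, -1, 1, 1, -1, 1⟩,
   ⟨0, -1, 1, 0, 2, 0, -1, 1⟩,
   ⟨1, 0, 1, -1, 2, 0, 0, 1⟩,
   ⟨1, -2, 0, 0, 0, 1, -1, 1⟩,
   ⟨2, -1, 0, -1, 0, 1, 0, 1⟩,
   ⟨1, -1, 1, -1, 1, -1, -1, -1⟩,
   ⟨1, 0, 0, 0, 2, -1, -1, -1⟩,
   ⟨0, -1, 0, -1, 2, -1, 0, -1⟩,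
   ⟨2, -1, 1, 0, 0, 0, -1, -1⟩,
   ⟨1, -2, 1, -1, 0, 0, 0, -1⟩,
   ⟨1, -1, 1, -1, -1, 1, 1, 1⟩,
   ⟨1, -2, 1, -1, 0, 0, 0, 1⟩,
   ⟨2, -1, 1, 0, 0, 0, 1, 1⟩,
   ⟨0, -1, 0, -1, -2, 1, 0, 1⟩,
   ⟨1, 0, 0, 0, -2, 1, 1, 1⟩,
   ⟨1, -1, 1, -1, -1, -1, 1, -1⟩,
   ⟨2, -1, 0, -1, 0, -1, 0, -1⟩,
   ⟨1, -2, 0, 0, 0, -1, 1, -1⟩,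
   ⟨1, 0, 1, -1, -2, 0, 0, -1⟩,
   ⟨0, -1, 1, 0, -2, 0, 1, -1⟩,
   ⟨1, 0, 1, -2, 1, 0, 1, 0⟩,
   ⟨1, -1, 0, -1, 2, 0, 1, 0⟩,
   ⟨1, 0, 0, -1, 1, -1, 2, 0⟩,
   ⟨1, -1, 1, -2, 0, 1, 0, 0⟩,
   ⟨1, 0, 1, -2, -1, 0, 1, 0⟩,
   ⟨1, 0, 1, -2, -1, 0, -1, 0⟩,
   ⟨1, 0, 1, -2, 1, 0, -1, 0⟩,
   ⟨1, -1, 1, -2, 0, -1, 0, 0⟩,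
   ⟨1, 0, 0, -1, -1, 1, -2, 0⟩,
   ⟨1, -1, 0, -1, -2, 0, -1, 0⟩,
   ⟨2, -1, 0, -1, 0, 1, 0, -1⟩,
   ⟨2, -1, 0, 0, 1, 1, -1, 0⟩,
   ⟨2, -1, -1, -1, 1, 0, 0, 0⟩,
   ⟨1, -1, 0, 0, -1, 2, 0, -1⟩,
   ⟨1, -1, -1, -1, -1, 1, 1, -1⟩,
   ⟨2, -1, 0, -1, 0, -1, 0, 1⟩,
   ⟨1, -1, -1, -1, 1, -1, -1, 1⟩,
   ⟨1, -1, 0, 0, 1, -2, 0, 1⟩,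
   ⟨2, -1, -1, -1, -1, 0, 0, 0⟩,
   ⟨2, -1, 0, 0, -1, -1, 1, 0⟩,
   ⟨-1, 1, 1, 1, 1, -1, 1, -1⟩,
   ⟨0, 1, 0, 1, 0, -1, 2, -1⟩,
   ⟨-1, 1, 0, 1, 0, 0, 1, -2⟩,
   ⟨0, 1, 2, 0, 1, -1, 1, 0⟩,
   ⟨-1, 1, 2, 0, 1, 0, 0, -1⟩,
   ⟨-1, 1, 1, 1, -1, 1, -1, 1⟩,
   ⟨-1, 1, 2, 0, -1, 0, 0, 1⟩,
   ⟨0, 1, 2, 0, -1, 1, -1, 0⟩,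
   ⟨-1, 1, 0, 1, 0, 0, -1, 2⟩,
   ⟨0, 1, 0, 1, 0, 1, -2, 1⟩,
   ⟨-1, 2, 1, 0, 1, 0, -1, 0⟩,
   ⟨-1, 2, 1, 0, 1, 0, 1, 0⟩,
   ⟨-1, 2, 1, -1, 0, 0, 0, -1⟩,
   ⟨0, 1, 1, 0, 2, 0, -1, 1⟩,
   ⟨0, 1, 1, -1, 1, 0, -2, 0⟩,
   ⟨-1, 2, 1, 0, -1, 0, 1, 0⟩,
   ⟨0, 1, 1, -1, -1, 0, 2, 0⟩,
   ⟨0, 1, 1, 0, -2, 0, 1, -1⟩,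
   ⟨-1, 2, 1, -1, 0, 0, 0, 1⟩,
   ⟨-1, 2, 1, 0, -1, 0, -1, 0⟩,
   ⟨0, 1, 0, 1, 2, -1, 0, 1⟩,
   ⟨-1, 1, -1, 1, 1, -1, 1, 1⟩,
   ⟨-1, 2, 0, 1, 1, -1, 0, 0⟩,
   ⟨1, 0, 0, 0, 2, -1, 1, 1⟩,
   ⟨1, 1, 1, 0, 2, -1, 0, 0⟩,
   ⟨0, 1, 0, 1, 0, -1, -2, 1⟩,
   ⟨-1, 2, 0, 0, 0, -1, -1, 1⟩,
   ⟨-1, 1, 1, 0, 0, -1, -2, 0⟩,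
   ⟨1, 1, -1, 1, 1, -1, -1, 1⟩,
   ⟨1, 0, 0, 1, 1, -1, -2, 0⟩,
   ⟨0, 1, 0, 1, 0, 1, 2, -1⟩,
   ⟨1, 0, 0, 1, -1, 1, 2, 0⟩,
   ⟨1, 1, -1, 1, -1, 1, 1, -1⟩,
   ⟨-1, 1, 1, 0, 0, 1, 2, 0⟩,
   ⟨-1, 2, 0, 0, 0, 1, 1, -1⟩,
   ⟨0, 1, 0, 1, -2, 1, 0, -1⟩,
   ⟨1, 1, 1, 0, -2, 1, 0, 0⟩,
   ⟨1, 0, 0, 0, -2, 1, -1, -1⟩,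
   ⟨-1, 2, 0, 1, -1, 1, 0, 0⟩,
   ⟨-1, 1, -1, 1, -1, 1, -1, -1⟩,
   ⟨1, 0, -1, 2, 1, 0, -1, 0⟩,
   ⟨0, 1, -1, 2, 0, 0, -1, 1⟩,
   ⟨0, 1, -1, 1, 1, 0, -2, 0⟩,
   ⟨1, 0, -1, 2, 1, 0, 1, 0⟩,
   ⟨1, 0, -1, 1, 2, 0, 0, -1⟩,
   ⟨1, 0, -1, 2, -1, 0, 1, 0⟩,
   ⟨1, 0, -1, 1, -2, 0, 0, 1⟩,
   ⟨1, 0, -1, 2, -1, 0, -1, 0⟩,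
   ⟨0, 1, -1, 1, -1, 0, 2, 0⟩,
   ⟨0, 1, -1, 2, 0, 0, 1, -1⟩,
   ⟨1, 1, -1, 1, 1, -1, 1, -1⟩,
   ⟨1, 1, -2, 1, 0, 0, 1, 0⟩,
   ⟨0, 1, -2, 1, 0, -1, 0, -1⟩,
   ⟨1, 1, 0, 0, 1, 0, 2, -1⟩,
   ⟨0, 1, 0, 0, 1, -1, 1, -2⟩,
   ⟨1, 1, -1, 1, -1, 1, -1, 1⟩,
   ⟨0, 1, 0, 0, -1, 1, -1, 2⟩,
   ⟨1, 1, 0, 0, -1, 0, -2, 1⟩,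
   ⟨0, 1, -2, 1, 0, 1, 0, 1⟩,
   ⟨1, 1, -2, 1, 0, 0, -1, 0⟩,
   ⟨-2, 0, 2, 0, 0, 0, 0, 0⟩,
   ⟨-1, 0, 2, 0, 0, -1, 1, -1⟩,
   ⟨-1, 0, 2, 0, 0, 1, 1, -1⟩,
   ⟨-1, 0, 2, 0, 0, -1, -1, 1⟩,
   ⟨-1, 0, 2, 0, 0, 1, -1, 1⟩,
   ⟨-1, 0, 1, 0, 1, 0, -1, 2⟩,
   ⟨-2, 0, 1, 0, 1, -1, 0, 1⟩,
   ⟨-1, 1, 2, 0, 1, 0, 0, 1⟩,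
   ⟨0, -1, 0, 0, 1, -1, -1, 2⟩,
   ⟨1, 0, 1, 0, 1, 0, -1, 2⟩,
   ⟨-1, 0, 1, 0, 1, -2, -1, 0⟩,
   ⟨-1, 1, 0, 0, 1, -2, 0, -1⟩,
   ⟨-2, 0, 1, 0, 1, -1, 0, -1⟩,
   ⟨1, 0, 1, 0, 1, -2, -1, 0⟩,
   ⟨0, -1, 2, 0, 1, -1, -1, 0⟩,
   ⟨-1, 0, 1, 0, -1, 2, 1, 0⟩,
   ⟨0, -1, 2, 0, -1, 1, 1, 0⟩,
   ⟨1, 0, 1, 0, -1, 2, 1, 0⟩,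
   ⟨-2, 0, 1, 0, -1, 1, 0, 1⟩,
   ⟨-1, 1, 0, 0, -1, 2, 0, 1⟩,
   ⟨-1, 0, 1, 0, -1, 0, 1, -2⟩,
   ⟨1, 0, 1, 0, -1, 0, 1, -2⟩,
   ⟨0, -1, 0, 0, -1, 1, 1, -2⟩,
   ⟨-1, 1, 2, 0, -1, 0, 0, -1⟩,
   ⟨-2, 0, 1, 0, -1, 1, 0, -1⟩,
   ⟨-1, 1, 1, -1, 1, 1, 1, -1⟩,
   ⟨0, 0, 1, 0, 1, 1, 2, -1⟩,
   ⟨0, 1, 0, -1, 0, 1, 2, -1⟩,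
   ⟨-1, 0, 2, -1, 1, 1, 0, 0⟩,
   ⟨-1, 1, 1, -2, 0, 1, 0, 0⟩,
   ⟨-1, 1, 1, -1, -1, 1, -1, -1⟩,
   ⟨0, 1, 2, -1, 0, 1, 0, -1⟩,
   ⟨0, 0, 1, -2, -1, 1, 0, -1⟩,
   ⟨-1, 1, 1, 0, 0, 1, -2, 0⟩,
   ⟨-1, 0, 0, -1, -1, 1, -2, 0⟩,
   ⟨-1, 1, 1, -1, 1, -1, 1, 1⟩,
   ⟨-1, 0, 0, -1, 1, -1, 2, 0⟩,
   ⟨-1, 1, 1, 0, 0, -1, 2, 0⟩,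
   ⟨0, 0, 1, -2, 1, -1, 0, 1⟩,
   ⟨0, 1, 2, -1, 0, -1, 0, 1⟩,
   ⟨-1, 1, 1, -1, -1, -1, -1, 1⟩,
   ⟨-1, 1, 1, -2, 0, -1, 0, 0⟩,
   ⟨-1, 0, 2, -1, -1, -1, 0, 0⟩,
   ⟨0, 1, 0, -1, 0, -1, -2, 1⟩,
   ⟨0, 0, 1, 0, -1, -1, -2, 1⟩,
   ⟨0, -1, 0, 1, 2, -1, 0, -1⟩,
   ⟨0, 0, -1, 2, 1, -1, 0, -1⟩,
   ⟨-1, 0, -1, 1, 2, 0, 0, -1⟩,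
   ⟨1, -1, 1, 1, 1, -1, 1, -1⟩,
   ⟨0, -1, 1, 0, 2, 0, 1, -1⟩,
   ⟨0, -1, 0, 1, 0, 1, -2, 1⟩,
   ⟨-1, 0, 1, 1, 0, 0, -2, 1⟩,
   ⟨0, 0, 1, 0, 1, 1, -2, 1⟩,
   ⟨0, -1, -1, 2, 0, 0, -1, 1⟩,
   ⟨1, -1, -1, 1, 1, 1, -1, 1⟩,
   ⟨0, -1, 0, 1, 0, -1, 2, -1⟩,
   ⟨1, -1, -1, 1, -1, -1, 1, -1⟩,
   ⟨0, -1, -1, 2, 0, 0, 1, -1⟩,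
   ⟨0, 0, 1, 0, -1, -1, 2, -1⟩,
   ⟨-1, 0, 1, 1, 0, 0, 2, -1⟩,
   ⟨0, -1, 0, 1, -2, 1, 0, 1⟩,
   ⟨0, -1, 1, 0, -2, 0, -1, 1⟩,
   ⟨1, -1, 1, 1, -1, 1, -1, 1⟩,
   ⟨-1, 0, -1, 1, -2, 0, 0, 1⟩,
   ⟨0, 0, -1, 2, -1, 1, 0, 1⟩,
   ⟨0, 0, 0, 0, 2, 0, -2, 0⟩,
   ⟨-1, 1, 0, 1, 2, 0, -1, 0⟩,
   ⟨-1, 1, 0, -1, 2, 0, -1, 0⟩,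
   ⟨1, -1, 0, 1, 2, 0, -1, 0⟩,
   ⟨1, -1, 0, -1, 2, 0, -1, 0⟩,
   ⟨0, 0, 0, 0, 2, 0, 2, 0⟩,
   ⟨0, -1, -1, 1, 1, 0, 2, 0⟩,
   ⟨0, 1, -1, 1, 1, 0, 2, 0⟩,
   ⟨0, -1, 1, -1, 1, 0, 2, 0⟩,
   ⟨0, 1, 1, -1, 1, 0, 2, 0⟩,
   ⟨0, 0, 0, 0, -2, 0, -2, 0⟩,
   ⟨0, 1, 1, -1, -1, 0, -2, 0⟩,
   ⟨0, -1, 1, -1, -1, 0, -2, 0⟩,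
   ⟨0, 1, -1, 1, -1, 0, -2, 0⟩,
   ⟨0, -1, -1, 1, -1, 0, -2, 0⟩,
   ⟨0, 0, 0, 0, -2, 0, 2, 0⟩,
   ⟨1, -1, 0, -1, -2, 0, 1, 0⟩,
   ⟨1, -1, 0, 1, -2, 0, 1, 0⟩,
   ⟨-1, 1, 0, -1, -2, 0, 1, 0⟩,
   ⟨-1, 1, 0, 1, -2, 0, 1, 0⟩,
   ⟨0, 1, 0, -1, 2, -1, 0, -1⟩,
   ⟨0, 1, -1, 0, 2, 0, 1, -1⟩,
   ⟨-1, 1, -1, -1, 1, -1, 1, -1⟩,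
   ⟨1, 0, 1, -1, 2, 0, 0, -1⟩,
   ⟨0, 0, 1, -2, 1, -1, 0, -1⟩,
   ⟨0, 1, 0, -1, 0, 1, -2, 1⟩,
   ⟨-1, 1, 1, -1, 1, 1, -1, 1⟩,
   ⟨0, 1, 1, -2, 0, 0, -1, 1⟩,
   ⟨0, 0, -1, 0, 1, 1, -2, 1⟩,
   ⟨1, 0, -1, -1, 0, 0, -2, 1⟩,
   ⟨0, 1, 0, -1, 0, -1, 2, -1⟩,
   ⟨1, 0, -1, -1, 0, 0, 2, -1⟩,
   ⟨0, 0, -1, 0, -1, -1, 2, -1⟩,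
   ⟨0, 1, 1, -2, 0, 0, 1, -1⟩,
   ⟨-1, 1, 1, -1, -1, -1, 1, -1⟩,
   ⟨0, 1, 0, -1, -2, 1, 0, 1⟩,
   ⟨0, 0, 1, -2, -1, 1, 0, 1⟩,
   ⟨1, 0, 1, -1, -2, 0, 0, 1⟩,
   ⟨-1, 1, -1, -1, -1, 1, -1, 1⟩,
   ⟨0, 1, -1, 0, -2, 0, -1, 1⟩,
   ⟨1, -1, -1, 1, 1, 1, 1, -1⟩,
   ⟨1, -1, -1, 2, 0, 1, 0, 0⟩,
   ⟨1, 0, -2, 1, 1, 1, 0, 0⟩,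
   ⟨0, -1, 0, 1, 0, 1, 2, -1⟩,
   ⟨0, 0, -1, 0, 1, 1, 2, -1⟩,
   ⟨1, -1, -1, 1, -1, 1, -1, -1⟩,
   ⟨1, 0, 0, 1, -1, 1, -2, 0⟩,
   ⟨1, -1, -1, 0, 0, 1, -2, 0⟩,
   ⟨0, 0, -1, 2, -1, 1, 0, -1⟩,
   ⟨0, -1, -2, 1, 0, 1, 0, -1⟩,
   ⟨1, -1, -1, 1, 1, -1, 1, 1⟩,
   ⟨0, -1, -2, 1, 0, -1, 0, 1⟩,
   ⟨0, 0, -1, 2, 1, -1, 0, 1⟩,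
   ⟨1, -1, -1, 0, 0, -1, 2, 0⟩,
   ⟨1, 0, 0, 1, 1, -1, 2, 0⟩,
   ⟨1, -1, -1, 1, -1, -1, -1, 1⟩,
   ⟨0, 0, -1, 0, -1, -1, -2, 1⟩,
   ⟨0, -1, 0, 1, 0, -1, -2, 1⟩,
   ⟨1, 0, -2, 1, -1, -1, 0, 0⟩,
   ⟨1, -1, -1, 2, 0, -1, 0, 0⟩,
   ⟨1, 0, -1, 0, 1, 0, -1, 2⟩,
   ⟨-1, 0, -1, 0, 1, 0, -1, 2⟩,
   ⟨0, 1, 0, 0, 1, -1, -1, 2⟩,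
   ⟨1, -1, -2, 0, 1, 0, 0, 1⟩,
   ⟨2, 0, -1, 0, 1, -1, 0, 1⟩,
   ⟨1, 0, -1, 0, 1, -2, -1, 0⟩,
   ⟨0, 1, -2, 0, 1, -1, -1, 0⟩,
   ⟨-1, 0, -1, 0, 1, -2, -1, 0⟩,
   ⟨2, 0, -1, 0, 1, -1, 0, -1⟩,
   ⟨1, -1, 0, 0, 1, -2, 0, -1⟩,
   ⟨1, 0, -1, 0, -1, 2, 1, 0⟩,
   ⟨1, -1, 0, 0, -1, 2, 0, 1⟩,
   ⟨2, 0, -1, 0, -1, 1, 0, 1⟩,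
   ⟨-1, 0, -1, 0, -1, 2, 1, 0⟩,
   ⟨0, 1, -2, 0, -1, 1, 1, 0⟩,
   ⟨1, 0, -1, 0, -1, 0, 1, -2⟩,
   ⟨2, 0, -1, 0, -1, 1, 0, -1⟩,
   ⟨1, -1, -2, 0, -1, 0, 0, -1⟩,
   ⟨0, 1, 0, 0, -1, 1, 1, -2⟩,
   ⟨-1, 0, -1, 0, -1, 0, 1, -2⟩,
   ⟨2, 0, -2, 0, 0, 0, 0, 0⟩,
   ⟨1, 0, -2, 0, 0, 1, -1, 1⟩,
   ⟨1, 0, -2, 0, 0, -1, -1, 1⟩,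
   ⟨1, 0, -2, 0, 0, 1, 1, -1⟩,
   ⟨1, 0, -2, 0, 0, -1, 1, -1⟩,
   ⟨-1, -1, 1, -1, 1, -1, 1, -1⟩,
   ⟨0, -1, 0, 0, 1, -1, 1, -2⟩,
   ⟨-1, -1, 0, 0, 1, 0, 2, -1⟩,
   ⟨0, -1, 2, -1, 0, -1, 0, -1⟩,
   ⟨-1, -1, 2, -1, 0, 0, 1, 0⟩,
   ⟨-1, -1, 1, -1, -1, 1, -1, 1⟩,
   ⟨-1, -1, 2, -1, 0, 0, -1, 0⟩,
   ⟨0, -1, 2, -1, 0, 1, 0, 1⟩,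
   ⟨-1, -1, 0, 0, -1, 0, -2, 1⟩,
   ⟨0, -1, 0, 0, -1, 1, -1, 2⟩,
   ⟨-1, 0, 1, -2, 1, 0, -1, 0⟩,
   ⟨-1, 0, 1, -1, 2, 0, 0, -1⟩,
   ⟨-1, 0, 1, -2, 1, 0, 1, 0⟩,
   ⟨0, -1, 1, -1, 1, 0, -2, 0⟩,
   ⟨0, -1, 1, -2, 0, 0, -1, 1⟩,
   ⟨-1, 0, 1, -2, -1, 0, 1, 0⟩,
   ⟨0, -1, 1, -2, 0, 0, 1, -1⟩,
   ⟨0, -1, 1, -1, -1, 0, 2, 0⟩,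
   ⟨-1, 0, 1, -2, -1, 0, -1, 0⟩,
   ⟨-1, 0, 1, -1, -2, 0, 0, 1⟩,
   ⟨0, -1, 0, -1, 2, -1, 0, 1⟩,
   ⟨-1, -1, -1, 0, 2, -1, 0, 0⟩,
   ⟨-1, 0, 0, 0, 2, -1, 1, 1⟩,
   ⟨1, -2, 0, -1, 1, -1, 0, 0⟩,
   ⟨1, -1, 1, -1, 1, -1, 1, 1⟩,
   ⟨0, -1, 0, -1, 0, -1, -2, 1⟩,
   ⟨-1, 0, 0, -1, 1, -1, -2, 0⟩,
   ⟨-1, -1, 1, -1, 1, -1, -1, 1⟩,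
   ⟨1, -1, -1, 0, 0, -1, -2, 0⟩,
   ⟨1, -2, 0, 0, 0, -1, -1, 1⟩,
   ⟨0, -1, 0, -1, 0, 1, 2, -1⟩,
   ⟨1, -2, 0, 0, 0, 1, 1, -1⟩,
   ⟨1, -1, -1, 0, 0, 1, 2, 0⟩,
   ⟨-1, -1, 1, -1, -1, 1, 1, -1⟩,
   ⟨-1, 0, 0, -1, -1, 1, 2, 0⟩,
   ⟨0, -1, 0, -1, -2, 1, 0, -1⟩,
   ⟨1, -1, 1, -1, -1, 1, -1, -1⟩,
   ⟨1, -2, 0, -1, -1, 1, 0, 0⟩,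
   ⟨-1, 0, 0, 0, -2, 1, -1, -1⟩,
   ⟨-1, -1, -1, 0, -2, 1, 0, 0⟩,
   ⟨1, -2, -1, 0, 1, 0, -1, 0⟩,
   ⟨0, -1, -1, 1, 1, 0, -2, 0⟩,
   ⟨0, -1, -1, 0, 2, 0, -1, 1⟩,
   ⟨1, -2, -1, 1, 0, 0, 0, -1⟩,
   ⟨1, -2, -1, 0, 1, 0, 1, 0⟩,
   ⟨1, -2, -1, 0, -1, 0, 1, 0⟩,
   ⟨1, -2, -1, 0, -1, 0, -1, 0⟩,
   ⟨1, -2, -1, 1, 0, 0, 0, 1⟩,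
   ⟨0, -1, -1, 0, -2, 0, 1, -1⟩,
   ⟨0, -1, -1, 1, -1, 0, 2, 0⟩,
   ⟨1, -1, -1, -1, 1, -1, 1, -1⟩,
   ⟨1, -1, -2, 0, 1, 0, 0, -1⟩,
   ⟨0, -1, -2, 0, 1, -1, 1, 0⟩,
   ⟨1, -1, 0, -1, 0, 0, 1, -2⟩,
   ⟨0, -1, 0, -1, 0, -1, 2, -1⟩,
   ⟨1, -1, -1, -1, -1, 1, -1, 1⟩,
   ⟨0, -1, 0, -1, 0, 1, -2, 1⟩,
   ⟨1, -1, 0, -1, 0, 0, -1, 2⟩,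
   ⟨0, -1, -2, 0, -1, 1, -1, 0⟩,
   ⟨1, -1, -2, 0, -1, 0, 0, 1⟩,
   ⟨-2, 1, 0, 1, 0, 1, 0, -1⟩,
   ⟨-1, 1, 1, 1, -1, 1, 1, -1⟩,
   ⟨-1, 1, 0, 0, -1, 2, 0, -1⟩,
   ⟨-2, 1, 1, 1, 1, 0, 0, 0⟩,
   ⟨-2, 1, 0, 0, 1, 1, -1, 0⟩,
   ⟨-2, 1, 0, 1, 0, -1, 0, 1⟩,
   ⟨-2, 1, 0, 0, -1, -1, 1, 0⟩,
   ⟨-2, 1, 1, 1, -1, 0, 0, 0⟩,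
   ⟨-1, 1, 0, 0, 1, -2, 0, 1⟩,
   ⟨-1, 1, 1, 1, 1, -1, -1, 1⟩,
   ⟨-1, 0, -1, 2, 1, 0, 1, 0⟩,
   ⟨-1, 0, -1, 2, -1, 0, 1, 0⟩,
   ⟨-1, 1, -1, 2, 0, 1, 0, 0⟩,
   ⟨-1, 0, 0, 1, 1, -1, 2, 0⟩,
   ⟨-1, 1, 0, 1, 2, 0, 1, 0⟩,
   ⟨-1, 0, -1, 2, -1, 0, -1, 0⟩,
   ⟨-1, 1, 0, 1, -2, 0, -1, 0⟩,
   ⟨-1, 0, 0, 1, -1, 1, -2, 0⟩,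
   ⟨-1, 1, -1, 2, 0, -1, 0, 0⟩,
   ⟨-1, 0, -1, 2, 1, 0, -1, 0⟩,
   ⟨-1, 1, -1, 1, 1, 1, -1, 1⟩,
   ⟨-2, 1, 0, 1, 0, 1, 0, 1⟩,
   ⟨-1, 2, 0, 0, 0, 1, -1, 1⟩,
   ⟨-1, 0, -1, 1, 2, 0, 0, 1⟩,
   ⟨0, 1, -1, 0, 2, 0, -1, 1⟩,
   ⟨-1, 1, -1, 1, 1, -1, -1, -1⟩,
   ⟨-1, 2, -1, 1, 0, 0, 0, -1⟩,
   ⟨-2, 1, -1, 0, 0, 0, -1, -1⟩,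
   ⟨0, 1, 0, 1, 2, -1, 0, -1⟩,
   ⟨-1, 0, 0, 0, 2, -1, -1, -1⟩,
   ⟨-1, 1, -1, 1, -1, 1, 1, 1⟩,
   ⟨-1, 0, 0, 0, -2, 1, 1, 1⟩,
   ⟨0, 1, 0, 1, -2, 1, 0, 1⟩,
   ⟨-2, 1, -1, 0, 0, 0, 1, 1⟩,
   ⟨-1, 2, -1, 1, 0, 0, 0, 1⟩,
   ⟨-1, 1, -1, 1, -1, -1, 1, -1⟩,
   ⟨0, 1, -1, 0, -2, 0, 1, -1⟩,
   ⟨-1, 0, -1, 1, -2, 0, 0, -1⟩,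
   ⟨-1, 2, 0, 0, 0, -1, 1, -1⟩,
   ⟨-2, 1, 0, 1, 0, -1, 0, -1⟩,
   ⟨-1, 2, -1, 0, 1, 0, 1, 0⟩,
   ⟨-1, 1, -1, 0, 0, 1, 2, 0⟩,
   ⟨-1, 2, -1, 0, -1, 0, 1, 0⟩,
   ⟨-1, 1, 0, -1, 2, 0, 1, 0⟩,
   ⟨-1, 2, 0, -1, 1, -1, 0, 0⟩,
   ⟨-1, 2, -1, 0, -1, 0, -1, 0⟩,
   ⟨-1, 2, 0, -1, -1, 1, 0, 0⟩,
   ⟨-1, 1, 0, -1, -2, 0, -1, 0⟩,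
   ⟨-1, 2, -1, 0, 1, 0, -1, 0⟩,
   ⟨-1, 1, -1, 0, 0, -1, -2, 0⟩,
   ⟨0, 1, -2, 1, 0, 1, 0, -1⟩,
   ⟨0, 1, -1, 1, -1, 2, 0, 0⟩,
   ⟨0, 1, -2, 0, -1, 1, -1, 0⟩,
   ⟨-1, 1, -1, 1, 1, 1, 1, -1⟩,
   ⟨-1, 1, -2, 0, 1, 0, 0, -1⟩,
   ⟨0, 1, -2, 1, 0, -1, 0, 1⟩,
   ⟨-1, 1, -2, 0, -1, 0, 0, 1⟩,
   ⟨-1, 1, -1, 1, -1, -1, -1, 1⟩,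
   ⟨0, 1, -2, 0, 1, -1, 1, 0⟩,
   ⟨0, 1, -1, 1, 1, -2, 0, 0⟩,
   ⟨-2, 0, 0, 0, 2, 0, 0, 0⟩,
   ⟨-2, 0, 0, 1, 1, 0, 1, -1⟩,
   ⟨-2, 1, 0, 0, 1, 1, 1, 0⟩,
   ⟨-1, -1, 1, 0, 2, -1, 0, 0⟩,
   ⟨-1, 0, 1, -1, 2, 0, 0, 1⟩,
   ⟨-2, 0, 0, 0, 0, 0, -2, 0⟩,
   ⟨-2, 1, 1, 0, 0, 0, -1, -1⟩,
   ⟨-2, 0, 1, -1, 0, 1, -1, 0⟩,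
   ⟨-1, 0, 0, 1, 1, -1, -2, 0⟩,
   ⟨-1, -1, 0, 0, 1, 0, -2, 1⟩,
   ⟨-2, 0, 0, 0, 0, 0, 2, 0⟩,
   ⟨-1, -1, 0, 0, -1, 0, 2, -1⟩,
   ⟨-1, 0, 0, 1, -1, 1, 2, 0⟩,
   ⟨-2, 0, 1, -1, 0, -1, 1, 0⟩,
   ⟨-2, 1, 1, 0, 0, 0, 1, 1⟩,
   ⟨-2, 0, 0, 0, -2, 0, 0, 0⟩,
   ⟨-1, 0, 1, -1, -2, 0, 0, -1⟩,
   ⟨-1, -1, 1, 0, -2, 1, 0, 0⟩,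
   ⟨-2, 1, 0, 0, -1, -1, -1, 0⟩,
   ⟨-2, 0, 0, 1, -1, 0, -1, 1⟩,
   ⟨-2, 1, 0, -1, 0, 1, 0, 1⟩,
   ⟨-2, 0, 1, -1, 0, 1, 1, 0⟩,
   ⟨-1, 1, 1, -1, -1, 1, 1, 1⟩,
   ⟨-2, 0, 0, -1, 1, 0, -1, 1⟩,
   ⟨-1, 1, 0, -1, 0, 0, -1, 2⟩,
   ⟨-2, 1, 0, -1, 0, -1, 0, -1⟩,
   ⟨-1, 1, 0, -1, 0, 0, 1, -2⟩,
   ⟨-2, 0, 0, -1, -1, 0, 1, -1⟩,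
   ⟨-1, 1, 1, -1, 1, -1, -1, -1⟩,
   ⟨-2, 0, 1, -1, 0, -1, -1, 0⟩,
   ⟨-1, -1, -1, 1, 1, -1, -1, 1⟩,
   ⟨-2, 0, -1, 1, 0, -1, -1, 0⟩,
   ⟨-2, 0, 0, 1, 1, 0, -1, 1⟩,
   ⟨0, -1, -1, 1, 1, -2, 0, 0⟩,
   ⟨0, -1, 0, 1, 2, -1, 0, 1⟩,
   ⟨-1, -1, -1, 1, -1, 1, 1, -1⟩,
   ⟨0, -1, 0, 1, -2, 1, 0, -1⟩,
   ⟨0, -1, -1, 1, -1, 2, 0, 0⟩,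
   ⟨-2, 0, 0, 1, -1, 0, 1, -1⟩,
   ⟨-2, 0, -1, 1, 0, 1, 1, 0⟩,
   ⟨-1, 0, -1, 0, 1, 0, 1, -2⟩,
   ⟨0, 0, -1, 1, 0, 1, 1, -2⟩,
   ⟨-1, 0, -2, 0, 0, 1, 1, -1⟩,
   ⟨-1, 0, 1, 0, 1, 0, 1, -2⟩,
   ⟨-2, 0, 0, -1, 1, 0, 1, -1⟩,
   ⟨-1, 0, -1, 0, -1, 2, -1, 0⟩,
   ⟨-1, 0, 1, 0, -1, 2, -1, 0⟩,
   ⟨0, 0, 0, -1, -1, 2, -1, 1⟩,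
   ⟨-2, 0, -1, 1, 0, 1, -1, 0⟩,
   ⟨-1, 0, -2, 0, 0, 1, -1, 1⟩,
   ⟨-1, 0, -1, 0, 1, -2, 1, 0⟩,
   ⟨-1, 0, -2, 0, 0, -1, 1, -1⟩,
   ⟨-2, 0, -1, 1, 0, -1, 1, 0⟩,
   ⟨0, 0, 0, -1, 1, -2, 1, -1⟩,
   ⟨-1, 0, 1, 0, 1, -2, 1, 0⟩,
   ⟨-1, 0, -1, 0, -1, 0, -1, 2⟩,
   ⟨-2, 0, 0, -1, -1, 0, -1, 1⟩,
   ⟨-1, 0, 1, 0, -1, 0, -1, 2⟩,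
   ⟨-1, 0, -2, 0, 0, -1, -1, 1⟩,
   ⟨0, 0, -1, 1, 0, -1, -1, 2⟩,
   ⟨-1, 1, -1, -1, 1, -1, -1, 1⟩,
   ⟨-2, 1, -1, -1, 1, 0, 0, 0⟩,
   ⟨-2, 1, 0, -1, 0, -1, 0, 1⟩,
   ⟨0, 0, -1, -1, 2, -1, -1, 0⟩,
   ⟨0, 0, 0, -1, 1, -2, -1, 1⟩,
   ⟨-1, 1, -1, -1, -1, 1, 1, -1⟩,
   ⟨0, 0, 0, -1, -1, 2, 1, -1⟩,
   ⟨0, 0, -1, -1, -2, 1, 1, 0⟩,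
   ⟨-2, 1, 0, -1, 0, 1, 0, -1⟩,
   ⟨-2, 1, -1, -1, -1, 0, 0, 0⟩,
   ⟨0, -1, -2, 1, 0, 1, 0, 1⟩,
   ⟨-1, -1, -1, 1, -1, 1, -1, 1⟩,
   ⟨0, 0, -1, 1, 0, 1, -1, 2⟩,
   ⟨-1, -1, -2, 1, 0, 0, 1, 0⟩,
   ⟨0, 0, -2, 1, 1, 0, 1, 1⟩,
   ⟨0, -1, -2, 1, 0, -1, 0, -1⟩,
   ⟨0, 0, -2, 1, -1, 0, -1, -1⟩,
   ⟨-1, -1, -2, 1, 0, 0, -1, 0⟩,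
   ⟨0, 0, -1, 1, 0, -1, 1, -2⟩,
   ⟨-1, -1, -1, 1, 1, -1, 1, -1⟩,
   ⟨0, 0, -2, 0, 2, 0, 0, 0⟩,
   ⟨-1, 0, -2, 1, 1, 1, 0, 0⟩,
   ⟨-1, 1, -2, 0, 1, 0, 0, 1⟩,
   ⟨0, -1, -1, 0, 2, 0, 1, -1⟩,
   ⟨0, 0, -1, -1, 2, -1, 1, 0⟩,
   ⟨0, 0, -2, 0, 0, 0, -2, 0⟩,
   ⟨-1, 1, -1, 0, 0, 1, -2, 0⟩,
   ⟨-1, 0, -1, -1, 0, 0, -2, 1⟩,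
   ⟨0, 0, -2, 1, 1, 0, -1, -1⟩,
   ⟨0, -1, -2, 0, 1, -1, -1, 0⟩,
   ⟨0, 0, -2, 0, 0, 0, 2, 0⟩,
   ⟨0, -1, -2, 0, -1, 1, 1, 0⟩,
   ⟨0, 0, -2, 1, -1, 0, 1, 1⟩,
   ⟨-1, 0, -1, -1, 0, 0, 2, -1⟩,
   ⟨-1, 1, -1, 0, 0, -1, 2, 0⟩,
   ⟨0, 0, -2, 0, -2, 0, 0, 0⟩,
   ⟨0, 0, -1, -1, -2, 1, -1, 0⟩,
   ⟨0, -1, -1, 0, -2, 0, -1, 1⟩,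
   ⟨-1, 1, -2, 0, -1, 0, 0, -1⟩,
   ⟨-1, 0, -2, 1, -1, -1, 0, 0⟩,
   ⟨-2, 0, -2, 0, 0, 0, 0, 0⟩,
   ⟨-2, 0, -1, 0, -1, 1, 0, -1⟩,
   ⟨-2, 0, -1, 0, -1, 1, 0, 1⟩,
   ⟨-2, 0, -1, 0, 1, -1, 0, -1⟩,
   ⟨-2, 0, -1, 0, 1, -1, 0, 1⟩]

theorem Reps_eq : Reps = twoQ :: Q8.one :: tauQ :: sigQ :: Hs := by decide +kernel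

theorem Lt_eq : Lt = U.map (fun w => Q8.mul w tauQ) := by decide +kernel

theorem Ls_eq : Ls = U.map (fun w => Q8.mul w sigQ) := by decide +kernel

theorem L2_eq : L2 = U.flatMap (fun w => Hs.map (fun h => Q8.mul w h)) := by decide +kernel

end Cfsg.Agent.Lib.Helper14.IcoB
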