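import Cfsg.Agent.Lib.Helper14.IcoB

/-!
# Icosian model, BLOCK B: uniqueness of the canonical form, and the cheap facts (helper14)
-/

set_option autoImplicit false
set_option maxRecDepth 100000

namespace Cfsg.Agent.Lib.Helper14.IcoB

open Cfsg.Agent.Lib.Helper11.Ico

theorem C_nodup : C.Nodup := by decide +kernel

theorem U_nodup : U.Nodup := by decide +kernel

/-- the first non-zero coordinate -/
def lead (c : V3) : Q8 := if c.x = Q8.zero then (if c.y = Q8.zero then c.z else c.y) else c.x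

theorem lead_mem : ∀ c ∈ C, lead c ∈ Reps ∧ Q8.inI c.x = true ∧ Q8.inI c.y = true ∧
    Q8.inI c.z = true := by decide +kernel

theorem reps_rigid : ∀ ρ ∈ Reps, ∀ w ∈ U, Q8.mul w ρ ∈ Reps → w = Q8.one := by decide +kernel

theorem Reps_inI : ∀ ρ ∈ Reps, Q8.inI ρ = true := by decide +kernel

theorem mul_eq_zero_iff {w x : Q8} (hw : Q8.inI w = true) (hn : Q8.nrm w = (4, 0))
    (hx : Q8.inI x = true) : Q8.mul w x = Q8.zero ↔ x = Q8.zero := by
  constructor
  · intro h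
    have := nrm_mul_unit hw hn hx
    rw [h] at this
    exact eq_zero_of_nrm (by rw [← this]; decide)
  · rintro rfl
    exact mul_zero' w

theorem lead_lsmul {w : Q8} (hw : Q8.inI w = true) (hn : Q8.nrm w = (4, 0)) {c : V3}
    (hx : Q8.inI c.x = true) (hy : Q8.inI c.y = true) :
    lead (V3.lsmul w c) = Q8.mul w (lead c) := by
  have ex : (V3.lsmul w c).x = Q8.mul w c.x := rfl
  have ey : (V3.lsmul w c).y = Q8.mul w c.y := rfl
  have ez : (V3.lsmul w c).z = Q8.mul w c.z := rfl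
  unfold lead
  rw [ex, ey, ez]
  by_cases h1 : c.x = Q8.zero
  · have h1' : Q8.mul w c.x = Q8.zero := (mul_eq_zero_iff hw hn hx).mpr h1
    rw [if_pos h1, if_pos h1']
    by_cases h2 : c.y = Q8.zero
    · have h2' : Q8.mul w c.y = Q8.zero := (mul_eq_zero_iff hw hn hy).mpr h2
      rw [if_pos h2, if_pos h2']
    · have h2' : ¬ Q8.mul w c.y = Q8.zero := fun h => h2 ((mul_eq_zero_iff hw hn hy).mp h)
      rw [if_neg h2, if_neg h2']
  · have h1' : ¬ Q8.mul w c.x = Q8.zero := fun h => h1 ((mul_eq_zero_iff hw hn hx).mp h)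
    rw [if_neg h1, if_neg h1']

theorem one_mul' (x : Q8) : Q8.mul Q8.one x = x := by
  unfold Q8.mul
  have : Q8.mulRaw Q8.one x = Q8.dbl x := by
    ext <;> simp only [Q8.mulRaw, Q8.one, Q8.dbl, Q8.zs] <;> ring
  rw [this, half_dbl]

theorem lsmul_one' (c : V3) : V3.lsmul Q8.one c = c := by
  ext1 <;> simp only [V3.lsmul, one_mul']

theorem lsmul_conj_cancel {u : Q8} (hu : Q8.inI u = true) (hn : Q8.nrm u = (4, 0)) {v : V3}
    (hv : Q8.inI v.x = true ∧ Q8.inI v.y = true ∧ Q8.inI v.z = true) :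
    V3.lsmul (Q8.conj u) (V3.lsmul u v) = v := by
  ext1 <;> simp only [V3.lsmul]
  · exact mul_conj_cancel hu hn hv.1
  · exact mul_conj_cancel hu hn hv.2.1
  · exact mul_conj_cancel hu hn hv.2.2

theorem lsmul_lsmul {a b : Q8} (ha : Q8.inI a = true) (hb : Q8.inI b = true) {v : V3}
    (hv : Q8.inI v.x = true ∧ Q8.inI v.y = true ∧ Q8.inI v.z = true) :
    V3.lsmul a (V3.lsmul b v) = V3.lsmul (Q8.mul a b) v := by
  ext1 <;> simp only [V3.lsmul]
  · exact (mul_assoc' ha hb hv.1).symm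
  · exact (mul_assoc' ha hb hv.2.1).symm
  · exact (mul_assoc' ha hb hv.2.2).symm

/-- a unit multiple of a canonical vector which is canonical is the vector itself -/
theorem unit_fix {w : Q8} (hw : w ∈ U) {c c' : V3} (hc : c ∈ C) (hc' : c' ∈ C)
    (h : c = V3.lsmul w c') : w = Q8.one := by
  obtain ⟨iw, nw⟩ := U_unit w hw
  obtain ⟨l, -, -, -⟩ := lead_mem c hc
  obtain ⟨l', ix, iy, -⟩ := lead_mem c' hc'
  rw [h, lead_lsmul iw nw ix iy] at l
  exact reps_rigid _ l' w hw l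

/-- **Uniqueness of the canonical form.** -/
theorem unique_line {u u' : Q8} {c c' : V3} (hu : u ∈ U) (hu' : u' ∈ U) (hc : c ∈ C) (hc' : c' ∈ C)
    (h : V3.lsmul u c = V3.lsmul u' c') : u = u' ∧ c = c' := by
  obtain ⟨iu, nu⟩ := U_unit u hu
  obtain ⟨iu', nu'⟩ := U_unit u' hu'
  obtain ⟨-, icx, icy, icz⟩ := lead_mem c hc
  obtain ⟨-, icx', icy', icz'⟩ := lead_mem c' hc'
  have iuc := inI_conj iu
  have nuc : Q8.nrm (Q8.conj u) = (4, 0) := by rw [nrm_conj]; exact nu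
  have e1 : c = V3.lsmul (Q8.mul (Q8.conj u) u') c' := by
    rw [← lsmul_lsmul iuc iu' ⟨icx', icy', icz'⟩, ← h, lsmul_conj_cancel iu nu ⟨icx, icy, icz⟩]
  have iw := (mul_spec iuc iu').2
  have nw : Q8.nrm (Q8.mul (Q8.conj u) u') = (4, 0) := by rw [nrm_mul_unit iuc nuc iu']; exact nu'
  have hw : Q8.mul (Q8.conj u) u' ∈ U := enum_real.e40 _ iw nw
  have w1 := unit_fix hw hc hc' e1
  have e2 : u' = u := by
    have := mul_cancel_conj iu nu iu'
    rw [w1, mul_one'] at this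
    exact this.symm
  refine ⟨e2.symm, ?_⟩
  rw [e1, w1, lsmul_one']

/-- units send minimal vectors to minimal vectors -/
theorem lsmul_isMin {u : Q8} {c : V3} (hu : u ∈ U) (hc : c ∈ C) :
    V3.isMin (V3.lsmul u c) = true := by
  obtain ⟨iu, nu⟩ := U_unit u hu
  have hC : ∀ c ∈ C, V3.isMin c = true := by decide +kernel
  exact isMin_lsmul_unit iu nu (hC c hc)

theorem U_mul_mem : ∀ u ∈ U, ∀ u' ∈ U, Q8.mul u u' ∈ U := by
  intro u hu u' hu'
  obtain ⟨iu, nu⟩ := U_unit u hu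
  obtain ⟨iu', nu'⟩ := U_unit u' hu'
  exact enum_real.e40 _ (mul_spec iu iu').2 (by rw [nrm_mul_unit iu nu iu']; exact nu')

theorem U_conj_mem : ∀ u ∈ U, Q8.conj u ∈ U ∧ Q8.mul (Q8.conj u) u = Q8.one := by
  intro u hu
  obtain ⟨iu, nu⟩ := U_unit u hu
  refine ⟨enum_real.e40 _ (inI_conj iu) (by rw [nrm_conj]; exact nu), ?_⟩
  have := mul_conj_cancel iu nu (x := Q8.one) (by decide)
  rwa [mul_one'] at this

end Cfsg.Agent.Lib.Helper14.IcoB
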