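import Mathlib
import Cfsg.Agent.Lib.Helper2.Induction

/-!
# Some values of induced class functions

* `indFun_central_mul`: `Ind θ (z g) = ω Ind θ (g)` for `z ∈ H` central in `G` with `θ (z h) = ω θ h`;
* `indFun_eq_zero_of_forall_not_mem`: `Ind θ` vanishes at the elements with no conjugate in `H`;
* `indFun_central`: `Ind θ (z) = [G : H] θ z` for `z ∈ H` central in `G`;
* `indFun_of_conj_cases`: `Ind θ (c) = θ c + θ c⁻¹` when the only conjugates of `c` in `H` are
  `c ≠ c⁻¹`, and the centraliser of `c` has the order of `H`.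
-/

set_option autoImplicit false

namespace Cfsg.Agent.Lib.Helper14

open Cfsg.Agent.Lib.Helper2

variable {G : Type*} [Group G] [Fintype G] (H : Subgroup G)

omit [Fintype G] in
theorem extendByZero_central_mul (θ : H → ℂ) (z : G) (hzH : z ∈ H) (ω : ℂ)
    (hθ : ∀ h : H, θ (⟨z, hzH⟩ * h) = ω * θ h) (y : G) :
    Cfsg.extendByZero H θ (z * y) = ω * Cfsg.extendByZero H θ y := by
  by_cases hy : y ∈ H
  · rw [extendByZero_of_mem H θ hy, extendByZero_of_mem H θ (H.mul_mem hzH hy)]
    exact hθ ⟨y, hy⟩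
  · have : z * y ∉ H := by
      intro h
      apply hy
      have := H.mul_mem (H.inv_mem hzH) h
      rwa [inv_mul_cancel_left] at this
    rw [extendByZero_of_not_mem H θ hy, extendByZero_of_not_mem H θ this, mul_zero]

theorem indFun_central_mul (θ : H → ℂ) (z : G) (hz : z ∈ Subgroup.center G) (hzH : z ∈ H) (ω : ℂ)
    (hθ : ∀ h : H, θ (⟨z, hzH⟩ * h) = ω * θ h) (g : G) :
    Cfsg.indFun H θ (z * g) = ω * Cfsg.indFun H θ g := by
  rw [indFun_apply, indFun_apply]
  have : ∀ x : G, Cfsg.extendByZero H θ (x⁻¹ * (z * g) * x) =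
      ω * Cfsg.extendByZero H θ (x⁻¹ * g * x) := by
    intro x
    rw [← extendByZero_central_mul H θ z hzH ω hθ]
    congr 1
    rw [Subgroup.mem_center_iff] at hz
    rw [← mul_assoc x⁻¹ z g, hz x⁻¹]
    simp only [mul_assoc]
  simp only [this]
  rw [← Finset.mul_sum]
  ring

theorem indFun_eq_zero_of_forall_not_mem (θ : H → ℂ) (g : G) (h : ∀ x : G, x⁻¹ * g * x ∉ H) :
    Cfsg.indFun H θ g = 0 := by
  rw [indFun_apply, Finset.sum_eq_zero, mul_zero]
  intro x _
  exact extendByZero_of_not_mem H θ (h x)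

theorem indFun_central (θ : H → ℂ) (z : G) (hz : z ∈ Subgroup.center G) (hzH : z ∈ H) :
    Cfsg.indFun H θ z = (H.index : ℂ) * θ ⟨z, hzH⟩ := by
  rw [indFun_apply]
  have : ∀ x : G, Cfsg.extendByZero H θ (x⁻¹ * z * x) = θ ⟨z, hzH⟩ := by
    intro x
    rw [Subgroup.mem_center_iff] at hz
    rw [hz x⁻¹, inv_mul_cancel_right, extendByZero_of_mem H θ hzH]
  simp only [this]
  rw [Finset.sum_const, Finset.card_univ, nsmul_eq_mul, ← mul_assoc, ← Nat.card_eq_fintype_card,
    ← Subgroup.card_mul_index H]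
  push_cast
  rw [← mul_assoc, inv_mul_cancel₀ (card_subgroup_ne_zero H), one_mul]

theorem card_filter_conj_eq_self (c : G) [DecidablePred (fun x : G => x⁻¹ * c * x = c)] :
    (Finset.univ.filter (fun x : G => x⁻¹ * c * x = c)).card =
      Nat.card (Subgroup.centralizer ({c} : Set G)) := by
  have : Nat.card (Subgroup.centralizer ({c} : Set G)) = Nat.card {x : G // x⁻¹ * c * x = c} := by
    apply Nat.card_congr
    apply Equiv.subtypeEquivRight
    intro x
    rw [Subgroup.mem_centralizer_iff]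
    constructor
    · intro h
      rw [mul_assoc, h c rfl, inv_mul_cancel_left]
    · intro h y hy
      rw [Set.mem_singleton_iff] at hy
      subst hy
      calc y * x = x * (x⁻¹ * y * x) := by group
        _ = x * y := by rw [h]
  rw [this, Nat.card_eq_fintype_card, Fintype.card_subtype]

theorem card_filter_conj_eq (c d : G) (hcd : IsConj c d)
    [DecidablePred (fun x : G => x⁻¹ * c * x = d)] :
    (Finset.univ.filter (fun x : G => x⁻¹ * c * x = d)).card =
      Nat.card (Subgroup.centralizer ({c} : Set G)) := by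
  classical
  rw [← card_filter_conj_eq_self]
  obtain ⟨x0, hx0⟩ := isConj_iff.mp hcd
  -- `x0 * c * x0⁻¹ = d`
  symm
  apply Finset.card_bij (fun x _ => x * x0⁻¹)
  · intro x hx
    simp only [Finset.mem_filter, Finset.mem_univ, true_and] at hx ⊢
    calc (x * x0⁻¹)⁻¹ * c * (x * x0⁻¹) = x0 * (x⁻¹ * c * x) * x0⁻¹ := by group
      _ = x0 * c * x0⁻¹ := by rw [hx]
      _ = d := hx0
  · intro x _ y _ h
    exact mul_right_cancel h
  · intro y hy
    simp only [Finset.mem_filter, Finset.mem_univ, true_and] at hy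
    refine ⟨y * x0, ?_, by group⟩
    simp only [Finset.mem_filter, Finset.mem_univ, true_and]
    calc (y * x0)⁻¹ * c * (y * x0) = x0⁻¹ * (y⁻¹ * c * y) * x0 := by group
      _ = x0⁻¹ * (x0 * c * x0⁻¹) * x0 := by rw [hy, hx0]
      _ = c := by group

theorem indFun_of_conj_cases (θ : H → ℂ) (c : G) (hcH : c ∈ H) (hinvH : c⁻¹ ∈ H) (hne : c⁻¹ ≠ c)
    (hcases : ∀ x : G, x⁻¹ * c * x ∈ H → x⁻¹ * c * x = c ∨ x⁻¹ * c * x = c⁻¹)
    (hconj : IsConj c c⁻¹)
    (hcent : Nat.card (Subgroup.centralizer ({c} : Set G)) = Nat.card H) :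
    Cfsg.indFun H θ c = θ ⟨c, hcH⟩ + θ ⟨c⁻¹, hinvH⟩ := by
  classical
  rw [indFun_apply]
  have hpt : ∀ x : G, Cfsg.extendByZero H θ (x⁻¹ * c * x) =
      (if x⁻¹ * c * x = c then θ ⟨c, hcH⟩ else 0) +
        (if x⁻¹ * c * x = c⁻¹ then θ ⟨c⁻¹, hinvH⟩ else 0) := by
    intro x
    by_cases h1 : x⁻¹ * c * x = c
    · rw [if_pos h1, if_neg, add_zero]
      · rw [extendByZero_of_mem H θ (by rw [h1]; exact hcH)]
        congr 1
        exact Subtype.ext h1
      · rw [h1]
        exact fun h => hne h.symm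
    · by_cases h2 : x⁻¹ * c * x = c⁻¹
      · rw [if_neg h1, if_pos h2, zero_add, extendByZero_of_mem H θ (by rw [h2]; exact hinvH)]
        congr 1
        exact Subtype.ext h2
      · rw [if_neg h1, if_neg h2, add_zero, extendByZero_of_not_mem]
        intro hmem
        rcases hcases x hmem with h | h
        · exact h1 h
        · exact h2 h
  simp only [hpt]
  rw [Finset.sum_add_distrib, ← Finset.sum_filter, ← Finset.sum_filter, Finset.sum_const,
    Finset.sum_const, card_filter_conj_eq_self, card_filter_conj_eq c c⁻¹ hconj, hcent,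
    nsmul_eq_mul, nsmul_eq_mul, ← mul_add, ← mul_assoc,
    inv_mul_cancel₀ (card_subgroup_ne_zero H), one_mul]

end Cfsg.Agent.Lib.Helper14
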