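import Mathlib
import Cfsg.Prelude.Def_JordanBlocks

set_option autoImplicit false

namespace Cfsg.Agent.Lib.Helper14.JC

open Matrix

variable {F : Type*} [Field F] {t : ℕ} (d : Fin t → ℕ)

/-- The index type of the Jordan type matrix. -/
abbrev Idx : Type := (k : Fin t) × Fin (d k)

/-- The nilpotent shift operator `N = J - 1`. -/
def shift : (Idx d → F) →ₗ[F] (Idx d → F) where
  toFun x := fun p => if h : 0 < p.2.val then x ⟨p.1, ⟨p.2.val - 1, by omega⟩⟩ else 0
  map_add' x y := by
    funext p
    by_cases h : 0 < p.2.val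
    · simp only [dif_pos h, Pi.add_apply]
    · simp only [dif_neg h, Pi.add_apply, add_zero]
  map_smul' c x := by
    funext p
    by_cases h : 0 < p.2.val
    · simp only [dif_pos h, Pi.smul_apply, RingHom.id_apply]
    · simp only [dif_neg h, Pi.smul_apply, RingHom.id_apply, smul_zero]

theorem shift_apply (x : Idx d → F) (p : Idx d) :
    shift d x p = if h : 0 < p.2.val then x ⟨p.1, ⟨p.2.val - 1, by omega⟩⟩ else 0 := rfl

theorem shift_pow_apply (m : ℕ) (x : Idx d → F) (p : Idx d) :
    ((shift d) ^ m) x p =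
      if h : m ≤ p.2.val then x ⟨p.1, ⟨p.2.val - m, by omega⟩⟩ else 0 := by
  induction m generalizing p with
  | zero => simp
  | succ m ih =>
    rw [pow_succ', Module.End.mul_apply, shift_apply]
    by_cases h : 0 < p.2.val
    · rw [dif_pos h, ih]
      by_cases h' : m + 1 ≤ p.2.val
      · rw [dif_pos h', dif_pos (by simp only; omega)]
        congr 2
        apply Fin.ext
        simp only
        omega
      · rw [dif_neg h', dif_neg (by simp only; omega)]
    · rw [dif_neg h, dif_neg (by omega)]

/-- The Jordan block acts as `1 + shift` on each block. -/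
theorem jordanBlock_mulVec (n : ℕ) (y : Fin n → F) (i : Fin n) :
    (Cfsg.jordanBlock n F *ᵥ y) i =
      y i + if h : 0 < i.val then y ⟨i.val - 1, by omega⟩ else 0 := by
  simp only [Matrix.mulVec, dotProduct, Cfsg.jordanBlock, Matrix.of_apply]
  have hsplit : ∀ j : Fin n, (if (i : ℕ) = j then (1 : F) else if (i : ℕ) = (j : ℕ) + 1 then 1 else 0)
      * y j = (if j = i then y j else 0) + (if (i : ℕ) = (j : ℕ) + 1 then y j else 0) := by
    intro j
    by_cases h1 : (i : ℕ) = j
    · have h2 : ¬ ((i : ℕ) = (j : ℕ) + 1) := by omega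
      have h3 : j = i := Fin.ext h1.symm
      rw [if_pos h1, if_pos h3, if_neg h2, one_mul, add_zero]
    · have h3 : ¬ (j = i) := fun h => h1 (by rw [h])
      rw [if_neg h1, if_neg h3, zero_add]
      by_cases h2 : (i : ℕ) = (j : ℕ) + 1
      · rw [if_pos h2, if_pos h2, one_mul]
      · rw [if_neg h2, if_neg h2, zero_mul]
  rw [Finset.sum_congr rfl (fun j _ => hsplit j), Finset.sum_add_distrib,
    Finset.sum_ite_eq' Finset.univ i, if_pos (Finset.mem_univ i)]
  congr 1
  by_cases h : 0 < i.val
  · rw [dif_pos h, Finset.sum_eq_single (⟨i.val - 1, by omega⟩ : Fin n)]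
    · rw [if_pos]
      simp only
      omega
    · intro j _ hj
      rw [if_neg]
      intro h2
      apply hj
      apply Fin.ext
      simp only
      omega
    · intro h2
      exact absurd (Finset.mem_univ _) h2
  · rw [dif_neg h]
    apply Finset.sum_eq_zero
    intro j _
    rw [if_neg]
    omega

theorem jordanType_mulVec (x : Idx d → F) (p : Idx d) :
    (Cfsg.jordanTypeMatrix d F *ᵥ x) p = x p + shift d x p := by
  obtain ⟨k, i⟩ := p
  have h1 : (Cfsg.jordanTypeMatrix d F *ᵥ x) ⟨k, i⟩ =
      (Cfsg.jordanBlock (d k) F *ᵥ (fun j => x ⟨k, j⟩)) i := by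
    simp only [Matrix.mulVec, dotProduct, Cfsg.jordanTypeMatrix]
    rw [Fintype.sum_sigma, Finset.sum_eq_single k]
    · apply Finset.sum_congr rfl
      intro j _
      rw [Matrix.blockDiagonal'_apply_eq]
    · intro k' _ hk'
      apply Finset.sum_eq_zero
      intro j _
      rw [Matrix.blockDiagonal'_apply_ne _ _ _ (Ne.symm hk'), zero_mul]
    · intro h
      exact absurd (Finset.mem_univ _) h
  rw [h1, jordanBlock_mulVec, shift_apply]

theorem toLin'_jordanType :
    Matrix.toLin' (Cfsg.jordanTypeMatrix d F) = 1 + shift d := by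
  apply LinearMap.ext
  intro x
  funext p
  rw [Matrix.toLin'_apply, jordanType_mulVec]
  rfl

/-- Commuting with the Jordan type matrix is commuting with the shift. -/
theorem commute_iff (g : Matrix (Idx d) (Idx d) F) :
    g * Cfsg.jordanTypeMatrix d F = Cfsg.jordanTypeMatrix d F * g ↔
      ∀ x, g *ᵥ (shift d x) = shift d (g *ᵥ x) := by
  constructor
  · intro h x
    have h1 := congrArg (fun M => M *ᵥ x) h
    simp only [← Matrix.mulVec_mulVec] at h1
    have h2 : Cfsg.jordanTypeMatrix d F *ᵥ x = x + shift d x := by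
      funext p
      exact jordanType_mulVec d x p
    have h3 : Cfsg.jordanTypeMatrix d F *ᵥ (g *ᵥ x) = g *ᵥ x + shift d (g *ᵥ x) := by
      funext p
      exact jordanType_mulVec d _ p
    rw [h2, h3, Matrix.mulVec_add] at h1
    exact add_left_cancel h1
  · intro h
    apply Matrix.toLin'.injective
    apply LinearMap.ext
    intro x
    rw [Matrix.toLin'_mul, Matrix.toLin'_mul, LinearMap.comp_apply, LinearMap.comp_apply,
      toLin'_jordanType, LinearMap.add_apply, LinearMap.add_apply, Module.End.one_apply,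
      Module.End.one_apply, map_add, Matrix.toLin'_apply, Matrix.toLin'_apply, h]

theorem idx_ext {p p' : Idx d} (h1 : p.1 = p'.1) (h2 : p.2.val = p'.2.val) : p = p' := by
  obtain ⟨k, i⟩ := p
  obtain ⟨k', i'⟩ := p'
  simp only at h1 h2
  subst h1
  rw [Fin.ext h2]

/-- The shift-equivariant map determined by the images of the generators. -/
noncomputable def Lmap (v : Fin t → Idx d → F) : (Idx d → F) →ₗ[F] (Idx d → F) :=
  (Pi.basisFun F (Idx d)).constr F (fun p => ((shift d) ^ p.2.val) (v p.1))

theorem Lmap_single (v : Fin t → Idx d → F) (p : Idx d) :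
    Lmap d v (Pi.single p 1) = ((shift d) ^ p.2.val) (v p.1) := by
  rw [Lmap, ← Pi.basisFun_apply F (Idx d) p, Module.Basis.constr_basis]

theorem comm_pow (L : (Idx d → F) →ₗ[F] (Idx d → F))
    (hL : ∀ x, L (shift d x) = shift d (L x)) (m : ℕ) (x : Idx d → F) :
    L (((shift d) ^ m) x) = ((shift d) ^ m) (L x) := by
  induction m generalizing x with
  | zero => simp
  | succ m ih =>
    rw [pow_succ, Module.End.mul_apply, ih, hL, Module.End.mul_apply]

section gen

variable (hd : ∀ k, 1 ≤ d k)

/-- The generator of the `k`-th block. -/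
def gen (k : Fin t) : Idx d → F := Pi.single ⟨k, ⟨0, hd k⟩⟩ 1

include hd

theorem shift_pow_gen (p : Idx d) :
    ((shift d) ^ p.2.val) (gen (F := F) d hd p.1) = Pi.single p 1 := by
  funext p'
  rw [shift_pow_apply, Pi.single_apply]
  by_cases hp : p' = p
  · subst hp
    rw [dif_pos (le_refl _), if_pos rfl, gen, Pi.single_apply, if_pos]
    apply idx_ext
    · rfl
    · simp
  · rw [if_neg hp]
    by_cases h : p.2.val ≤ p'.2.val
    · rw [dif_pos h, gen, Pi.single_apply, if_neg]
      intro h1
      apply hp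
      have h2 := congrArg Sigma.fst h1
      simp only at h2
      apply idx_ext d h2
      have h3 : ∀ (a b : Idx d), a = b → a.2.val = b.2.val := fun a b hab => by rw [hab]
      have h4 := h3 _ _ h1
      simp only at h4
      omega
    · rw [dif_neg h]

theorem shift_pow_gen_top (k : Fin t) : ((shift d) ^ (d k)) (gen (F := F) d hd k) = 0 := by
  funext p'
  rw [shift_pow_apply]
  by_cases h : d k ≤ p'.2.val
  · rw [dif_pos h, gen, Pi.single_apply, if_neg]
    · rfl
    · intro h1
      have h2 := congrArg Sigma.fst h1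
      simp only at h2
      have h3 := p'.2.isLt
      have h4 : d p'.1 = d k := by rw [h2]
      omega
  · rw [dif_neg h]
    rfl

theorem shift_single (p : Idx d) :
    shift d (Pi.single p (1 : F)) =
      if h : p.2.val + 1 < d p.1 then Pi.single ⟨p.1, ⟨p.2.val + 1, h⟩⟩ 1 else 0 := by
  rw [← shift_pow_gen d hd p, ← Module.End.mul_apply, ← pow_succ']
  by_cases h : p.2.val + 1 < d p.1
  · rw [dif_pos h]
    exact shift_pow_gen d hd ⟨p.1, ⟨p.2.val + 1, h⟩⟩
  · rw [dif_neg h]
    have h1 : p.2.val + 1 = d p.1 := by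
      have := p.2.isLt
      omega
    rw [h1]
    exact shift_pow_gen_top d hd p.1

theorem Lmap_gen (v : Fin t → Idx d → F) (k : Fin t) : Lmap d v (gen d hd k) = v k := by
  rw [gen, Lmap_single]
  simp

theorem Lmap_shift (v : Fin t → Idx d → F) (hv : ∀ k, ((shift d) ^ (d k)) (v k) = 0)
    (x : Idx d → F) : Lmap d v (shift d x) = shift d (Lmap d v x) := by
  have h : Lmap d v ∘ₗ shift d = shift d ∘ₗ Lmap d v := by
    apply (Pi.basisFun F (Idx d)).ext
    intro p
    rw [Pi.basisFun_apply, LinearMap.comp_apply, LinearMap.comp_apply, Lmap_single,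
      shift_single d hd]
    by_cases h : p.2.val + 1 < d p.1
    · rw [dif_pos h, Lmap_single, ← Module.End.mul_apply, ← pow_succ']
    · rw [dif_neg h, map_zero, ← Module.End.mul_apply, ← pow_succ']
      have h1 : p.2.val + 1 = d p.1 := by
        have := p.2.isLt
        omega
      rw [h1, hv]
  exact LinearMap.congr_fun h x

theorem eq_Lmap (L : (Idx d → F) →ₗ[F] (Idx d → F))
    (hL : ∀ x, L (shift d x) = shift d (L x)) :
    L = Lmap d (fun k => L (gen d hd k)) := by
  apply (Pi.basisFun F (Idx d)).ext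
  intro p
  rw [Pi.basisFun_apply, Lmap_single, ← comm_pow d L hL, shift_pow_gen]

theorem gen_pow_zero (L : (Idx d → F) →ₗ[F] (Idx d → F))
    (hL : ∀ x, L (shift d x) = shift d (L x)) (k : Fin t) :
    ((shift d) ^ (d k)) (L (gen d hd k)) = 0 := by
  rw [← comm_pow d L hL, shift_pow_gen_top, map_zero]

end gen

end Cfsg.Agent.Lib.Helper14.JC
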