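import Mathlib
import Cfsg.Agent.Lib.Helper14.JordanCent1

set_option autoImplicit false

namespace Cfsg.Agent.Lib.Helper14.JC

open Matrix

variable {F : Type*} [Field F] {t : ℕ} (d : Fin t → ℕ)

/-- The socle vectors of a family of generators. -/
def soc (v : Fin t → Idx d → F) (k : Fin t) : Idx d → F := ((shift d) ^ (d k - 1)) (v k)

theorem shift_eq_zero (y : Idx d → F) (hy : shift d y = 0) (p : Idx d)
    (hp : p.2.val + 1 < d p.1) : y p = 0 := by
  have h1 := congrFun hy ⟨p.1, ⟨p.2.val + 1, hp⟩⟩
  rw [shift_apply, dif_pos (by simp)] at h1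
  exact h1

theorem shift_pow_large (x : Idx d → F) (M : ℕ) (hM : ∀ k, d k ≤ M) : ((shift d) ^ M) x = 0 := by
  funext p
  rw [shift_pow_apply, dif_neg]
  · rfl
  · have := p.2.isLt
    have := hM p.1
    omega

theorem exists_socle_vector (x : Idx d → F) (hx : x ≠ 0) :
    ∃ j : ℕ, ((shift d) ^ j) x ≠ 0 ∧ shift d (((shift d) ^ j) x) = 0 := by
  classical
  have hex : ∃ j : ℕ, ((shift d) ^ (j + 1)) x = 0 :=
    ⟨Finset.univ.sup d, shift_pow_large d x _ (fun k => by
      have := Finset.le_sup (f := d) (Finset.mem_univ k)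
      omega)⟩
  refine ⟨Nat.find hex, ?_, ?_⟩
  · rcases Nat.eq_zero_or_pos (Nat.find hex) with h0 | hpos
    · rw [h0, pow_zero]
      exact hx
    · have := Nat.find_min hex (m := Nat.find hex - 1) (by omega)
      rwa [Nat.sub_add_cancel hpos] at this
  · rw [← Module.End.mul_apply, ← pow_succ']
    exact Nat.find_spec hex

section gen

variable (hd : ∀ k, 1 ≤ d k)

/-- The last index of the `l`-th block. -/
def last (l : Fin t) : Idx d := ⟨l, ⟨d l - 1, by have := hd l; omega⟩⟩

theorem last_injective : Function.Injective (last d hd) := by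
  intro l l' h
  exact congrArg Sigma.fst h

theorem eq_last (p : Idx d) (hp : p.2.val + 1 = d p.1) : p = last d hd p.1 := by
  apply idx_ext
  · rfl
  · simp only [last]
    omega

theorem soc_eq_Lmap (v : Fin t → Idx d → F) (k : Fin t) :
    soc d v k = Lmap d v (Pi.single (last d hd k) 1) := by
  rw [Lmap_single]
  rfl

include hd

theorem Lmap_of_socle (v : Fin t → Idx d → F) (y : Idx d → F)
    (hy : ∀ p : Idx d, p.2.val + 1 < d p.1 → y p = 0) :
    Lmap d v y = ∑ l, y (last d hd l) • soc d v l := by
  rw [Lmap, Module.Basis.constr_apply_fintype, Fintype.sum_sigma]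
  apply Finset.sum_congr rfl
  intro l _
  rw [Finset.sum_eq_single (⟨d l - 1, by have := hd l; omega⟩ : Fin (d l))]
  · rfl
  · intro j _ hj
    have h1 : j.val + 1 < d l := by
      have := j.isLt
      have h2 : j.val ≠ d l - 1 := fun h => hj (Fin.ext h)
      omega
    have h3 : y ⟨l, j⟩ = 0 := hy ⟨l, j⟩ h1
    simp only [Pi.basisFun_equivFun, LinearEquiv.refl_apply, h3, zero_smul]
  · intro h
    exact absurd (Finset.mem_univ _) h

theorem Lmap_injective (v : Fin t → Idx d → F) (hv : ∀ k, ((shift d) ^ (d k)) (v k) = 0)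
    (hind : LinearIndependent F (soc d v)) : Function.Injective (Lmap d v) := by
  rw [injective_iff_map_eq_zero]
  intro x hx
  by_contra hne
  obtain ⟨j, hj1, hj2⟩ := exists_socle_vector d x hne
  set y := ((shift d) ^ j) x with hy
  have h1 : Lmap d v y = 0 := by
    rw [hy, comm_pow d (Lmap d v) (Lmap_shift d hd v hv), hx, map_zero]
  have h2 := shift_eq_zero d y hj2
  rw [Lmap_of_socle d hd v y h2] at h1
  have h3 := Fintype.linearIndependent_iff.mp hind (fun l => y (last d hd l)) h1
  apply hj1
  funext p
  by_cases hp : p.2.val + 1 < d p.1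
  · exact h2 p hp
  · have hp' : p.2.val + 1 = d p.1 := by
      have := p.2.isLt
      omega
    rw [eq_last d hd p hp']
    exact h3 p.1

theorem soc_independent (v : Fin t → Idx d → F) (hinj : Function.Injective (Lmap d v)) :
    LinearIndependent F (soc d v) := by
  have h1 : LinearIndependent F
      (fun k : Fin t => (Pi.single (last d hd k) (1 : F) : Idx d → F)) := by
    have := (Pi.basisFun F (Idx d)).linearIndependent.comp (last d hd) (last_injective d hd)
    have heq : (fun k : Fin t => (Pi.single (last d hd k) (1 : F) : Idx d → F)) =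
        ⇑(Pi.basisFun F (Idx d)) ∘ last d hd := by
      funext k
      rw [Function.comp_apply, Pi.basisFun_apply]
    rw [heq]
    exact this
  have h2 := h1.map' (Lmap d v) (LinearMap.ker_eq_bot.mpr hinj)
  have heq2 : soc d v = ⇑(Lmap d v) ∘ fun k => (Pi.single (last d hd k) (1 : F) : Idx d → F) := by
    funext k
    exact soc_eq_Lmap d hd v k
  rw [heq2]
  exact h2

end gen

section amat

variable (hd : ∀ k, 1 ≤ d k)

/-- The matrix of leading coefficients. -/
def Amat (v : Fin t → Idx d → F) : Matrix (Fin t) (Fin t) F := fun k l =>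
  if h : d k ≤ d l then v k ⟨l, ⟨d l - d k, by have := hd l; have := hd k; omega⟩⟩ else 0

/-- The coordinate form of the condition `N^{d k} v_k = 0`. -/
def Supp (v : Fin t → Idx d → F) : Prop :=
  ∀ (k : Fin t) (p : Idx d), p.2.val + d k < d p.1 → v k p = 0

theorem supp_iff (v : Fin t → Idx d → F) :
    Supp d v ↔ ∀ k, ((shift d) ^ (d k)) (v k) = 0 := by
  constructor
  · intro h k
    funext p'
    rw [shift_pow_apply]
    by_cases h1 : d k ≤ p'.2.val
    · rw [dif_pos h1]
      apply h
      simp only
      have := p'.2.isLt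
      omega
    · rw [dif_neg h1]
      rfl
  · intro h k p hp
    have h1 := congrFun (h k) ⟨p.1, ⟨p.2.val + d k, hp⟩⟩
    rw [shift_pow_apply, dif_pos (by simp)] at h1
    have h2 : (⟨p.1, ⟨p.2.val + d k - d k, by have := p.2.isLt; omega⟩⟩ : Idx d) = p := by
      apply idx_ext
      · rfl
      · simp
    simp only at h1
    rw [h2] at h1
    exact h1

/-- The embedding of the socle coordinates. -/
def socEmb : (Fin t → F) →ₗ[F] (Idx d → F) where
  toFun a := fun p => if p.2.val + 1 = d p.1 then a p.1 else 0
  map_add' a b := by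
    funext p
    by_cases h : p.2.val + 1 = d p.1
    · simp only [if_pos h, Pi.add_apply]
    · simp only [if_neg h, Pi.add_apply, add_zero]
  map_smul' c a := by
    funext p
    by_cases h : p.2.val + 1 = d p.1
    · simp only [if_pos h, Pi.smul_apply, RingHom.id_apply]
    · simp only [if_neg h, Pi.smul_apply, RingHom.id_apply, smul_zero]

include hd

theorem socEmb_injective : Function.Injective (socEmb (F := F) d) := by
  intro a b h
  funext l
  have h1 := congrFun h (last d hd l)
  have h2 : (last d hd l).2.val + 1 = d (last d hd l).1 := by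
    simp only [last]
    have := hd l
    omega
  simp only [socEmb, LinearMap.coe_mk, AddHom.coe_mk, if_pos h2] at h1
  exact h1

theorem soc_eq_socEmb (v : Fin t → Idx d → F) (hv : Supp d v) (k : Fin t) :
    soc d v k = socEmb d (Amat d hd v k) := by
  funext p
  show ((shift d) ^ (d k - 1)) (v k) p = if p.2.val + 1 = d p.1 then Amat d hd v k p.1 else 0
  rw [shift_pow_apply]
  have hk := hd k
  have hp := p.2.isLt
  by_cases h1 : p.2.val + 1 = d p.1
  · rw [if_pos h1]
    by_cases h2 : d k ≤ d p.1
    · rw [dif_pos (by omega), Amat, dif_pos h2]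
      congr 1
      apply idx_ext
      · rfl
      · simp only
        omega
    · rw [dif_neg (by omega), Amat, dif_neg h2]
  · rw [if_neg h1]
    by_cases h2 : d k - 1 ≤ p.2.val
    · rw [dif_pos h2]
      apply hv
      simp only
      omega
    · rw [dif_neg h2]

theorem soc_independent_iff (v : Fin t → Idx d → F) (hv : Supp d v) :
    LinearIndependent F (soc d v) ↔ IsUnit (Amat d hd v).det := by
  have h1 : soc d v = ⇑(socEmb (F := F) d) ∘ (Amat d hd v).row := by
    funext k
    exact soc_eq_socEmb d hd v hv k
  rw [h1, LinearMap.linearIndependent_iff _ (LinearMap.ker_eq_bot.mpr (socEmb_injective d hd)),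
    Matrix.linearIndependent_rows_iff_isUnit, Matrix.isUnit_iff_isUnit_det]

/-- The bijectivity criterion. -/
theorem Lmap_injective_iff (v : Fin t → Idx d → F) (hv : Supp d v) :
    Function.Injective (Lmap d v) ↔ IsUnit (Amat d hd v).det := by
  rw [← soc_independent_iff d hd v hv]
  exact ⟨soc_independent d hd v, Lmap_injective d hd v ((supp_iff d v).mp hv)⟩

end amat

end Cfsg.Agent.Lib.Helper14.JC
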