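import Mathlib
import Cfsg.Agent.Lib.Helper14.JordanCent2
import Cfsg.Agent.Lib.Helper14.NilKer
import Cfsg.Agent.Lib.Helper13.AltRank

/-!
# Jordan types in symplectic and orthogonal groups: the necessary conditions

Ranks of powers of `u - 1`: invariance under conjugation and reindexing, the value for the
Jordan type matrix, and the parity constraints coming from an invariant alternating or
symmetric form.
-/

set_option autoImplicit false

namespace Cfsg.Agent.Lib.Helper14.JType

open Matrix Module Cfsg.Agent.Lib.Helper14.JC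

variable {F : Type*} [Field F]

section conj

variable {ι ι' : Type*} [Fintype ι] [DecidableEq ι] [Fintype ι'] [DecidableEq ι']

theorem semiconj_pow_sub_one {M M' c : Matrix ι ι F} (h : SemiconjBy c M M') (j : ℕ) :
    SemiconjBy c ((M - 1) ^ j) ((M' - 1) ^ j) :=
  (h.sub_right (SemiconjBy.one_right c)).pow_right j

theorem rank_pow_sub_one_of_isConj {M M' : Matrix ι ι F} (h : IsConj M M') (j : ℕ) :
    ((M' - 1) ^ j).rank = ((M - 1) ^ j).rank := by
  obtain ⟨c, hc⟩ := h
  have h1 := semiconj_pow_sub_one hc j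
  have hdet : IsUnit (c : Matrix ι ι F).det := (Matrix.isUnit_iff_isUnit_det _).1 c.isUnit
  have h2 : ((c : Matrix ι ι F) * (M - 1) ^ j).rank = ((M - 1) ^ j).rank :=
    rank_mul_eq_right_of_isUnit_det _ _ hdet
  have h3 : ((M' - 1) ^ j * (c : Matrix ι ι F)).rank = ((M' - 1) ^ j).rank :=
    rank_mul_eq_left_of_isUnit_det _ _ hdet
  rw [← h3, ← h2]
  exact congrArg Matrix.rank h1.eq.symm

theorem pow_sub_one_eq_zero_of_isConj {M M' : Matrix ι ι F} (h : IsConj M M') (j : ℕ)
    (h0 : (M - 1) ^ j = 0) : (M' - 1) ^ j = 0 := by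
  obtain ⟨c, hc⟩ := h
  have h1 := (semiconj_pow_sub_one hc j).eq
  rw [h0, mul_zero] at h1
  have h2 : (M' - 1) ^ j * (c : Matrix ι ι F) * ((c⁻¹ : (Matrix ι ι F)ˣ) : Matrix ι ι F) = 0 := by
    rw [← h1, zero_mul]
  rwa [mul_assoc, Units.mul_inv, mul_one] at h2

theorem reindex_pow_sub_one (e : ι ≃ ι') (M : Matrix ι ι F) (j : ℕ) :
    (reindex e e M - 1) ^ j = reindex e e ((M - 1) ^ j) := by
  have h : ∀ X : Matrix ι ι F, reindex e e X = reindexAlgEquiv F F e X := fun X => by
    rw [coe_reindexAlgEquiv]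
  rw [h, h, map_pow, map_sub, map_one]

theorem rank_reindex_pow_sub_one (e : ι ≃ ι') (M : Matrix ι ι F) (j : ℕ) :
    ((reindex e e M - 1) ^ j).rank = ((M - 1) ^ j).rank := by
  rw [reindex_pow_sub_one, rank_reindex]

end conj

section jordan

variable {t : ℕ} (d : Fin t → ℕ)

theorem shift_pow_eq_zero_iff (j : ℕ) (x : Idx d → F) :
    ((shift d) ^ j) x = 0 ↔ ∀ q : Idx d, q.2.val + j < d q.1 → x q = 0 := by
  constructor
  · intro hx q hq
    have key : x q = ((shift d) ^ j) x ⟨q.1, ⟨q.2.val + j, hq⟩⟩ := by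
      rw [shift_pow_apply, dif_pos (Nat.le_add_left j q.2.val)]
      congr 1
      apply idx_ext d
      · rfl
      · simp
    rw [key, hx]
    rfl
  · intro hq
    funext p
    rw [shift_pow_apply]
    by_cases h : j ≤ p.2.val
    · rw [dif_pos h]
      apply hq
      have := p.2.isLt
      simp only
      omega
    · rw [dif_neg h]
      rfl

theorem ker_shift_pow (j : ℕ) :
    LinearMap.ker ((shift (F := F) d) ^ j) =
      LinearMap.ker (LinearMap.funLeft F F
        (Subtype.val : {q : Idx d // q.2.val + j < d q.1} → Idx d)) := by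
  ext x
  rw [LinearMap.mem_ker, LinearMap.mem_ker, shift_pow_eq_zero_iff]
  constructor
  · intro h
    funext q
    exact h q.1 q.2
  · intro h q hq
    exact congrFun h ⟨q, hq⟩

theorem card_T (j : ℕ) :
    Fintype.card {q : Idx d // q.2.val + j < d q.1} = ∑ b, (d b - j) := by
  rw [Fintype.card_subtype, Finset.card_filter, Fintype.sum_sigma]
  apply Finset.sum_congr rfl
  intro b _
  refine (Fin.sum_univ_eq_sum_range (fun i => if i + j < d b then 1 else 0) (d b)).trans ?_
  rw [← Finset.card_filter]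
  have : (Finset.range (d b)).filter (fun i => i + j < d b) = Finset.range (d b - j) := by
    ext i
    simp only [Finset.mem_filter, Finset.mem_range]
    omega
  rw [this, Finset.card_range]

theorem card_idx : Fintype.card (Idx d) = ∑ b, d b := by
  rw [Fintype.card_sigma]
  simp

theorem finrank_ker_shift_pow_add (j : ℕ) :
    finrank F (LinearMap.ker ((shift (F := F) d) ^ j)) + ∑ b, (d b - j) = ∑ b, d b := by
  rw [ker_shift_pow]
  have hsurj := LinearMap.funLeft_surjective_of_injective F F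
    (Subtype.val : {q : Idx d // q.2.val + j < d q.1} → Idx d) Subtype.val_injective
  have h1 := LinearMap.finrank_range_add_finrank_ker (LinearMap.funLeft F F
    (Subtype.val : {q : Idx d // q.2.val + j < d q.1} → Idx d))
  rw [LinearMap.range_eq_top.2 hsurj, finrank_top, Module.finrank_fintype_fun_eq_card,
    Module.finrank_fintype_fun_eq_card, card_T, card_idx] at h1
  omega

theorem sum_min_add (j : ℕ) : ∑ b, min (d b) j + ∑ b, (d b - j) = ∑ b, d b := by
  rw [← Finset.sum_add_distrib]
  apply Finset.sum_congr rfl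
  intro b _
  omega

/-- The kernel dimensions of the shift: `dim ker N^j = Σ min(d_b, j)`. -/
theorem kd_shift (j : ℕ) : kd (shift (F := F) d) j = ∑ b, min (d b) j := by
  have h1 := finrank_ker_shift_pow_add (F := F) d j
  have h2 := sum_min_add d j
  unfold kd
  omega

theorem toLin'_jordanType_sub_one_pow (j : ℕ) :
    Matrix.toLin' ((Cfsg.jordanTypeMatrix d F - 1) ^ j) = (shift d) ^ j := by
  rw [Matrix.toLin'_pow, map_sub, toLin'_jordanType, Matrix.toLin'_one]
  congr 1
  exact add_sub_cancel_left _ _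

/-- The ranks of the powers of `J - 1`. -/
theorem rank_jordanType (j : ℕ) :
    ((Cfsg.jordanTypeMatrix d F - 1) ^ j).rank = ∑ b, (d b - j) := by
  have h1 := finrank_ker_shift_pow_add (F := F) d j
  have h2 := LinearMap.finrank_range_add_finrank_ker ((shift (F := F) d) ^ j)
  rw [Module.finrank_fintype_fun_eq_card, card_idx] at h2
  have h3 : finrank F (LinearMap.range ((shift (F := F) d) ^ j)) = ∑ b, (d b - j) := by omega
  unfold Matrix.rank
  rw [← Matrix.toLin'_apply', toLin'_jordanType_sub_one_pow]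
  exact h3

theorem jordanType_sub_one_pow_eq_zero (M : ℕ) (hM : ∀ k, d k ≤ M) :
    (Cfsg.jordanTypeMatrix d F - 1) ^ M = 0 := by
  apply Matrix.toLin'.injective
  rw [toLin'_jordanType_sub_one_pow, map_zero]
  apply LinearMap.ext
  intro x
  exact shift_pow_large d x M hM

/-- second differences of the rank function count the blocks of a given size -/
theorem rank_second_diff (j : ℕ) (hj : 1 ≤ j) :
    ∑ b, (d b - (j - 1)) + ∑ b, (d b - (j + 1)) =
      2 * ∑ b, (d b - j) + (Finset.univ.filter (fun k : Fin t => d k = j)).card := by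
  rw [Finset.card_filter, Finset.mul_sum, ← Finset.sum_add_distrib, ← Finset.sum_add_distrib]
  apply Finset.sum_congr rfl
  intro b _
  split_ifs with h <;> omega

end jordan

section forms

variable {ι : Type*} [Fintype ι] [DecidableEq ι]

theorem rank_smul_of_ne_zero (c : F) (hc : c ≠ 0) (M : Matrix ι ι F) : (c • M).rank = M.rank := by
  have h1 : c • M = (c • (1 : Matrix ι ι F)) * M := by rw [Matrix.smul_mul, Matrix.one_mul]
  rw [h1]
  apply rank_mul_eq_right_of_isUnit_det
  rw [Matrix.det_smul, Matrix.det_one, mul_one]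
  exact (isUnit_iff_ne_zero.2 hc).pow _

/-- the basic identity for a matrix preserving a form -/
theorem form_identity (A G : Matrix ι ι F) (hpres : Aᵀ * G * A = G) (k : ℕ) :
    ((A - 1)ᵀ) ^ k * G * A ^ k = (-1 : F) ^ k • (G * (A - 1) ^ k) := by
  have h1 : (A - 1)ᵀ * G * A = -(G * (A - 1)) := by
    rw [Matrix.transpose_sub, Matrix.transpose_one, Matrix.sub_mul, Matrix.sub_mul, hpres,
      Matrix.one_mul, Matrix.mul_sub, Matrix.mul_one, neg_sub]
  have hcomm : Commute (A - 1) A := (Commute.refl A).sub_left (Commute.one_left A)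
  induction k with
  | zero => simp
  | succ k ih =>
    have hc : (A - 1) * A ^ k = A ^ k * (A - 1) := (hcomm.pow_right k).eq
    calc ((A - 1)ᵀ) ^ (k + 1) * G * A ^ (k + 1)
        = ((A - 1)ᵀ) ^ k * ((A - 1)ᵀ * G * A) * A ^ k := by
          rw [pow_succ, pow_succ']
          simp only [Matrix.mul_assoc]
      _ = -(((A - 1)ᵀ) ^ k * G * ((A - 1) * A ^ k)) := by
          rw [h1]
          simp only [Matrix.mul_neg, Matrix.neg_mul, Matrix.mul_assoc]
      _ = -(((A - 1)ᵀ) ^ k * G * A ^ k * (A - 1)) := by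
          rw [hc]
          simp only [Matrix.mul_assoc]
      _ = (-1 : F) ^ (k + 1) • (G * (A - 1) ^ (k + 1)) := by
          rw [ih, pow_succ (-1 : F), pow_succ (A - 1)]
          simp only [Matrix.smul_mul, Matrix.mul_assoc, mul_neg, mul_one, neg_smul]

omit [DecidableEq ι] in
theorem dot_congr_form (M : Matrix ι ι F) (P : Matrix ι ι F) (v : ι → F) :
    v ⬝ᵥ (Pᵀ * M * P) *ᵥ v = (P *ᵥ v) ⬝ᵥ M *ᵥ (P *ᵥ v) := by
  rw [← Matrix.mulVec_mulVec, ← Matrix.mulVec_mulVec, Matrix.dotProduct_mulVec,
    Matrix.vecMul_transpose]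

/-- An invertible matrix preserving an alternating form: `(A-1)^(2l)` has even rank. -/
theorem even_rank_sp (A G : Matrix ι ι F) (hA : IsUnit A.det) (hG : IsUnit G.det)
    (halt : ∀ v : ι → F, v ⬝ᵥ G *ᵥ v = 0) (hpres : Aᵀ * G * A = G) (l : ℕ) :
    Even ((A - 1) ^ (2 * l)).rank := by
  have hcomm : Commute (A - 1) A := (Commute.refl A).sub_left (Commute.one_left A)
  have hid := form_identity A G hpres l
  set Γ : Matrix ι ι F := ((A - 1) ^ l)ᵀ * G * (A - 1) ^ l with hΓ
  have hΓalt : ∀ v : ι → F, v ⬝ᵥ Γ *ᵥ v = 0 := by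
    intro v
    rw [hΓ, dot_congr_form]
    exact halt _
  have hev := Cfsg.Agent.Lib.Helper13.even_rank_of_alternating Γ hΓalt
  have hAl : IsUnit (A ^ l).det := by
    rw [Matrix.det_pow]
    exact hA.pow l
  have h1 : Γ * A ^ l = (-1 : F) ^ l • (G * (A - 1) ^ (2 * l)) := by
    have hc : (A - 1) ^ l * A ^ l = A ^ l * (A - 1) ^ l := ((hcomm.pow_right l).pow_left l).eq
    calc Γ * A ^ l = ((A - 1)ᵀ) ^ l * G * ((A - 1) ^ l * A ^ l) := by
          rw [hΓ, Matrix.transpose_pow]
          simp only [Matrix.mul_assoc]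
      _ = ((A - 1)ᵀ) ^ l * G * A ^ l * (A - 1) ^ l := by
          rw [hc]
          simp only [Matrix.mul_assoc]
      _ = (-1 : F) ^ l • (G * (A - 1) ^ (2 * l)) := by
          rw [hid, two_mul, pow_add]
          simp only [Matrix.smul_mul, Matrix.mul_assoc]
  have h2 : Γ.rank = ((A - 1) ^ (2 * l)).rank := by
    rw [← rank_mul_eq_left_of_isUnit_det (A ^ l) Γ hAl, h1,
      rank_smul_of_ne_zero _ (pow_ne_zero _ (neg_ne_zero.2 one_ne_zero)),
      rank_mul_eq_right_of_isUnit_det G _ hG]
  rw [← h2]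
  exact hev

omit [DecidableEq ι] in
theorem dot_transpose (M : Matrix ι ι F) (v : ι → F) : v ⬝ᵥ Mᵀ *ᵥ v = v ⬝ᵥ M *ᵥ v := by
  rw [Matrix.mulVec_transpose, Matrix.dotProduct_mulVec, dotProduct_comm]

/-- An invertible unipotent matrix preserving a symmetric form in odd characteristic:
`(A-1)^(2l+1)` has even rank. -/
theorem even_rank_orth (h2 : (2 : F) ≠ 0) (A G : Matrix ι ι F) (hA : IsUnit A.det)
    (hG : IsUnit G.det) (hsym : Gᵀ = G) (hpres : Aᵀ * G * A = G)
    (hnil : IsNilpotent (A - 1)) (l : ℕ) :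
    Even ((A - 1) ^ (2 * l + 1)).rank := by
  set k := 2 * l + 1 with hk
  have hkodd : Odd k := ⟨l, rfl⟩
  have hcomm : Commute (A - 1) A := (Commute.refl A).sub_left (Commute.one_left A)
  -- A + 1 is invertible
  have hA1 : IsUnit (A + 1) := by
    have h2u : IsUnit ((2 : F) • (1 : Matrix ι ι F)) := by
      rw [Matrix.isUnit_iff_isUnit_det, Matrix.det_smul, Matrix.det_one, mul_one]
      exact (isUnit_iff_ne_zero.2 h2).pow _
    have h3 : A + 1 = (2 : F) • (1 : Matrix ι ι F) + (A - 1) := by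
      rw [two_smul]
      abel
    rw [h3]
    apply hnil.isUnit_add_left_of_commute h2u
    exact (Commute.smul_right (Commute.one_right _) _)
  have hA1det : IsUnit ((A + 1) ^ k).det := by
    rw [Matrix.det_pow]
    exact ((Matrix.isUnit_iff_isUnit_det _).1 hA1).pow k
  -- A * A preserves the form
  have hpres2 : (A * A)ᵀ * G * (A * A) = G := by
    calc (A * A)ᵀ * G * (A * A) = Aᵀ * (Aᵀ * G * A) * A := by
          rw [Matrix.transpose_mul]
          simp only [Matrix.mul_assoc]
      _ = G := by rw [hpres, hpres]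
  have hpow : ∀ j : ℕ, (Aᵀ) ^ j * G * A ^ j = G := by
    intro j
    induction j with
    | zero => simp
    | succ j ih =>
      calc (Aᵀ) ^ (j + 1) * G * A ^ (j + 1) = (Aᵀ) ^ j * (Aᵀ * G * A) * A ^ j := by
            rw [pow_succ, pow_succ']
            simp only [Matrix.mul_assoc]
        _ = G := by rw [hpres, ih]
  set K : Matrix ι ι F := A * A - 1 with hK
  have hKA : Commute K A := ((Commute.refl A).mul_left (Commute.refl A)).sub_left
    (Commute.one_left A)
  have hKfac : K = (A + 1) * (A - 1) := by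
    rw [hK]
    noncomm_ring
  have hcomm2 : Commute (A + 1) (A - 1) :=
    ((Commute.refl A).add_left (Commute.one_left A)).sub_right (Commute.one_right _)
  have hid := form_identity (A * A) G hpres2 k
  set Γ : Matrix ι ι F := (Aᵀ) ^ k * G * K ^ k with hΓ
  have hAk : IsUnit (A ^ k) := by
    rw [Matrix.isUnit_iff_isUnit_det, Matrix.det_pow]
    exact hA.pow k
  have hAkdet : IsUnit (A ^ k).det := (Matrix.isUnit_iff_isUnit_det _).1 hAk
  have h1 : Γ * A ^ k = G * K ^ k := by
    have hc : K ^ k * A ^ k = A ^ k * K ^ k := ((hKA.pow_right k).pow_left k).eq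
    calc Γ * A ^ k = (Aᵀ) ^ k * G * (K ^ k * A ^ k) := by
          rw [hΓ]
          simp only [Matrix.mul_assoc]
      _ = (Aᵀ) ^ k * G * A ^ k * K ^ k := by
          rw [hc]
          simp only [Matrix.mul_assoc]
      _ = G * K ^ k := by rw [hpow]
  have h2' : Γᵀ * A ^ k = (-1 : F) ^ k • (G * K ^ k) := by
    have hAA : (A * A) ^ k = A ^ k * A ^ k := (Commute.refl A).mul_pow k
    calc Γᵀ * A ^ k = (Kᵀ) ^ k * G * (A ^ k * A ^ k) := by
          rw [hΓ, Matrix.transpose_mul, Matrix.transpose_mul, Matrix.transpose_pow,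
            Matrix.transpose_pow, Matrix.transpose_transpose, hsym]
          simp only [Matrix.mul_assoc]
      _ = ((A * A - 1)ᵀ) ^ k * G * (A * A) ^ k := by rw [hAA]
      _ = (-1 : F) ^ k • (G * K ^ k) := hid
  have hskew : Γᵀ = -Γ := by
    have h3 : Γᵀ * A ^ k = (-Γ) * A ^ k := by
      rw [h2', Matrix.neg_mul, h1, hkodd.neg_one_pow, neg_smul, one_smul]
    exact hAk.mul_left_injective h3
  have hΓalt : ∀ v : ι → F, v ⬝ᵥ Γ *ᵥ v = 0 := by
    intro v
    have h3 := dot_transpose Γ v
    rw [hskew, Matrix.neg_mulVec, dotProduct_neg] at h3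
    have h4 : (2 : F) * (v ⬝ᵥ Γ *ᵥ v) = 0 := by
      rw [two_mul]
      nth_rewrite 1 [← h3]
      exact neg_add_cancel _
    rcases mul_eq_zero.1 h4 with h5 | h5
    · exact absurd h5 h2
    · exact h5
  have hev := Cfsg.Agent.Lib.Helper13.even_rank_of_alternating Γ hΓalt
  have h5 : Γ.rank = ((A - 1) ^ k).rank := by
    rw [← rank_mul_eq_left_of_isUnit_det (A ^ k) Γ hAkdet, h1,
      rank_mul_eq_right_of_isUnit_det G _ hG, hKfac, hcomm2.mul_pow,
      rank_mul_eq_right_of_isUnit_det _ _ hA1det]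
  rw [← h5]
  exact hev

end forms

end Cfsg.Agent.Lib.Helper14.JType
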