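import Mathlib
import Cfsg.Agent.Lib.Helper14.JType1
import Cfsg.Agent.Lib.Helper14.JType3
import Cfsg.Agent.Lib.Helper14.UnipClasses
import Cfsg.Agent.Lib.Helper16.SympEmbed
import Cfsg.Prelude.Def_Classical

/-!
# Jordan types in symplectic and orthogonal groups: existence
-/

set_option autoImplicit false

namespace Cfsg.Agent.Lib.Helper14.JType

open Matrix Module Cfsg.Agent.Lib.Helper14.JC

universe u

variable {F : Type u} [Field F] {t : ℕ} (d : Fin t → ℕ)

theorem kappa_map (j : ℕ) : kappa (Finset.univ.val.map d) j = ∑ b, min (d b) j := by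
  unfold kappa
  rw [Multiset.map_map]
  rfl

theorem sum_map : (Finset.univ.val.map d).sum = ∑ b, d b := rfl

theorem count_map (j : ℕ) :
    (Finset.univ.val.map d).count j = (Finset.univ.filter (fun k : Fin t => d k = j)).card := by
  rw [Multiset.count_map, Finset.card_def, Finset.filter_val]
  congr 1
  apply Multiset.filter_congr
  intro x _
  exact eq_comm

/-- the symplectic Jordan types are realised -/
theorem realised_sp
    (hev : ∀ j : ℕ, Odd j → Even (Finset.univ.filter (fun k : Fin t => d k = j)).card) :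
    IsRealised (-1 : F) (fun j => ∑ b, min (d b) j) (∑ b, d b) := by
  have h := realise_multiset (-1 : F) (fun b => Even b) (fun b hb => isRealised_evenSp_std b hb)
    (fun b => isRealised_pair_std (-1 : F) (by ring) b) _ (Finset.univ.val.map d) rfl
    (fun j hj => by
      rw [count_map]
      exact hev j (Nat.not_even_iff_odd.1 hj))
  exact h.congr (fun j => kappa_map d j) (sum_map d)

/-- the orthogonal Jordan types are realised in odd characteristic -/
theorem realised_orth (h2 : (2 : F) ≠ 0) (hd : ∀ k, 1 ≤ d k)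
    (hev : ∀ j : ℕ, Even j → 0 < j → Even (Finset.univ.filter (fun k : Fin t => d k = j)).card) :
    IsRealised (1 : F) (fun j => ∑ b, min (d b) j) (∑ b, d b) := by
  have h := realise_multiset (1 : F) (fun b => Odd b)
    (fun b hb => isRealised_oddOrth_std h2 b hb)
    (fun b => isRealised_pair_std (1 : F) (by ring) b) _ (Finset.univ.val.map d) rfl
    (fun j hj => by
      rw [count_map]
      rcases Nat.eq_zero_or_pos j with h0 | h0
      · have : Finset.univ.filter (fun k : Fin t => d k = j) = ∅ := by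
          apply Finset.filter_eq_empty_iff.2
          intro k _ hk
          have := hd k
          omega
        rw [this, Finset.card_empty]
        exact Even.zero
      · exact hev j (Nat.not_odd_iff_even.1 hj) h0)
  exact h.congr (fun j => kappa_map d j) (sum_map d)

/-- an endomorphism with the kernel dimensions of the Jordan type matrix is similar to it -/
theorem exists_intertwiner {n : ℕ} (hn : ∑ b, d b = n)
    (A : (Fin n → F) →ₗ[F] (Fin n → F)) (hkd : ∀ j, kd (A - 1) j = ∑ b, min (d b) j) :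
    ∃ φ : (Idx d → F) ≃ₗ[F] (Fin n → F),
      ∀ v, φ (Matrix.toLin' (Cfsg.jordanTypeMatrix d F) v) = A (φ v) := by
  have hle : ∀ k, d k ≤ n := by
    intro k
    rw [← hn]
    exact Finset.single_le_sum (f := d) (fun _ _ => Nat.zero_le _) (Finset.mem_univ k)
  have hN : IsNilpotent (shift (F := F) d) := by
    refine ⟨n, ?_⟩
    apply LinearMap.ext
    intro x
    exact shift_pow_large d x n hle
  have hN' : IsNilpotent (A - 1) := by
    refine ⟨n, ?_⟩
    rw [← kd_eq_finrank_iff, hkd n, Module.finrank_fin_fun, ← hn]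
    apply Finset.sum_congr rfl
    intro b _
    exact min_eq_left (hn ▸ hle b)
  obtain ⟨φ, hφ⟩ := exists_equiv_of_kd_eq (shift (F := F) d) (A - 1) hN hN'
    (fun k => by rw [kd_shift, hkd])
  refine ⟨φ, fun v => ?_⟩
  rw [toLin'_jordanType, LinearMap.add_apply, Module.End.one_apply, map_add, hφ,
    LinearMap.sub_apply, Module.End.one_apply]
  abel

theorem toLin'_reindex {ι ι' : Type*} [Fintype ι] [DecidableEq ι] [Fintype ι'] [DecidableEq ι']
    (e : ι ≃ ι') (M : Matrix ι ι F) (x : ι' → F) :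
    (LinearEquiv.funCongrLeft F F e) (Matrix.toLin' (Matrix.reindex e e M) x) =
      Matrix.toLin' M ((LinearEquiv.funCongrLeft F F e) x) := by
  funext i
  rw [LinearEquiv.funCongrLeft_apply, LinearMap.funLeft_apply, Matrix.toLin'_apply,
    Matrix.toLin'_apply, Matrix.reindex_apply, Matrix.submatrix_mulVec_equiv]
  simp only [Function.comp_apply, Equiv.symm_symm, Equiv.symm_apply_apply]
  rfl

theorem isUnit_jordanType {n : ℕ} (hle : ∀ k, d k ≤ n) : IsUnit (Cfsg.jordanTypeMatrix d F) := by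
  have h1 : IsNilpotent (Cfsg.jordanTypeMatrix d F - 1) :=
    ⟨n, jordanType_sub_one_pow_eq_zero d n hle⟩
  have h2 := h1.isUnit_add_one
  rwa [sub_add_cancel] at h2

/-- From realised data to a symplectic matrix conjugate to the Jordan type matrix. -/
theorem sp_of_realised [Finite F] {m : ℕ} (hsum : ∑ b, d b = 2 * m)
    (h : IsRealised (-1 : F) (fun j => ∑ b, min (d b) j) (2 * m)) :
    ∃ e : Idx d ≃ (Fin m ⊕ Fin m), ∃ A : Matrix.symplecticGroup (Fin m) F,
      IsConj (Matrix.reindex e e (Cfsg.jordanTypeMatrix d F))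
        (A : Matrix (Fin m ⊕ Fin m) (Fin m ⊕ Fin m) F) := by
  classical
  obtain ⟨B, A, hnd, hsym, halt, hpres, hkd⟩ := h
  obtain ⟨Ψ, hΨ⟩ := Cfsg.Agent.Lib.Helper16.exists_symp_equiv B (halt rfl) hnd m
    (by rw [Module.finrank_fin_fun])
  obtain ⟨φ, hφ⟩ := exists_intertwiner d hsum A hkd
  have hcard : Fintype.card (Idx d) = Fintype.card (Fin m ⊕ Fin m) := by
    rw [card_idx, hsum, Fintype.card_sum, Fintype.card_fin]
    ring
  let e : Idx d ≃ (Fin m ⊕ Fin m) := Fintype.equivOfCardEq hcard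
  let θ : (Fin m ⊕ Fin m → F) ≃ₗ[F] (Idx d → F) := LinearEquiv.funCongrLeft F F e
  let ψ : (Fin m ⊕ Fin m → F) ≃ₗ[F] (Fin m ⊕ Fin m → F) := (θ.trans φ).trans Ψ.symm
  let A' : (Fin m ⊕ Fin m → F) →ₗ[F] (Fin m ⊕ Fin m → F) :=
    Ψ.symm.toLinearMap ∘ₗ A ∘ₗ Ψ.toLinearMap
  have hA' : ∀ x, A' x = Ψ.symm (A (Ψ x)) := fun x => rfl
  have hψ : ∀ x, ψ x = Ψ.symm (φ (θ x)) := fun x => rfl
  have hmem : LinearMap.toMatrix' A' ∈ Matrix.symplecticGroup (Fin m) F := by
    rw [Cfsg.Agent.Lib.Helper6.mem_symplecticGroup_iff_preserves]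
    intro u v
    rw [← Matrix.toLin'_apply, ← Matrix.toLin'_apply, Matrix.toLin'_toMatrix', hA', hA', ← hΨ, ← hΨ,
      LinearEquiv.apply_symm_apply, LinearEquiv.apply_symm_apply, hpres]
  have hinter : ∀ x, ψ (Matrix.toLin' (Matrix.reindex e e (Cfsg.jordanTypeMatrix d F)) x) =
      A' (ψ x) := by
    intro x
    rw [hψ, hψ, hA', LinearEquiv.apply_symm_apply]
    show Ψ.symm (φ ((LinearEquiv.funCongrLeft F F e) _)) = _
    rw [toLin'_reindex, hφ]
  have hC1 : LinearMap.toMatrix' ψ.toLinearMap * LinearMap.toMatrix' ψ.symm.toLinearMap = 1 := by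
    rw [← LinearMap.toMatrix'_comp]
    have : ψ.toLinearMap ∘ₗ ψ.symm.toLinearMap = LinearMap.id := by
      apply LinearMap.ext
      intro x
      simp
    rw [this, LinearMap.toMatrix'_id]
  have hC2 : LinearMap.toMatrix' ψ.symm.toLinearMap * LinearMap.toMatrix' ψ.toLinearMap = 1 := by
    rw [← LinearMap.toMatrix'_comp]
    have : ψ.symm.toLinearMap ∘ₗ ψ.toLinearMap = LinearMap.id := by
      apply LinearMap.ext
      intro x
      simp
    rw [this, LinearMap.toMatrix'_id]
  refine ⟨e, ⟨LinearMap.toMatrix' A', hmem⟩, ⟨⟨_, _, hC1, hC2⟩, ?_⟩⟩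
  show LinearMap.toMatrix' ψ.toLinearMap * Matrix.reindex e e (Cfsg.jordanTypeMatrix d F) =
    LinearMap.toMatrix' A' * LinearMap.toMatrix' ψ.toLinearMap
  apply Matrix.toLin'.injective
  apply LinearMap.ext
  intro x
  rw [Matrix.toLin'_mul, Matrix.toLin'_mul, Matrix.toLin'_toMatrix', Matrix.toLin'_toMatrix',
    LinearMap.comp_apply, LinearMap.comp_apply]
  exact hinter x

/-- From realised data to a quadratic form with an isometry of the given Jordan type. -/
theorem orth_of_realised (h2 : (2 : F) ≠ 0) {n : ℕ} (hsum : ∑ b, d b = n)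
    (h : IsRealised (1 : F) (fun j => ∑ b, min (d b) j) n) :
    ∃ Q : QuadraticForm F (Fin n → F), (QuadraticMap.polarBilin Q).Nondegenerate ∧
      ∃ e : Idx d ≃ Fin n, ∃ A : ↥(Cfsg.isometryGroup F ⇑Q),
        IsConj (Matrix.reindex e e (Cfsg.jordanTypeMatrix d F))
          ((A : Matrix.GeneralLinearGroup (Fin n) F) : Matrix (Fin n) (Fin n) F) := by
  classical
  obtain ⟨B, A, hnd, hsym, halt, hpres, hkd⟩ := h
  obtain ⟨φ, hφ⟩ := exists_intertwiner d hsum A hkd
  have hle : ∀ k, d k ≤ n := by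
    intro k
    rw [← hsum]
    exact Finset.single_le_sum (f := d) (fun _ _ => Nat.zero_le _) (Finset.mem_univ k)
  have hcard : Fintype.card (Idx d) = Fintype.card (Fin n) := by
    rw [card_idx, hsum, Fintype.card_fin]
  let e : Idx d ≃ Fin n := Fintype.equivOfCardEq hcard
  let θ : (Fin n → F) ≃ₗ[F] (Idx d → F) := LinearEquiv.funCongrLeft F F e
  let ψ : (Fin n → F) ≃ₗ[F] (Fin n → F) := θ.trans φ
  have hψ : ∀ x, ψ x = φ (θ x) := fun x => rfl
  let R : Matrix (Fin n) (Fin n) F := Matrix.reindex e e (Cfsg.jordanTypeMatrix d F)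
  have hinter : ∀ x, ψ (R *ᵥ x) = A (ψ x) := by
    intro x
    rw [hψ, hψ, ← Matrix.toLin'_apply]
    show φ ((LinearEquiv.funCongrLeft F F e) _) = _
    rw [toLin'_reindex, hφ]
  let B' : (Fin n → F) →ₗ[F] (Fin n → F) →ₗ[F] F := B.compl₁₂ ψ.toLinearMap ψ.toLinearMap
  have hB' : ∀ x y, B' x y = B (ψ x) (ψ y) := fun x y => rfl
  let Q : QuadraticForm F (Fin n → F) := LinearMap.BilinMap.toQuadraticMap B'
  have hQ : ∀ x, Q x = B (ψ x) (ψ x) := fun x => rfl
  have hpol : ∀ x y, QuadraticMap.polarBilin Q x y = 2 * B (ψ x) (ψ y) := by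
    intro x y
    show QuadraticMap.polarBilin (LinearMap.BilinMap.toQuadraticMap B') x y = _
    rw [LinearMap.BilinMap.polarBilin_toQuadraticMap, LinearMap.add_apply, LinearMap.add_apply,
      LinearMap.flip_apply, hB', hB', hsym (ψ x) (ψ y)]
    ring
  have hRu : IsUnit R := by
    have h1 := (isUnit_jordanType (F := F) d hle).map (Matrix.reindexAlgEquiv F F e)
    rwa [Matrix.coe_reindexAlgEquiv] at h1
  have hg : (hRu.unit : Matrix.GeneralLinearGroup (Fin n) F) ∈ Cfsg.isometryGroup F ⇑Q := by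
    intro u _
    show Q (R *ᵥ u) = Q u
    rw [hQ, hQ, hinter, hpres]
  refine ⟨Q, ⟨?_, ?_⟩, e, ⟨hRu.unit, hg⟩, ?_⟩
  · intro x hx
    have h1 : ψ x = 0 := by
      apply hnd
      intro z
      have h3 := hx (ψ.symm z)
      rw [hpol, LinearEquiv.apply_symm_apply] at h3
      rcases mul_eq_zero.1 h3 with h4 | h4
      · exact absurd h4 h2
      · exact h4
    exact ψ.map_eq_zero_iff.1 h1
  · intro y hy
    have h1 : ψ y = 0 := by
      apply hnd
      intro z
      have h3 := hy (ψ.symm z)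
      rw [hpol, LinearEquiv.apply_symm_apply] at h3
      rcases mul_eq_zero.1 h3 with h4 | h4
      · exact absurd h4 h2
      · rw [hsym, one_mul]
        exact h4
    exact ψ.map_eq_zero_iff.1 h1
  · exact IsConj.refl _

end Cfsg.Agent.Lib.Helper14.JType
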