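import Mathlib
import Cfsg.Agent.Lib.Helper14.JType1
import Cfsg.Prelude.Def_Classical

/-!
# Jordan types: the Gram matrix of a quadratic form and the parity conclusions
-/

set_option autoImplicit false

namespace Cfsg.Agent.Lib.Helper14.JType

open Matrix Module Cfsg.Agent.Lib.Helper14.JC

variable {F : Type*} [Field F]

section gram

variable {ι : Type} [Fintype ι] [DecidableEq ι]

theorem matrix_ext_dot (M M' : Matrix ι ι F) (h : ∀ u v : ι → F, u ⬝ᵥ M *ᵥ v = u ⬝ᵥ M' *ᵥ v) :
    M = M' := by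
  ext i j
  have := h (Pi.single i 1) (Pi.single j 1)
  simpa using this

omit [DecidableEq ι] in
theorem dot_congr_form₂ (M P : Matrix ι ι F) (u v : ι → F) :
    u ⬝ᵥ (Pᵀ * M * P) *ᵥ v = (P *ᵥ u) ⬝ᵥ M *ᵥ (P *ᵥ v) := by
  rw [← Matrix.mulVec_mulVec, ← Matrix.mulVec_mulVec, Matrix.dotProduct_mulVec,
    Matrix.vecMul_transpose]

variable (Q : QuadraticForm F (ι → F))

/-- the Gram matrix of the polar form -/
noncomputable def gram : Matrix ι ι F := LinearMap.toMatrix₂' F (QuadraticMap.polarBilin Q)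

theorem gram_apply (u v : ι → F) : u ⬝ᵥ gram Q *ᵥ v = QuadraticMap.polar Q u v := by
  unfold gram
  rw [← Matrix.toLinearMap₂'_apply', Matrix.toLinearMap₂'_toMatrix',
    QuadraticMap.polarBilin_apply_apply]

theorem gram_transpose : (gram Q)ᵀ = gram Q := by
  ext i j
  simp only [gram, Matrix.transpose_apply, LinearMap.toMatrix₂'_apply,
    QuadraticMap.polarBilin_apply_apply]
  exact QuadraticMap.polar_comm _ _ _

theorem gram_isUnit_det (hQ : (QuadraticMap.polarBilin Q).Nondegenerate) :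
    IsUnit (gram Q).det := by
  rw [← Matrix.isUnit_iff_isUnit_det, ← Matrix.mulVec_injective_iff_isUnit]
  intro v w hvw
  have h1 : gram Q *ᵥ (v - w) = 0 := by rw [Matrix.mulVec_sub, hvw, sub_self]
  have h2 : v - w = 0 := by
    apply hQ.2
    intro u
    rw [QuadraticMap.polarBilin_apply_apply, ← gram_apply, h1, dotProduct_zero]
  exact sub_eq_zero.1 h2

theorem gram_pres (g : Matrix.GeneralLinearGroup ι F) (hg : g ∈ Cfsg.isometryGroup F ⇑Q) :
    (g : Matrix ι ι F)ᵀ * gram Q * (g : Matrix ι ι F) = gram Q := by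
  have hg' : ∀ u : ι → F, Q ((g : Matrix ι ι F) *ᵥ u) = Q u := fun u => hg u u
  apply matrix_ext_dot
  intro u v
  rw [dot_congr_form₂, gram_apply, gram_apply]
  unfold QuadraticMap.polar
  rw [← Matrix.mulVec_add, hg', hg', hg']

/-- in characteristic two the polar form is alternating -/
theorem gram_alt [CharP F 2] (v : ι → F) : v ⬝ᵥ gram Q *ᵥ v = 0 := by
  rw [gram_apply]
  unfold QuadraticMap.polar
  have hv : v + v = 0 := by
    funext i
    exact CharTwo.add_self_eq_zero (v i)
  rw [hv, map_zero, zero_sub, sub_eq_add_neg, ← neg_add,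
    CharTwo.add_self_eq_zero, neg_zero]

end gram

section parity

variable {t : ℕ} (d : Fin t → ℕ)

theorem even_card_of_even_ranks (j : ℕ) (hj : 1 ≤ j)
    (h1 : Even (∑ b, (d b - (j - 1)))) (h2 : Even (∑ b, (d b - (j + 1)))) :
    Even (Finset.univ.filter (fun k : Fin t => d k = j)).card := by
  obtain ⟨a, ha⟩ := h1
  obtain ⟨b, hb⟩ := h2
  have := rank_second_diff d j hj
  exact ⟨a + b - ∑ b, (d b - j), by omega⟩

variable {ι : Type*} [Fintype ι] [DecidableEq ι]

theorem rank_of_isConj_reindex (e : Idx d ≃ ι) (A : Matrix ι ι F)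
    (h : IsConj (Matrix.reindex e e (Cfsg.jordanTypeMatrix d F)) A) (k : ℕ) :
    ((A - 1) ^ k).rank = ∑ b, (d b - k) := by
  rw [rank_pow_sub_one_of_isConj h k, rank_reindex_pow_sub_one, rank_jordanType]

theorem isNilpotent_of_isConj_reindex (e : Idx d ≃ ι) (A : Matrix ι ι F)
    (h : IsConj (Matrix.reindex e e (Cfsg.jordanTypeMatrix d F)) A) :
    IsNilpotent (A - 1) := by
  refine ⟨∑ b, d b, pow_sub_one_eq_zero_of_isConj h _ ?_⟩
  rw [reindex_pow_sub_one, jordanType_sub_one_pow_eq_zero d (∑ b, d b)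
    (fun k => Finset.single_le_sum (f := d) (fun _ _ => Nat.zero_le _) (Finset.mem_univ k))]
  simp

end parity

end Cfsg.Agent.Lib.Helper14.JType
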