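import Mathlib
import Cfsg.Agent.Lib.Helper14.JordanCent2
import Cfsg.Agent.Lib.Helper14.BTCount

set_option autoImplicit false

namespace Cfsg.Agent.Lib.Helper14.JC

open Matrix

variable {F : Type*} [Field F] {t : ℕ} (d : Fin t → ℕ) (hd : ∀ k, 1 ≤ d k)

include hd in
/-- The centraliser of the Jordan type matrix is parametrised by the images of the generators. -/
theorem card_centralizer_eq :
    Nat.card {g : GL (Idx d) F // (g : Matrix (Idx d) (Idx d) F) * Cfsg.jordanTypeMatrix d F =
        Cfsg.jordanTypeMatrix d F * (g : Matrix (Idx d) (Idx d) F)} =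
      Nat.card {v : Fin t → Idx d → F // Supp d v ∧ IsUnit (Amat d hd v).det} := by
  have key : ∀ g : Matrix (Idx d) (Idx d) F,
      g * Cfsg.jordanTypeMatrix d F = Cfsg.jordanTypeMatrix d F * g →
      (∀ x, Matrix.toLin' g (shift d x) = shift d (Matrix.toLin' g x)) := by
    intro g hg x
    rw [Matrix.toLin'_apply, Matrix.toLin'_apply]
    exact (commute_iff d g).mp hg x
  refine Nat.card_congr (Equiv.ofBijective
    (fun g => ⟨fun k => g.1.1 *ᵥ gen d hd k, ?_, ?_⟩) ⟨?_, ?_⟩)
  · rw [supp_iff]
    intro k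
    have := gen_pow_zero d hd (Matrix.toLin' g.1.1) (key g.1.1 g.2) k
    rwa [Matrix.toLin'_apply] at this
  · have hsupp : Supp d (fun k => g.1.1 *ᵥ gen d hd k) := by
      rw [supp_iff]
      intro k
      have := gen_pow_zero d hd (Matrix.toLin' g.1.1) (key g.1.1 g.2) k
      rwa [Matrix.toLin'_apply] at this
    rw [← Lmap_injective_iff d hd _ hsupp]
    have h1 := eq_Lmap d hd (Matrix.toLin' g.1.1) (key g.1.1 g.2)
    have h2 : (fun k => Matrix.toLin' g.1.1 (gen d hd k)) = fun k => g.1.1 *ᵥ gen d hd k := by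
      funext k
      rw [Matrix.toLin'_apply]
    rw [h2] at h1
    rw [← h1]
    have h3 : Function.Injective g.1.1.mulVec :=
      Matrix.mulVec_injective_iff_isUnit.mpr g.1.isUnit
    intro x y hxy
    rw [Matrix.toLin'_apply, Matrix.toLin'_apply] at hxy
    exact h3 hxy
  · intro g g' h
    have h0 : (fun k => g.1.1 *ᵥ gen d hd k) = fun k => g'.1.1 *ᵥ gen d hd k :=
      congrArg Subtype.val h
    have h1 := eq_Lmap d hd (Matrix.toLin' g.1.1) (key g.1.1 g.2)
    have h2 := eq_Lmap d hd (Matrix.toLin' g'.1.1) (key g'.1.1 g'.2)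
    have h3 : (fun k => Matrix.toLin' g.1.1 (gen d hd k)) =
        fun k => Matrix.toLin' g'.1.1 (gen d hd k) := by
      funext k
      rw [Matrix.toLin'_apply, Matrix.toLin'_apply]
      exact congrFun h0 k
    rw [h3, ← h2] at h1
    apply Subtype.ext
    apply Units.ext
    exact Matrix.toLin'.injective h1
  · rintro ⟨v, hv, hu⟩
    have hinj := (Lmap_injective_iff d hd v hv).mpr hu
    set M := LinearMap.toMatrix' (Lmap d v) with hM
    have hMv : ∀ x, M *ᵥ x = Lmap d v x := by
      intro x
      rw [← Matrix.toLin'_apply, hM, Matrix.toLin'_toMatrix']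
    have hMu : IsUnit M := by
      rw [← Matrix.mulVec_injective_iff_isUnit]
      intro x y hxy
      rw [hMv, hMv] at hxy
      exact hinj hxy
    refine ⟨⟨hMu.unit, ?_⟩, ?_⟩
    · show M * Cfsg.jordanTypeMatrix d F = Cfsg.jordanTypeMatrix d F * M
      rw [commute_iff]
      intro x
      rw [hMv, hMv]
      exact Lmap_shift d hd v ((supp_iff d v).mp hv) x
    · apply Subtype.ext
      funext k
      show M *ᵥ gen d hd k = v k
      rw [hMv, Lmap_gen]

/-- The block index of a block: its size. -/
def bsize (k : Fin t) : Fin (Finset.univ.sup d + 1) :=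
  ⟨d k, Nat.lt_succ_of_le (Finset.le_sup (f := d) (Finset.mem_univ k))⟩

theorem bsize_lt (k l : Fin t) : bsize d k < bsize d l ↔ d k < d l := Iff.rfl

theorem bsize_eq (k : Fin t) (i : Fin (Finset.univ.sup d + 1)) : bsize d k = i ↔ d k = i.val := by
  rw [Fin.ext_iff]
  rfl

theorem Amat_blockTriangular (v : Fin t → Idx d → F) :
    (Amat d hd v).BlockTriangular (bsize d) := by
  intro k l hkl
  rw [bsize_lt] at hkl
  show (if h : d k ≤ d l then _ else 0) = 0
  rw [dif_neg (by omega)]

variable [Fintype F]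

include hd in
/-- The parametrising set fibres over the invertible block triangular matrices. -/
theorem card_param :
    Nat.card {v : Fin t → Idx d → F // Supp d v ∧ IsUnit (Amat d hd v).det} =
      Nat.card {A : Matrix (Fin t) (Fin t) F // A.BlockTriangular (bsize d) ∧ IsUnit A.det} *
        Fintype.card F ^
          (Fintype.card {p : Fin t × Idx d // d p.2.1 < p.2.2.val + d p.1}) := by
  classical
  apply card_eq_mul_of_fibers
    (fun v : {v : Fin t → Idx d → F // Supp d v ∧ IsUnit (Amat d hd v).det} =>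
      (⟨Amat d hd v.1, Amat_blockTriangular d hd v.1, v.2.2⟩ :
        {A : Matrix (Fin t) (Fin t) F // A.BlockTriangular (bsize d) ∧ IsUnit A.det}))
  intro A
  rw [← Fintype.card_fun, ← Nat.card_eq_fintype_card]
  let vc : ({p : Fin t × Idx d // d p.2.1 < p.2.2.val + d p.1} → F) → Fin t → Idx d → F :=
    fun c k p => if h : d p.1 < p.2.val + d k then c ⟨(k, p), h⟩ else
      if d p.1 = p.2.val + d k then A.1 k p.1 else 0
  have hvc1 : ∀ c, Supp d (vc c) := by
    intro c k p hp
    show (if h : d p.1 < p.2.val + d k then c ⟨(k, p), h⟩ else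
      if d p.1 = p.2.val + d k then A.1 k p.1 else 0) = 0
    rw [dif_neg (by omega), if_neg (by omega)]
  have hvc2 : ∀ c, Amat d hd (vc c) = A.1 := by
    intro c
    ext k l
    show (if h : d k ≤ d l then vc c k ⟨l, ⟨d l - d k, _⟩⟩ else 0) = A.1 k l
    by_cases h : d k ≤ d l
    · rw [dif_pos h]
      show (if h : d l < d l - d k + d k then c ⟨(k, _), h⟩ else
        if d l = d l - d k + d k then A.1 k l else 0) = A.1 k l
      rw [dif_neg (by omega), if_pos (by omega)]
    · rw [dif_neg h]
      have h1 : bsize d l < bsize d k := by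
        rw [bsize_lt]
        omega
      exact (A.2.1 h1).symm
  refine Nat.card_congr
    { toFun := fun v p => v.1.1 p.1.1 p.1.2
      invFun := fun c => ⟨⟨vc c, hvc1 c, by rw [hvc2 c]; exact A.2.2⟩, Subtype.ext (hvc2 c)⟩
      left_inv := ?_
      right_inv := ?_ }
  · intro v
    apply Subtype.ext
    apply Subtype.ext
    funext k p
    show (if h : d p.1 < p.2.val + d k then v.1.1 k p else
      if d p.1 = p.2.val + d k then A.1 k p.1 else 0) = v.1.1 k p
    by_cases h : d p.1 < p.2.val + d k
    · rw [dif_pos h]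
    · rw [dif_neg h]
      by_cases h' : d p.1 = p.2.val + d k
      · rw [if_pos h']
        have h1 : Amat d hd v.1.1 = A.1 := congrArg Subtype.val v.2
        rw [← h1]
        show (if h : d k ≤ d p.1 then v.1.1 k ⟨p.1, ⟨d p.1 - d k, _⟩⟩ else 0) = v.1.1 k p
        rw [dif_pos (by omega)]
        have h2 : (⟨p.1, ⟨d p.1 - d k, by have := hd p.1; have := hd k; omega⟩⟩ : Idx d) = p := by
          apply idx_ext
          · rfl
          · simp only
            omega
        rw [h2]
      · rw [if_neg h']
        exact (v.1.2.1 k p (by omega)).symm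
  · intro c
    funext p
    obtain ⟨⟨k, p⟩, hp⟩ := p
    show (if h : d p.1 < p.2.val + d k then c ⟨(k, p), h⟩ else
      if d p.1 = p.2.val + d k then A.1 k p.1 else 0) = c ⟨(k, p), hp⟩
    rw [dif_pos hp]

end Cfsg.Agent.Lib.Helper14.JC
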