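import Mathlib
import Cfsg.Agent.Lib.Helper14.JordanCent3

set_option autoImplicit false

namespace Cfsg.Agent.Lib.Helper14.JC

open Matrix

variable {t : ℕ} (d : Fin t → ℕ)

/-- The multiplicity of the block size `i`. -/
abbrev mult (i : ℕ) : ℕ := (Finset.univ.filter (fun k : Fin t => d k = i)).card

theorem sum_regroup (f : ℕ → ℕ) :
    ∑ k, f (d k) = ∑ i ∈ Finset.range (Finset.univ.sup d + 1), mult d i * f i := by
  have hmaps : ∀ k ∈ (Finset.univ : Finset (Fin t)), d k ∈ Finset.range (Finset.univ.sup d + 1) := by
    intro k _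
    rw [Finset.mem_range]
    exact Nat.lt_succ_of_le (Finset.le_sup (f := d) (Finset.mem_univ k))
  rw [← Finset.sum_fiberwise_of_maps_to hmaps]
  apply Finset.sum_congr rfl
  intro i _
  rw [Finset.sum_congr rfl (g := fun _ => f i)]
  · rw [Finset.sum_const, smul_eq_mul]
  · intro k hk
    rw [(Finset.mem_filter.mp hk).2]

theorem sum_regroup₂ (f : ℕ → ℕ → ℕ) :
    ∑ k, ∑ l, f (d k) (d l) = ∑ i ∈ Finset.range (Finset.univ.sup d + 1),
      ∑ j ∈ Finset.range (Finset.univ.sup d + 1), mult d i * mult d j * f i j := by
  rw [sum_regroup d (fun i => ∑ l, f i (d l))]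
  apply Finset.sum_congr rfl
  intro i _
  rw [sum_regroup d (fun j => f i j), Finset.mul_sum]
  apply Finset.sum_congr rfl
  intro j _
  ring

theorem card_fin_filter (n a : ℕ) (ha : 1 ≤ a) :
    Fintype.card {j : Fin n // n < j.val + a} = if a ≤ n then a - 1 else n := by
  classical
  rw [Fintype.card_subtype, Finset.card_filter,
    Fin.sum_univ_eq_sum_range (fun j => if n < j + a then 1 else 0) n, ← Finset.card_filter]
  by_cases h : a ≤ n
  · rw [if_pos h]
    have h1 : (Finset.range n).filter (fun j => n < j + a) = Finset.Ico (n + 1 - a) n := by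
      ext j
      simp only [Finset.mem_filter, Finset.mem_range, Finset.mem_Ico]
      omega
    rw [h1, Nat.card_Ico]
    omega
  · rw [if_neg h]
    have h1 : (Finset.range n).filter (fun j => n < j + a) = Finset.range n := by
      ext j
      simp only [Finset.mem_filter, Finset.mem_range]
      omega
    rw [h1, Finset.card_range]

theorem exponent_eq (hd : ∀ k, 1 ≤ d k) :
    Fintype.card {p : Fin t × Fin t // bsize d p.1 < bsize d p.2} +
      Fintype.card {p : Fin t × Idx d // d p.2.1 < p.2.2.val + d p.1} =
    2 * (∑ i ∈ Finset.range (Finset.univ.sup d + 1), ∑ j ∈ Finset.range (Finset.univ.sup d + 1),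
        if i < j then i * mult d i * mult d j else 0) +
      ∑ i ∈ Finset.range (Finset.univ.sup d + 1), (i - 1) * mult d i ^ 2 := by
  classical
  have E1 : Fintype.card {p : Fin t × Fin t // bsize d p.1 < bsize d p.2} =
      ∑ k, ∑ l, if d k < d l then 1 else 0 := by
    rw [Fintype.card_subtype, Finset.card_filter, Fintype.sum_prod_type]
    rfl
  have E2 : Fintype.card {p : Fin t × Idx d // d p.2.1 < p.2.2.val + d p.1} =
      ∑ k, ∑ l, if d k ≤ d l then d k - 1 else d l := by
    rw [Fintype.card_subtype, Finset.card_filter, Fintype.sum_prod_type]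
    apply Finset.sum_congr rfl
    intro k _
    rw [Fintype.sum_sigma]
    apply Finset.sum_congr rfl
    intro l _
    rw [← Finset.card_filter, ← Fintype.card_subtype]
    exact card_fin_filter (d l) (d k) (hd k)
  have S1 : (∑ i ∈ Finset.range (Finset.univ.sup d + 1),
      ∑ j ∈ Finset.range (Finset.univ.sup d + 1),
        if i < j then i * mult d i * mult d j else 0) =
      ∑ k, ∑ l, if d k < d l then d k else 0 := by
    rw [sum_regroup₂ d (fun i j => if i < j then i else 0)]
    apply Finset.sum_congr rfl
    intro i _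
    apply Finset.sum_congr rfl
    intro j _
    split_ifs
    · ring
    · rw [mul_zero]
  have S2 : (∑ i ∈ Finset.range (Finset.univ.sup d + 1), (i - 1) * mult d i ^ 2) =
      ∑ k, ∑ l, if d k = d l then d k - 1 else 0 := by
    rw [sum_regroup₂ d (fun i j => if i = j then i - 1 else 0)]
    apply Finset.sum_congr rfl
    intro i hi
    rw [Finset.sum_eq_single i]
    · rw [if_pos rfl]
      ring
    · intro j _ hj
      rw [if_neg (Ne.symm hj), mul_zero]
    · intro h
      exact absurd hi h
  have S1' : (∑ k, ∑ l, if d k < d l then d k else 0) =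
      ∑ k, ∑ l, if d l < d k then d l else 0 := Finset.sum_comm
  rw [E1, E2, S1, S2, two_mul]
  nth_rewrite 2 [S1']
  rw [← Finset.sum_add_distrib, ← Finset.sum_add_distrib, ← Finset.sum_add_distrib]
  apply Finset.sum_congr rfl
  intro k _
  rw [← Finset.sum_add_distrib, ← Finset.sum_add_distrib, ← Finset.sum_add_distrib]
  apply Finset.sum_congr rfl
  intro l _
  have := hd k
  have := hd l
  split_ifs <;> omega

theorem prod_fin_congr (n n' : ℕ) (h : n = n') (f : ℕ → ℕ → ℕ) :
    ∏ j : Fin n, f n j = ∏ j : Fin n', f n' j := by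
  subst h
  rfl

section final

variable {F : Type*} [Field F] [Fintype F]

/-- The order of the centraliser of the unipotent matrix of Jordan type `d`. -/
theorem card_centralizer (hd : ∀ k, 1 ≤ d k) :
    Nat.card {g : GL (Idx d) F // (g : Matrix (Idx d) (Idx d) F) * Cfsg.jordanTypeMatrix d F =
        Cfsg.jordanTypeMatrix d F * (g : Matrix (Idx d) (Idx d) F)} =
      Fintype.card F ^ (2 * (∑ i ∈ Finset.range (Finset.univ.sup d + 1),
          ∑ j ∈ Finset.range (Finset.univ.sup d + 1),
            if i < j then i * mult d i * mult d j else 0) +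
        ∑ i ∈ Finset.range (Finset.univ.sup d + 1), (i - 1) * mult d i ^ 2) *
      ∏ i ∈ Finset.range (Finset.univ.sup d + 1), ∏ j : Fin (mult d i),
        (Fintype.card F ^ mult d i - Fintype.card F ^ (j : ℕ)) := by
  classical
  rw [card_centralizer_eq d hd, card_param d hd, card_blockTriangular (bsize d),
    ← exponent_eq d hd, pow_add]
  have hprod : (∏ i : Fin (Finset.univ.sup d + 1),
      Nat.card {B : Matrix {k // bsize d k = i} {k // bsize d k = i} F // IsUnit B.det}) =
      ∏ i ∈ Finset.range (Finset.univ.sup d + 1), ∏ j : Fin (mult d i),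
        (Fintype.card F ^ mult d i - Fintype.card F ^ (j : ℕ)) := by
    rw [← Fin.prod_univ_eq_prod_range (fun i => ∏ j : Fin (mult d i),
      (Fintype.card F ^ mult d i - Fintype.card F ^ (j : ℕ)))]
    apply Finset.prod_congr rfl
    intro i _
    rw [card_unit_det]
    have hc : Fintype.card {k // bsize d k = i} = mult d i.val := by
      rw [Fintype.card_subtype]
      congr 1
      apply Finset.filter_congr
      intro k _
      exact bsize_eq d k i
    exact prod_fin_congr _ _ hc (fun n j => Fintype.card F ^ n - Fintype.card F ^ j)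
  rw [hprod]
  ring

end final

end Cfsg.Agent.Lib.Helper14.JC
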