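import Mathlib

set_option autoImplicit false
set_option linter.unusedSectionVars false
set_option linter.unusedVariables false

/-!
# The abelian unipotent radical of a point stabiliser in `SL_{m+1}` and its normaliser (helper14)
-/

namespace Cfsg.Agent.Lib.Helper14.LSSL

open Matrix Module

variable {F : Type*} [Field F] {m : ℕ}

/-- extension by zero in the first coordinate -/
def ext0 (w : Fin m → F) : Fin (m + 1) → F := Fin.cons 0 w

@[simp] lemma ext0_zero_apply (w : Fin m → F) : ext0 w 0 = 0 := rfl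

@[simp] lemma ext0_succ (w : Fin m → F) (j : Fin m) : ext0 w j.succ = w j := by
  simp [ext0]

lemma ext0_add (w w' : Fin m → F) : ext0 (w + w') = ext0 w + ext0 w' := by
  funext i
  refine Fin.cases ?_ ?_ i <;> simp [ext0]

lemma ext0_sub (w w' : Fin m → F) : ext0 (w - w') = ext0 w - ext0 w' := by
  funext i
  refine Fin.cases ?_ ?_ i <;> simp [ext0]

lemma ext0_zero : ext0 (0 : Fin m → F) = 0 := by
  funext i
  refine Fin.cases ?_ ?_ i <;> simp [ext0]

lemma ext0_injective : Function.Injective (ext0 : (Fin m → F) → Fin (m + 1) → F) := by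
  intro w w' h
  funext j
  have := congrFun h j.succ
  simpa using this

/-- the first standard basis vector -/
def e0 : Fin (m + 1) → F := Pi.single 0 1

lemma e0_dot (x : Fin (m + 1) → F) : (e0 : Fin (m + 1) → F) ⬝ᵥ x = x 0 := by
  simp [e0]

lemma e0_dot_ext0 (w : Fin m → F) : (e0 : Fin (m + 1) → F) ⬝ᵥ ext0 w = 0 := by
  rw [e0_dot]; rfl

lemma ext0_tail (x : Fin (m + 1) → F) (hx : x 0 = 0) : ext0 (Fin.tail x) = x := by
  funext i
  refine Fin.cases ?_ ?_ i
  · simp [hx]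
  · intro j; simp [Fin.tail]

lemma ext0_dot_ext0 (x y : Fin m → F) : ext0 x ⬝ᵥ ext0 y = x ⬝ᵥ y := by
  simp [ext0, dotProduct, Fin.sum_univ_succ]

/-- the matrix `1 + w̃ e₀ᵀ` -/
def aM (w : Fin m → F) : Matrix (Fin (m + 1)) (Fin (m + 1)) F :=
  1 + vecMulVec (ext0 w) e0

lemma aM_det (w : Fin m → F) : (aM w).det = 1 := by
  rw [aM, vecMulVec_eq Unit, det_one_add_replicateCol_mul_replicateRow, e0_dot_ext0, add_zero]

/-- the elements of the abelian subgroup -/
def a (w : Fin m → F) : Matrix.SpecialLinearGroup (Fin (m + 1)) F := ⟨aM w, aM_det w⟩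

lemma aM_mul (w w' : Fin m → F) : aM w * aM w' = aM (w + w') := by
  rw [aM, aM, aM, ext0_add, add_vecMulVec, mul_add, add_mul, add_mul, one_mul, mul_one, one_mul,
    vecMulVec_mul_vecMulVec, e0_dot_ext0, zero_smul, vecMulVec_zero]
  abel

lemma a_add (w w' : Fin m → F) : a (w + w') = a w * a w' := by
  apply Subtype.ext
  exact (aM_mul w w').symm

lemma a_zero : a (0 : Fin m → F) = 1 := by
  apply Subtype.ext
  show aM 0 = 1
  rw [aM, ext0_zero, zero_vecMulVec, add_zero]

lemma a_comm (w w' : Fin m → F) : a w * a w' = a w' * a w := by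
  rw [← a_add, ← a_add, add_comm w w']

lemma a_pow (w : Fin m → F) (k : ℕ) : a w ^ k = a (k • w) := by
  induction k with
  | zero => rw [pow_zero, zero_smul, a_zero]
  | succ k ih => rw [pow_succ, ih, ← a_add, succ_nsmul]

lemma a_pow_char (p : ℕ) [CharP F p] (w : Fin m → F) : a w ^ p = 1 := by
  rw [a_pow]
  have : p • w = 0 := by
    funext j
    simp
  rw [this, a_zero]

lemma a_injective : Function.Injective (a : (Fin m → F) → Matrix.SpecialLinearGroup (Fin (m + 1)) F) := by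
  intro w w' h
  have h1 : aM w = aM w' := congrArg Subtype.val h
  funext j
  have h2 := congrFun (congrFun h1 j.succ) 0
  simpa [aM, vecMulVec_apply, e0, Fin.succ_ne_zero] using h2

lemma a_not_mem_center (w : Fin m → F) (hw : w ≠ 0) :
    a w ∉ Subgroup.center (Matrix.SpecialLinearGroup (Fin (m + 1)) F) := by
  intro h
  rw [Matrix.SpecialLinearGroup.mem_center_iff] at h
  obtain ⟨r, -, hr⟩ := h
  apply hw
  funext j
  have h1 : (scalar (Fin (m + 1)) r : Matrix _ _ F) = aM w := hr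
  have h2 := congrFun (congrFun h1 j.succ) 0
  simp [aM, vecMulVec_apply, e0, Fin.succ_ne_zero] at h2
  rw [← h2]; rfl

/-! ### The normaliser -/

/-- the action of an element fixing the first coordinate functional -/
def tau (g : Matrix.SpecialLinearGroup (Fin (m + 1)) F) (w : Fin m → F) : Fin m → F :=
  Fin.tail (g.1 *ᵥ ext0 w)

lemma ext0_tau (g : Matrix.SpecialLinearGroup (Fin (m + 1)) F) (hrow : (e0 : Fin (m + 1) → F) ᵥ* g.1 = e0)
    (w : Fin m → F) : ext0 (tau g w) = g.1 *ᵥ ext0 w := by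
  apply ext0_tail
  have h1 := e0_dot (g.1 *ᵥ ext0 w)
  rw [← h1, dotProduct_mulVec, hrow, e0_dot_ext0]

lemma conj_rel (g : Matrix.SpecialLinearGroup (Fin (m + 1)) F)
    (hrow : (e0 : Fin (m + 1) → F) ᵥ* g.1 = e0) (w : Fin m → F) :
    g * a w = a (tau g w) * g := by
  apply Subtype.ext
  show g.1 * aM w = aM (tau g w) * g.1
  rw [aM, aM, mul_add, add_mul, mul_one, one_mul, mul_vecMulVec, vecMulVec_mul, hrow,
    ext0_tau g hrow]

lemma hrow_inv (g : Matrix.SpecialLinearGroup (Fin (m + 1)) F)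
    (hrow : (e0 : Fin (m + 1) → F) ᵥ* g.1 = e0) : (e0 : Fin (m + 1) → F) ᵥ* (g⁻¹).1 = e0 := by
  have h1 : g.1 * (g⁻¹).1 = 1 := by
    have := congrArg Subtype.val (mul_inv_cancel g)
    exact this
  calc (e0 : Fin (m + 1) → F) ᵥ* (g⁻¹).1 = ((e0 : Fin (m + 1) → F) ᵥ* g.1) ᵥ* (g⁻¹).1 := by rw [hrow]
    _ = e0 := by rw [vecMul_vecMul, h1, vecMul_one]

lemma tau_inv_tau (g : Matrix.SpecialLinearGroup (Fin (m + 1)) F)
    (hrow : (e0 : Fin (m + 1) → F) ᵥ* g.1 = e0) (w : Fin m → F) : tau g⁻¹ (tau g w) = w := by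
  apply ext0_injective
  rw [ext0_tau _ (hrow_inv g hrow), ext0_tau g hrow, mulVec_mulVec]
  have h1 : (g⁻¹).1 * g.1 = 1 := congrArg Subtype.val (inv_mul_cancel g)
  rw [h1, one_mulVec]

lemma tau_tau_inv (g : Matrix.SpecialLinearGroup (Fin (m + 1)) F)
    (hrow : (e0 : Fin (m + 1) → F) ᵥ* g.1 = e0) (w : Fin m → F) : tau g (tau g⁻¹ w) = w := by
  apply ext0_injective
  rw [ext0_tau g hrow, ext0_tau _ (hrow_inv g hrow), mulVec_mulVec]
  have h1 : g.1 * (g⁻¹).1 = 1 := congrArg Subtype.val (mul_inv_cancel g)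
  rw [h1, one_mulVec]

/-- the commutation relation in the form needed for weight spaces -/
lemma a_conj (g : Matrix.SpecialLinearGroup (Fin (m + 1)) F)
    (hrow : (e0 : Fin (m + 1) → F) ᵥ* g.1 = e0) (w : Fin m → F) :
    a w * g⁻¹ = g⁻¹ * a (tau g w) := by
  have h := conj_rel g hrow w
  rw [eq_inv_mul_iff_mul_eq, ← mul_assoc, h, mul_assoc, mul_inv_cancel, mul_one]

/-- moving `w₁` to `w₂` by a transvection fixing the first coordinate functional -/
lemma exists_move (w₁ w₂ : Fin m → F) (h : w₁ ∉ Submodule.span F {w₂ - w₁}) :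
    ∃ g : Matrix.SpecialLinearGroup (Fin (m + 1)) F,
      (e0 : Fin (m + 1) → F) ᵥ* g.1 = e0 ∧ tau g w₁ = w₂ := by
  classical
  obtain ⟨f, hf1, hf2⟩ := Submodule.exists_le_ker_of_notMem h
  set ψ : Fin m → F := fun i => (f w₁)⁻¹ * f (Pi.single i 1) with hψ
  have hdot : ∀ x : Fin m → F, ψ ⬝ᵥ x = (f w₁)⁻¹ * f x := by
    intro x
    rw [LinearMap.pi_apply_eq_sum_univ f x, dotProduct, Finset.mul_sum]
    apply Finset.sum_congr rfl
    intro i _
    rw [hψ]
    simp only [smul_eq_mul]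
    have : (fun j => if i = j then (1 : F) else 0) = Pi.single i 1 := by
      funext j
      simp [Pi.single_apply, eq_comm]
    rw [this]; ring
  have h1 : ψ ⬝ᵥ w₁ = 1 := by rw [hdot, inv_mul_cancel₀ hf1]
  have h2 : ψ ⬝ᵥ (w₂ - w₁) = 0 := by
    rw [hdot]
    have : f (w₂ - w₁) = 0 := hf2 (Submodule.mem_span_singleton_self _)
    rw [this, mul_zero]
  set M : Matrix (Fin (m + 1)) (Fin (m + 1)) F := 1 + vecMulVec (ext0 (w₂ - w₁)) (ext0 ψ) with hM
  have hdet : M.det = 1 := by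
    rw [hM, vecMulVec_eq Unit, det_one_add_replicateCol_mul_replicateRow, ext0_dot_ext0, h2,
      add_zero]
  refine ⟨⟨M, hdet⟩, ?_, ?_⟩
  · show (e0 : Fin (m + 1) → F) ᵥ* M = e0
    rw [hM, vecMul_add, vecMul_one, vecMul_vecMulVec, e0_dot_ext0, zero_smul, add_zero]
  · apply ext0_injective
    have hrow : (e0 : Fin (m + 1) → F) ᵥ* M = e0 := by
      rw [hM, vecMul_add, vecMul_one, vecMul_vecMulVec, e0_dot_ext0, zero_smul, add_zero]
    rw [ext0_tau ⟨M, hdet⟩ hrow]
    show M *ᵥ ext0 w₁ = ext0 w₂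
    rw [hM, add_mulVec, one_mulVec, vecMulVec_mulVec, ext0_dot_ext0, h1, ext0_sub]
    simp

end Cfsg.Agent.Lib.Helper14.LSSL
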