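import Mathlib

set_option autoImplicit false
set_option linter.unusedSectionVars false
set_option linter.unusedVariables false

/-!
# A lower bound for an invariant set of characters of a finite abelian group (helper14)

If a non-empty finite set `X` of non-trivial characters of a finite abelian group `W` has a sum
function which is constant on the non-zero elements (for instance because `X` is invariant under
a group acting transitively on the non-zero elements), then `card W ≤ card X + 1`.
-/

namespace Cfsg.Agent.Lib.Helper14.Wt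

open Module

variable {W : Type*} [AddCommGroup W] [Fintype W] [DecidableEq W] {L : Type*} [Field L]

/-- the sum of a non-trivial character vanishes -/
lemma sum_char_eq_zero (η : W → L) (hmul : ∀ x y, η (x + y) = η x * η y) (w₀ : W)
    (hw₀ : η w₀ ≠ 1) : ∑ w, η w = 0 := by
  have h1 : ∑ w, η (w + w₀) = ∑ w, η w := Equiv.sum_comp (Equiv.addRight w₀) η
  have h2 : ∑ w, η (w + w₀) = (∑ w, η w) * η w₀ := by
    rw [Finset.sum_mul]
    exact Finset.sum_congr rfl (fun w _ => hmul w w₀)
  rw [h2] at h1
  have h3 : (∑ w, η w) * (η w₀ - 1) = 0 := by linear_combination h1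
  rcases mul_eq_zero.mp h3 with h | h
  · exact h
  · exact absurd (sub_eq_zero.mp h) hw₀

theorem card_le_card_add_one (X : Finset (W → L))
    (hchar : ∀ χ ∈ X, (∀ x y, χ (x + y) = χ x * χ y) ∧ χ 0 = 1)
    (hnt : ∀ χ ∈ X, ∃ w, χ w ≠ 1)
    (hne : X.Nonempty) (hW : ((Fintype.card W : ℕ) : L) ≠ 0)
    (hθ : ∀ w w' : W, w ≠ 0 → w' ≠ 0 → ∑ χ ∈ X, χ w = ∑ χ ∈ X, χ w') :
    Fintype.card W ≤ X.card + 1 := by
  classical
  by_cases hex : ∃ w₁ : W, w₁ ≠ 0
  swap
  · push Not at hex
    have : Fintype.card W ≤ 1 := Fintype.card_le_one_iff.mpr (fun a b => by rw [hex a, hex b])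
    omega
  obtain ⟨w₁, hw₁⟩ := hex
  obtain ⟨s, hs⟩ : ∃ s : L, s = ∑ χ ∈ X, χ w₁ := ⟨_, rfl⟩
  have hθs : ∀ w : W, w ≠ 0 → ∑ χ ∈ X, χ w = s := fun w hw => by rw [hs]; exact hθ w w₁ hw hw₁
  have hθ0 : ∑ χ ∈ X, χ 0 = (X.card : L) := by
    rw [Finset.sum_congr rfl (fun χ hχ => (hchar χ hχ).2)]
    simp
  have hinv : ∀ χ ∈ X, ∀ w, χ w * χ (-w) = 1 := by
    intro χ hχ w
    rw [← (hchar χ hχ).1, add_neg_cancel, (hchar χ hχ).2]
  by_cases hcase : (X.card : L) = s
  · -- constant sum function: contradiction by orthogonality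
    exfalso
    obtain ⟨χ₀, hχ₀⟩ := hne
    have hconst : ∀ w : W, ∑ χ ∈ X, χ w = s := by
      intro w
      by_cases hw : w = 0
      · rw [hw, hθ0, hcase]
      · exact hθs w hw
    obtain ⟨w₀, hw₀⟩ := hnt χ₀ hχ₀
    have hA : ∑ w : W, (∑ χ ∈ X, χ w) * χ₀ (-w) = 0 := by
      have h1 : ∑ w : W, (∑ χ ∈ X, χ w) * χ₀ (-w) = s * ∑ w : W, χ₀ (-w) := by
        rw [Finset.mul_sum]
        exact Finset.sum_congr rfl (fun w _ => by rw [hconst w])
      have h2 : ∑ w : W, χ₀ (-w) = ∑ w : W, χ₀ w := Equiv.sum_comp (Equiv.neg W) χ₀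
      rw [h1, h2, sum_char_eq_zero χ₀ (hchar χ₀ hχ₀).1 w₀ hw₀, mul_zero]
    have hB : ∑ w : W, (∑ χ ∈ X, χ w) * χ₀ (-w) = (Fintype.card W : L) := by
      have h1 : ∑ w : W, (∑ χ ∈ X, χ w) * χ₀ (-w) = ∑ χ ∈ X, ∑ w : W, χ w * χ₀ (-w) := by
        rw [Finset.sum_comm]
        exact Finset.sum_congr rfl (fun w _ => Finset.sum_mul _ _ _)
      rw [h1, Finset.sum_eq_single χ₀]
      · rw [Finset.sum_congr rfl (fun w _ => hinv χ₀ hχ₀ w)]
        simp
      · intro χ hχ hne'
        have hex2 : ∃ w, χ w ≠ χ₀ w := by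
          by_contra hall
          push Not at hall
          exact hne' (funext hall)
        obtain ⟨w₂, hw₂⟩ := hex2
        apply sum_char_eq_zero (fun w => χ w * χ₀ (-w)) _ w₂
        · intro h
          apply hw₂
          have h3 := hinv χ₀ hχ₀ w₂
          have h4 : χ₀ (-w₂) ≠ 0 := by
            intro h0
            rw [h0, mul_zero] at h3
            exact zero_ne_one h3
          have : χ w₂ * χ₀ (-w₂) = χ₀ w₂ * χ₀ (-w₂) := by rw [h3]; exact h
          exact mul_right_cancel₀ h4 this
        · intro x y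
          show χ (x + y) * χ₀ (-(x + y)) = χ x * χ₀ (-x) * (χ y * χ₀ (-y))
          rw [(hchar χ hχ).1, neg_add, (hchar χ₀ hχ₀).1]
          ring
      · intro h; exact absurd hχ₀ h
    rw [hA] at hB
    exact hW hB.symm
  · -- the delta function lies in the span
    set T : Finset (W → L) := insert (fun _ => (1 : L)) X with hT
    set S : Submodule L (W → L) := Submodule.span L (T : Set (W → L)) with hS
    have hmemX : ∀ χ ∈ X, χ ∈ S := fun χ hχ =>
      Submodule.subset_span (by rw [hT]; simp [hχ])
    have hmem1 : (fun _ => (1 : L)) ∈ S :=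
      Submodule.subset_span (by rw [hT]; simp)
    have hδ0 : (Pi.single 0 1 : W → L) ∈ S := by
      have h1 : (Pi.single 0 1 : W → L)
          = ((X.card : L) - s)⁻¹ • ((∑ χ ∈ X, χ) - s • (fun _ => (1 : L))) := by
        funext w
        have hne0 : (X.card : L) - s ≠ 0 := sub_ne_zero.mpr hcase
        simp only [Pi.smul_apply, Pi.sub_apply, Finset.sum_apply, smul_eq_mul, mul_one]
        by_cases hw : w = 0
        · rw [hw, hθ0, Pi.single_eq_same, inv_mul_cancel₀ hne0]
        · rw [hθs w hw, sub_self, mul_zero, Pi.single_eq_of_ne hw]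
      rw [h1]
      apply S.smul_mem
      apply S.sub_mem
      · exact S.sum_mem (fun χ hχ => hmemX χ hχ)
      · exact S.smul_mem _ hmem1
    -- translations preserve the span
    have htrans : ∀ (w : W) (f : W → L), f ∈ S → (fun x => f (x - w)) ∈ S := by
      intro w f hf
      have hmap : Submodule.map (LinearMap.funLeft L L (fun x : W => x - w)) S ≤ S := by
        rw [hS, Submodule.map_span_le]
        intro g hg
        rw [hT, Finset.coe_insert, Set.mem_insert_iff] at hg
        rcases hg with rfl | hg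
        · exact hmem1
        · have hg' : g ∈ X := hg
          have : LinearMap.funLeft L L (fun x : W => x - w) g = g (-w) • g := by
            funext x
            simp only [LinearMap.funLeft_apply, Pi.smul_apply, smul_eq_mul]
            rw [sub_eq_add_neg, (hchar g hg').1]
            ring
          rw [this]
          exact S.smul_mem _ (hmemX g hg')
      exact hmap ⟨f, hf, rfl⟩
    have hδ : ∀ w : W, (Pi.single w 1 : W → L) ∈ S := by
      intro w
      have : (Pi.single w 1 : W → L) = fun x => (Pi.single 0 1 : W → L) (x - w) := by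
        funext x
        by_cases hx : x = w
        · rw [hx, sub_self, Pi.single_eq_same, Pi.single_eq_same]
        · rw [Pi.single_eq_of_ne hx, Pi.single_eq_of_ne (sub_ne_zero.mpr hx)]
      rw [this]
      exact htrans w _ hδ0
    have htop : S = ⊤ := by
      rw [eq_top_iff]
      intro f _
      have : f = ∑ w, f w • (Pi.single w 1 : W → L) := by
        funext x
        simp [Finset.sum_apply, Pi.single_apply]
      rw [this]
      exact S.sum_mem (fun w _ => S.smul_mem _ (hδ w))
    have h1 : finrank L S ≤ T.card := by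
      rw [hS]
      exact finrank_span_finset_le_card T
    rw [htop, finrank_top, Module.finrank_fintype_fun_eq_card] at h1
    have h2 : T.card ≤ X.card + 1 := by
      rw [hT]
      exact Finset.card_insert_le _ _
    omega

end Cfsg.Agent.Lib.Helper14.Wt
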