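import Mathlib

set_option autoImplicit false

namespace Cfsg.Agent.Lib.Helper14.SzRep

open Module

section A

variable {K : Type*} [Field K] {V : Type*} [AddCommGroup V] [Module K V] [FiniteDimensional K V]

/-- the dimensions of an independent family of subspaces add up to at most the dimension -/
lemma finrank_biSup_eq {ι : Type*} {p : ι → Submodule K V} (hp : iSupIndep p) (s : Finset ι) :
    finrank K ↥(⨆ i ∈ s, p i) = ∑ i ∈ s, finrank K (p i) := by
  classical
  induction s using Finset.induction_on with
  | empty => simp
  | insert a s ha ih =>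
    rw [Finset.iSup_insert, Finset.sum_insert ha, ← ih]
    have hd : Disjoint (p a) (⨆ i ∈ s, p i) := by
      have := hp.disjoint_biSup (x := a) (y := (s : Set ι)) (by simpa using ha)
      simpa using this
    have h := Submodule.finrank_sup_add_finrank_inf_eq (p a) (⨆ i ∈ s, p i)
    rw [hd.eq_bot, finrank_bot, add_zero] at h
    exact h

lemma sum_finrank_le {ι : Type*} {p : ι → Submodule K V} (hp : iSupIndep p) (s : Finset ι) :
    ∑ i ∈ s, finrank K (p i) ≤ finrank K V := by
  rw [← finrank_biSup_eq hp s]
  exact Submodule.finrank_le _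

end A

section B

variable {K : Type*} [Field K] {A : Type*} [Ring A] [Algebra K A]

/-- conjugation by an element with a two-sided inverse, as a linear map -/
def adL (P P' : A) : Module.End K A :=
  (LinearMap.mulLeft K P).comp (LinearMap.mulRight K P')

lemma adL_apply (P P' X : A) : adL (K := K) P P' X = P * (X * P') := rfl

/-- independence of simultaneous "twisted-commutation eigenvectors" -/
theorem linearIndependent_of_twisted {ι C : Type*} (P P' : C → A) (T : ι → A)
    (β : C → ι → K) (γ : C → C → K)
    (hPP' : ∀ c, P c * P' c = 1) (hP'P : ∀ c, P' c * P c = 1)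
    (hT : ∀ i, T i ≠ 0)
    (h1 : ∀ c i, P c * T i = β c i • (T i * P c))
    (h2 : ∀ c c', P c * P c' = γ c c' • (P c' * P c))
    (h3 : ∀ i j, i ≠ j → ∃ c, β c i ≠ β c j) :
    LinearIndependent K T := by
  have h2' : ∀ c c', P' c * P' c' = γ c c' • (P' c' * P' c) := by
    intro c c'
    have e1 : P' c' * P' c * (P c * P c') * (P' c * P' c') = P' c * P' c' := by
      have : P' c' * P' c * (P c * P c') = 1 := by
        calc P' c' * P' c * (P c * P c') = P' c' * (P' c * P c) * P c' := by
              simp only [mul_assoc]
          _ = 1 := by rw [hP'P, mul_one, hP'P]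
      rw [this, one_mul]
    have e2 : P' c' * P' c * (P c' * P c) * (P' c * P' c') = P' c' * P' c := by
      have : P c' * P c * (P' c * P' c') = 1 := by
        calc P c' * P c * (P' c * P' c') = P c' * (P c * P' c) * P' c' := by
              simp only [mul_assoc]
          _ = 1 := by rw [hPP', mul_one, hPP']
      rw [mul_assoc, this, mul_one]
    rw [← e1, h2 c c', mul_smul_comm, smul_mul_assoc, e2]
  let f : C → Module.End K A := fun c => adL (P c) (P' c)
  have hcomm : ∀ c c', Commute (f c) (f c') := by
    intro c c'
    change f c * f c' = f c' * f c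
    apply LinearMap.ext
    intro X
    change P c * ((P c' * (X * P' c')) * P' c) = P c' * ((P c * (X * P' c)) * P' c')
    have l : P c * ((P c' * (X * P' c')) * P' c) = (P c * P c') * X * (P' c' * P' c) := by
      simp only [mul_assoc]
    have r : P c' * ((P c * (X * P' c)) * P' c') = (P c' * P c) * X * (P' c * P' c') := by
      simp only [mul_assoc]
    rw [l, r, h2 c c', h2' c c', smul_mul_assoc, smul_mul_assoc, mul_smul_comm]
  have hmaps : ∀ i j φ, Set.MapsTo (f i) ((f j).maxGenEigenspace φ) ((f j).maxGenEigenspace φ) :=
    fun i j φ => Module.End.mapsTo_maxGenEigenspace_of_comm (hcomm j i) φ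
  have hind := Module.End.independent_iInf_maxGenEigenspace_of_forall_mapsTo f hmaps
  have hinj : Function.Injective (fun (i : ι) (c : C) => β c i) := by
    intro i j hij
    by_contra hne
    obtain ⟨c, hc⟩ := h3 i j hne
    exact hc (congrFun hij c)
  have hind' := hind.comp hinj
  refine iSupIndep.linearIndependent _ hind' (v := T) ?_ hT
  intro i
  simp only [Function.comp, Submodule.mem_iInf]
  intro c
  rw [Module.End.mem_maxGenEigenspace]
  refine ⟨1, ?_⟩
  rw [pow_one, LinearMap.sub_apply, LinearMap.smul_apply, Module.End.one_apply, sub_eq_zero]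
  change P c * (T i * P' c) = β c i • T i
  rw [← mul_assoc, h1, smul_mul_assoc, mul_assoc, hPP', mul_one]

end B

end Cfsg.Agent.Lib.Helper14.SzRep
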