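import Mathlib
import Cfsg.Agent.Lib.Helper14.SzRepGen

set_option autoImplicit false
set_option linter.unusedSectionVars false
set_option linter.unusedVariables false

/-!
# Weight spaces of a commuting family of semisimple operators in a representation over an
algebraically closed field, and the resulting lower bounds for the degree (helper14)
-/

namespace Cfsg.Agent.Lib.Helper14.Wt

open Module Polynomial Cfsg.Agent.Lib.Helper14.SzRep

section general

variable {G : Type*} [Group G] {L : Type*} [Field L]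
  {V : Type*} [AddCommGroup V] [Module L V]
  (ρ : G →* (V →ₗ[L] V)) {ι : Type*} (a : ι → G)

/-- simultaneous eigenspace of the family `ρ (a i)` -/
def E (χ : ι → L) : Submodule L V := ⨅ i, Module.End.eigenspace (ρ (a i)) (χ i)

lemma mem_E (χ : ι → L) (v : V) : v ∈ E ρ a χ ↔ ∀ i, ρ (a i) v = χ i • v := by
  simp [E]

lemma rho_injective (g : G) : Function.Injective (ρ g) := by
  intro v w h
  have : ρ g⁻¹ (ρ g v) = ρ g⁻¹ (ρ g w) := by rw [h]
  have e : ∀ x, ρ g⁻¹ (ρ g x) = x := by
    intro x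
    have : ρ g⁻¹ (ρ g x) = (ρ g⁻¹ * ρ g) x := rfl
    rw [this, ← map_mul, inv_mul_cancel, map_one, Module.End.one_apply]
  rwa [e, e] at this

/-- elements normalising the family permute the weight spaces -/
lemma maps_E (g : G) (τ : ι → ι) (hg : ∀ i, a i * g = g * a (τ i)) {χ : ι → L} {v : V}
    (hv : v ∈ E ρ a χ) : ρ g v ∈ E ρ a (χ ∘ τ) := by
  rw [mem_E] at hv ⊢
  intro i
  have h3 : ρ (a i) (ρ g v) = (ρ (a i) * ρ g) v := rfl
  rw [h3, ← map_mul, hg, map_mul, Module.End.mul_apply, hv, map_smul]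
  rfl

lemma E_comp_ne_bot (g : G) (τ : ι → ι) (hg : ∀ i, a i * g = g * a (τ i)) {χ : ι → L}
    (h : E ρ a χ ≠ ⊥) : E ρ a (χ ∘ τ) ≠ ⊥ := by
  obtain ⟨v, hv, hv0⟩ := Submodule.exists_mem_ne_zero_of_ne_bot h
  intro hbot
  have h1 := maps_E ρ a g τ hg hv
  rw [hbot, Submodule.mem_bot] at h1
  apply hv0
  apply rho_injective ρ g
  rw [h1, map_zero]

/-- weights of a homomorphic family are characters -/
lemma chi_mul {A : Type*} [AddGroup A] (a : A → G) (hadd : ∀ x y, a (x + y) = a x * a y)
    {χ : A → L} (hχ : E ρ a χ ≠ ⊥) :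
    (∀ x y, χ (x + y) = χ x * χ y) ∧ χ 0 = 1 := by
  obtain ⟨v, hv, hv0⟩ := Submodule.exists_mem_ne_zero_of_ne_bot hχ
  rw [mem_E] at hv
  have h0 : a 0 = 1 := by
    have := hadd 0 0
    rw [add_zero] at this
    exact (mul_eq_left (a := a 0) (b := a 0)).mp this.symm
  constructor
  · intro x y
    have h1 := hv (x + y)
    rw [hadd, map_mul, Module.End.mul_apply, hv y, map_smul, hv x, smul_smul] at h1
    have : (χ y * χ x - χ (x + y)) • v = 0 := by
      rw [sub_smul, h1, sub_self]
    rcases smul_eq_zero.mp this with h | h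
    · linear_combination -h
    · exact absurd h hv0
  · have h1 := hv 0
    rw [h0, map_one, Module.End.one_apply] at h1
    have : (1 - χ 0) • v = 0 := by
      rw [sub_smul, one_smul, ← h1, sub_self]
    rcases smul_eq_zero.mp this with h | h
    · linear_combination -h
    · exact absurd h hv0

variable [IsAlgClosed L] [FiniteDimensional L V]
  (hcomm : ∀ i j, a i * a j = a j * a i) {N : ℕ} (hN : (N : L) ≠ 0) (hpow : ∀ i, a i ^ N = 1)

include hN hpow in
lemma semis (i : ι) : Module.End.IsSemisimple (ρ (a i)) := by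
  apply Module.End.isSemisimple_of_squarefree_aeval_eq_zero (p := X ^ N - C 1)
  · exact (Polynomial.separable_X_pow_sub_C (1 : L) hN one_ne_zero).squarefree
  · simp only [map_sub, map_pow, aeval_X, aeval_C, map_one]
    rw [← map_pow, hpow, map_one, sub_self]

include hN hpow in
lemma E_eq (χ : ι → L) :
    E ρ a χ = ⨅ i, Module.End.maxGenEigenspace (ρ (a i)) (χ i) := by
  unfold E
  congr 1
  funext i
  exact ((semis ρ a hN hpow i).isFinitelySemisimple.maxGenEigenspace_eq_eigenspace (χ i)).symm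

include hcomm in
lemma commute_rho (i j : ι) : Commute (ρ (a i)) (ρ (a j)) := by
  change ρ (a i) * ρ (a j) = ρ (a j) * ρ (a i)
  rw [← map_mul, ← map_mul, hcomm]

include hcomm hN hpow in
lemma indepE : iSupIndep (E ρ a) := by
  have h := Module.End.independent_iInf_maxGenEigenspace_of_forall_mapsTo
    (fun i : ι => ρ (a i))
    (fun i j φ => Module.End.mapsTo_maxGenEigenspace_of_comm (commute_rho ρ a hcomm j i) φ)
  have : E ρ a = fun χ : ι → L => ⨅ i, Module.End.maxGenEigenspace (ρ (a i)) (χ i) := by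
    funext χ
    exact E_eq ρ a hN hpow χ
  rw [this]
  exact h

include hcomm hN hpow in
lemma supE : ⨆ χ : ι → L, E ρ a χ = ⊤ := by
  have h := Module.End.iSup_iInf_maxGenEigenspace_eq_top_of_iSup_maxGenEigenspace_eq_top_of_commute
    (fun i : ι => ρ (a i))
    (fun i j _ => commute_rho ρ a hcomm i j)
    (fun i => Module.End.iSup_maxGenEigenspace_eq_top _)
  have : E ρ a = fun χ : ι → L => ⨅ i, Module.End.maxGenEigenspace (ρ (a i)) (χ i) := by
    funext χ
    exact E_eq ρ a hN hpow χ
  rw [this]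
  exact h

include hcomm hN hpow in
lemma exists_chi (i₀ : ι) (hfaith : ρ (a i₀) ≠ 1) : ∃ χ : ι → L, E ρ a χ ≠ ⊥ ∧ χ i₀ ≠ 1 := by
  by_contra hcon
  push Not at hcon
  have hle : ∀ χ : ι → L, E ρ a χ ≤ Module.End.eigenspace (ρ (a i₀)) 1 := by
    intro χ
    by_cases hb : E ρ a χ = ⊥
    · rw [hb]; exact bot_le
    · have h1 := hcon χ hb
      have : E ρ a χ ≤ Module.End.eigenspace (ρ (a i₀)) (χ i₀) := iInf_le _ i₀
      rwa [h1] at this
  have htop : (⊤ : Submodule L V) ≤ Module.End.eigenspace (ρ (a i₀)) 1 := by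
    rw [← supE ρ a hcomm hN hpow]
    exact iSup_le hle
  apply hfaith
  apply LinearMap.ext
  intro v
  have := htop (Submodule.mem_top : v ∈ ⊤)
  rw [Module.End.mem_eigenspace_iff, one_smul] at this
  rw [this]
  rfl

include hcomm hN hpow in
/-- the number of weights is at most the degree -/
lemma card_le (S : Finset (ι → L)) (hS : ∀ χ ∈ S, E ρ a χ ≠ ⊥) : S.card ≤ finrank L V := by
  have h1 := sum_finrank_le (indepE ρ a hcomm hN hpow) S
  have h2 : ∑ χ ∈ S, 1 ≤ ∑ χ ∈ S, finrank L (E ρ a χ) := by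
    apply Finset.sum_le_sum
    intro χ hχ
    have : 0 < finrank L (E ρ a χ) := by
      rw [Module.finrank_pos_iff]
      exact (Submodule.nontrivial_iff_ne_bot).mpr (hS χ hχ)
    exact this
  rw [Finset.sum_const, smul_eq_mul, mul_one] at h2
  exact h2.trans h1

end general

end Cfsg.Agent.Lib.Helper14.Wt
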