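import Mathlib
import Cfsg.Agent.Lib.Helper14.WeightBound

set_option autoImplicit false
set_option linter.unusedSectionVars false
set_option linter.unusedVariables false

namespace Cfsg.Agent.Lib.Helper14.Wt

open Module Polynomial

section reduce

variable {G : Type*} [Group G] {K : Type*} [Field K] {d : ℕ} (ρ : G →* GL (Fin d) K)

/-- the representation over the algebraic closure attached to a matrix representation -/
noncomputable def extRep : G →* ((Fin d → AlgebraicClosure K) →ₗ[AlgebraicClosure K]
    (Fin d → AlgebraicClosure K)) :=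
  (MonoidHomClass.toMonoidHom (Matrix.toLinAlgEquiv' :
      Matrix (Fin d) (Fin d) (AlgebraicClosure K) ≃ₐ[AlgebraicClosure K] _)).comp
    ((MonoidHomClass.toMonoidHom ((algebraMap K (AlgebraicClosure K)).mapMatrix :
      Matrix (Fin d) (Fin d) K →+* Matrix (Fin d) (Fin d) (AlgebraicClosure K))).comp
      ((Units.coeHom _).comp ρ))

lemma extRep_apply (g : G) :
    extRep ρ g = Matrix.toLin' (((ρ g : GL (Fin d) K) : Matrix (Fin d) (Fin d) K).map
      (algebraMap K (AlgebraicClosure K))) := rfl

lemma extRep_ne_one (g : G) (h : ρ g ≠ 1) : extRep ρ g ≠ 1 := by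
  intro h1
  apply h
  rw [extRep_apply] at h1
  have h2 : (((ρ g : GL (Fin d) K) : Matrix (Fin d) (Fin d) K).map
      (algebraMap K (AlgebraicClosure K))) = 1 := by
    apply Matrix.toLin'.injective
    rw [h1, Matrix.toLin'_one]
    rfl
  apply Units.ext
  have h3 : (1 : Matrix (Fin d) (Fin d) (AlgebraicClosure K))
      = (1 : Matrix (Fin d) (Fin d) K).map (algebraMap K (AlgebraicClosure K)) := by
    rw [Matrix.map_one _ (map_zero _) (map_one _)]
  rw [h3] at h2
  exact Matrix.map_injective (algebraMap K (AlgebraicClosure K)).injective h2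

lemma finrank_ext : finrank (AlgebraicClosure K) (Fin d → AlgebraicClosure K) = d := by
  simp

/-- a prime different from the characteristic is invertible in the algebraic closure -/
lemma prime_ne_zero (p : ℕ) (hp : p.Prime) (hK : ringChar K ≠ p) :
    ((p : ℕ) : AlgebraicClosure K) ≠ 0 := by
  intro h
  have h1 : ((p : ℕ) : K) = 0 := by
    apply (algebraMap K (AlgebraicClosure K)).injective
    rw [map_natCast, h, map_zero]
  have h2 : ringChar K ∣ p := ringChar.dvd h1
  rcases (Nat.dvd_prime hp).mp h2 with h3 | h3
  · have := CharP.ringChar_ne_one (R := K)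
    exact this h3
  · exact hK h3

end reduce

end Cfsg.Agent.Lib.Helper14.Wt
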