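import Mathlib
import Cfsg.Agent.Lib.Helper14.LSSL1
import Cfsg.Agent.Lib.Helper14.WeightReduce
import Cfsg.Agent.Lib.Helper14.WeightOrbit

set_option autoImplicit false
set_option linter.unusedSectionVars false
set_option linter.unusedVariables false
set_option linter.style.haveILetI false

namespace Cfsg.Agent.Lib.Helper14.LSSL

open Matrix Module Cfsg.Agent.Lib.Helper14.Wt

section outside

variable {F : Type*} [Field F] {W : Type*} [AddCommGroup W] [Module F W]

/-- a vector space is not the union of two proper subspaces -/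
lemma exists_not_mem_two (U₁ U₂ : Submodule F W) (h₁ : U₁ ≠ ⊤) (h₂ : U₂ ≠ ⊤) :
    ∃ u, u ∉ U₁ ∧ u ∉ U₂ := by
  obtain ⟨x, -, hx⟩ := SetLike.exists_of_lt (lt_top_iff_ne_top.mpr h₁)
  obtain ⟨y, -, hy⟩ := SetLike.exists_of_lt (lt_top_iff_ne_top.mpr h₂)
  by_cases hx2 : x ∈ U₂
  · by_cases hy1 : y ∈ U₁
    · refine ⟨x + y, ?_, ?_⟩
      · intro h
        exact hx (by simpa using U₁.sub_mem h hy1)
      · intro h
        exact hy (by simpa using U₂.sub_mem h hx2)
    · exact ⟨y, hy1, hy⟩
  · exact ⟨x, hx, hx2⟩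

lemma exists_outside [FiniteDimensional F W] (hdim : 2 ≤ finrank F W) (w w' : W) :
    ∃ u, u ∉ Submodule.span F {w} ∧ u ∉ Submodule.span F {w'} := by
  have key : ∀ v : W, Submodule.span F {v} ≠ ⊤ := by
    intro v h
    have h1 : finrank F (Submodule.span F {v}) ≤ 1 := by
      have := finrank_span_le_card (R := F) ({v} : Set W)
      simpa using this
    rw [h, finrank_top] at h1
    omega
  exact exists_not_mem_two _ _ (key w) (key w')

end outside

section main

variable {F : Type*} [Field F] [Fintype F] {q : ℕ} (hq : Fintype.card F = q) {m : ℕ}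
  {L : Type*} [Field L] [IsAlgClosed L]
  {V : Type*} [AddCommGroup V] [Module L V] [FiniteDimensional L V]
  (ρ : Matrix.SpecialLinearGroup (Fin (m + 1)) F →* (V →ₗ[L] V))

/-- the sum function of a finite set of functions -/
def theta (X : Finset ((Fin m → F) → L)) (w : Fin m → F) : L := ∑ χ ∈ X, χ w

/-- invariance of the sum function of the set of weights under the normaliser -/
lemma theta_move (X : Finset ((Fin m → F) → L))
    (hX : ∀ χ, χ ∈ X ↔ (E ρ a χ ≠ ⊥ ∧ ∃ w, χ w ≠ 1))
    (g : Matrix.SpecialLinearGroup (Fin (m + 1)) F)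
    (hrow : (e0 : Fin (m + 1) → F) ᵥ* g.1 = e0) (w : Fin m → F) :
    theta X (tau g w) = theta X w := by
  classical
  set Φ : ((Fin m → F) → L) → ((Fin m → F) → L) := fun χ => χ ∘ tau g with hΦ
  have hmaps : ∀ χ ∈ X, Φ χ ∈ X := by
    intro χ hχ
    rw [hX] at hχ ⊢
    refine ⟨E_comp_ne_bot ρ a g⁻¹ (tau g) (a_conj g hrow) hχ.1, ?_⟩
    obtain ⟨w₀, hw₀⟩ := hχ.2
    refine ⟨tau g⁻¹ w₀, ?_⟩
    show χ (tau g (tau g⁻¹ w₀)) ≠ 1
    rw [tau_tau_inv g hrow]
    exact hw₀
  have hinj : Set.InjOn Φ (X : Set ((Fin m → F) → L)) := by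
    intro χ _ χ' _ h
    funext w
    have := congrFun h (tau g⁻¹ w)
    simp only [hΦ, Function.comp_apply, tau_tau_inv g hrow] at this
    exact this
  have himg : X.image Φ = X := by
    apply Finset.eq_of_subset_of_card_le
    · intro χ hχ
      obtain ⟨χ', hχ', rfl⟩ := Finset.mem_image.mp hχ
      exact hmaps χ' hχ'
    · rw [Finset.card_image_of_injOn hinj]
  unfold theta
  calc ∑ χ ∈ X, χ (tau g w) = ∑ χ ∈ X, (Φ χ) w := rfl
    _ = ∑ χ ∈ X.image Φ, χ w := (Finset.sum_image (f := fun χ => χ w) hinj).symm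
    _ = ∑ χ ∈ X, χ w := by rw [himg]

/-- the sum function is constant on the non-zero vectors -/
lemma theta_const (hm : 2 ≤ m) (X : Finset ((Fin m → F) → L))
    (hX : ∀ χ, χ ∈ X ↔ (E ρ a χ ≠ ⊥ ∧ ∃ w, χ w ≠ 1))
    (w w' : Fin m → F) (hw : w ≠ 0) (hw' : w' ≠ 0) : theta X w = theta X w' := by
  have step : ∀ w₁ w₂ : Fin m → F, w₁ ∉ Submodule.span F {w₂ - w₁} →
      theta X w₂ = theta X w₁ := by
    intro w₁ w₂ h
    obtain ⟨g, hrow, hg⟩ := exists_move w₁ w₂ h
    rw [← hg]
    exact theta_move ρ X hX g hrow w₁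
  obtain ⟨u, hu1, hu2⟩ := exists_outside (F := F) (W := Fin m → F) (by simpa using hm) w w'
  have s1 : theta X u = theta X w := by
    apply step
    intro h
    obtain ⟨c, hc⟩ := Submodule.mem_span_singleton.mp h
    apply hu1
    rw [Submodule.mem_span_singleton]
    have hc0 : c ≠ 0 := by
      rintro rfl
      rw [zero_smul] at hc
      exact hw hc.symm
    refine ⟨(1 + c) * c⁻¹, ?_⟩
    have : c • u = (1 + c) • w := by
      rw [smul_sub] at hc
      have h := eq_add_of_sub_eq hc
      rw [h]; module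
    rw [mul_comm, mul_smul, ← this, smul_smul, inv_mul_cancel₀ hc0, one_smul]
  have s2 : theta X w' = theta X u := by
    apply step
    intro h
    obtain ⟨c, hc⟩ := Submodule.mem_span_singleton.mp h
    apply hu2
    rw [Submodule.mem_span_singleton]
    have hc1 : 1 + c ≠ 0 := by
      intro h0
      have : c • w' = 0 := by
        rw [smul_sub] at hc
        have e : c • w' = (1 + c) • u := by
          have h := eq_add_of_sub_eq hc
          rw [h]; module
        rw [e, h0, zero_smul]
      rcases smul_eq_zero.mp this with h1 | h1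
      · rw [h1, add_zero] at h0
        exact one_ne_zero h0
      · exact hw' h1
    refine ⟨(1 + c)⁻¹ * c, ?_⟩
    have : c • w' = (1 + c) • u := by
      rw [smul_sub] at hc
      have h := eq_add_of_sub_eq hc
      rw [h]; module
    rw [mul_smul, this, smul_smul, inv_mul_cancel₀ hc1, one_smul]
  rw [← s1, ← s2]

end main

end Cfsg.Agent.Lib.Helper14.LSSL
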