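import Mathlib
import Cfsg.Agent.Lib.Helper14.LSSL2

set_option autoImplicit false
set_option linter.unusedSectionVars false
set_option linter.unusedVariables false
set_option linter.style.haveILetI false

namespace Cfsg.Agent.Lib.Helper14.LSSL

open Matrix Module Cfsg.Agent.Lib.Helper14.Wt

section main

variable {F : Type*} [Field F] [Fintype F] {q : ℕ} (hq : Fintype.card F = q) {m : ℕ}

include hq in
/-- the bound over an algebraically closed field -/
theorem bound_closed {L : Type*} [Field L] [IsAlgClosed L]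
    {V : Type*} [AddCommGroup V] [Module L V] [FiniteDimensional L V]
    (hm : 2 ≤ m) (p : ℕ) [Fact p.Prime] [CharP F p] (hp : ((p : ℕ) : L) ≠ 0)
    (ρ : Matrix.SpecialLinearGroup (Fin (m + 1)) F →* (V →ₗ[L] V))
    (hfaith : ∀ w : Fin m → F, w ≠ 0 → ρ (a w) ≠ 1) : q ^ m - 1 ≤ finrank L V := by
  classical
  set 𝒳 : Set ((Fin m → F) → L) := {χ | E ρ a χ ≠ ⊥ ∧ ∃ w, χ w ≠ 1} with h𝒳
  have hcl := card_le ρ a a_comm hp (a_pow_char p)
  have hfin : 𝒳.Finite := by
    by_contra hinf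
    obtain ⟨t, ht, hcard⟩ := (Set.not_finite.mp hinf).exists_subset_card_eq (finrank L V + 1)
    have := hcl t (fun χ hχ => (ht hχ).1)
    omega
  set X : Finset ((Fin m → F) → L) := hfin.toFinset with hXdef
  have hX : ∀ χ, χ ∈ X ↔ (E ρ a χ ≠ ⊥ ∧ ∃ w, χ w ≠ 1) := by
    intro χ
    rw [hXdef, Set.Finite.mem_toFinset, h𝒳]
    rfl
  -- a non-zero vector
  obtain ⟨w₀, hw₀⟩ : ∃ w₀ : Fin m → F, w₀ ≠ 0 := by
    refine ⟨Pi.single ⟨0, by omega⟩ 1, ?_⟩
    intro h
    have := congrFun h ⟨0, by omega⟩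
    simp at this
  obtain ⟨χ₀, hχ₀, hχ₀1⟩ := exists_chi ρ a a_comm hp (a_pow_char p) w₀ (hfaith w₀ hw₀)
  have hne : X.Nonempty := ⟨χ₀, (hX χ₀).mpr ⟨hχ₀, w₀, hχ₀1⟩⟩
  have hchar : ∀ χ ∈ X, (∀ x y, χ (x + y) = χ x * χ y) ∧ χ 0 = 1 := by
    intro χ hχ
    exact chi_mul ρ a a_add ((hX χ).mp hχ).1
  have hnt : ∀ χ ∈ X, ∃ w, χ w ≠ 1 := fun χ hχ => ((hX χ).mp hχ).2
  have hcardW : Fintype.card (Fin m → F) = q ^ m := by
    rw [Fintype.card_fun, Fintype.card_fin, hq]
  have hW : ((Fintype.card (Fin m → F) : ℕ) : L) ≠ 0 := by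
    rw [hcardW]
    obtain ⟨j, -, hj⟩ := FiniteField.card F p
    rw [hq] at hj
    rw [hj]
    push_cast
    exact pow_ne_zero _ (pow_ne_zero _ hp)
  have hθ : ∀ w w' : Fin m → F, w ≠ 0 → w' ≠ 0 → ∑ χ ∈ X, χ w = ∑ χ ∈ X, χ w' :=
    fun w w' hw hw' => theta_const ρ hm X hX w w' hw hw'
  have h1 := card_le_card_add_one X hchar hnt hne hW hθ
  have h2 := hcl X (fun χ hχ => ((hX χ).mp hχ).1)
  rw [hcardW] at h1
  omega

include hq in
/-- the Landazuri–Seitz type bound for `SL_{m+1}(q)`, `m ≥ 2`, over any field of characteristic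
different from the defining one -/
theorem bound_field (hm : 2 ≤ m) {K : Type*} [Field K] (hK : ringChar K ≠ ringChar F) {d : ℕ}
    (ρ : Matrix.SpecialLinearGroup (Fin (m + 1)) F →* GL (Fin d) K)
    (hker : ρ.ker ≤ Subgroup.center (Matrix.SpecialLinearGroup (Fin (m + 1)) F)) :
    q ^ m - 1 ≤ d := by
  set p := ringChar F with hpdef
  haveI : CharP F p := ringChar.charP F
  haveI : Fact p.Prime := ⟨CharP.char_is_prime F p⟩
  have hp : ((p : ℕ) : AlgebraicClosure K) ≠ 0 := prime_ne_zero p Fact.out hK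
  have h := bound_closed hq hm p hp (extRep ρ) (fun w hw => by
    apply extRep_ne_one
    intro h1
    exact a_not_mem_center w hw (hker (MonoidHom.mem_ker.mpr h1)))
  rwa [finrank_ext] at h

end main

end Cfsg.Agent.Lib.Helper14.LSSL
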