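import Mathlib
import Cfsg.Agent.Lib.Helper14.LSSL1

set_option autoImplicit false
set_option linter.unusedSectionVars false
set_option linter.unusedVariables false

/-!
# An abelian unipotent subgroup of `Sp_{2(m+1)}` and elements normalising it (helper14)
-/

namespace Cfsg.Agent.Lib.Helper14.LSSp

open Matrix Module Cfsg.Agent.Lib.Helper14.LSSL

variable {F : Type*} [Field F] {m : ℕ}

lemma ext0_smul (c : F) (w : Fin m → F) : ext0 (c • w) = c • ext0 w := by
  funext i
  refine Fin.cases ?_ ?_ i <;> simp [ext0]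

lemma ext0_dot_e0 (w : Fin m → F) : ext0 w ⬝ᵥ (e0 : Fin (m + 1) → F) = 0 := by
  rw [dotProduct_comm, e0_dot_ext0]

lemma e0_dot_e0 : (e0 : Fin (m + 1) → F) ⬝ᵥ e0 = 1 := by
  rw [e0_dot]; simp [e0]

/-- the symmetric matrix with parameters `(t, l)` -/
def symS (x : F × (Fin m → F)) : Matrix (Fin (m + 1)) (Fin (m + 1)) F :=
  x.1 • vecMulVec e0 e0 + vecMulVec e0 (ext0 x.2) + vecMulVec (ext0 x.2) e0

lemma symS_transpose (x : F × (Fin m → F)) : (symS x)ᵀ = symS x := by
  simp only [symS, transpose_add, transpose_smul, transpose_vecMulVec]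
  abel

lemma symS_add (x y : F × (Fin m → F)) : symS (x + y) = symS x + symS y := by
  simp only [symS, Prod.fst_add, Prod.snd_add, ext0_add, add_smul, vecMulVec_add, add_vecMulVec]
  abel

lemma symS_zero : symS (0 : F × (Fin m → F)) = 0 := by
  simp [symS, ext0_zero]

lemma symS_injective : Function.Injective (symS : F × (Fin m → F) → _) := by
  intro x y h
  have h00 := congrFun (congrFun h 0) 0
  simp [symS, vecMulVec_apply, e0] at h00
  apply Prod.ext h00
  funext j
  have h0j := congrFun (congrFun h 0) j.succ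
  simpa [symS, vecMulVec_apply, e0, Fin.succ_ne_zero] using h0j

/-- upper unitriangular block matrix -/
def uM (S : Matrix (Fin (m + 1)) (Fin (m + 1)) F) :
    Matrix (Fin (m + 1) ⊕ Fin (m + 1)) (Fin (m + 1) ⊕ Fin (m + 1)) F :=
  fromBlocks 1 S 0 1

lemma uM_mem (S : Matrix (Fin (m + 1)) (Fin (m + 1)) F) (hS : Sᵀ = S) :
    uM S ∈ symplecticGroup (Fin (m + 1)) F := by
  rw [uM, SymplecticGroup.fromBlocks_mem_iff]
  refine ⟨by simp, by simp [hS], by simp⟩

lemma uM_mul (S S' : Matrix (Fin (m + 1)) (Fin (m + 1)) F) : uM S * uM S' = uM (S + S') := by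
  simp only [uM, fromBlocks_multiply, mul_one, one_mul, mul_zero, zero_mul, add_zero, zero_add]
  rw [add_comm S' S]

/-- the elements of the abelian subgroup -/
def a (x : F × (Fin m → F)) : ↥(symplecticGroup (Fin (m + 1)) F) :=
  ⟨uM (symS x), uM_mem _ (symS_transpose x)⟩

lemma a_add (x y : F × (Fin m → F)) : a (x + y) = a x * a y := by
  apply Subtype.ext
  show uM (symS (x + y)) = uM (symS x) * uM (symS y)
  rw [uM_mul, symS_add]

lemma a_zero : a (0 : F × (Fin m → F)) = 1 := by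
  apply Subtype.ext
  show uM (symS 0) = 1
  rw [symS_zero, uM, fromBlocks_one]

lemma a_comm (x y : F × (Fin m → F)) : a x * a y = a y * a x := by
  rw [← a_add, ← a_add, add_comm x y]

lemma a_pow (x : F × (Fin m → F)) (k : ℕ) : a x ^ k = a (k • x) := by
  induction k with
  | zero => rw [pow_zero, zero_smul, a_zero]
  | succ k ih => rw [pow_succ, ih, ← a_add, succ_nsmul]

lemma a_pow_char (p : ℕ) [CharP F p] (x : F × (Fin m → F)) : a x ^ p = 1 := by
  rw [a_pow]
  have : p • x = 0 := by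
    apply Prod.ext
    · simp
    · funext j; simp
  rw [this, a_zero]

/-! ### Levi elements -/

/-- block diagonal matrix -/
def hM (D D' : Matrix (Fin (m + 1)) (Fin (m + 1)) F) :
    Matrix (Fin (m + 1) ⊕ Fin (m + 1)) (Fin (m + 1) ⊕ Fin (m + 1)) F :=
  fromBlocks D 0 0 D'ᵀ

lemma hM_mem (D D' : Matrix (Fin (m + 1)) (Fin (m + 1)) F) (h : D' * D = 1) :
    hM D D' ∈ symplecticGroup (Fin (m + 1)) F := by
  rw [hM, SymplecticGroup.fromBlocks_mem_iff]
  refine ⟨by simp, by simp, ?_⟩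
  rw [← transpose_mul, h]
  simp

lemma hM_uM (D D' S S' : Matrix (Fin (m + 1)) (Fin (m + 1)) F) (h : D' * D = 1)
    (hS : S' = D * S * Dᵀ) : hM D D' * uM S = uM S' * hM D D' := by
  simp only [hM, uM, fromBlocks_multiply, mul_one, one_mul, mul_zero, zero_mul, add_zero, zero_add]
  congr 1
  rw [hS, Matrix.mul_assoc, ← transpose_mul, h, transpose_one, Matrix.mul_one]

lemma conj_vecMulVec (D : Matrix (Fin (m + 1)) (Fin (m + 1)) F) (x y : Fin (m + 1) → F) :
    D * vecMulVec x y * Dᵀ = vecMulVec (D *ᵥ x) (D *ᵥ y) := by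
  rw [mul_vecMulVec, vecMulVec_mul, vecMul_transpose]

/-- the torus-type matrix -/
def D1 (c : F) : Matrix (Fin (m + 1)) (Fin (m + 1)) F := 1 + (c - 1) • vecMulVec e0 e0

/-- the transvection-type matrix -/
def D2 (l : Fin m → F) : Matrix (Fin (m + 1)) (Fin (m + 1)) F := 1 + vecMulVec e0 (ext0 l)

lemma D1_mul (c : F) (hc : c ≠ 0) : (D1 c⁻¹ : Matrix (Fin (m + 1)) (Fin (m + 1)) F) * D1 c = 1 := by
  simp only [D1, mul_add, add_mul, mul_one, one_mul, smul_mul_smul_comm, vecMulVec_mul_vecMulVec,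
    e0_dot_e0, one_smul]
  have : (1 : Matrix (Fin (m + 1)) (Fin (m + 1)) F) + (c⁻¹ - 1) • vecMulVec e0 e0
      + ((c - 1) • vecMulVec e0 e0 + ((c⁻¹ - 1) * (c - 1)) • vecMulVec e0 e0)
      = 1 + ((c - 1) + (c⁻¹ - 1) + (c⁻¹ - 1) * (c - 1)) • vecMulVec e0 e0 := by
    rw [add_smul, add_smul]; abel
  rw [this]
  have h0 : (c - 1) + (c⁻¹ - 1) + (c⁻¹ - 1) * (c - 1) = 0 := by
    field_simp
    ring
  rw [h0, zero_smul, add_zero]

lemma D2_mul (l : Fin m → F) : (D2 (-l) : Matrix (Fin (m + 1)) (Fin (m + 1)) F) * D2 l = 1 := by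
  simp only [D2, mul_add, add_mul, mul_one, one_mul, vecMulVec_mul_vecMulVec, ext0_dot_e0,
    zero_smul, vecMulVec_zero, add_zero]
  have : ext0 (-l) = -ext0 l := by
    funext i
    refine Fin.cases ?_ ?_ i <;> simp [ext0]
  rw [this]
  ext i j
  simp [vecMulVec_apply]

lemma D1_e0 (c : F) : (D1 c : Matrix (Fin (m + 1)) (Fin (m + 1)) F) *ᵥ e0 = c • e0 := by
  rw [D1, add_mulVec, one_mulVec, smul_mulVec, vecMulVec_mulVec, e0_dot_e0]
  simp only [MulOpposite.op_one, one_smul]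
  module

lemma D1_ext0 (c : F) (l : Fin m → F) :
    (D1 c : Matrix (Fin (m + 1)) (Fin (m + 1)) F) *ᵥ ext0 l = ext0 l := by
  rw [D1, add_mulVec, one_mulVec, smul_mulVec, vecMulVec_mulVec, e0_dot_ext0]
  simp

lemma D2_e0 (l' : Fin m → F) : (D2 l' : Matrix (Fin (m + 1)) (Fin (m + 1)) F) *ᵥ e0 = e0 := by
  rw [D2, add_mulVec, one_mulVec, vecMulVec_mulVec, ext0_dot_e0]
  simp

lemma D2_ext0 (l' l : Fin m → F) :
    (D2 l' : Matrix (Fin (m + 1)) (Fin (m + 1)) F) *ᵥ ext0 l = ext0 l + (l' ⬝ᵥ l) • e0 := by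
  rw [D2, add_mulVec, one_mulVec, vecMulVec_mulVec, ext0_dot_ext0]
  simp

/-- conjugation of the parameters by the torus element -/
lemma D1_symS (c : F) (x : F × (Fin m → F)) :
    D1 c * symS x * (D1 c)ᵀ = symS (c ^ 2 * x.1, c • x.2) := by
  simp only [symS, mul_add, add_mul, Matrix.mul_smul, Matrix.smul_mul, conj_vecMulVec, D1_e0,
    D1_ext0, smul_vecMulVec, vecMulVec_smul, ext0_smul, smul_smul]
  congr 2
  rw [pow_two]
  congr 1
  ring

/-- conjugation of the parameters by the transvection element -/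
lemma D2_symS (l' : Fin m → F) (x : F × (Fin m → F)) :
    D2 l' * symS x * (D2 l')ᵀ = symS (x.1 + 2 * (l' ⬝ᵥ x.2), x.2) := by
  simp only [symS, mul_add, add_mul, Matrix.mul_smul, Matrix.smul_mul, conj_vecMulVec, D2_e0,
    D2_ext0, vecMulVec_add, add_vecMulVec, smul_vecMulVec, vecMulVec_smul]
  rw [add_smul, two_mul, add_smul]
  abel

end Cfsg.Agent.Lib.Helper14.LSSp
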