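import Mathlib
import Cfsg.Agent.Lib.Helper14.LSSp1
import Cfsg.Agent.Lib.Helper14.WeightBound
import Cfsg.Agent.Lib.Helper14.WeightReduce

set_option autoImplicit false
set_option linter.unusedSectionVars false
set_option linter.unusedVariables false
set_option linter.style.haveILetI false

/-!
# A Landazuri–Seitz type bound for `Sp_{2(m+1)}(q)`, `q` odd (helper14)
-/

namespace Cfsg.Agent.Lib.Helper14.LSSp

open Matrix Module Cfsg.Agent.Lib.Helper14.LSSL Cfsg.Agent.Lib.Helper14.Wt

section elements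

variable {F : Type*} [Field F] {m : ℕ}

/-- torus element -/
def hT (c : F) (hc : c ≠ 0) : ↥(symplecticGroup (Fin (m + 1)) F) :=
  ⟨hM (D1 c) (D1 c⁻¹), hM_mem _ _ (D1_mul c hc)⟩

/-- unipotent Levi element -/
def hU (l' : Fin m → F) : ↥(symplecticGroup (Fin (m + 1)) F) :=
  ⟨hM (D2 l') (D2 (-l')), hM_mem _ _ (D2_mul l')⟩

/-- action of the torus element on the parameters -/
def tau1 (c : F) (x : F × (Fin m → F)) : F × (Fin m → F) := (c ^ 2 * x.1, c • x.2)

/-- action of the unipotent Levi element on the parameters -/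
def tau2 (l' : Fin m → F) (x : F × (Fin m → F)) : F × (Fin m → F) :=
  (x.1 + 2 * (l' ⬝ᵥ x.2), x.2)

lemma hT_a (c : F) (hc : c ≠ 0) (x : F × (Fin m → F)) :
    hT c hc * a x = a (tau1 c x) * hT c hc := by
  apply Subtype.ext
  exact hM_uM _ _ _ _ (D1_mul c hc) (D1_symS c x).symm

lemma hU_a (l' : Fin m → F) (x : F × (Fin m → F)) :
    hU l' * a x = a (tau2 l' x) * hU l' := by
  apply Subtype.ext
  exact hM_uM _ _ _ _ (D2_mul l') (D2_symS l' x).symm

lemma a_hT_inv (c : F) (hc : c ≠ 0) (x : F × (Fin m → F)) :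
    a x * (hT c hc)⁻¹ = (hT c hc)⁻¹ * a (tau1 c x) := by
  have h := hT_a c hc x
  rw [eq_inv_mul_iff_mul_eq, ← mul_assoc, h, mul_assoc, mul_inv_cancel, mul_one]

lemma a_hU_inv (l' : Fin m → F) (x : F × (Fin m → F)) :
    a x * (hU l')⁻¹ = (hU l')⁻¹ * a (tau2 l' x) := by
  have h := hU_a l' x
  rw [eq_inv_mul_iff_mul_eq, ← mul_assoc, h, mul_assoc, mul_inv_cancel, mul_one]

lemma a_not_mem_center (t : F) (ht : t ≠ 0) :
    a (t, (0 : Fin m → F)) ∉ Subgroup.center ↥(symplecticGroup (Fin (m + 1)) F) := by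
  intro h
  rw [Subgroup.mem_center_iff] at h
  have h1 := h ⟨J (Fin (m + 1)) F, SymplecticGroup.J_mem _ _⟩
  have h2 : J (Fin (m + 1)) F * uM (symS (t, (0 : Fin m → F)))
      = uM (symS (t, (0 : Fin m → F))) * J (Fin (m + 1)) F := congrArg Subtype.val h1
  rw [J, uM, fromBlocks_multiply, fromBlocks_multiply] at h2
  have h3 := congrFun (congrFun (fromBlocks_inj.mp h2).1 0) 0
  simp [symS, vecMulVec_apply, e0, ext0_zero] at h3
  exact ht h3.symm

end elements

section key

variable {F : Type*} [Field F] {m : ℕ} {L : Type*} [Field L]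
  (χ : F × (Fin m → F) → L) (hadd : ∀ x y, χ (x + y) = χ x * χ y) (h0 : χ 0 = 1)

include hadd h0 in
lemma chi_ne_zero (x : F × (Fin m → F)) : χ x ≠ 0 := by
  intro h
  have := hadd x (-x)
  rw [add_neg_cancel, h0, h, zero_mul] at this
  exact one_ne_zero this

include hadd h0 in
lemma chi_sub (x y : F × (Fin m → F)) (h : χ x = χ y) : χ (x - y) = 1 := by
  have h1 := hadd (x - y) y
  rw [sub_add_cancel, h] at h1
  exact (mul_eq_right₀ (chi_ne_zero χ hadd h0 y)).mp h1.symm

include hadd h0 in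
lemma key_inj (htwo : (2 : F) ≠ 0) (hχ1 : χ ((1 : F), (0 : Fin m → F)) ≠ 1)
    (c c' : F) (hc : c ≠ 0) (l' l'' : Fin m → F)
    (h : ∀ y, χ (tau1 c (tau2 l' y)) = χ (tau1 c' (tau2 l'' y))) :
    c ^ 2 = c' ^ 2 ∧ (c = c' → l' = l'') := by
  classical
  have hsq : c ^ 2 = c' ^ 2 := by
    by_contra hne
    have hd : c ^ 2 - c' ^ 2 ≠ 0 := sub_ne_zero.mpr hne
    have e := h ((c ^ 2 - c' ^ 2)⁻¹, 0)
    simp only [tau1, tau2, dotProduct_zero, mul_zero, add_zero,
      smul_zero] at e
    have e2 := chi_sub χ hadd h0 _ _ e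
    apply hχ1
    rw [← e2]
    congr 1
    apply Prod.ext
    · simp only [Prod.fst_sub]
      field_simp
    · simp
  refine ⟨hsq, ?_⟩
  rintro rfl
  by_contra hne
  obtain ⟨j, hj⟩ : ∃ j, l' j ≠ l'' j := by
    by_contra hcon
    push Not at hcon
    exact hne (funext hcon)
  have hd : l' j - l'' j ≠ 0 := sub_ne_zero.mpr hj
  have hc2 : c ^ 2 ≠ 0 := pow_ne_zero _ hc
  have e := h (0, Pi.single j (2 * c ^ 2 * (l' j - l'' j))⁻¹)
  simp only [tau1, tau2, zero_add, dotProduct_single] at e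
  have e2 := chi_sub χ hadd h0 _ _ e
  apply hχ1
  rw [← e2]
  congr 1
  apply Prod.ext
  · simp only [Prod.fst_sub]
    field_simp
  · simp

/-- the family of weights -/
def Phi (x : Fˣ × (Fin m → F)) : F × (Fin m → F) → L :=
  fun y => χ (tau1 (x.1 : F) (tau2 x.2 y))

lemma Phi_eq (x : Fˣ × (Fin m → F)) : Phi χ x = (χ ∘ tau1 (x.1 : F)) ∘ tau2 x.2 := rfl

end key

section main

variable {F : Type*} [Field F] [Fintype F] {q : ℕ} (hq : Fintype.card F = q) {m : ℕ}

include hq in
/-- the bound over an algebraically closed field -/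
theorem bound_closed {L : Type*} [Field L] [IsAlgClosed L]
    {V : Type*} [AddCommGroup V] [Module L V] [FiniteDimensional L V]
    (htwo : (2 : F) ≠ 0) (p : ℕ) [Fact p.Prime] [CharP F p] (hp : ((p : ℕ) : L) ≠ 0)
    (ρ : ↥(symplecticGroup (Fin (m + 1)) F) →* (V →ₗ[L] V))
    (hfaith : ρ (a ((1 : F), (0 : Fin m → F))) ≠ 1) :
    (q - 1) * q ^ m ≤ 2 * finrank L V := by
  classical
  obtain ⟨χ, hχ, hχ1⟩ :=
    exists_chi ρ a a_comm hp (a_pow_char p) ((1 : F), (0 : Fin m → F)) hfaith
  obtain ⟨hadd, h0⟩ := chi_mul ρ a a_add hχ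
  have hE : ∀ x, E ρ a (Phi χ x) ≠ ⊥ := by
    intro x
    have s1 := E_comp_ne_bot ρ a (hT (x.1 : F) x.1.ne_zero)⁻¹ (tau1 (x.1 : F))
      (a_hT_inv _ _) hχ
    rw [Phi_eq]
    exact E_comp_ne_bot ρ a (hU x.2)⁻¹ (tau2 x.2) (a_hU_inv _) s1
  set S : Finset (F × (Fin m → F) → L) := Finset.univ.image (Phi χ) with hS
  have hcard := card_le ρ a a_comm hp (a_pow_char p) S (by
    intro ψ hψ
    obtain ⟨x, -, rfl⟩ := Finset.mem_image.mp hψ
    exact hE x)
  have hfib : ∀ ψ ∈ Finset.univ.image (Phi χ),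
      (Finset.univ.filter (fun x => Phi χ x = ψ)).card ≤ 2 := by
    intro ψ hψ
    obtain ⟨x₀, -, rfl⟩ := Finset.mem_image.mp hψ
    calc (Finset.univ.filter (fun x => Phi χ x = Phi χ x₀)).card
        ≤ ({x₀.1, -x₀.1} : Finset Fˣ).card := by
          apply Finset.card_le_card_of_injOn (fun x => x.1)
          · intro x hx
            have hx' : Phi χ x = Phi χ x₀ := (Finset.mem_filter.mp hx).2
            have h1 := (key_inj χ hadd h0 htwo hχ1 _ _ x.1.ne_zero _ _ (congrFun hx')).1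
            rcases sq_eq_sq_iff_eq_or_eq_neg.mp h1 with h | h
            · have : x.1 = x₀.1 := Units.ext h
              simp [this]
            · have : x.1 = -x₀.1 := Units.ext (by rw [h, Units.val_neg])
              simp [this]
          · intro x hx y hy hxy
            have hx' : Phi χ x = Phi χ x₀ := (Finset.mem_filter.mp hx).2
            have hy' : Phi χ y = Phi χ x₀ := (Finset.mem_filter.mp hy).2
            have hxy' : x.1 = y.1 := hxy
            have h1 := (key_inj χ hadd h0 htwo hχ1 _ _ x.1.ne_zero _ _ (congrFun (hx'.trans hy'.symm))).2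
              (by rw [hxy'])
            exact Prod.ext hxy' h1
      _ ≤ 2 := Finset.card_le_two
  have hmain := Finset.card_le_mul_card_image Finset.univ 2 hfib
  rw [Finset.card_univ, Fintype.card_prod, Fintype.card_units, Fintype.card_fun, Fintype.card_fin,
    hq] at hmain
  calc (q - 1) * q ^ m ≤ 2 * S.card := hmain
    _ ≤ 2 * finrank L V := by omega

include hq in
/-- the Landazuri–Seitz type bound for `Sp_{2(m+1)}(q)`, `q` odd, over any field of
characteristic different from the defining one -/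
theorem bound_field (hodd : Odd q) {K : Type*} [Field K] (hK : ringChar K ≠ ringChar F) {d : ℕ}
    (ρ : ↥(symplecticGroup (Fin (m + 1)) F) →* GL (Fin d) K)
    (hker : ρ.ker ≤ Subgroup.center ↥(symplecticGroup (Fin (m + 1)) F)) :
    q ^ m * (q - 1) / 2 ≤ d := by
  set p := ringChar F with hpdef
  haveI : CharP F p := ringChar.charP F
  haveI : Fact p.Prime := ⟨CharP.char_is_prime F p⟩
  have hp : ((p : ℕ) : AlgebraicClosure K) ≠ 0 := prime_ne_zero p Fact.out hK
  have htwo : (2 : F) ≠ 0 := by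
    apply Ring.two_ne_zero
    intro h
    have := FiniteField.even_card_of_char_two h
    rw [hq] at this
    have h' := Nat.odd_iff.mp hodd
    omega
  have h := bound_closed hq htwo p hp (extRep ρ) (by
    apply extRep_ne_one
    intro h1
    exact a_not_mem_center (1 : F) one_ne_zero (hker (MonoidHom.mem_ker.mpr h1)))
  rw [finrank_ext] at h
  apply Nat.div_le_of_le_mul
  rw [mul_comm]
  exact h

end main

end Cfsg.Agent.Lib.Helper14.LSSp
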