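import Mathlib

/-!
# Arithmetic for the order of a group of Lie type against its `p`-part

`d * g = q ^ N * M` with `q = p ^ f`, `p ∤ d`, `p ∤ M`, `M < q ^ A`: then the `p`-part of `g` is
`q ^ N`, and `g < q ^ (3 N)` (if `A ≤ 2 N`), `g ^ 3 < q ^ (8 N)` (if `3 A ≤ 5 N`).
-/

set_option autoImplicit false

namespace Cfsg.Agent.Lib.Helper14.LieOrd

theorem not_dvd_pow_sub_one {p q a : ℕ} (hp : p.Prime) (hpq : p ∣ q) (hq : 1 ≤ q) (ha : a ≠ 0) :
    ¬ p ∣ q ^ a - 1 := by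
  intro h
  have h1 : p ∣ q ^ a := dvd_pow hpq ha
  have h2 : q ^ a - 1 + 1 = q ^ a := Nat.sub_add_cancel (Nat.one_le_pow _ _ hq)
  have h3 : p ∣ 1 := (Nat.dvd_add_right h).mp (h2 ▸ h1)
  exact hp.one_lt.ne' (Nat.dvd_one.mp h3)

theorem not_dvd_pow_add_one {p q a : ℕ} (hp : p.Prime) (hpq : p ∣ q) (ha : a ≠ 0) :
    ¬ p ∣ q ^ a + 1 := by
  intro h
  have h1 : p ∣ q ^ a := dvd_pow hpq ha
  have h3 : p ∣ 1 := (Nat.dvd_add_right h1).mp h
  exact hp.one_lt.ne' (Nat.dvd_one.mp h3)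

theorem not_dvd_mul_add_one {p q x : ℕ} (hp : p.Prime) (hpq : p ∣ q) :
    ¬ p ∣ q * x + 1 := by
  intro h
  have h1 : p ∣ q * x := hpq.mul_right x
  have h3 : p ∣ 1 := (Nat.dvd_add_right h1).mp h
  exact hp.one_lt.ne' (Nat.dvd_one.mp h3)

theorem not_dvd_mul {p a b : ℕ} (hp : p.Prime) (ha : ¬ p ∣ a) (hb : ¬ p ∣ b) : ¬ p ∣ a * b := by
  intro h
  rcases (Nat.Prime.dvd_mul hp).mp h with h | h
  · exact ha h
  · exact hb h

theorem not_dvd_gcd_sub_one {p q n : ℕ} (hp : p.Prime) (hpq : p ∣ q) (hq : 1 ≤ q) :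
    ¬ p ∣ Nat.gcd n (q - 1) := by
  intro h
  have h1 : p ∣ q - 1 := h.trans (Nat.gcd_dvd_right _ _)
  have := not_dvd_pow_sub_one (a := 1) hp hpq hq one_ne_zero
  rw [pow_one] at this
  exact this h1

theorem not_dvd_gcd_add_one {p q n : ℕ} (hp : p.Prime) (hpq : p ∣ q) :
    ¬ p ∣ Nat.gcd n (q + 1) := by
  intro h
  have h1 : p ∣ q + 1 := h.trans (Nat.gcd_dvd_right _ _)
  have := not_dvd_pow_add_one (a := 1) hp hpq one_ne_zero
  rw [pow_one] at this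
  exact this h1

/-- the `p`-part of `g` from `d * g = q ^ N * M` -/
theorem factorization_eq {p f g d N M : ℕ} (hp : p.Prime)
    (h : d * g = (p ^ f) ^ N * M) (hd : ¬ p ∣ d) (hM : ¬ p ∣ M) (hg : g ≠ 0) :
    g.factorization p = f * N := by
  have hd0 : d ≠ 0 := by rintro rfl; exact hd (dvd_zero p)
  have hM0 : M ≠ 0 := by rintro rfl; exact hM (dvd_zero p)
  have h1 : (d * g).factorization p = g.factorization p := by
    rw [Nat.factorization_mul hd0 hg, Finsupp.add_apply,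
      Nat.factorization_eq_zero_of_not_dvd hd, zero_add]
  have h2 : ((p ^ f) ^ N * M).factorization p = f * N := by
    have hqn : (p ^ f) ^ N ≠ 0 := by
      have := hp.pos
      positivity
    rw [Nat.factorization_mul hqn hM0, Finsupp.add_apply,
      Nat.factorization_eq_zero_of_not_dvd hM, add_zero, ← pow_mul,
      Nat.Prime.factorization_pow hp, Finsupp.single_eq_same]
  rw [← h1, h, h2]

/-- the main arithmetic lemma -/
theorem main_bound {p f g d N M A : ℕ} (hp : p.Prime) (hf : f ≠ 0)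
    (h : d * g = (p ^ f) ^ N * M) (hd : ¬ p ∣ d) (hM : ¬ p ∣ M) (hg : g ≠ 0)
    (hMA : M < (p ^ f) ^ A) :
    g.factorization p = f * N ∧ (A ≤ 2 * N → g < p ^ (3 * (f * N))) ∧
      (3 * A ≤ 5 * N → g ^ 3 < p ^ (8 * (f * N))) := by
  have hd0 : d ≠ 0 := by rintro rfl; exact hd (dvd_zero p)
  have hM0 : M ≠ 0 := by rintro rfl; exact hM (dvd_zero p)
  have hq1 : 1 ≤ p ^ f := Nat.one_le_pow _ _ hp.pos
  have hq2 : 2 ≤ p ^ f := by
    calc 2 ≤ p := hp.two_le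
      _ = p ^ 1 := (pow_one p).symm
      _ ≤ p ^ f := Nat.pow_le_pow_right hp.pos (by omega)
  have hle : g ≤ (p ^ f) ^ N * M := by
    rw [← h]
    exact Nat.le_mul_of_pos_left g (by omega)
  have hlt : g < (p ^ f) ^ (N + A) := by
    calc g ≤ (p ^ f) ^ N * M := hle
      _ < (p ^ f) ^ N * (p ^ f) ^ A := Nat.mul_lt_mul_of_pos_left hMA (by positivity)
      _ = (p ^ f) ^ (N + A) := (pow_add _ _ _).symm
  refine ⟨?_, ?_, ?_⟩
  · have h1 : (d * g).factorization p = g.factorization p := by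
      rw [Nat.factorization_mul hd0 hg, Finsupp.add_apply,
        Nat.factorization_eq_zero_of_not_dvd hd, zero_add]
    have h2 : ((p ^ f) ^ N * M).factorization p = f * N := by
      have hqn : (p ^ f) ^ N ≠ 0 := by positivity
      rw [Nat.factorization_mul hqn hM0, Finsupp.add_apply,
        Nat.factorization_eq_zero_of_not_dvd hM, add_zero, ← pow_mul,
        Nat.Prime.factorization_pow hp, Finsupp.single_eq_same]
    rw [← h1, h, h2]
  · intro hA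
    calc g < (p ^ f) ^ (N + A) := hlt
      _ ≤ (p ^ f) ^ (3 * N) := Nat.pow_le_pow_right hq1 (by omega)
      _ = p ^ (3 * (f * N)) := by rw [← pow_mul]; congr 1; ring
  · intro hA
    calc g ^ 3 < ((p ^ f) ^ (N + A)) ^ 3 := Nat.pow_lt_pow_left hlt (by norm_num)
      _ = (p ^ f) ^ (3 * N + 3 * A) := by rw [← pow_mul]; congr 1; ring
      _ ≤ (p ^ f) ^ (8 * N) := Nat.pow_le_pow_right hq1 (by omega)
      _ = p ^ (8 * (f * N)) := by rw [← pow_mul]; congr 1; ring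

/-- a root of a prime power is a power of the prime -/
theorem eq_pow_of_pow_eq {p q k e : ℕ} (hp : p.Prime) (hk : k ≠ 0) (h : q ^ k = p ^ e)
    (he : e ≠ 0) : ∃ j, j ≠ 0 ∧ q = p ^ j := by
  have h1 : q ∣ p ^ e := h ▸ dvd_pow_self q hk
  obtain ⟨j, _, rfl⟩ := (Nat.dvd_prime_pow hp).mp h1
  refine ⟨j, ?_, rfl⟩
  rintro rfl
  rw [pow_zero, one_pow] at h
  have : 1 < p ^ e := Nat.one_lt_pow he hp.one_lt
  omega

/-! ### products of `q ^ (2 (i + 1)) - 1` -/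

theorem prod_sq_le (q m : ℕ) :
    ∏ i ∈ Finset.range m, (q ^ (2 * (i + 1)) - 1) ≤ q ^ (m * (m + 1)) := by
  induction m with
  | zero => simp
  | succ m ih =>
    rw [Finset.prod_range_succ]
    calc (∏ i ∈ Finset.range m, (q ^ (2 * (i + 1)) - 1)) * (q ^ (2 * (m + 1)) - 1)
        ≤ q ^ (m * (m + 1)) * q ^ (2 * (m + 1)) :=
          Nat.mul_le_mul ih (Nat.sub_le _ _)
      _ = q ^ ((m + 1) * (m + 1 + 1)) := by rw [← pow_add]; congr 1; ring

theorem prod_sq_lt (q m : ℕ) (hq : 1 ≤ q) (hm : m ≠ 0) :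
    ∏ i ∈ Finset.range m, (q ^ (2 * (i + 1)) - 1) < q ^ (m * (m + 1)) := by
  obtain ⟨m, rfl⟩ : ∃ k, m = k + 1 := ⟨m - 1, by omega⟩
  rw [Finset.prod_range_succ]
  have h1 : q ^ (2 * (m + 1)) - 1 < q ^ (2 * (m + 1)) :=
    Nat.sub_lt (Nat.one_le_pow _ _ hq) one_pos
  calc (∏ i ∈ Finset.range m, (q ^ (2 * (i + 1)) - 1)) * (q ^ (2 * (m + 1)) - 1)
      ≤ q ^ (m * (m + 1)) * (q ^ (2 * (m + 1)) - 1) :=
        Nat.mul_le_mul_right _ (prod_sq_le q m)
    _ < q ^ (m * (m + 1)) * q ^ (2 * (m + 1)) :=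
        Nat.mul_lt_mul_of_pos_left h1 (Nat.one_le_pow _ _ hq)
    _ = q ^ ((m + 1) * (m + 1 + 1)) := by rw [← pow_add]; congr 1; ring

theorem prod_sq_not_dvd {p q : ℕ} (m : ℕ) (hp : p.Prime) (hpq : p ∣ q) (hq : 1 ≤ q) :
    ¬ p ∣ ∏ i ∈ Finset.range m, (q ^ (2 * (i + 1)) - 1) := by
  intro h
  obtain ⟨i, _, hi⟩ := (Prime.dvd_finsetProd_iff (Nat.Prime.prime hp) _).mp h
  exact not_dvd_pow_sub_one hp hpq hq (by omega) hi

/-! ### products of `q ^ (i + 2) - 1` -/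

theorem prod_lin_le (q m : ℕ) :
    ∏ i ∈ Finset.range m, (q ^ (i + 2) - 1) ≤ q ^ (∑ i ∈ Finset.range m, (i + 2)) := by
  induction m with
  | zero => simp
  | succ m ih =>
    rw [Finset.prod_range_succ, Finset.sum_range_succ,
      pow_add q (∑ i ∈ Finset.range m, (i + 2)) (m + 2)]
    exact Nat.mul_le_mul ih (Nat.sub_le _ _)

theorem prod_lin_lt (q m : ℕ) (hq : 1 ≤ q) (hm : m ≠ 0) :
    ∏ i ∈ Finset.range m, (q ^ (i + 2) - 1) < q ^ (∑ i ∈ Finset.range m, (i + 2)) := by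
  obtain ⟨m, rfl⟩ : ∃ k, m = k + 1 := ⟨m - 1, by omega⟩
  rw [Finset.prod_range_succ, Finset.sum_range_succ,
    pow_add q (∑ i ∈ Finset.range m, (i + 2)) (m + 2)]
  have h1 : q ^ (m + 2) - 1 < q ^ (m + 2) :=
    Nat.sub_lt (Nat.one_le_pow _ _ hq) one_pos
  calc (∏ i ∈ Finset.range m, (q ^ (i + 2) - 1)) * (q ^ (m + 2) - 1)
      ≤ q ^ (∑ i ∈ Finset.range m, (i + 2)) * (q ^ (m + 2) - 1) :=
        Nat.mul_le_mul_right _ (prod_lin_le q m)
    _ < q ^ (∑ i ∈ Finset.range m, (i + 2)) * q ^ (m + 2) :=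
        Nat.mul_lt_mul_of_pos_left h1 (Nat.one_le_pow _ _ hq)

theorem prod_lin_not_dvd {p q : ℕ} (m : ℕ) (hp : p.Prime) (hpq : p ∣ q) (hq : 1 ≤ q) :
    ¬ p ∣ ∏ i ∈ Finset.range m, (q ^ (i + 2) - 1) := by
  intro h
  obtain ⟨i, _, hi⟩ := (Prime.dvd_finsetProd_iff (Nat.Prime.prime hp) _).mp h
  exact not_dvd_pow_sub_one hp hpq hq (by omega) hi

/-- `∑_{i<m} (i+2) + 1 = (m+1)(m+2)/2` in a division-free form -/
theorem two_mul_sum_lin (m : ℕ) : 2 * ∑ i ∈ Finset.range m, (i + 2) = m * (m + 3) := by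
  induction m with
  | zero => simp
  | succ m ih =>
    rw [Finset.sum_range_succ, mul_add, ih]
    ring

end Cfsg.Agent.Lib.Helper14.LieOrd
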