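import Mathlib
import Cfsg.Agent.Lib.Helper14.LieOrd1

/-!
# The order of a group of Lie type against its `p`-part: the families, arithmetically
-/

set_option autoImplicit false

namespace Cfsg.Agent.Lib.Helper14.LieOrd

/-- the packaged conclusion -/
theorem goal_of {p f g d N M A : ℕ} (hp : p.Prime) (hf : f ≠ 0)
    (h : d * g = (p ^ f) ^ N * M) (hd : ¬ p ∣ d) (hM : ¬ p ∣ M) (hg : g ≠ 0)
    (hMA : M < (p ^ f) ^ A) (hA : 3 * A ≤ 5 * N) :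
    g < p ^ (3 * g.factorization p) ∧ g ^ 3 < p ^ (8 * g.factorization p) := by
  obtain ⟨h1, h2, h3⟩ := main_bound hp hf h hd hM hg hMA
  rw [h1]
  exact ⟨h2 (by omega), h3 hA⟩

theorem two_le_pow {p f : ℕ} (hp : p.Prime) (hf : f ≠ 0) : 2 ≤ p ^ f :=
  calc 2 ≤ p := hp.two_le
    _ = p ^ 1 := (pow_one p).symm
    _ ≤ p ^ f := Nat.pow_le_pow_right hp.pos (by omega)

/-! ### linear groups -/

theorem prod_pow_sub' (q n : ℕ) (hn : n ≠ 0) :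
    ∏ i : Fin n, (q ^ n - q ^ (i : ℕ)) =
      q ^ (∑ i ∈ Finset.range n, i) *
        ((q - 1) * ∏ j ∈ Finset.range (n - 1), (q ^ (j + 2) - 1)) := by
  rw [Fin.prod_univ_eq_prod_range (fun i => q ^ n - q ^ i) n]
  have h1 : ∀ i ∈ Finset.range n, q ^ n - q ^ i = q ^ i * (q ^ (n - 1 - i + 1) - 1) := by
    intro i hi
    rw [Finset.mem_range] at hi
    have h2 : n - 1 - i + 1 = n - i := by omega
    rw [h2, Nat.mul_sub, mul_one, ← pow_add]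
    congr 2
    omega
  rw [Finset.prod_congr rfl h1, Finset.prod_mul_distrib,
    Finset.prod_range_reflect (fun j => q ^ (j + 1) - 1) n, Finset.prod_pow_eq_pow_sum]
  obtain ⟨k, rfl⟩ : ∃ k, n = k + 1 := ⟨n - 1, by omega⟩
  rw [Finset.prod_range_succ' (fun j => q ^ (j + 1) - 1) k, Nat.add_sub_cancel]
  congr 1
  rw [mul_comm]
  simp

theorem arith_psl {p f g n : ℕ} (hp : p.Prime) (hf : f ≠ 0) (hn : 2 ≤ n) (hg : g ≠ 0)
    (h : Nat.gcd n (p ^ f - 1) * ((p ^ f - 1) * g) =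
      ∏ i : Fin n, ((p ^ f) ^ n - (p ^ f) ^ (i : ℕ))) :
    g.factorization p = f * (∑ i ∈ Finset.range n, i) ∧ g < p ^ (3 * g.factorization p) ∧
      (3 ≤ n → g ^ 3 < p ^ (8 * g.factorization p)) := by
  have hq2 : 2 ≤ p ^ f := two_le_pow hp hf
  have hpq : p ∣ p ^ f := dvd_pow_self p hf
  rw [prod_pow_sub' _ n (by omega)] at h
  have h' : Nat.gcd n (p ^ f - 1) * g =
      (p ^ f) ^ (∑ i ∈ Finset.range n, i) * ∏ j ∈ Finset.range (n - 1), ((p ^ f) ^ (j + 2) - 1) := by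
    have hq1 : 0 < p ^ f - 1 := by omega
    apply Nat.eq_of_mul_eq_mul_left hq1
    rw [← mul_assoc, mul_comm (p ^ f - 1) (Nat.gcd n (p ^ f - 1)), mul_assoc, h]
    ring
  obtain ⟨h1, h2, h3⟩ := main_bound hp hf h' (not_dvd_gcd_sub_one hp hpq (by omega))
    (prod_lin_not_dvd (n - 1) hp hpq (by omega)) hg
    (prod_lin_lt (p ^ f) (n - 1) (by omega) (by omega))
  have hA := two_mul_sum_lin (n - 1)
  have hS := Finset.sum_range_id_mul_two n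
  obtain ⟨k, rfl⟩ : ∃ k, n = k + 2 := ⟨n - 2, by omega⟩
  have e1 : k + 2 - 1 = k + 1 := by omega
  rw [e1] at hA hS h2 h3
  refine ⟨h1, ?_, ?_⟩
  · rw [h1]
    apply h2
    nlinarith
  · intro hk
    rw [h1]
    apply h3
    obtain ⟨j, rfl⟩ : ∃ j, k = j + 1 := ⟨k - 1, by omega⟩
    nlinarith

/-! ### symplectic and odd orthogonal groups -/

theorem arith_sp {p f g d m : ℕ} (hp : p.Prime) (hf : f ≠ 0) (hm : 2 ≤ m) (hg : g ≠ 0)
    (hd : ¬ p ∣ d)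
    (h : d * g = (p ^ f) ^ (m ^ 2) * ∏ i ∈ Finset.range m, ((p ^ f) ^ (2 * (i + 1)) - 1)) :
    g < p ^ (3 * g.factorization p) ∧ g ^ 3 < p ^ (8 * g.factorization p) := by
  have hq2 : 2 ≤ p ^ f := two_le_pow hp hf
  have hpq : p ∣ p ^ f := dvd_pow_self p hf
  refine goal_of hp hf h hd (prod_sq_not_dvd m hp hpq (by omega)) hg
    (prod_sq_lt (p ^ f) m (by omega) (by omega)) ?_
  nlinarith

/-! ### even orthogonal groups -/

theorem arith_oplus {p f g m : ℕ} (hp : p.Prime) (hf : f ≠ 0) (hm : 4 ≤ m) (hg : g ≠ 0)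
    (h : Nat.gcd 4 ((p ^ f) ^ m - 1) * g = (p ^ f) ^ (m * (m - 1)) * ((p ^ f) ^ m - 1) *
      ∏ i ∈ Finset.range (m - 1), ((p ^ f) ^ (2 * (i + 1)) - 1)) :
    g < p ^ (3 * g.factorization p) ∧ g ^ 3 < p ^ (8 * g.factorization p) := by
  have hq2 : 2 ≤ p ^ f := two_le_pow hp hf
  have hpq : p ∣ p ^ f := dvd_pow_self p hf
  have hm0 : m ≠ 0 := by omega
  rw [mul_assoc] at h
  have hd : ¬ p ∣ Nat.gcd 4 ((p ^ f) ^ m - 1) := fun hh =>
    not_dvd_pow_sub_one hp hpq (by omega) hm0 (hh.trans (Nat.gcd_dvd_right _ _))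
  have hM : ¬ p ∣ ((p ^ f) ^ m - 1) *
      ∏ i ∈ Finset.range (m - 1), ((p ^ f) ^ (2 * (i + 1)) - 1) :=
    not_dvd_mul hp (not_dvd_pow_sub_one hp hpq (by omega) hm0)
      (prod_sq_not_dvd (m - 1) hp hpq (by omega))
  have hMA : ((p ^ f) ^ m - 1) * ∏ i ∈ Finset.range (m - 1), ((p ^ f) ^ (2 * (i + 1)) - 1) <
      (p ^ f) ^ (m + (m - 1) * (m - 1 + 1)) := by
    rw [pow_add]
    exact Nat.mul_lt_mul_of_lt_of_le
      (Nat.sub_lt (Nat.one_le_pow _ _ (by omega)) one_pos) (prod_sq_le _ _)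
      (Nat.one_le_pow _ _ (by omega))
  refine goal_of hp hf h hd hM hg hMA ?_
  obtain ⟨k, rfl⟩ : ∃ k, m = k + 4 := ⟨m - 4, by omega⟩
  have e1 : k + 4 - 1 = k + 3 := by omega
  rw [e1]
  nlinarith

theorem pow_add_one_le {q a : ℕ} (hq : 2 ≤ q) : q ^ a + 1 ≤ q ^ (a + 1) := by
  have h1 : 1 ≤ q ^ a := Nat.one_le_pow _ _ (by omega)
  calc q ^ a + 1 ≤ q ^ a + q ^ a := by omega
    _ = q ^ a * 2 := by ring
    _ ≤ q ^ a * q := Nat.mul_le_mul_left _ hq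
    _ = q ^ (a + 1) := (pow_succ q a).symm

theorem arith_ominus {p f g m : ℕ} (hp : p.Prime) (hf : f ≠ 0) (hm : 4 ≤ m) (hg : g ≠ 0)
    (h : Nat.gcd 4 ((p ^ f) ^ m + 1) * g = (p ^ f) ^ (m * (m - 1)) * ((p ^ f) ^ m + 1) *
      ∏ i ∈ Finset.range (m - 1), ((p ^ f) ^ (2 * (i + 1)) - 1)) :
    g < p ^ (3 * g.factorization p) ∧ g ^ 3 < p ^ (8 * g.factorization p) := by
  have hq2 : 2 ≤ p ^ f := two_le_pow hp hf
  have hpq : p ∣ p ^ f := dvd_pow_self p hf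
  have hm0 : m ≠ 0 := by omega
  rw [mul_assoc] at h
  have hd : ¬ p ∣ Nat.gcd 4 ((p ^ f) ^ m + 1) := fun hh =>
    not_dvd_pow_add_one hp hpq hm0 (hh.trans (Nat.gcd_dvd_right _ _))
  have hM : ¬ p ∣ ((p ^ f) ^ m + 1) *
      ∏ i ∈ Finset.range (m - 1), ((p ^ f) ^ (2 * (i + 1)) - 1) :=
    not_dvd_mul hp (not_dvd_pow_add_one hp hpq hm0)
      (prod_sq_not_dvd (m - 1) hp hpq (by omega))
  have hMA : ((p ^ f) ^ m + 1) * ∏ i ∈ Finset.range (m - 1), ((p ^ f) ^ (2 * (i + 1)) - 1) <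
      (p ^ f) ^ (m + 1 + (m - 1) * (m - 1 + 1)) := by
    rw [pow_add, mul_comm ((p ^ f) ^ m + 1), mul_comm ((p ^ f) ^ (m + 1))]
    exact Nat.mul_lt_mul_of_lt_of_le
      (prod_sq_lt _ _ (by omega) (by omega)) (pow_add_one_le hq2)
      (Nat.one_le_pow _ _ (by omega))
  refine goal_of hp hf h hd hM hg hMA ?_
  obtain ⟨k, rfl⟩ : ∃ k, m = k + 4 := ⟨m - 4, by omega⟩
  have e1 : k + 4 - 1 = k + 3 := by omega
  rw [e1]
  nlinarith

end Cfsg.Agent.Lib.Helper14.LieOrd
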