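import Mathlib
import Cfsg.Agent.Lib.Helper14.LieOrd2

/-!
# The order of a group of Lie type against its `p`-part: unitary, exceptional and twisted groups
-/

set_option autoImplicit false

namespace Cfsg.Agent.Lib.Helper14.LieOrd

/-! ### unitary groups -/

/-- the factors `q ^ (i+2) - (-1) ^ i` -/
def cU (q i : ℕ) : ℕ := if Even (i + 1) then q ^ (i + 2) + 1 else q ^ (i + 2) - 1

theorem cU_even (q j : ℕ) : cU q (2 * j) = q ^ (2 * j + 2) - 1 := by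
  unfold cU
  rw [if_neg]
  rw [Nat.not_even_iff_odd]
  exact ⟨j, rfl⟩

theorem cU_odd (q j : ℕ) : cU q (2 * j + 1) = q ^ (2 * j + 3) + 1 := by
  unfold cU
  rw [if_pos]
  exact ⟨j + 1, by ring⟩

theorem cU_pair_lt (q j : ℕ) (hq : 1 ≤ q) :
    cU q (2 * j) * cU q (2 * j + 1) < q ^ (2 * j + 2) * q ^ (2 * j + 3) := by
  rw [cU_even, cU_odd]
  have hx : 1 ≤ q ^ (2 * j + 2) := Nat.one_le_pow _ _ hq
  obtain ⟨y, hy⟩ : ∃ y, q ^ (2 * j + 2) = y + 1 := ⟨q ^ (2 * j + 2) - 1, by omega⟩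
  have e : q ^ (2 * j + 3) = q ^ (2 * j + 2) * q := pow_succ q (2 * j + 2)
  rw [e, hy, Nat.add_sub_cancel]
  nlinarith

theorem cU_not_dvd {p q : ℕ} (i : ℕ) (hp : p.Prime) (hpq : p ∣ q) (hq : 1 ≤ q) :
    ¬ p ∣ cU q i := by
  unfold cU
  split_ifs
  · exact not_dvd_pow_add_one hp hpq (by omega)
  · exact not_dvd_pow_sub_one hp hpq hq (by omega)

theorem prod_cU_even_le (q j : ℕ) (hq : 1 ≤ q) :
    ∏ i ∈ Finset.range (2 * j), cU q i ≤ q ^ (∑ i ∈ Finset.range (2 * j), (i + 2)) := by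
  induction j with
  | zero => simp
  | succ j ih =>
    have e : 2 * (j + 1) = 2 * j + 1 + 1 := by ring
    rw [e, Finset.prod_range_succ, Finset.prod_range_succ, Finset.sum_range_succ,
      Finset.sum_range_succ, pow_add q _ (2 * j + 1 + 2), pow_add q _ (2 * j + 2), mul_assoc,
      mul_assoc]
    exact Nat.mul_le_mul ih (cU_pair_lt q j hq).le

theorem prod_cU_lt (q m : ℕ) (hq : 1 ≤ q) (hm : m ≠ 0) :
    ∏ i ∈ Finset.range m, cU q i < q ^ (∑ i ∈ Finset.range m, (i + 2)) := by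
  rcases Nat.even_or_odd' m with ⟨j, rfl | rfl⟩
  · obtain ⟨j, rfl⟩ : ∃ k, j = k + 1 := ⟨j - 1, by omega⟩
    have e : 2 * (j + 1) = 2 * j + 1 + 1 := by ring
    rw [e, Finset.prod_range_succ, Finset.prod_range_succ, Finset.sum_range_succ,
      Finset.sum_range_succ, pow_add q _ (2 * j + 1 + 2), pow_add q _ (2 * j + 2), mul_assoc,
      mul_assoc]
    exact Nat.mul_lt_mul_of_le_of_lt (prod_cU_even_le q j hq) (cU_pair_lt q j hq)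
      (Nat.one_le_pow _ _ hq)
  · rw [Finset.prod_range_succ, Finset.sum_range_succ, pow_add q _ (2 * j + 2), cU_even]
    exact Nat.mul_lt_mul_of_le_of_lt (prod_cU_even_le q j hq)
      (Nat.sub_lt (Nat.one_le_pow _ _ hq) one_pos) (Nat.one_le_pow _ _ hq)

theorem prod_cU_not_dvd {p q : ℕ} (m : ℕ) (hp : p.Prime) (hpq : p ∣ q) (hq : 1 ≤ q) :
    ¬ p ∣ ∏ i ∈ Finset.range m, cU q i := by
  intro h
  obtain ⟨i, _, hi⟩ := (Prime.dvd_finsetProd_iff (Nat.Prime.prime hp) _).mp h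
  exact cU_not_dvd i hp hpq hq hi

theorem arith_psu {p f g n : ℕ} (hp : p.Prime) (hf : f ≠ 0) (hn : 3 ≤ n) (hg : g ≠ 0)
    (h : Nat.gcd n (p ^ f + 1) * ((p ^ f + 1) * g) = (p ^ f) ^ (n * (n - 1) / 2) *
      ∏ i ∈ Finset.range n, (if Even i then (p ^ f) ^ (i + 1) + 1 else (p ^ f) ^ (i + 1) - 1)) :
    g < p ^ (3 * g.factorization p) ∧ g ^ 3 < p ^ (8 * g.factorization p) := by
  have hq2 : 2 ≤ p ^ f := two_le_pow hp hf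
  have hpq : p ∣ p ^ f := dvd_pow_self p hf
  obtain ⟨k, rfl⟩ : ∃ k, n = k + 1 := ⟨n - 1, by omega⟩
  rw [Finset.prod_range_succ'] at h
  have e0 : (if Even 0 then (p ^ f) ^ (0 + 1) + 1 else (p ^ f) ^ (0 + 1) - 1) = p ^ f + 1 := by
    simp
  have e1 : ∏ i ∈ Finset.range k, (if Even (i + 1) then (p ^ f) ^ (i + 1 + 1) + 1
      else (p ^ f) ^ (i + 1 + 1) - 1) = ∏ i ∈ Finset.range k, cU (p ^ f) i := rfl
  rw [e0, e1] at h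
  have h' : Nat.gcd (k + 1) (p ^ f + 1) * g =
      (p ^ f) ^ ((k + 1) * (k + 1 - 1) / 2) * ∏ i ∈ Finset.range k, cU (p ^ f) i := by
    have hq1 : 0 < p ^ f + 1 := by omega
    apply Nat.eq_of_mul_eq_mul_left hq1
    rw [← mul_assoc, mul_comm (p ^ f + 1) (Nat.gcd (k + 1) (p ^ f + 1)), mul_assoc, h]
    ring
  refine goal_of hp hf h' (not_dvd_gcd_add_one hp hpq) (prod_cU_not_dvd k hp hpq (by omega)) hg
    (prod_cU_lt (p ^ f) k (by omega) (by omega)) ?_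
  have hA := two_mul_sum_lin k
  have hS : (k + 1) * (k + 1 - 1) / 2 * 2 = (k + 1) * (k + 1 - 1) :=
    Nat.div_two_mul_two_of_even (Nat.even_mul_pred_self (k + 1))
  rw [Nat.add_sub_cancel] at hS ⊢
  obtain ⟨j, rfl⟩ : ∃ j, k = j + 2 := ⟨k - 2, by omega⟩
  nlinarith

/-! ### explicit products -/

theorem step_lt {q X b a c : ℕ} (hq : 1 ≤ q) (h : X < q ^ a) (hb : b ≤ q ^ c) :
    X * b < q ^ (a + c) := by
  rw [pow_add]
  exact Nat.mul_lt_mul_of_lt_of_le h hb (Nat.one_le_pow _ _ hq)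

theorem plt {q : ℕ} (a : ℕ) (hq : 1 ≤ q) : q ^ a - 1 < q ^ a :=
  Nat.sub_lt (Nat.one_le_pow _ _ hq) one_pos

theorem ple {q : ℕ} (a : ℕ) : q ^ a - 1 ≤ q ^ a := Nat.sub_le _ _

theorem arith_g2 {p f g : ℕ} (hp : p.Prime) (hf : f ≠ 0) (hg : g ≠ 0)
    (h : g = (p ^ f) ^ 6 * ((p ^ f) ^ 2 - 1) * ((p ^ f) ^ 6 - 1)) :
    g < p ^ (3 * g.factorization p) ∧ g ^ 3 < p ^ (8 * g.factorization p) := by
  have hq2 : 2 ≤ p ^ f := two_le_pow hp hf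
  have hq1 : 1 ≤ p ^ f := by omega
  have hpq : p ∣ p ^ f := dvd_pow_self p hf
  have h' : 1 * g = (p ^ f) ^ 6 * (((p ^ f) ^ 2 - 1) * ((p ^ f) ^ 6 - 1)) := by
    rw [one_mul, h]; ring
  have n1 : ∀ a, a ≠ 0 → ¬ p ∣ (p ^ f) ^ a - 1 := fun a ha =>
    not_dvd_pow_sub_one hp hpq hq1 ha
  refine goal_of (A := 2 + 6) hp hf h' (by simpa using hp.one_lt.ne') ?_ hg ?_ (by norm_num)
  · exact not_dvd_mul hp (n1 2 (by norm_num)) (n1 6 (by norm_num))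
  · exact step_lt hq1 (plt 2 hq1) (ple 6)

theorem arith_f4 {p f g : ℕ} (hp : p.Prime) (hf : f ≠ 0) (hg : g ≠ 0)
    (h : g = (p ^ f) ^ 24 * ((p ^ f) ^ 2 - 1) * ((p ^ f) ^ 6 - 1) * ((p ^ f) ^ 8 - 1) *
      ((p ^ f) ^ 12 - 1)) :
    g < p ^ (3 * g.factorization p) ∧ g ^ 3 < p ^ (8 * g.factorization p) := by
  have hq2 : 2 ≤ p ^ f := two_le_pow hp hf
  have hq1 : 1 ≤ p ^ f := by omega
  have hpq : p ∣ p ^ f := dvd_pow_self p hf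
  have h' : 1 * g = (p ^ f) ^ 24 * (((p ^ f) ^ 2 - 1) * ((p ^ f) ^ 6 - 1) * ((p ^ f) ^ 8 - 1) *
      ((p ^ f) ^ 12 - 1)) := by
    rw [one_mul, h]; ring
  have n1 : ∀ a, a ≠ 0 → ¬ p ∣ (p ^ f) ^ a - 1 := fun a ha =>
    not_dvd_pow_sub_one hp hpq hq1 ha
  refine goal_of (A := 2 + 6 + 8 + 12) hp hf h' (by simpa using hp.one_lt.ne') ?_ hg ?_
    (by norm_num)
  · exact not_dvd_mul hp (not_dvd_mul hp (not_dvd_mul hp (n1 2 (by norm_num))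
      (n1 6 (by norm_num))) (n1 8 (by norm_num))) (n1 12 (by norm_num))
  · exact step_lt hq1 (step_lt hq1 (step_lt hq1 (plt 2 hq1) (ple 6)) (ple 8)) (ple 12)

theorem arith_e6 {p f g : ℕ} (hp : p.Prime) (hf : f ≠ 0) (hg : g ≠ 0)
    (h : Nat.gcd 3 (p ^ f - 1) * g = (p ^ f) ^ 36 * ((p ^ f) ^ 2 - 1) * ((p ^ f) ^ 5 - 1) *
      ((p ^ f) ^ 6 - 1) * ((p ^ f) ^ 8 - 1) * ((p ^ f) ^ 9 - 1) * ((p ^ f) ^ 12 - 1)) :
    g < p ^ (3 * g.factorization p) ∧ g ^ 3 < p ^ (8 * g.factorization p) := by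
  have hq2 : 2 ≤ p ^ f := two_le_pow hp hf
  have hq1 : 1 ≤ p ^ f := by omega
  have hpq : p ∣ p ^ f := dvd_pow_self p hf
  have h' : Nat.gcd 3 (p ^ f - 1) * g = (p ^ f) ^ 36 * (((p ^ f) ^ 2 - 1) * ((p ^ f) ^ 5 - 1) *
      ((p ^ f) ^ 6 - 1) * ((p ^ f) ^ 8 - 1) * ((p ^ f) ^ 9 - 1) * ((p ^ f) ^ 12 - 1)) := by
    rw [h]; ring
  have n1 : ∀ a, a ≠ 0 → ¬ p ∣ (p ^ f) ^ a - 1 := fun a ha =>
    not_dvd_pow_sub_one hp hpq hq1 ha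
  refine goal_of (A := 2 + 5 + 6 + 8 + 9 + 12) hp hf h' (not_dvd_gcd_sub_one hp hpq hq1) ?_ hg ?_
    (by norm_num)
  · exact not_dvd_mul hp (not_dvd_mul hp (not_dvd_mul hp (not_dvd_mul hp (not_dvd_mul hp
      (n1 2 (by norm_num)) (n1 5 (by norm_num))) (n1 6 (by norm_num))) (n1 8 (by norm_num)))
      (n1 9 (by norm_num))) (n1 12 (by norm_num))
  · exact step_lt hq1 (step_lt hq1 (step_lt hq1 (step_lt hq1 (step_lt hq1 (plt 2 hq1) (ple 5))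
      (ple 6)) (ple 8)) (ple 9)) (ple 12)

theorem arith_e7 {p f g : ℕ} (hp : p.Prime) (hf : f ≠ 0) (hg : g ≠ 0)
    (h : Nat.gcd 2 (p ^ f - 1) * g = (p ^ f) ^ 63 * ((p ^ f) ^ 2 - 1) * ((p ^ f) ^ 6 - 1) *
      ((p ^ f) ^ 8 - 1) * ((p ^ f) ^ 10 - 1) * ((p ^ f) ^ 12 - 1) * ((p ^ f) ^ 14 - 1) *
      ((p ^ f) ^ 18 - 1)) :
    g < p ^ (3 * g.factorization p) ∧ g ^ 3 < p ^ (8 * g.factorization p) := by
  have hq2 : 2 ≤ p ^ f := two_le_pow hp hf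
  have hq1 : 1 ≤ p ^ f := by omega
  have hpq : p ∣ p ^ f := dvd_pow_self p hf
  have h' : Nat.gcd 2 (p ^ f - 1) * g = (p ^ f) ^ 63 * (((p ^ f) ^ 2 - 1) * ((p ^ f) ^ 6 - 1) *
      ((p ^ f) ^ 8 - 1) * ((p ^ f) ^ 10 - 1) * ((p ^ f) ^ 12 - 1) * ((p ^ f) ^ 14 - 1) *
      ((p ^ f) ^ 18 - 1)) := by
    rw [h]; ring
  have n1 : ∀ a, a ≠ 0 → ¬ p ∣ (p ^ f) ^ a - 1 := fun a ha =>
    not_dvd_pow_sub_one hp hpq hq1 ha
  refine goal_of (A := 2 + 6 + 8 + 10 + 12 + 14 + 18) hp hf h'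
    (not_dvd_gcd_sub_one hp hpq hq1) ?_ hg ?_ (by norm_num)
  · exact not_dvd_mul hp (not_dvd_mul hp (not_dvd_mul hp (not_dvd_mul hp (not_dvd_mul hp
      (not_dvd_mul hp (n1 2 (by norm_num)) (n1 6 (by norm_num))) (n1 8 (by norm_num)))
      (n1 10 (by norm_num))) (n1 12 (by norm_num))) (n1 14 (by norm_num))) (n1 18 (by norm_num))
  · exact step_lt hq1 (step_lt hq1 (step_lt hq1 (step_lt hq1 (step_lt hq1 (step_lt hq1
      (plt 2 hq1) (ple 6)) (ple 8)) (ple 10)) (ple 12)) (ple 14)) (ple 18)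

theorem arith_e8 {p f g : ℕ} (hp : p.Prime) (hf : f ≠ 0) (hg : g ≠ 0)
    (h : g = (p ^ f) ^ 120 * ((p ^ f) ^ 2 - 1) * ((p ^ f) ^ 8 - 1) * ((p ^ f) ^ 12 - 1) *
      ((p ^ f) ^ 14 - 1) * ((p ^ f) ^ 18 - 1) * ((p ^ f) ^ 20 - 1) * ((p ^ f) ^ 24 - 1) *
      ((p ^ f) ^ 30 - 1)) :
    g < p ^ (3 * g.factorization p) ∧ g ^ 3 < p ^ (8 * g.factorization p) := by
  have hq2 : 2 ≤ p ^ f := two_le_pow hp hf
  have hq1 : 1 ≤ p ^ f := by omega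
  have hpq : p ∣ p ^ f := dvd_pow_self p hf
  have h' : 1 * g = (p ^ f) ^ 120 * (((p ^ f) ^ 2 - 1) * ((p ^ f) ^ 8 - 1) * ((p ^ f) ^ 12 - 1) *
      ((p ^ f) ^ 14 - 1) * ((p ^ f) ^ 18 - 1) * ((p ^ f) ^ 20 - 1) * ((p ^ f) ^ 24 - 1) *
      ((p ^ f) ^ 30 - 1)) := by
    rw [one_mul, h]; ring
  have n1 : ∀ a, a ≠ 0 → ¬ p ∣ (p ^ f) ^ a - 1 := fun a ha =>
    not_dvd_pow_sub_one hp hpq hq1 ha
  refine goal_of (A := 2 + 8 + 12 + 14 + 18 + 20 + 24 + 30) hp hf h'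
    (by simpa using hp.one_lt.ne') ?_ hg ?_ (by norm_num)
  · exact not_dvd_mul hp (not_dvd_mul hp (not_dvd_mul hp (not_dvd_mul hp (not_dvd_mul hp
      (not_dvd_mul hp (not_dvd_mul hp (n1 2 (by norm_num)) (n1 8 (by norm_num)))
      (n1 12 (by norm_num))) (n1 14 (by norm_num))) (n1 18 (by norm_num))) (n1 20 (by norm_num)))
      (n1 24 (by norm_num))) (n1 30 (by norm_num))
  · exact step_lt hq1 (step_lt hq1 (step_lt hq1 (step_lt hq1 (step_lt hq1 (step_lt hq1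
      (step_lt hq1 (plt 2 hq1) (ple 8)) (ple 12)) (ple 14)) (ple 18)) (ple 20)) (ple 24)) (ple 30)

theorem arith_2e6 {p f g : ℕ} (hp : p.Prime) (hf : f ≠ 0) (hg : g ≠ 0)
    (h : Nat.gcd 3 (p ^ f + 1) * g = (p ^ f) ^ 36 * ((p ^ f) ^ 2 - 1) * ((p ^ f) ^ 5 + 1) *
      ((p ^ f) ^ 6 - 1) * ((p ^ f) ^ 8 - 1) * ((p ^ f) ^ 9 + 1) * ((p ^ f) ^ 12 - 1)) :
    g < p ^ (3 * g.factorization p) ∧ g ^ 3 < p ^ (8 * g.factorization p) := by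
  have hq2 : 2 ≤ p ^ f := two_le_pow hp hf
  have hq1 : 1 ≤ p ^ f := by omega
  have hpq : p ∣ p ^ f := dvd_pow_self p hf
  have h' : Nat.gcd 3 (p ^ f + 1) * g = (p ^ f) ^ 36 * (((p ^ f) ^ 2 - 1) * ((p ^ f) ^ 5 + 1) *
      ((p ^ f) ^ 6 - 1) * ((p ^ f) ^ 8 - 1) * ((p ^ f) ^ 9 + 1) * ((p ^ f) ^ 12 - 1)) := by
    rw [h]; ring
  have n1 : ∀ a, a ≠ 0 → ¬ p ∣ (p ^ f) ^ a - 1 := fun a ha =>
    not_dvd_pow_sub_one hp hpq hq1 ha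
  have n2 : ∀ a, a ≠ 0 → ¬ p ∣ (p ^ f) ^ a + 1 := fun a ha =>
    not_dvd_pow_add_one hp hpq ha
  refine goal_of (A := 2 + 6 + 6 + 8 + 10 + 12) hp hf h' (not_dvd_gcd_add_one hp hpq) ?_ hg ?_
    (by norm_num)
  · exact not_dvd_mul hp (not_dvd_mul hp (not_dvd_mul hp (not_dvd_mul hp (not_dvd_mul hp
      (n1 2 (by norm_num)) (n2 5 (by norm_num))) (n1 6 (by norm_num))) (n1 8 (by norm_num)))
      (n2 9 (by norm_num))) (n1 12 (by norm_num))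
  · exact step_lt hq1 (step_lt hq1 (step_lt hq1 (step_lt hq1 (step_lt hq1 (plt 2 hq1)
      (pow_add_one_le hq2)) (ple 6)) (ple 8)) (pow_add_one_le hq2)) (ple 12)

theorem arith_3d4 {p f g : ℕ} (hp : p.Prime) (hf : f ≠ 0) (hg : g ≠ 0)
    (h : g = (p ^ f) ^ 12 * ((p ^ f) ^ 2 - 1) * ((p ^ f) ^ 6 - 1) *
      ((p ^ f) ^ 8 + (p ^ f) ^ 4 + 1)) :
    g < p ^ (3 * g.factorization p) ∧ g ^ 3 < p ^ (8 * g.factorization p) := by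
  have hq2 : 2 ≤ p ^ f := two_le_pow hp hf
  have hq1 : 1 ≤ p ^ f := by omega
  have hpq : p ∣ p ^ f := dvd_pow_self p hf
  have h' : 1 * g = (p ^ f) ^ 12 * (((p ^ f) ^ 2 - 1) * ((p ^ f) ^ 6 - 1) *
      ((p ^ f) ^ 8 + (p ^ f) ^ 4 + 1)) := by
    rw [one_mul, h]; ring
  have n1 : ∀ a, a ≠ 0 → ¬ p ∣ (p ^ f) ^ a - 1 := fun a ha =>
    not_dvd_pow_sub_one hp hpq hq1 ha
  have n3 : ¬ p ∣ (p ^ f) ^ 8 + (p ^ f) ^ 4 + 1 := by
    have e : (p ^ f) ^ 8 + (p ^ f) ^ 4 + 1 = p ^ f * ((p ^ f) ^ 7 + (p ^ f) ^ 3) + 1 := by ring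
    rw [e]
    exact not_dvd_mul_add_one hp hpq
  have b3 : (p ^ f) ^ 8 + (p ^ f) ^ 4 + 1 ≤ (p ^ f) ^ 9 := by
    have e1 : (p ^ f) ^ 4 + 1 ≤ (p ^ f) ^ 5 := pow_add_one_le hq2
    have e2 : (p ^ f) ^ 5 ≤ (p ^ f) ^ 8 := Nat.pow_le_pow_right hq1 (by norm_num)
    calc (p ^ f) ^ 8 + (p ^ f) ^ 4 + 1 ≤ (p ^ f) ^ 8 + (p ^ f) ^ 8 := by omega
      _ = (p ^ f) ^ 8 * 2 := by ring
      _ ≤ (p ^ f) ^ 8 * p ^ f := Nat.mul_le_mul_left _ hq2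
      _ = (p ^ f) ^ 9 := (pow_succ (p ^ f) 8).symm
  refine goal_of (A := 2 + 6 + 9) hp hf h' (by simpa using hp.one_lt.ne') ?_ hg ?_ (by norm_num)
  · exact not_dvd_mul hp (not_dvd_mul hp (n1 2 (by norm_num)) (n1 6 (by norm_num))) n3
  · exact step_lt hq1 (step_lt hq1 (plt 2 hq1) (ple 6)) b3

/-- Suzuki groups: `Q ^ 2 * (Q - 1) * (Q ^ 2 + 1)` -/
theorem arith_sz {p f g : ℕ} (hp : p.Prime) (hf : f ≠ 0) (hg : g ≠ 0)
    (h : g = (p ^ f) ^ 2 * (p ^ f - 1) * ((p ^ f) ^ 2 + 1)) :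
    g < p ^ (3 * g.factorization p) ∧ g ^ 3 < p ^ (8 * g.factorization p) := by
  have hq2 : 2 ≤ p ^ f := two_le_pow hp hf
  have hq1 : 1 ≤ p ^ f := by omega
  have hpq : p ∣ p ^ f := dvd_pow_self p hf
  have h' : 1 * g = (p ^ f) ^ 2 * ((p ^ f - 1) * ((p ^ f) ^ 2 + 1)) := by
    rw [one_mul, h]; ring
  have n1 : ¬ p ∣ p ^ f - 1 := by
    have := not_dvd_pow_sub_one (a := 1) hp hpq hq1 one_ne_zero
    rwa [pow_one] at this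
  refine goal_of (A := 3) hp hf h' (by simpa using hp.one_lt.ne') ?_ hg ?_ (by norm_num)
  · exact not_dvd_mul hp n1 (not_dvd_pow_add_one hp hpq (by norm_num))
  · obtain ⟨y, hy⟩ : ∃ y, p ^ f = y + 1 := ⟨p ^ f - 1, by omega⟩
    rw [hy, Nat.add_sub_cancel]
    nlinarith

/-- large Ree groups -/
theorem arith_2f4 {p f g : ℕ} (hp : p.Prime) (hf : f ≠ 0) (hg : g ≠ 0)
    (h : g = (p ^ f) ^ 12 * (p ^ f - 1) * ((p ^ f) ^ 3 + 1) * ((p ^ f) ^ 4 - 1) *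
      ((p ^ f) ^ 6 + 1)) :
    g < p ^ (3 * g.factorization p) ∧ g ^ 3 < p ^ (8 * g.factorization p) := by
  have hq2 : 2 ≤ p ^ f := two_le_pow hp hf
  have hq1 : 1 ≤ p ^ f := by omega
  have hpq : p ∣ p ^ f := dvd_pow_self p hf
  have h' : 1 * g = (p ^ f) ^ 12 * ((p ^ f - 1) * ((p ^ f) ^ 3 + 1) * ((p ^ f) ^ 4 - 1) *
      ((p ^ f) ^ 6 + 1)) := by
    rw [one_mul, h]; ring
  have n1 : ∀ a, a ≠ 0 → ¬ p ∣ (p ^ f) ^ a - 1 := fun a ha =>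
    not_dvd_pow_sub_one hp hpq hq1 ha
  have n2 : ∀ a, a ≠ 0 → ¬ p ∣ (p ^ f) ^ a + 1 := fun a ha =>
    not_dvd_pow_add_one hp hpq ha
  have n0 : ¬ p ∣ p ^ f - 1 := by
    have := n1 1 one_ne_zero
    rwa [pow_one] at this
  have b0 : p ^ f - 1 < (p ^ f) ^ 1 := by rw [pow_one]; omega
  refine goal_of (A := 1 + 4 + 4 + 7) hp hf h' (by simpa using hp.one_lt.ne') ?_ hg ?_
    (by norm_num)
  · exact not_dvd_mul hp (not_dvd_mul hp (not_dvd_mul hp n0 (n2 3 (by norm_num)))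
      (n1 4 (by norm_num))) (n2 6 (by norm_num))
  · exact step_lt hq1 (step_lt hq1 (step_lt hq1 b0 (pow_add_one_le hq2)) (ple 4))
      (pow_add_one_le hq2)

/-- small Ree groups -/
theorem arith_2g2 {p f g : ℕ} (hp : p.Prime) (hf : f ≠ 0) (hg : g ≠ 0)
    (h : g = (p ^ f) ^ 3 * (p ^ f - 1) * ((p ^ f) ^ 3 + 1)) :
    g < p ^ (3 * g.factorization p) ∧ g ^ 3 < p ^ (8 * g.factorization p) := by
  have hq2 : 2 ≤ p ^ f := two_le_pow hp hf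
  have hq1 : 1 ≤ p ^ f := by omega
  have hpq : p ∣ p ^ f := dvd_pow_self p hf
  have h' : 1 * g = (p ^ f) ^ 3 * ((p ^ f - 1) * ((p ^ f) ^ 3 + 1)) := by
    rw [one_mul, h]; ring
  have n0 : ¬ p ∣ p ^ f - 1 := by
    have := not_dvd_pow_sub_one (a := 1) hp hpq hq1 one_ne_zero
    rwa [pow_one] at this
  have b0 : p ^ f - 1 < (p ^ f) ^ 1 := by rw [pow_one]; omega
  refine goal_of (A := 1 + 4) hp hf h' (by simpa using hp.one_lt.ne') ?_ hg ?_ (by norm_num)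
  · exact not_dvd_mul hp n0 (not_dvd_pow_add_one hp hpq (by norm_num))
  · exact step_lt hq1 b0 (pow_add_one_le hq2)

end Cfsg.Agent.Lib.Helper14.LieOrd
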