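import Mathlib
import Cfsg.Prelude.Def_Characters
import Cfsg.Prelude.Def_Blocks

/-!
# McKay counts (helper14): `mk ℓ K` = number of irreducible characters of `K` of degree prime to `ℓ`.
-/

set_option autoImplicit false

namespace Cfsg.Agent.Lib.Helper14.McKay

open Cfsg

/-- the number of irreducible characters of degree prime to `ℓ` -/
noncomputable def mk (ℓ : ℕ) (K : Type*) [Group K] : ℕ :=
  Nat.card {χ : Cfsg.IrrCharacter K // ¬ ℓ ∣ Cfsg.charDegree (χ : K → ℂ)}

theorem mk_def (ℓ : ℕ) (K : Type*) [Group K] :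
    mk ℓ K = Nat.card {χ : Cfsg.IrrCharacter K // ¬ ℓ ∣ Cfsg.charDegree (χ : K → ℂ)} := rfl

end Cfsg.Agent.Lib.Helper14.McKay
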