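import Mathlib
import Cfsg.Agent.Lib.Helper14.SL2Values
import Cfsg.Agent.S2325
import Cfsg.Agent.S2331

/-!
# Counting the irreducible characters of `SL₂(F)`
-/

set_option autoImplicit false

namespace Cfsg.Agent.Lib.Helper14

open Matrix Cfsg.Agent.Lib.Helper2
open scoped ComplexConjugate

variable {F : Type*} [Field F] [Fintype F] [DecidableEq F]

/-- The principal series map on multiplicative characters with `δ² ≠ 1` (junk value otherwise). -/
noncomputable def psIrrSL [DecidableEq (MulChar F ℂ)] (δ : MulChar F ℂ) :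
    Cfsg.IrrCharacter (SpecialLinearGroup (Fin 2) F) :=
  if h : δ ^ 2 ≠ 1 then ⟨res (ps δ 1), res_ps_irr h⟩ else ⟨fun _ => 1, one_isIrrCharacter _⟩

theorem psIrrSL_coe [DecidableEq (MulChar F ℂ)] {δ : MulChar F ℂ} (h : δ ^ 2 ≠ 1) :
    ((psIrrSL δ : Cfsg.IrrCharacter (SpecialLinearGroup (Fin 2) F)) :
      SpecialLinearGroup (Fin 2) F → ℂ) = res (ps δ 1) := by
  unfold psIrrSL
  rw [dif_pos h]

theorem psIrrSL_eq_iff [DecidableEq (MulChar F ℂ)] {δ δ' : MulChar F ℂ} (h : δ ^ 2 ≠ 1)
    (h' : δ' ^ 2 ≠ 1) : psIrrSL δ' = psIrrSL δ ↔ δ' = δ ∨ δ' = δ⁻¹ := by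
  constructor
  · intro he
    have h1 : Cfsg.classInner (res (ps δ' 1)) (res (ps δ 1)) = 1 := by
      rw [← psIrrSL_coe h, ← psIrrSL_coe h', he]
      exact classInner_irrCharacter_self _
    rw [classInner_res_ps] at h1
    by_contra hcon
    push Not at hcon
    rw [if_neg hcon.1, if_neg (fun hh => hcon.2 (eq_inv_of_mul_eq_one_left hh))] at h1
    norm_num at h1
  · rintro (rfl | rfl)
    · rfl
    · apply Subtype.ext
      rw [psIrrSL_coe h, psIrrSL_coe h', res_ps_inv]

theorem two_mul_card_ps [Fintype (MulChar F ℂ)] [DecidableEq (MulChar F ℂ)]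
    [Fintype (Cfsg.IrrCharacter (SpecialLinearGroup (Fin 2) F))]
    [DecidableEq (Cfsg.IrrCharacter (SpecialLinearGroup (Fin 2) F))] :
    2 * ((Finset.univ.filter (fun δ : MulChar F ℂ => δ ^ 2 ≠ 1)).image psIrrSL).card =
      (Finset.univ.filter (fun δ : MulChar F ℂ => δ ^ 2 ≠ 1)).card := by
  rw [Finset.card_eq_sum_card_image psIrrSL (Finset.univ.filter (fun δ : MulChar F ℂ => δ ^ 2 ≠ 1))]
  rw [Finset.sum_const_nat (m := 2), mul_comm]
  intro θ hθ
  rw [Finset.mem_image] at hθ
  obtain ⟨δ, hδ, rfl⟩ := hθ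
  rw [Finset.mem_filter] at hδ
  have hne : δ ≠ δ⁻¹ := by
    intro h
    apply hδ.2
    rw [pow_two]
    nth_rewrite 2 [h]
    exact mul_inv_cancel δ
  have hset : Finset.filter (fun a => psIrrSL a = psIrrSL δ)
      (Finset.univ.filter (fun δ : MulChar F ℂ => δ ^ 2 ≠ 1)) = {δ, δ⁻¹} := by
    ext δ'
    rw [Finset.mem_filter, Finset.mem_filter, Finset.mem_insert, Finset.mem_singleton]
    constructor
    · rintro ⟨⟨_, h'⟩, he⟩
      exact (psIrrSL_eq_iff hδ.2 h').mp he
    · intro h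
      have h' : δ' ^ 2 ≠ 1 := by
        rcases h with rfl | rfl
        · exact hδ.2
        · rw [inv_pow]
          intro hh
          exact hδ.2 (inv_eq_one.mp hh)
      exact ⟨⟨Finset.mem_univ _, h'⟩, (psIrrSL_eq_iff hδ.2 h').mpr h⟩
  rw [hset, Finset.card_pair hne]

omit [DecidableEq F] in
theorem card_filter_sq_eq_one_even [Fintype (MulChar F ℂ)] [DecidableEq (MulChar F ℂ)]
    (heven : Even (Fintype.card F)) :
    (Finset.univ.filter (fun δ : MulChar F ℂ => δ ^ 2 = 1)).card = 1 := by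
  rw [Finset.card_eq_one]
  refine ⟨1, ?_⟩
  ext δ
  rw [Finset.mem_filter, Finset.mem_singleton]
  constructor
  · rintro ⟨_, h1⟩
    have h2 : δ ^ (Fintype.card F - 1) = 1 := by
      rw [← card_mulChar (F := F)]
      exact pow_card_eq_one'
    have h3 := pow_gcd_eq_one.mpr ⟨h1, h2⟩
    have h4 : Nat.gcd 2 (Fintype.card F - 1) = 1 := by
      have hq : 1 ≤ Fintype.card F := Fintype.card_pos
      obtain ⟨k, hk⟩ := heven
      have : Fintype.card F - 1 = 2 * (k - 1) + 1 := by omega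
      rw [this]
      simp
    rw [h4, pow_one] at h3
    exact h3
  · rintro rfl
    exact ⟨Finset.mem_univ _, one_pow 2⟩

omit [DecidableEq F] in
/-- For `q` odd there is a multiplicative character of order two. -/
theorem exists_quadratic (hodd : Odd (Fintype.card F)) :
    ∃ δ : MulChar F ℂ, δ ^ 2 = 1 ∧ δ ≠ 1 := by
  classical
  have : Fintype (MulChar F ℂ) := Fintype.ofFinite _
  have h2 : 2 ∣ Fintype.card (MulChar F ℂ) := by
    rw [← Nat.card_eq_fintype_card, card_mulChar]
    obtain ⟨k, hk⟩ := hodd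
    exact ⟨k, by omega⟩
  have : Fact (Nat.Prime 2) := ⟨Nat.prime_two⟩
  obtain ⟨δ, hδ⟩ := exists_prime_orderOf_dvd_card 2 h2
  refine ⟨δ, ?_, ?_⟩
  · rw [← hδ]; exact pow_orderOf_eq_one δ
  · intro h
    rw [h, orderOf_one] at hδ
    norm_num at hδ

omit [DecidableEq F] in
theorem card_filter_sq_eq_one_odd [Fintype (MulChar F ℂ)] [DecidableEq (MulChar F ℂ)]
    (hodd : Odd (Fintype.card F)) :
    (Finset.univ.filter (fun δ : MulChar F ℂ => δ ^ 2 = 1)).card = 2 := by
  apply le_antisymm card_mulChar_sq_eq_one_le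
  obtain ⟨δ, h1, h2⟩ := exists_quadratic hodd
  refine le_trans (Finset.card_pair h2).symm.le (Finset.card_le_card ?_)
  intro x hx
  rw [Finset.mem_insert, Finset.mem_singleton] at hx
  rw [Finset.mem_filter]
  rcases hx with rfl | rfl
  · exact ⟨Finset.mem_univ _, h1⟩
  · exact ⟨Finset.mem_univ _, one_pow 2⟩

omit [DecidableEq F] in
/-- The multiplicative character of order two is unique. -/
theorem quadratic_unique (δ δ' : MulChar F ℂ) (h : δ ^ 2 = 1) (h1 : δ ≠ 1) (h' : δ' ^ 2 = 1)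
    (h1' : δ' ≠ 1) : δ' = δ := by
  classical
  have : Fintype (MulChar F ℂ) := Fintype.ofFinite _
  by_contra hne
  have h3 : ({1, δ, δ'} : Finset (MulChar F ℂ)).card = 3 := by
    rw [Finset.card_insert_of_notMem, Finset.card_pair (Ne.symm hne)]
    rw [Finset.mem_insert, Finset.mem_singleton]
    push Not
    exact ⟨h1.symm, h1'.symm⟩
  have h4 : ({1, δ, δ'} : Finset (MulChar F ℂ)) ⊆
      Finset.univ.filter (fun δ : MulChar F ℂ => δ ^ 2 = 1) := by
    intro x hx
    rw [Finset.mem_insert, Finset.mem_insert, Finset.mem_singleton] at hx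
    rw [Finset.mem_filter]
    rcases hx with rfl | rfl | rfl
    · exact ⟨Finset.mem_univ _, one_pow 2⟩
    · exact ⟨Finset.mem_univ _, h⟩
    · exact ⟨Finset.mem_univ _, h'⟩
  have := (Finset.card_le_card h4).trans card_mulChar_sq_eq_one_le
  omega

omit [DecidableEq F] in
theorem card_filter_sq_ne_one [Fintype (MulChar F ℂ)] [DecidableEq (MulChar F ℂ)] :
    (Finset.univ.filter (fun δ : MulChar F ℂ => δ ^ 2 = 1)).card +
      (Finset.univ.filter (fun δ : MulChar F ℂ => δ ^ 2 ≠ 1)).card = Fintype.card F - 1 := by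
  rw [Finset.card_filter_add_card_filter_not, Finset.card_univ, ← Nat.card_eq_fintype_card,
    card_mulChar]

theorem card_irr_SL2_odd [Fintype (Cfsg.IrrCharacter (SpecialLinearGroup (Fin 2) F))]
    (hodd : Odd (Fintype.card F)) :
    Fintype.card (Cfsg.IrrCharacter (SpecialLinearGroup (Fin 2) F)) = Fintype.card F + 4 := by
  rw [← Nat.card_eq_fintype_card, card_irrCharacter]
  exact Cfsg.Agent.S2325.result hodd

theorem card_irr_SL2_even [Fintype (Cfsg.IrrCharacter (SpecialLinearGroup (Fin 2) F))]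
    [CharP F 2] :
    Fintype.card (Cfsg.IrrCharacter (SpecialLinearGroup (Fin 2) F)) = Fintype.card F + 1 := by
  rw [← Nat.card_eq_fintype_card, card_irrCharacter]
  exact Cfsg.Agent.S2331.result

section deg

variable {K : Type*} [Group K] [Fintype K]

/-- The degree of an irreducible character, as a natural number. -/
noncomputable def irrDeg (θ : Cfsg.IrrCharacter K) : ℕ :=
  Classical.choose (IsIrrCharacter.apply_one θ.2)

omit [Fintype K] in
theorem irrDeg_pos (θ : Cfsg.IrrCharacter K) : 0 < irrDeg θ :=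
  (Classical.choose_spec (IsIrrCharacter.apply_one θ.2)).1

omit [Fintype K] in
theorem irrDeg_spec (θ : Cfsg.IrrCharacter K) : (θ : K → ℂ) 1 = (irrDeg θ : ℂ) :=
  (Classical.choose_spec (IsIrrCharacter.apply_one θ.2)).2

omit [Fintype K] in
theorem irrDeg_eq_iff (θ : Cfsg.IrrCharacter K) (d : ℕ) : irrDeg θ = d ↔ (θ : K → ℂ) 1 = (d : ℂ) := by
  rw [irrDeg_spec]
  exact Nat.cast_inj.symm

/-- The number of irreducible characters of a given degree, as the cardinality of a filter. -/
theorem card_deg_eq [Fintype (Cfsg.IrrCharacter K)] (d : ℕ) (dc : ℂ) (hd : dc = (d : ℂ)) :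
    Nat.card {χ : Cfsg.IrrCharacter K // (χ : K → ℂ) 1 = dc} =
      (Finset.univ.filter (fun θ : Cfsg.IrrCharacter K => irrDeg θ = d)).card := by
  classical
  rw [Nat.card_eq_fintype_card, Fintype.card_subtype]
  congr 1
  ext θ
  rw [Finset.mem_filter, Finset.mem_filter, irrDeg_eq_iff, hd]

theorem sum_irrDeg_sq [Fintype (Cfsg.IrrCharacter K)] :
    ∑ θ : Cfsg.IrrCharacter K, irrDeg θ ^ 2 = Nat.card K := by
  have h := sum_irr_degree_sq (G := K)
  simp only [irrDeg_spec] at h
  exact_mod_cast h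

end deg

end Cfsg.Agent.Lib.Helper14
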