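import Mathlib
import Cfsg.Agent.Lib.Helper14.McKayDefs
import Cfsg.Agent.Lib.Helper14.SL2Count
import Cfsg.Agent.Lib.Helper24.Contribution
import Cfsg.Agent.S2299
import Cfsg.Agent.S2325

/-!
# S2436 pieces SL-A and SL-B (helper14): the `ℓ'`-degree counts of `SL₂(q)` from the degree table.
-/

set_option autoImplicit false

namespace Cfsg.Agent.Lib.Helper14.McKay

open Cfsg Matrix Cfsg.Agent.Lib.Helper14

section SL2

variable {F : Type*} [Field F] [Fintype F]

/-- `charDegree` agrees with `irrDeg`. -/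
theorem charDegree_eq_irrDeg {K : Type*} [Group K] [Fintype K] (χ : Cfsg.IrrCharacter K) :
    Cfsg.charDegree (χ : K → ℂ) = irrDeg χ := by
  have h1 := Cfsg.Agent.Lib.Helper24.apply_one_eq_charDegree χ
  have h2 := irrDeg_spec χ
  rw [h1] at h2
  exact_mod_cast h2

/-- counting a fibre of `irrDeg` -/
theorem card_irrDeg_eq {K : Type*} [Group K] [Fintype K] [Fintype (Cfsg.IrrCharacter K)]
    (d : ℕ) (dc : ℂ) (hd : dc = (d : ℂ)) (N : ℕ)
    (h : Nat.card {χ : Cfsg.IrrCharacter K // (χ : K → ℂ) 1 = dc} = N) :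
    (Finset.univ.filter (fun θ : Cfsg.IrrCharacter K => irrDeg θ = d)).card = N := by
  rw [← card_deg_eq d dc hd, h]

/-- SL-B: the count of `ℓ'`-degree characters from the degree table S2299 (`q ≥ 5`). -/
theorem mk_SL2_formula (hodd : Odd (Fintype.card F)) (h5 : 5 ≤ Fintype.card F) (ℓ : ℕ)
    [Fact ℓ.Prime] :
    mk ℓ (SpecialLinearGroup (Fin 2) F) =
      1 + (if ℓ ∣ Fintype.card F then 0 else 1) +
        (if ℓ ∣ Fintype.card F + 1 then 0 else (Fintype.card F - 3) / 2) +
        (if ℓ ∣ Fintype.card F - 1 then 0 else (Fintype.card F - 1) / 2) +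
        (if ℓ ∣ (Fintype.card F + 1) / 2 then 0 else 2) +
        (if ℓ ∣ (Fintype.card F - 1) / 2 then 0 else 2) := by
  classical
  have hℓp : ℓ.Prime := Fact.out
  have : Fintype (Cfsg.IrrCharacter (SpecialLinearGroup (Fin 2) F)) := Fintype.ofFinite _
  obtain ⟨hdeg, hcount⟩ := Cfsg.Agent.S2299.result hodd
  obtain ⟨c1, c2, c3, c4, c5, c6⟩ := hcount h5
  set q := Fintype.card F with hq
  obtain ⟨k, hk⟩ := hodd
  have e1 : (q + 1) / 2 = k + 1 := by omega
  have e2 : (q - 1) / 2 = k := by omega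
  -- the six fibres
  have f1 := card_irrDeg_eq (K := SpecialLinearGroup (Fin 2) F) 1 1 (by norm_num) _ c1
  have f2 := card_irrDeg_eq (K := SpecialLinearGroup (Fin 2) F) q (q : ℂ) rfl _ c2
  have f3 := card_irrDeg_eq (K := SpecialLinearGroup (Fin 2) F) (q + 1) ((q : ℂ) + 1)
    (by push_cast; ring) _ c3
  have f4 := card_irrDeg_eq (K := SpecialLinearGroup (Fin 2) F) (q - 1) ((q : ℂ) - 1)
    (by rw [Nat.cast_sub (by omega)]; norm_num) _ c4
  have f5 := card_irrDeg_eq (K := SpecialLinearGroup (Fin 2) F) ((q + 1) / 2)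
    (((q + 1) / 2 : ℕ) : ℂ) rfl _ c5
  have f6 := card_irrDeg_eq (K := SpecialLinearGroup (Fin 2) F) ((q - 1) / 2)
    (((q - 1) / 2 : ℕ) : ℂ) rfl _ c6
  -- every degree is one of the six
  have hcases : ∀ θ : Cfsg.IrrCharacter (SpecialLinearGroup (Fin 2) F),
      irrDeg θ = 1 ∨ irrDeg θ = q ∨ irrDeg θ = q + 1 ∨ irrDeg θ = q - 1 ∨
        irrDeg θ = (q + 1) / 2 ∨ irrDeg θ = (q - 1) / 2 := by
    intro θ
    rcases hdeg θ.1 θ.2 with h | h | h | h | h | h
    · left
      rw [irrDeg_eq_iff, h]; norm_num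
    · right; left
      rw [irrDeg_eq_iff, h]
    · right; right; left
      rw [irrDeg_eq_iff, h]; push_cast; ring
    · right; right; right; left
      rw [irrDeg_eq_iff, h, Nat.cast_sub (by omega)]; norm_num
    · right; right; right; right; left
      rw [irrDeg_eq_iff, h]
    · right; right; right; right; right
      rw [irrDeg_eq_iff, h]
  -- rewrite `mk` as a filter card
  have hmk : mk ℓ (SpecialLinearGroup (Fin 2) F) =
      (Finset.univ.filter (fun θ : Cfsg.IrrCharacter (SpecialLinearGroup (Fin 2) F) =>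
        ¬ ℓ ∣ irrDeg θ)).card := by
    rw [mk_def, Nat.card_eq_fintype_card, Fintype.card_subtype]
    congr 1
    ext θ
    rw [Finset.mem_filter, Finset.mem_filter, charDegree_eq_irrDeg]
  rw [hmk]
  -- split the filter into the six fibres
  have hsplit : (Finset.univ.filter (fun θ : Cfsg.IrrCharacter (SpecialLinearGroup (Fin 2) F) =>
        ¬ ℓ ∣ irrDeg θ)) =
      ((((((Finset.univ.filter (fun θ : Cfsg.IrrCharacter (SpecialLinearGroup (Fin 2) F) =>
          irrDeg θ = 1 ∧ ¬ ℓ ∣ 1)) ∪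
        (Finset.univ.filter (fun θ : Cfsg.IrrCharacter (SpecialLinearGroup (Fin 2) F) =>
          irrDeg θ = q ∧ ¬ ℓ ∣ q))) ∪
        (Finset.univ.filter (fun θ : Cfsg.IrrCharacter (SpecialLinearGroup (Fin 2) F) =>
          irrDeg θ = q + 1 ∧ ¬ ℓ ∣ q + 1))) ∪
        (Finset.univ.filter (fun θ : Cfsg.IrrCharacter (SpecialLinearGroup (Fin 2) F) =>
          irrDeg θ = q - 1 ∧ ¬ ℓ ∣ q - 1))) ∪
        (Finset.univ.filter (fun θ : Cfsg.IrrCharacter (SpecialLinearGroup (Fin 2) F) =>
          irrDeg θ = (q + 1) / 2 ∧ ¬ ℓ ∣ (q + 1) / 2))) ∪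
        (Finset.univ.filter (fun θ : Cfsg.IrrCharacter (SpecialLinearGroup (Fin 2) F) =>
          irrDeg θ = (q - 1) / 2 ∧ ¬ ℓ ∣ (q - 1) / 2))) := by
    ext θ
    simp only [Finset.mem_union, Finset.mem_filter, Finset.mem_univ, true_and]
    constructor
    · intro h
      rcases hcases θ with h' | h' | h' | h' | h' | h'
      · left; left; left; left; left
        exact ⟨h', by rw [← h']; exact h⟩
      · left; left; left; left; right
        exact ⟨h', by rw [← h']; exact h⟩
      · left; left; left; right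
        exact ⟨h', by rw [← h']; exact h⟩
      · left; left; right
        exact ⟨h', by rw [← h']; exact h⟩
      · left; right
        exact ⟨h', by rw [← h']; exact h⟩
      · right
        exact ⟨h', by rw [← h']; exact h⟩
    · rintro (((((h | h) | h) | h) | h) | h) <;> (rw [h.1]; exact h.2)
  have hfib : ∀ d : ℕ, (Finset.univ.filter
      (fun θ : Cfsg.IrrCharacter (SpecialLinearGroup (Fin 2) F) => irrDeg θ = d ∧ ¬ ℓ ∣ d)).card =
      if ℓ ∣ d then 0 else (Finset.univ.filter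
        (fun θ : Cfsg.IrrCharacter (SpecialLinearGroup (Fin 2) F) => irrDeg θ = d)).card := by
    intro d
    by_cases h : ℓ ∣ d
    · rw [if_pos h]
      rw [Finset.card_eq_zero, Finset.filter_eq_empty_iff]
      intro θ _ h'
      exact h'.2 h
    · rw [if_neg h]
      congr 1
      ext θ
      simp only [Finset.mem_filter, Finset.mem_univ, true_and]
      exact ⟨fun h' => h'.1, fun h' => ⟨h', h⟩⟩
  have hdisj : ∀ d d' : ℕ, d ≠ d' → Disjoint
      (Finset.univ.filter
        (fun θ : Cfsg.IrrCharacter (SpecialLinearGroup (Fin 2) F) => irrDeg θ = d ∧ ¬ ℓ ∣ d))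
      (Finset.univ.filter
        (fun θ : Cfsg.IrrCharacter (SpecialLinearGroup (Fin 2) F) => irrDeg θ = d' ∧ ¬ ℓ ∣ d')) := by
    intro d d' hne
    rw [Finset.disjoint_left]
    intro θ h1 h2
    rw [Finset.mem_filter] at h1 h2
    exact hne (h1.2.1.symm.trans h2.2.1)
  rw [hsplit]
  rw [Finset.card_union_of_disjoint, Finset.card_union_of_disjoint, Finset.card_union_of_disjoint,
    Finset.card_union_of_disjoint, Finset.card_union_of_disjoint]
  · rw [hfib, hfib, hfib, hfib, hfib, hfib, f1, f2, f3, f4, f5, f6]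
    have h1 : ¬ ℓ ∣ 1 := fun h => hℓp.one_lt.ne' (Nat.dvd_one.1 h)
    rw [if_neg h1]
  · exact hdisj _ _ (by omega)
  · rw [Finset.disjoint_union_left]
    exact ⟨hdisj _ _ (by omega), hdisj _ _ (by omega)⟩
  · simp only [Finset.disjoint_union_left]
    exact ⟨⟨hdisj _ _ (by omega), hdisj _ _ (by omega)⟩, hdisj _ _ (by omega)⟩
  · simp only [Finset.disjoint_union_left]
    exact ⟨⟨⟨hdisj _ _ (by omega), hdisj _ _ (by omega)⟩, hdisj _ _ (by omega)⟩,
      hdisj _ _ (by omega)⟩
  · simp only [Finset.disjoint_union_left]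
    exact ⟨⟨⟨⟨hdisj _ _ (by omega), hdisj _ _ (by omega)⟩, hdisj _ _ (by omega)⟩,
      hdisj _ _ (by omega)⟩, hdisj _ _ (by omega)⟩

end SL2

end Cfsg.Agent.Lib.Helper14.McKay
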