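import Mathlib
import Cfsg.Agent.Lib.Helper14.SL2Conj
import Cfsg.Agent.S2303

/-!
# The edge case `q = 3`: irreducible characters of degree two of `SL₂(F₃)` vanish at the elements
of order four
-/

set_option autoImplicit false

namespace Cfsg.Agent.Lib.Helper14

open Matrix Cfsg.Agent.Lib.Helper2
open scoped ComplexConjugate

variable {F : Type*} [Field F] [Fintype F]

/-- In the field with three elements every non-zero element has square one. -/
theorem sq_eq_one_of_card_three (hq : Fintype.card F = 3) (a : F) (ha : a ≠ 0) : a ^ 2 = 1 := by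
  have := FiniteField.pow_card_sub_one_eq_one a ha
  rwa [hq] at this

theorem three_eq_zero_of_card_three (hq : Fintype.card F = 3) : (3 : F) = 0 := by
  have := FiniteField.cast_card_eq_zero F
  rw [hq] at this
  exact_mod_cast this

theorem two_ne_zero_of_card_three (hq : Fintype.card F = 3) : (2 : F) ≠ 0 := by
  apply two_ne_zero_of_odd
  rw [hq]
  decide

/-- For `q = 3` an element of `SL₂` without eigenvectors has trace zero. -/
theorem trace_eq_zero_of_elliptic (hq : Fintype.card F = 3) (g : SpecialLinearGroup (Fin 2) F)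
    (h : ∀ (c : F) (v : Fin 2 → F), v ≠ 0 → (g : Matrix (Fin 2) (Fin 2) F).mulVec v ≠ c • v) :
    (g : Matrix (Fin 2) (Fin 2) F).trace = 0 := by
  by_contra ht
  apply elliptic_trace_sq_ne_four (two_ne_zero_of_card_three hq) g h
  rw [sq_eq_one_of_card_three hq _ ht]
  linear_combination -(three_eq_zero_of_card_three hq)

/-- For `q = 3` an element of `SL₂` without eigenvectors has square `-1`. -/
theorem sq_eq_neg_one_of_elliptic (hq : Fintype.card F = 3) (g : SpecialLinearGroup (Fin 2) F)
    (h : ∀ (c : F) (v : Fin 2 → F), v ≠ 0 → (g : Matrix (Fin 2) (Fin 2) F).mulVec v ≠ c • v) :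
    g * g = -1 := by
  have ht := trace_eq_zero_of_elliptic hq g h
  rw [Matrix.trace_fin_two] at ht
  have hdet := SL_det_eq g
  apply Subtype.ext
  show (g : Matrix (Fin 2) (Fin 2) F) * (g : Matrix (Fin 2) (Fin 2) F) = -1
  conv_lhs => rw [Matrix.eta_fin_two (g : Matrix (Fin 2) (Fin 2) F)]
  rw [Matrix.mul_fin_two, Matrix.one_fin_two]
  simp only [Matrix.neg_of, Matrix.neg_cons, Matrix.neg_empty, neg_zero]
  apply mat2_mk_eq'
  · linear_combination (g : Matrix (Fin 2) (Fin 2) F) 0 0 * ht - hdet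
  · linear_combination (g : Matrix (Fin 2) (Fin 2) F) 0 1 * ht
  · linear_combination (g : Matrix (Fin 2) (Fin 2) F) 1 0 * ht
  · linear_combination (g : Matrix (Fin 2) (Fin 2) F) 1 1 * ht - hdet

/-- For `q = 3` the centralizer in `SL₂` of an element without eigenvectors has at most four
elements. -/
theorem card_centralizer_elliptic_le (hq : Fintype.card F = 3) (g : SpecialLinearGroup (Fin 2) F)
    (h : ∀ (c : F) (v : Fin 2 → F), v ≠ 0 → (g : Matrix (Fin 2) (Fin 2) F).mulVec v ≠ c • v) :
    Nat.card (Subgroup.centralizer ({g} : Set (SpecialLinearGroup (Fin 2) F))) ≤ 4 := by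
  classical
  have ht := trace_eq_zero_of_elliptic hq g h
  rw [Matrix.trace_fin_two] at ht
  have hdet := SL_det_eq g
  have h2 := two_ne_zero_of_card_three hq
  have hC := (Cfsg.Agent.S2303.result (SpecialLinearGroup.toGL g)).2 h
  rw [hq] at hC
  set H : Subgroup (GL (Fin 2) F) :=
    (Subgroup.centralizer ({g} : Set (SpecialLinearGroup (Fin 2) F))).map
      (SpecialLinearGroup.toGL : SpecialLinearGroup (Fin 2) F →* GL (Fin 2) F) with hH
  have hcard : Nat.card H =
      Nat.card (Subgroup.centralizer ({g} : Set (SpecialLinearGroup (Fin 2) F))) :=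
    Subgroup.card_map_of_injective SpecialLinearGroup.toGL_injective
  have hle : H ≤ Subgroup.centralizer ({SpecialLinearGroup.toGL g} : Set (GL (Fin 2) F)) := by
    rintro _ ⟨s, hs, rfl⟩
    rw [SetLike.mem_coe, Subgroup.mem_centralizer_iff] at hs
    rw [Subgroup.mem_centralizer_iff]
    intro k hk
    rw [Set.mem_singleton_iff] at hk
    subst hk
    have := hs g rfl
    rw [← map_mul, ← map_mul, this]
  have hdetw : ((1 : Matrix (Fin 2) (Fin 2) F) + (g : Matrix (Fin 2) (Fin 2) F)).det = 2 := by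
    rw [Matrix.det_fin_two]
    simp only [Matrix.add_apply, Matrix.one_apply_eq, ne_eq, zero_ne_one, one_ne_zero,
      not_false_eq_true, Matrix.one_apply_ne, zero_add]
    linear_combination ht + hdet
  set w : GL (Fin 2) F := Matrix.GeneralLinearGroup.mkOfDetNeZero
    ((1 : Matrix (Fin 2) (Fin 2) F) + (g : Matrix (Fin 2) (Fin 2) F)) (by rw [hdetw]; exact h2)
    with hw
  have hwC : w ∈ Subgroup.centralizer ({SpecialLinearGroup.toGL g} : Set (GL (Fin 2) F)) := by
    rw [Subgroup.mem_centralizer_iff]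
    intro k hk
    rw [Set.mem_singleton_iff] at hk
    subst hk
    apply Units.ext
    show (g : Matrix (Fin 2) (Fin 2) F) * (1 + (g : Matrix (Fin 2) (Fin 2) F)) =
      (1 + (g : Matrix (Fin 2) (Fin 2) F)) * (g : Matrix (Fin 2) (Fin 2) F)
    rw [Matrix.mul_add, Matrix.add_mul, Matrix.mul_one, Matrix.one_mul]
  have hwH : w ∉ H := by
    rintro ⟨s, _, hs⟩
    have h1 : ((SpecialLinearGroup.toGL s : GL (Fin 2) F) : Matrix (Fin 2) (Fin 2) F).det = 1 :=
      toGL_det s
    rw [hs] at h1
    have h3 : (w : Matrix (Fin 2) (Fin 2) F).det = 2 := hdetw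
    rw [h3] at h1
    have : (1 : F) = 0 := by linear_combination h1
    exact one_ne_zero this
  have hdvd := Subgroup.card_dvd_of_le hle
  rw [hC] at hdvd
  have hne : Nat.card H ≠ 8 := by
    intro h8
    have hfin : Finite (Subgroup.centralizer ({SpecialLinearGroup.toGL g} : Set (GL (Fin 2) F))) :=
      inferInstance
    have := Subgroup.eq_of_le_of_card_ge hle (by rw [hC, h8]; norm_num)
    exact hwH (this ▸ hwC)
  rw [← hcard]
  have h8 : (3 ^ 2 - 1 : ℕ) = 8 := by norm_num
  rw [h8] at hdvd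
  obtain ⟨k, hk⟩ := hdvd
  have hk0 : k ≠ 0 := by rintro rfl; omega
  have hk1 : k ≠ 1 := by rintro rfl; omega
  have hk2 : 2 ≤ k := by omega
  nlinarith

/-- Cayley–Hamilton for `2 × 2` matrices. -/
theorem mat2_cayley_hamilton {R : Type*} [CommRing R] (M : Matrix (Fin 2) (Fin 2) R) :
    M * M = M.trace • M - M.det • (1 : Matrix (Fin 2) (Fin 2) R) := by
  ext i j
  fin_cases i <;> fin_cases j <;>
    simp [Matrix.mul_apply, Fin.sum_univ_two, Matrix.trace_fin_two, Matrix.det_fin_two] <;> ring

omit [Fintype F] in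
theorem neg_one_mem_center :
    (-1 : SpecialLinearGroup (Fin 2) F) ∈ Subgroup.center (SpecialLinearGroup (Fin 2) F) := by
  rw [Subgroup.mem_center_iff]
  intro h
  rw [mul_neg, neg_mul, mul_one, one_mul]

/-- For `q = 3`, an irreducible character of degree two of `SL₂` vanishes at the elements without
eigenvectors. -/
theorem irr_deg_two_elliptic [DecidableEq F] (hq : Fintype.card F = 3)
    {θ : SpecialLinearGroup (Fin 2) F → ℂ}
    (hθ : Cfsg.IsIrrCharacter (SpecialLinearGroup (Fin 2) F) θ) (hdeg : θ 1 = 2)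
    (g : SpecialLinearGroup (Fin 2) F)
    (hell : ∀ (c : F) (v : Fin 2 → F), v ≠ 0 → (g : Matrix (Fin 2) (Fin 2) F).mulVec v ≠ c • v) :
    θ g = 0 := by
  classical
  by_contra hne
  have hθ' := hθ
  obtain ⟨n, ρ, hρ, rfl⟩ := hθ
  have hn : n = 2 := by
    rw [Representation.char_one, Module.finrank_fin_fun] at hdeg
    exact_mod_cast hdeg
  subst hn
  have := hρ
  obtain ⟨ω, hω⟩ := exists_smul_id_of_mem_center ρ (neg_one_mem_center (F := F))
  have hAA : ρ g * ρ g = ω • (1 : (Fin 2 → ℂ) →ₗ[ℂ] (Fin 2 → ℂ)) := by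
    rw [← map_mul, sq_eq_neg_one_of_elliptic hq g hell, hω]
    rfl
  have hω2 : ω * ω = 1 := by
    have h1 : ρ (-1) * ρ (-1) = 1 := by
      rw [← map_mul, neg_mul_neg, one_mul, map_one]
    rw [hω] at h1
    have h2 := congrArg (fun f : (Fin 2 → ℂ) →ₗ[ℂ] (Fin 2 → ℂ) => f ![1, 0] 0) h1
    simpa using h2
  set M : Matrix (Fin 2) (Fin 2) ℂ := LinearMap.toMatrix' (ρ g) with hM
  have hMM : M * M = ω • (1 : Matrix (Fin 2) (Fin 2) ℂ) := by
    rw [hM, ← LinearMap.toMatrix'_mul, hAA, map_smul]
    congr 1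
    exact LinearMap.toMatrix'_id
  have htr : ρ.character g = M.trace := by
    show LinearMap.trace ℂ _ (ρ g) = _
    rw [LinearMap.trace_eq_matrix_trace ℂ (Pi.basisFun ℂ (Fin 2)), LinearMap.toMatrix_eq_toMatrix']
  rw [htr] at hne
  have hCH := mat2_cayley_hamilton M
  rw [hMM] at hCH
  -- `M` is scalar
  set c : ℂ := (ω + M.det) / M.trace with hc
  have hMc : M = c • (1 : Matrix (Fin 2) (Fin 2) ℂ) := by
    have h1 : M.trace • M = (ω + M.det) • (1 : Matrix (Fin 2) (Fin 2) ℂ) := by
      rw [add_smul, hCH]; abel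
    have h2 : M = (M.trace)⁻¹ • (M.trace • M) := by
      rw [smul_smul, inv_mul_cancel₀ hne, one_smul]
    rw [h2, h1, smul_smul, hc]
    congr 1
    field_simp
  have htr2 : M.trace = 2 * c := by
    rw [hMc, Matrix.trace_smul, Matrix.trace_one]
    simp [mul_comm]
  have hcc : c * c = ω := by
    have h1 := congrFun (congrFun hMM 0) 0
    rw [hMc] at h1
    simpa using h1
  have hnc : Complex.normSq c = 1 := by
    have h1 : Complex.normSq ω * Complex.normSq ω = 1 := by
      rw [← Complex.normSq_mul, hω2, Complex.normSq_one]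
    have h2 : Complex.normSq c * Complex.normSq c = Complex.normSq ω := by
      rw [← Complex.normSq_mul, hcc]
    have h3 : 0 ≤ Complex.normSq c := Complex.normSq_nonneg c
    have h4 : 0 ≤ Complex.normSq ω := Complex.normSq_nonneg ω
    have h5 : Complex.normSq ω = 1 := by
      rcases mul_self_eq_one_iff.mp h1 with h | h
      · exact h
      · linarith
    rw [h5] at h2
    rcases mul_self_eq_one_iff.mp h2 with h | h
    · exact h
    · linarith
  have hn4 : Complex.normSq (ρ.character g) = 4 := by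
    rw [htr, htr2, Complex.normSq_mul, hnc]
    norm_num
  -- column orthogonality
  have : Fintype (Cfsg.IrrCharacter (SpecialLinearGroup (Fin 2) F)) := Fintype.ofFinite _
  have hcol := column_orthogonality g g
  rw [if_pos (IsConj.refl g)] at hcol
  have hcol2 : ∑ ψ : Cfsg.IrrCharacter (SpecialLinearGroup (Fin 2) F),
      Complex.normSq ((ψ : SpecialLinearGroup (Fin 2) F → ℂ) g) =
      (Nat.card (Subgroup.centralizer ({g} : Set (SpecialLinearGroup (Fin 2) F))) : ℝ) := by
    have h1 : ∀ ψ : Cfsg.IrrCharacter (SpecialLinearGroup (Fin 2) F),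
        (ψ : SpecialLinearGroup (Fin 2) F → ℂ) g * conj ((ψ : SpecialLinearGroup (Fin 2) F → ℂ) g) =
        ((Complex.normSq ((ψ : SpecialLinearGroup (Fin 2) F → ℂ) g) : ℝ) : ℂ) := by
      intro ψ
      rw [Complex.mul_conj]
    simp only [h1] at hcol
    exact_mod_cast hcol
  have hle := card_centralizer_elliptic_le hq g hell
  have hle' : (Nat.card (Subgroup.centralizer ({g} : Set (SpecialLinearGroup (Fin 2) F))) : ℝ) ≤ 4 := by
    exact_mod_cast hle
  let ψ₁ : Cfsg.IrrCharacter (SpecialLinearGroup (Fin 2) F) := ⟨ρ.character, hθ'⟩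
  let ψ₂ : Cfsg.IrrCharacter (SpecialLinearGroup (Fin 2) F) := ⟨fun _ => 1, one_isIrrCharacter _⟩
  have h12 : ψ₁ ≠ ψ₂ := by
    intro h
    have h1 := congrFun (congrArg Subtype.val h) 1
    have h2 : ρ.character 1 = 1 := h1
    rw [hdeg] at h2
    norm_num at h2
  have hsub : ({ψ₁, ψ₂} : Finset (Cfsg.IrrCharacter (SpecialLinearGroup (Fin 2) F))) ⊆ Finset.univ :=
    Finset.subset_univ _
  have hge := Finset.sum_le_sum_of_subset_of_nonneg hsub
    (f := fun ψ : Cfsg.IrrCharacter (SpecialLinearGroup (Fin 2) F) =>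
      Complex.normSq ((ψ : SpecialLinearGroup (Fin 2) F → ℂ) g))
    (fun ψ _ _ => Complex.normSq_nonneg _)
  rw [Finset.sum_pair h12] at hge
  have e1 : Complex.normSq ((ψ₁ : SpecialLinearGroup (Fin 2) F → ℂ) g) = 4 := hn4
  have e2 : Complex.normSq ((ψ₂ : SpecialLinearGroup (Fin 2) F → ℂ) g) = 1 := by
    show Complex.normSq (1 : ℂ) = 1
    exact Complex.normSq_one
  rw [e1, e2, hcol2] at hge
  linarith

end Cfsg.Agent.Lib.Helper14
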