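import Mathlib
import Cfsg.Agent.Lib.Helper14.SL2Edge3

/-!
# Non-split tori of `SL₂(F)`, `F` finite of odd order

Elements without eigenvectors ("elliptic" elements): their centralisers in `SL₂(F)` have order
`q + 1`; a subgroup `C` of order `q + 1` consists, apart from `± 1`, of elliptic elements, and two
elements of a commutative `C` which are conjugate in `SL₂` are equal or inverse to each other.
-/

set_option autoImplicit false

namespace Cfsg.Agent.Lib.Helper14

open Matrix

variable {F : Type*} [Field F]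

/-- The property of having no eigenvector in `F²`. -/
def IsElliptic (g : SpecialLinearGroup (Fin 2) F) : Prop :=
  ∀ (c : F) (v : Fin 2 → F), v ≠ 0 → (g : Matrix (Fin 2) (Fin 2) F).mulVec v ≠ c • v

/-- In odd characteristic the only elements of `SL₂` of square one are `± 1`. -/
theorem eq_one_or_neg_one_of_mul_self (h2 : (2 : F) ≠ 0) (x : SpecialLinearGroup (Fin 2) F)
    (hx : x * x = 1) : x = 1 ∨ x = -1 := by
  have hdet := SL_det_eq x
  have hm : (x : Matrix (Fin 2) (Fin 2) F) * (x : Matrix (Fin 2) (Fin 2) F) = 1 := by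
    have := congrArg Subtype.val hx
    exact this
  have e00 := congrFun (congrFun hm 0) 0
  have e01 := congrFun (congrFun hm 0) 1
  have e10 := congrFun (congrFun hm 1) 0
  have e11 := congrFun (congrFun hm 1) 1
  simp only [Matrix.mul_apply, Fin.sum_univ_two, Matrix.one_apply_eq, ne_eq, zero_ne_one,
    one_ne_zero, not_false_eq_true, Matrix.one_apply_ne] at e00 e01 e10 e11
  set a := (x : Matrix (Fin 2) (Fin 2) F) 0 0
  set b := (x : Matrix (Fin 2) (Fin 2) F) 0 1
  set c := (x : Matrix (Fin 2) (Fin 2) F) 1 0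
  set d := (x : Matrix (Fin 2) (Fin 2) F) 1 1
  have hs : a + d ≠ 0 := by
    intro hs
    have hd : d = -a := by linear_combination hs
    rw [hd] at hdet
    have : (2 : F) = 0 := by linear_combination (-1 : F) * e00 - hdet
    exact h2 this
  have hb : b = 0 := by
    have : b * (a + d) = 0 := by linear_combination e01
    rcases mul_eq_zero.mp this with h | h
    · exact h
    · exact absurd h hs
  have hc : c = 0 := by
    have : c * (a + d) = 0 := by linear_combination e10
    rcases mul_eq_zero.mp this with h | h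
    · exact h
    · exact absurd h hs
  rw [hb] at hdet e00
  have ha : (a - 1) * (a + 1) = 0 := by linear_combination e00
  have had : a = d := by
    have h1 : a * (a - d) = 0 := by linear_combination e00 - hdet
    rcases mul_eq_zero.mp h1 with h | h
    · rw [h] at e00
      simp at e00
    · linear_combination h
  rcases mul_eq_zero.mp ha with h | h
  · left
    apply Subtype.ext
    show (x : Matrix (Fin 2) (Fin 2) F) = (1 : Matrix (Fin 2) (Fin 2) F)
    apply mat2_ext
    · show a = _
      rw [Matrix.one_apply_eq]; linear_combination h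
    · show b = _
      rw [hb]; simp
    · show c = _
      rw [hc]; simp
    · show d = _
      rw [Matrix.one_apply_eq, ← had]; linear_combination h
  · right
    apply Subtype.ext
    show (x : Matrix (Fin 2) (Fin 2) F) = -(1 : Matrix (Fin 2) (Fin 2) F)
    apply mat2_ext
    · show a = _
      rw [Matrix.neg_apply, Matrix.one_apply_eq]; linear_combination h
    · show b = _
      rw [hb]; simp
    · show c = _
      rw [hc]; simp
    · show d = _
      rw [Matrix.neg_apply, Matrix.one_apply_eq, ← had]; linear_combination h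

/-- A matrix `x + z M` with `M` elliptic is singular only for `x = z = 0`. -/
theorem eq_zero_of_det_eq_zero_of_isElliptic (g : SpecialLinearGroup (Fin 2) F)
    (hg : IsElliptic g) (x z : F)
    (h : (x • (1 : Matrix (Fin 2) (Fin 2) F) + z • (g : Matrix (Fin 2) (Fin 2) F)).det = 0) :
    x = 0 ∧ z = 0 := by
  by_cases hz : z = 0
  · subst hz
    refine ⟨?_, rfl⟩
    rw [zero_smul, add_zero, Matrix.det_smul, Matrix.det_one, mul_one, Fintype.card_fin] at h
    exact pow_eq_zero_iff (two_ne_zero) |>.mp h
  · exfalso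
    obtain ⟨v, hv, hv0⟩ := Matrix.exists_mulVec_eq_zero_iff.mpr h
    apply hg (-x / z) v hv
    rw [Matrix.add_mulVec, Matrix.smul_mulVec, Matrix.smul_mulVec, Matrix.one_mulVec] at hv0
    have : z • (g : Matrix (Fin 2) (Fin 2) F).mulVec v = (-x) • v := by
      rw [neg_smul]
      exact eq_neg_of_add_eq_zero_right hv0
    calc (g : Matrix (Fin 2) (Fin 2) F).mulVec v
        = z⁻¹ • (z • (g : Matrix (Fin 2) (Fin 2) F).mulVec v) := by
          rw [smul_smul, inv_mul_cancel₀ hz, one_smul]
      _ = (-x / z) • v := by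
          rw [this, smul_smul]
          congr 1
          field_simp

theorem isElliptic_not_scalar (g : SpecialLinearGroup (Fin 2) F) (hg : IsElliptic g) :
    ¬ IsScalar2 (g : Matrix (Fin 2) (Fin 2) F) := elliptic_not_scalar g hg

/-- An elliptic element is not its own inverse (odd characteristic). -/
theorem inv_ne_self_of_isElliptic (h2 : (2 : F) ≠ 0) (g : SpecialLinearGroup (Fin 2) F)
    (hg : IsElliptic g) : g⁻¹ ≠ g := by
  intro h
  have h1 : g * g = 1 := by
    nth_rewrite 1 [← h]
    exact inv_mul_cancel g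
  apply isElliptic_not_scalar g hg
  rcases eq_one_or_neg_one_of_mul_self h2 g h1 with rfl | rfl
  · refine ⟨?_, ?_, ?_⟩ <;> simp
  · refine ⟨?_, ?_, ?_⟩ <;> simp

/-- The matrix of the inverse of an element of `SL₂`. -/
theorem coe_inv_SL2 (g : SpecialLinearGroup (Fin 2) F) :
    ((g⁻¹ : SpecialLinearGroup (Fin 2) F) : Matrix (Fin 2) (Fin 2) F) =
      (g : Matrix (Fin 2) (Fin 2) F).trace • (1 : Matrix (Fin 2) (Fin 2) F) -
        (g : Matrix (Fin 2) (Fin 2) F) := by
  show Matrix.adjugate (g : Matrix (Fin 2) (Fin 2) F) = _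
  rw [Matrix.adjugate_fin_two]
  apply mat2_ext <;> simp [Matrix.trace_fin_two]

/-- Two commuting conjugate elements of `SL₂`, one of them elliptic, are equal or mutually
inverse. -/
theorem eq_or_eq_inv_of_commute_of_isConj (c y : SpecialLinearGroup (Fin 2) F)
    (hc : IsElliptic c) (hcomm : c * y = y * c) (hconj : IsConj c y) : y = c ∨ y = c⁻¹ := by
  have htr := trace_conj_SL hconj
  set t := (c : Matrix (Fin 2) (Fin 2) F).trace with ht
  have hcm : (y : Matrix (Fin 2) (Fin 2) F) * (c : Matrix (Fin 2) (Fin 2) F) =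
      (c : Matrix (Fin 2) (Fin 2) F) * (y : Matrix (Fin 2) (Fin 2) F) := by
    have := congrArg Subtype.val hcomm
    exact this.symm
  obtain ⟨a, b, hab⟩ := exists_eq_add_smul_of_commute _ _ (isElliptic_not_scalar c hc) hcm
  have hchc := mat2_cayley_hamilton (c : Matrix (Fin 2) (Fin 2) F)
  have hchy := mat2_cayley_hamilton (y : Matrix (Fin 2) (Fin 2) F)
  rw [c.2, ← ht] at hchc
  rw [y.2, ← htr] at hchy
  -- the product `(y - c) (y - t + c)` vanishes
  have hprod : ((y : Matrix (Fin 2) (Fin 2) F) - (c : Matrix (Fin 2) (Fin 2) F)) *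
      ((y : Matrix (Fin 2) (Fin 2) F) - t • (1 : Matrix (Fin 2) (Fin 2) F) +
        (c : Matrix (Fin 2) (Fin 2) F)) = 0 := by
    rw [Matrix.sub_mul, Matrix.mul_add, Matrix.mul_add, Matrix.mul_sub, Matrix.mul_sub, hchy, hchc,
      hcm]
    simp only [Matrix.mul_smul, Matrix.mul_one]
    abel
  have hdet := congrArg Matrix.det hprod
  rw [Matrix.det_mul, Matrix.det_zero] at hdet
  rcases mul_eq_zero.mp hdet with h | h
  · left
    have h' : (a • (1 : Matrix (Fin 2) (Fin 2) F) + (b - 1) • (c : Matrix (Fin 2) (Fin 2) F)).det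
        = 0 := by
      rw [← h, hab]
      congr 1
      rw [sub_smul, one_smul]
      abel
    obtain ⟨ha, hb⟩ := eq_zero_of_det_eq_zero_of_isElliptic c hc _ _ h'
    apply Subtype.ext
    rw [hab, ha, sub_eq_zero.mp hb, zero_smul, zero_add, one_smul]
  · right
    have h' : ((a - t) • (1 : Matrix (Fin 2) (Fin 2) F) +
        (b + 1) • (c : Matrix (Fin 2) (Fin 2) F)).det = 0 := by
      rw [← h, hab]
      congr 1
      rw [sub_smul, add_smul, one_smul]
      abel
    obtain ⟨ha, hb⟩ := eq_zero_of_det_eq_zero_of_isElliptic c hc _ _ h'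
    apply Subtype.ext
    rw [coe_inv_SL2, hab, sub_eq_zero.mp ha, eq_neg_of_add_eq_zero_left hb, neg_smul, one_smul,
      ← ht]
    abel

section finite

variable [Fintype F]

/-- A subgroup of order `q + 1` of `SL₂(F)`, `q` odd, contains `-1`. -/
theorem neg_one_mem_of_card (hodd : Odd (Fintype.card F))
    (C : Subgroup (SpecialLinearGroup (Fin 2) F)) (hcard : Nat.card C = Fintype.card F + 1) :
    (-1 : SpecialLinearGroup (Fin 2) F) ∈ C := by
  have h2 := two_ne_zero_of_odd hodd
  have hdvd : 2 ∣ Nat.card C := by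
    rw [hcard]
    obtain ⟨k, hk⟩ := hodd
    omega
  have : Fact (Nat.Prime 2) := ⟨Nat.prime_two⟩
  obtain ⟨x, hx⟩ := exists_prime_orderOf_dvd_card' (G := C) 2 hdvd
  have hx2 : x * x = 1 := by
    have := pow_orderOf_eq_one x
    rw [hx, pow_two] at this
    exact this
  have hx1 : x ≠ 1 := by
    intro h
    rw [h, orderOf_one] at hx
    norm_num at hx
  have hx2' : (x : SpecialLinearGroup (Fin 2) F) * (x : SpecialLinearGroup (Fin 2) F) = 1 := by
    have := congrArg Subtype.val hx2
    exact this
  rcases eq_one_or_neg_one_of_mul_self h2 _ hx2' with h | h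
  · exact absurd (Subtype.ext h) hx1
  · rw [← h]
    exact x.2

omit [Fintype F] in
theorem mulVec_pow_of_eigen (M : Matrix (Fin 2) (Fin 2) F) (lam : F) (v : Fin 2 → F)
    (h : M.mulVec v = lam • v) (n : ℕ) : (M ^ n).mulVec v = lam ^ n • v := by
  induction n with
  | zero => simp
  | succ n ih =>
    rw [pow_succ, ← Matrix.mulVec_mulVec, h, Matrix.mulVec_smul, ih, smul_smul, pow_succ,
      mul_comm]

/-- The non-central elements of a subgroup of order `q + 1` of `SL₂(F)`, `q` odd, have no
eigenvectors. -/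
theorem isElliptic_of_mem (hodd : Odd (Fintype.card F))
    (C : Subgroup (SpecialLinearGroup (Fin 2) F)) (hcard : Nat.card C = Fintype.card F + 1)
    (c : SpecialLinearGroup (Fin 2) F) (hc : c ∈ C) (hne1 : c ≠ 1) (hne2 : c ≠ -1) :
    IsElliptic c := by
  have h2 := two_ne_zero_of_odd hodd
  have hpow : c ^ (Fintype.card F + 1) = 1 := by
    have h := pow_card_eq_one' (G := C) (x := ⟨c, hc⟩)
    rw [hcard] at h
    have := congrArg Subtype.val h
    exact this
  intro lam v hv hev
  -- `lam ^ (q+1) = 1`
  have hpowm : ((c : Matrix (Fin 2) (Fin 2) F)) ^ (Fintype.card F + 1) = 1 := by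
    have h := Matrix.SpecialLinearGroup.coe_pow c (Fintype.card F + 1)
    rw [hpow, Matrix.SpecialLinearGroup.coe_one] at h
    exact h.symm
  have h1 := mulVec_pow_of_eigen _ lam v hev (Fintype.card F + 1)
  rw [hpowm, Matrix.one_mulVec] at h1
  have hlam : lam ^ (Fintype.card F + 1) = 1 := by
    by_contra hne
    apply hv
    have : (lam ^ (Fintype.card F + 1) - 1) • v = 0 := by
      rw [sub_smul, one_smul, ← h1, sub_self]
    rcases smul_eq_zero.mp this with h | h
    · exact absurd (sub_eq_zero.mp h) hne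
    · exact h
  rw [pow_succ, FiniteField.pow_card] at hlam
  -- trace
  have hdet0 : ((c : Matrix (Fin 2) (Fin 2) F) - lam • (1 : Matrix (Fin 2) (Fin 2) F)).det = 0 := by
    apply Matrix.exists_mulVec_eq_zero_iff.mp
    refine ⟨v, hv, ?_⟩
    rw [Matrix.sub_mulVec, hev, Matrix.smul_mulVec, Matrix.one_mulVec, sub_self]
  have hdet := SL_det_eq c
  have htr : (c : Matrix (Fin 2) (Fin 2) F).trace = 2 * lam := by
    rw [Matrix.det_fin_two] at hdet0
    simp only [Matrix.sub_apply, Matrix.smul_apply, Matrix.one_apply_eq, smul_eq_mul, mul_one,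
      ne_eq, zero_ne_one, one_ne_zero, not_false_eq_true, Matrix.one_apply_ne, mul_zero,
      sub_zero] at hdet0
    rw [Matrix.trace_fin_two]
    have h3 : lam * ((c : Matrix (Fin 2) (Fin 2) F) 0 0 + (c : Matrix (Fin 2) (Fin 2) F) 1 1) =
        lam * lam + 1 := by
      linear_combination hdet - hdet0
    have hl0 : lam ≠ 0 := by
      rintro rfl
      simp at hlam
    apply mul_left_cancel₀ hl0
    rw [h3, hlam]
    linear_combination (-2 : F) * hlam
  have hns : ¬ IsScalar2 (c : Matrix (Fin 2) (Fin 2) F) := by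
    rintro ⟨h01, h10, h00⟩
    rw [h01, zero_mul, sub_zero, ← h00] at hdet
    have hcc : c * c = 1 := by
      apply Subtype.ext
      show (c : Matrix (Fin 2) (Fin 2) F) * (c : Matrix (Fin 2) (Fin 2) F) = 1
      apply mat2_ext <;>
        simp [Matrix.mul_apply, Fin.sum_univ_two, h01, h10, hdet, ← h00]
    rcases eq_one_or_neg_one_of_mul_self h2 c hcc with h | h
    · exact hne1 h
    · exact hne2 h
  obtain ⟨b, hb, hcb⟩ := exists_isConj_upperSL c hns lam hlam htr
  -- the order of `upperSL lam b` does not divide `q + 1`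
  obtain ⟨x, hx⟩ := isConj_iff.mp hcb
  have hup : (upperSL lam b hlam) ^ (Fintype.card F + 1) = 1 := by
    rw [← hx, conj_pow, hpow, mul_one, mul_inv_cancel]
  have hsq : upperSL lam b hlam * upperSL lam b hlam = upperSL 1 (2 * lam * b) (one_mul 1) := by
    apply Subtype.ext
    show (!![lam, b; 0, lam] : Matrix (Fin 2) (Fin 2) F) * !![lam, b; 0, lam] =
      !![1, 2 * lam * b; 0, 1]
    rw [Matrix.mul_fin_two]
    apply mat2_mk_eq
    · rw [mul_zero, add_zero, hlam]
    · ring
    · ring
    · rw [zero_mul, zero_add, hlam]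
  obtain ⟨k, hk⟩ := hodd
  have hq1 : Fintype.card F + 1 = 2 * (k + 1) := by omega
  rw [hq1, pow_mul, pow_two, hsq, upperSL_one_pow, upperSL_eq_one_iff] at hup
  have hcast : ((k + 1 : ℕ) : F) * 2 = 1 := by
    have h0 : ((Fintype.card F : ℕ) : F) = 0 := FiniteField.cast_card_eq_zero F
    have : ((Fintype.card F + 1 : ℕ) : F) = 1 := by
      rw [Nat.cast_add, h0, zero_add, Nat.cast_one]
    rw [hq1] at this
    rw [← this]
    push_cast
    ring
  have : lam * b = 0 := by
    have h4 : ((k + 1 : ℕ) : F) * 2 * (lam * b) = 0 := by linear_combination hup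
    rw [hcast, one_mul] at h4
    exact h4
  rcases mul_eq_zero.mp this with h | h
  · rw [h] at hlam
    simp at hlam
  · exact hb h

omit [Fintype F] in
theorem det_add_smul (M : Matrix (Fin 2) (Fin 2) F) (x z : F) :
    (x • (1 : Matrix (Fin 2) (Fin 2) F) + z • M).det = x ^ 2 + M.trace * x * z + M.det * z ^ 2 := by
  simp only [Matrix.det_fin_two, Matrix.trace_fin_two, Matrix.add_apply, Matrix.smul_apply,
    Matrix.one_apply_eq, smul_eq_mul, mul_one, ne_eq, zero_ne_one, one_ne_zero, not_false_eq_true,
    Matrix.one_apply_ne, mul_zero, zero_add]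
  ring

/-- The centraliser in `GL₂(F)` of an elliptic element has order `q² - 1`. -/
theorem card_centralizer_GL_of_isElliptic (c : SpecialLinearGroup (Fin 2) F) (hc : IsElliptic c) :
    Nat.card (Subgroup.centralizer ({SpecialLinearGroup.toGL c} : Set (GL (Fin 2) F))) =
      Fintype.card F ^ 2 - 1 := by
  classical
  rw [card_centralizer_nonscalar _ (isElliptic_not_scalar c hc)]
  have : Nat.card {p : F × F // (p.1 • (1 : Matrix (Fin 2) (Fin 2) F) +
      p.2 • ((SpecialLinearGroup.toGL c : GL (Fin 2) F) : Matrix (Fin 2) (Fin 2) F)).det ≠ 0} =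
      Nat.card {p : F × F // p ≠ 0} := by
    apply Nat.card_congr
    apply Equiv.subtypeEquivRight
    rintro ⟨x, z⟩
    constructor
    · intro h h0
      apply h
      rw [Prod.mk_eq_zero] at h0
      rw [h0.1, h0.2]
      simp
    · intro h h0
      apply h
      obtain ⟨h1, h2⟩ := eq_zero_of_det_eq_zero_of_isElliptic c hc x z h0
      rw [Prod.mk_eq_zero]
      exact ⟨h1, h2⟩
  rw [this, Nat.card_eq_fintype_card, Fintype.card_subtype, Finset.filter_ne' Finset.univ (0 : F × F),
    Finset.card_erase_of_mem (Finset.mem_univ _), Finset.card_univ, Fintype.card_prod, pow_two]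

/-- The centraliser in `SL₂(F)` of an elliptic element has order `q + 1`. -/
theorem card_centralizer_of_isElliptic (hodd : Odd (Fintype.card F))
    (c : SpecialLinearGroup (Fin 2) F) (hc : IsElliptic c) :
    Nat.card (Subgroup.centralizer ({c} : Set (SpecialLinearGroup (Fin 2) F))) =
      Fintype.card F + 1 := by
  classical
  have h2 := two_ne_zero_of_odd hodd
  set g : GL (Fin 2) F := SpecialLinearGroup.toGL c with hg
  set K := Subgroup.centralizer ({g} : Set (GL (Fin 2) F)) with hK
  let φ : K →* Fˣ := (Matrix.GeneralLinearGroup.det : GL (Fin 2) F →* Fˣ).comp K.subtype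
  have hsurj : Function.Surjective φ := by
    intro u
    obtain ⟨a, b, hab⟩ := exists_norm_eq (c : Matrix (Fin 2) (Fin 2) F).trace (u : F)
      (elliptic_trace_sq_ne_four h2 c hc)
    have hdet : (a • (1 : Matrix (Fin 2) (Fin 2) F) + b • (c : Matrix (Fin 2) (Fin 2) F)).det =
        (u : F) := by
      rw [det_add_smul, c.2, ← hab]
      ring
    have hne : (a • (1 : Matrix (Fin 2) (Fin 2) F) + b • (c : Matrix (Fin 2) (Fin 2) F)).det ≠ 0 := by
      rw [hdet]
      exact u.ne_zero
    refine ⟨⟨Matrix.GeneralLinearGroup.mkOfDetNeZero _ hne, ?_⟩, ?_⟩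
    · rw [hK, Subgroup.mem_centralizer_iff]
      intro h hh
      rw [Set.mem_singleton_iff] at hh
      subst hh
      apply Units.ext
      simp only [Units.val_mul]
      show (c : Matrix (Fin 2) (Fin 2) F) * (a • (1 : Matrix (Fin 2) (Fin 2) F) +
          b • (c : Matrix (Fin 2) (Fin 2) F)) =
        (a • (1 : Matrix (Fin 2) (Fin 2) F) + b • (c : Matrix (Fin 2) (Fin 2) F)) *
          (c : Matrix (Fin 2) (Fin 2) F)
      simp [Matrix.mul_add, Matrix.add_mul]
    · apply Units.ext
      show (a • (1 : Matrix (Fin 2) (Fin 2) F) + b • (c : Matrix (Fin 2) (Fin 2) F)).det = (u : F)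
      exact hdet
  have hker : Nat.card φ.ker =
      Nat.card (Subgroup.centralizer ({c} : Set (SpecialLinearGroup (Fin 2) F))) := by
    symm
    let ψ : Subgroup.centralizer ({c} : Set (SpecialLinearGroup (Fin 2) F)) → φ.ker :=
      fun s => ⟨⟨SpecialLinearGroup.toGL (s : SpecialLinearGroup (Fin 2) F), by
        rw [hK, Subgroup.mem_centralizer_iff]
        intro h hh
        rw [Set.mem_singleton_iff] at hh
        subst hh
        have := Subgroup.mem_centralizer_iff.mp s.2 c rfl
        rw [hg, ← map_mul, ← map_mul, this]⟩, by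
        rw [MonoidHom.mem_ker]
        apply Units.ext
        show ((s : SpecialLinearGroup (Fin 2) F) : Matrix (Fin 2) (Fin 2) F).det = 1
        exact (s : SpecialLinearGroup (Fin 2) F).2⟩
    apply Nat.card_eq_of_bijective ψ
    constructor
    · intro s s' h
      have h1 := congrArg (fun z : φ.ker => ((z : K) : GL (Fin 2) F)) h
      exact Subtype.ext (SpecialLinearGroup.toGL_injective h1)
    · rintro ⟨⟨k, hk⟩, hk1⟩
      rw [MonoidHom.mem_ker] at hk1
      have hdet : (k : Matrix (Fin 2) (Fin 2) F).det = 1 := by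
        have := congrArg (fun u : Fˣ => (u : F)) hk1
        exact this
      let s0 : SpecialLinearGroup (Fin 2) F := ⟨(k : Matrix (Fin 2) (Fin 2) F), hdet⟩
      have hkc : s0 ∈ Subgroup.centralizer ({c} : Set (SpecialLinearGroup (Fin 2) F)) := by
        refine Subgroup.mem_centralizer_iff.mpr ?_
        intro h hh
        rw [Set.mem_singleton_iff] at hh
        subst hh
        rw [hK, Subgroup.mem_centralizer_iff] at hk
        have := hk g rfl
        apply Subtype.ext
        have h3 := congrArg (fun z : GL (Fin 2) F => (z : Matrix (Fin 2) (Fin 2) F)) this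
        exact h3
      refine ⟨⟨s0, hkc⟩, ?_⟩
      apply Subtype.ext
      apply Subtype.ext
      apply Units.ext
      rfl
  have h1 := Subgroup.card_mul_index φ.ker
  rw [Subgroup.index_ker, MonoidHom.range_eq_top.mpr hsurj, Subgroup.card_top, hker,
    card_centralizer_GL_of_isElliptic c hc, Nat.card_eq_fintype_card (α := Fˣ),
    Fintype.card_units] at h1
  have hq : 2 ≤ Fintype.card F := Fintype.one_lt_card
  obtain ⟨k, hk⟩ : ∃ k, Fintype.card F = k + 2 := ⟨Fintype.card F - 2, by omega⟩
  rw [hk] at h1 ⊢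
  have h3 : (k + 2) ^ 2 - 1 = (k + 2 + 1) * (k + 2 - 1) := by
    have : (k + 2) ^ 2 = (k + 2 + 1) * (k + 2 - 1) + 1 := by
      have : k + 2 - 1 = k + 1 := by omega
      rw [this]; ring
    omega
  rw [h3] at h1
  exact Nat.eq_of_mul_eq_mul_right (by omega) h1

end finite

end Cfsg.Agent.Lib.Helper14
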