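import Mathlib
import Cfsg.Agent.Lib.Helper14.SL2Torus
import Cfsg.Agent.Lib.Helper14.IndValues
import Cfsg.Agent.Lib.Helper14.SL2Values
import Cfsg.Agent.Lib.Helper11.GenChar
import Cfsg.Agent.Lib.Helper2.DirectProduct

/-!
# The cuspidal (discrete series) characters of `SL₂(F)`, `F` finite of odd order

For a cyclic subgroup `C` of order `q + 1`, a homomorphism `θ : C →* ℂˣ` and a multiplicative
character `α` of `F` with `α (-1) = θ (-1)` we consider the generalized character

  `cuspFun C α θ = (St - 1) · Ind_B^G α - Ind_C^G θ`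

and compute its values and the inner products of two of them.
-/

set_option autoImplicit false

namespace Cfsg.Agent.Lib.Helper14

open Matrix Cfsg.Agent.Lib.Helper2
open scoped ComplexConjugate

variable {F : Type*} [Field F]

/-! ### The Borel subgroup of `SL₂` -/

section borel

/-- The Borel subgroup of `SL₂(F)`. -/
abbrev borelSL (F : Type*) [Field F] : Subgroup (SpecialLinearGroup (Fin 2) F) :=
  (Cfsg.upperTriangularGL 2 F).comap SpecialLinearGroup.toGL

/-- The element `[[a, x], [0, a⁻¹]]` of `SL₂`. -/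
def bSL (a : Fˣ) (x : F) : SpecialLinearGroup (Fin 2) F :=
  ⟨!![(a : F), x; 0, ((a⁻¹ : Fˣ) : F)], by simp [Matrix.det_fin_two]⟩

@[simp] theorem bSL_coe (a : Fˣ) (x : F) :
    ((bSL a x : SpecialLinearGroup (Fin 2) F) : Matrix (Fin 2) (Fin 2) F) =
      !![(a : F), x; 0, ((a⁻¹ : Fˣ) : F)] := rfl

theorem bSL_mem (a : Fˣ) (x : F) : bSL a x ∈ borelSL F := by
  rw [mem_borelSL_iff]
  simp

/-- Parametrisation of the Borel subgroup. -/
def borelSLEquiv : Fˣ × F ≃ borelSL F where
  toFun p := ⟨bSL p.1 p.2, bSL_mem p.1 p.2⟩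
  invFun b := (Units.mk0 (((b : SpecialLinearGroup (Fin 2) F) : Matrix (Fin 2) (Fin 2) F) 0 0) (by
      have hdet := SL_det_eq (b : SpecialLinearGroup (Fin 2) F)
      have h10 := (mem_borelSL_iff _).mp b.2
      rw [h10, mul_zero, sub_zero] at hdet
      intro h
      rw [h, zero_mul] at hdet
      exact zero_ne_one hdet),
    ((b : SpecialLinearGroup (Fin 2) F) : Matrix (Fin 2) (Fin 2) F) 0 1)
  left_inv p := by
    apply Prod.ext
    · apply Units.ext
      simp
    · simp
  right_inv b := by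
    apply Subtype.ext
    apply Subtype.ext
    have hdet := SL_det_eq (b : SpecialLinearGroup (Fin 2) F)
    have h10 := (mem_borelSL_iff _).mp b.2
    rw [h10, mul_zero, sub_zero] at hdet
    show (!![_, _; 0, _] : Matrix (Fin 2) (Fin 2) F) = _
    apply mat2_ext
    · simp
    · simp
    · simp [h10]
    · simp only [Matrix.of_apply, Matrix.cons_val', Matrix.cons_val_one, Matrix.cons_val_fin_one]
      rw [Units.val_inv_eq_inv_val, Units.val_mk0]
      exact inv_eq_of_mul_eq_one_right hdet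

theorem sum_borelSL [Fintype F] [DecidableEq F] [Fintype (borelSL F)] (f : borelSL F → ℂ) :
    ∑ b : borelSL F, f b = ∑ a : Fˣ, ∑ x : F, f ⟨bSL a x, bSL_mem a x⟩ := by
  rw [← Finset.sum_product', Finset.univ_product_univ]
  exact (Fintype.sum_equiv borelSLEquiv _ _ (fun _ => rfl)).symm

theorem card_borelSL [Fintype F] :
    Nat.card (borelSL F) = (Fintype.card F - 1) * Fintype.card F := by
  classical
  rw [← Nat.card_congr (borelSLEquiv (F := F)), Nat.card_prod, Nat.card_eq_fintype_card,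
    Nat.card_eq_fintype_card, Fintype.card_units]

theorem neg_one_mem_borelSL : (-1 : SpecialLinearGroup (Fin 2) F) ∈ borelSL F := by
  rw [mem_borelSL_iff]
  simp

theorem neg_one_mem_center_SL :
    (-1 : SpecialLinearGroup (Fin 2) F) ∈ Subgroup.center (SpecialLinearGroup (Fin 2) F) := by
  rw [Subgroup.mem_center_iff]
  intro g
  simp

/-- `Ind_B^G α` at `-g`. -/
theorem res_ps_neg [Fintype F] [DecidableEq F] (α : MulChar F ℂ)
    (g : SpecialLinearGroup (Fin 2) F) :
    res (ps α 1) (-1 * g) = α (-1) * res (ps α 1) g := by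
  rw [← indFun_thetaSL]
  apply indFun_central_mul _ _ _ neg_one_mem_center_SL neg_one_mem_borelSL
  intro h
  unfold thetaSL
  rw [← map_mul]
  congr 1
  simp

theorem res_st_neg [Fintype F] [DecidableEq F] (g : SpecialLinearGroup (Fin 2) F) :
    res (st (1 : MulChar F ℂ)) (-1 * g) = res (st (1 : MulChar F ℂ)) g := by
  unfold st
  rw [res_sub, Pi.sub_apply, Pi.sub_apply, res_ps_neg, res_detChar_one_apply,
    res_detChar_one_apply, MulChar.one_apply (isUnit_one.neg), one_mul]

/-- An upper triangular element with distinct diagonal entries is conjugate to its diagonal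
part. -/
theorem exists_conj_diag (g : SpecialLinearGroup (Fin 2) F)
    (h10 : (g : Matrix (Fin 2) (Fin 2) F) 1 0 = 0)
    (hne : (g : Matrix (Fin 2) (Fin 2) F) 0 0 ^ 2 ≠ 1) :
    ∃ n d : SpecialLinearGroup (Fin 2) F, n * g * n⁻¹ = d ∧
      (d : Matrix (Fin 2) (Fin 2) F) 0 1 = 0 ∧ (d : Matrix (Fin 2) (Fin 2) F) 1 0 = 0 ∧
      (d : Matrix (Fin 2) (Fin 2) F) 0 0 = (g : Matrix (Fin 2) (Fin 2) F) 0 0 := by
  have hdet := SL_det_eq g
  rw [h10, mul_zero, sub_zero] at hdet
  set a := (g : Matrix (Fin 2) (Fin 2) F) 0 0 with ha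
  set e := (g : Matrix (Fin 2) (Fin 2) F) 1 1 with he
  set x := (g : Matrix (Fin 2) (Fin 2) F) 0 1 with hx
  have hae : a - e ≠ 0 := by
    intro h
    apply hne
    have : a = e := sub_eq_zero.mp h
    rw [pow_two]
    nth_rewrite 2 [this]
    exact hdet
  let n : SpecialLinearGroup (Fin 2) F := ⟨!![1, x / (a - e); 0, 1], by simp [Matrix.det_fin_two]⟩
  let d : SpecialLinearGroup (Fin 2) F := ⟨!![a, 0; 0, e], by simp [Matrix.det_fin_two, hdet]⟩
  refine ⟨n, d, ?_, rfl, rfl, rfl⟩
  apply mul_inv_eq_of_eq_mul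
  apply Subtype.ext
  show (!![1, x / (a - e); 0, 1] : Matrix (Fin 2) (Fin 2) F) * (g : Matrix (Fin 2) (Fin 2) F) =
    !![a, 0; 0, e] * !![1, x / (a - e); 0, 1]
  rw [Matrix.eta_fin_two (g : Matrix (Fin 2) (Fin 2) F), Matrix.mul_fin_two, Matrix.mul_fin_two]
  rw [h10, ← ha, ← he, ← hx]
  apply mat2_mk_eq
  · ring
  · field_simp
    ring
  · ring
  · ring

/-- The Steinberg character takes the value `1` at the upper triangular elements with distinct
diagonal entries. -/
theorem res_st_upper [Fintype F] [DecidableEq F] (g : SpecialLinearGroup (Fin 2) F)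
    (h10 : (g : Matrix (Fin 2) (Fin 2) F) 1 0 = 0)
    (hne : (g : Matrix (Fin 2) (Fin 2) F) 0 0 ^ 2 ≠ 1) :
    res (st (1 : MulChar F ℂ)) g = 1 := by
  obtain ⟨n, d, hnd, h01, h10', h00⟩ := exists_conj_diag g h10 hne
  have hcl := IsCharacter.isClassFunction (IsIrrCharacter.isCharacter (res_st_irr (F := F)))
  rw [← hcl g n, hnd]
  apply res_st_diag d h01 h10'
  rw [h00]
  exact hne

end borel

/-! ### Induction from the non-split torus -/

section torus

variable [Fintype F] (C : Subgroup (SpecialLinearGroup (Fin 2) F))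

/-- A homomorphism `C →* ℂˣ` as a complex valued function. -/
def thetaC (θ : C →* ℂˣ) : C → ℂ := fun c => ((θ c : ℂˣ) : ℂ)

/-- The character of `SL₂(F)` induced from `θ`. -/
noncomputable def indC [DecidableEq F] (θ : C →* ℂˣ) : SpecialLinearGroup (Fin 2) F → ℂ :=
  Cfsg.indFun C (thetaC C θ)

variable [DecidableEq F]

theorem indC_isCharacter (θ : C →* ℂˣ) :
    Cfsg.IsCharacter (SpecialLinearGroup (Fin 2) F) (indC C θ) :=
  indFun_isCharacter _ _ (IsIrrCharacter.isCharacter (isIrrCharacter_of_monoidHom θ))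

theorem indC_neg (θ : C →* ℂˣ) (hneg : (-1 : SpecialLinearGroup (Fin 2) F) ∈ C)
    (g : SpecialLinearGroup (Fin 2) F) :
    indC C θ (-1 * g) = ((θ ⟨-1, hneg⟩ : ℂˣ) : ℂ) * indC C θ g := by
  apply indFun_central_mul _ _ _ neg_one_mem_center_SL hneg
  intro h
  unfold thetaC
  rw [map_mul, Units.val_mul]

omit [Fintype F] [DecidableEq F] in
theorem isElliptic_conj (g x : SpecialLinearGroup (Fin 2) F) (h : IsElliptic (x⁻¹ * g * x)) :
    IsElliptic g := by
  intro lam v hv hev
  have hx1 : (x : Matrix (Fin 2) (Fin 2) F) *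
      ((x⁻¹ : SpecialLinearGroup (Fin 2) F) : Matrix (Fin 2) (Fin 2) F) = 1 := by
    have := congrArg (fun z : SpecialLinearGroup (Fin 2) F => (z : Matrix (Fin 2) (Fin 2) F))
      (mul_inv_cancel x)
    exact this
  have hmul : ((x⁻¹ * g * x : SpecialLinearGroup (Fin 2) F) : Matrix (Fin 2) (Fin 2) F) =
      ((x⁻¹ : SpecialLinearGroup (Fin 2) F) : Matrix (Fin 2) (Fin 2) F) *
        (g : Matrix (Fin 2) (Fin 2) F) * (x : Matrix (Fin 2) (Fin 2) F) := rfl
  apply h lam (((x⁻¹ : SpecialLinearGroup (Fin 2) F) : Matrix (Fin 2) (Fin 2) F).mulVec v)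
  · intro h0
    apply hv
    have := congrArg ((x : Matrix (Fin 2) (Fin 2) F).mulVec) h0
    rw [Matrix.mulVec_mulVec, hx1, Matrix.one_mulVec, Matrix.mulVec_zero] at this
    exact this
  · rw [hmul, Matrix.mulVec_mulVec, Matrix.mul_assoc, Matrix.mul_assoc, hx1, Matrix.mul_one,
      ← Matrix.mulVec_mulVec, hev, Matrix.mulVec_smul]

omit [Fintype F] [DecidableEq F] in
/-- Upper triangular elements have an eigenvector. -/
theorem not_isElliptic_of_upper (g : SpecialLinearGroup (Fin 2) F)
    (h10 : (g : Matrix (Fin 2) (Fin 2) F) 1 0 = 0) : ¬ IsElliptic g := by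
  intro h
  apply h ((g : Matrix (Fin 2) (Fin 2) F) 0 0) ![1, 0]
  · intro h0
    have := congrFun h0 0
    simp at this
  · ext i
    fin_cases i
    · simp [Matrix.mulVec, dotProduct, Fin.sum_univ_two]
    · simp [Matrix.mulVec, dotProduct, Fin.sum_univ_two, h10]

variable (hodd : Odd (Fintype.card F)) (hcard : Nat.card C = Fintype.card F + 1)

include hodd hcard in
/-- `Ind_C^G θ` vanishes at the non-central upper triangular elements. -/
theorem indC_upper (θ : C →* ℂˣ) (g : SpecialLinearGroup (Fin 2) F)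
    (h10 : (g : Matrix (Fin 2) (Fin 2) F) 1 0 = 0) (hne1 : g ≠ 1) (hne2 : g ≠ -1) :
    indC C θ g = 0 := by
  apply indFun_eq_zero_of_forall_not_mem
  intro x hx
  apply not_isElliptic_of_upper g h10
  apply isElliptic_conj g x
  apply isElliptic_of_mem hodd C hcard _ hx
  · intro h
    apply hne1
    have : g = x * (x⁻¹ * g * x) * x⁻¹ := by group
    rw [this, h]
    group
  · intro h
    apply hne2
    have : g = x * (x⁻¹ * g * x) * x⁻¹ := by group
    rw [this, h]
    simp

omit [DecidableEq F] in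
include hcard in
theorem index_torus : C.index = Fintype.card F * (Fintype.card F - 1) := by
  have h := Subgroup.card_mul_index C
  rw [hcard, card_SL2] at h
  have hq : 2 ≤ Fintype.card F := Fintype.one_lt_card
  obtain ⟨k, hk⟩ : ∃ k, Fintype.card F = k + 2 := ⟨Fintype.card F - 2, by omega⟩
  rw [hk] at h ⊢
  have h3 : (k + 2) * ((k + 2) ^ 2 - 1) = (k + 2 + 1) * ((k + 2) * (k + 2 - 1)) := by
    have h4 : (k + 2) ^ 2 - 1 = (k + 2 + 1) * (k + 2 - 1) := by
      have : (k + 2) ^ 2 = (k + 2 + 1) * (k + 2 - 1) + 1 := by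
        have : k + 2 - 1 = k + 1 := by omega
        rw [this]; ring
      omega
    rw [h4]; ring
  rw [h3] at h
  exact Nat.eq_of_mul_eq_mul_left (by omega) h

omit hodd in
include hcard in
theorem indC_one (θ : C →* ℂˣ) :
    indC C θ 1 = (Fintype.card F : ℂ) * ((Fintype.card F : ℂ) - 1) := by
  unfold indC
  rw [indFun_central _ _ 1 (Subgroup.one_mem _) (Subgroup.one_mem _), index_torus C hcard]
  unfold thetaC
  have : (⟨1, Subgroup.one_mem C⟩ : C) = 1 := rfl
  rw [this, map_one, Units.val_one, mul_one, Nat.cast_mul, Nat.cast_sub Fintype.card_pos,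
    Nat.cast_one]

include hodd hcard in
/-- `Ind_C^G θ` at the non-central elements of `C`. -/
theorem indC_mem (hC : IsCyclic C) (θ : C →* ℂˣ) (c : C)
    (hne1 : (c : SpecialLinearGroup (Fin 2) F) ≠ 1) (hne2 : (c : SpecialLinearGroup (Fin 2) F) ≠ -1) :
    indC C θ c = ((θ c : ℂˣ) : ℂ) + ((θ c⁻¹ : ℂˣ) : ℂ) := by
  have h2 := two_ne_zero_of_odd hodd
  have hell := isElliptic_of_mem hodd C hcard c c.2 hne1 hne2
  have hcomm : ∀ a b : C, a * b = b * a := by
    intro a b
    obtain ⟨g, hg⟩ := hC.exists_generator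
    obtain ⟨m, rfl⟩ := Subgroup.mem_zpowers_iff.mp (hg a)
    obtain ⟨n, rfl⟩ := Subgroup.mem_zpowers_iff.mp (hg b)
    rw [← _root_.zpow_add, ← _root_.zpow_add, add_comm]
  have hconj : IsConj (c : SpecialLinearGroup (Fin 2) F) (c : SpecialLinearGroup (Fin 2) F)⁻¹ := by
    have hns := isElliptic_not_scalar _ hell
    have htr := elliptic_trace_sq_ne_four h2 _ hell
    have htinv : ((c : SpecialLinearGroup (Fin 2) F)⁻¹ : SpecialLinearGroup (Fin 2) F).1.trace =
        (c : SpecialLinearGroup (Fin 2) F).1.trace := by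
      show (((c : SpecialLinearGroup (Fin 2) F)⁻¹ : SpecialLinearGroup (Fin 2) F) :
        Matrix (Fin 2) (Fin 2) F).trace = _
      rw [coe_inv_SL2, Matrix.trace_sub, Matrix.trace_smul, Matrix.trace_one, Fintype.card_fin]
      simp
      ring
    have hns' : ¬ IsScalar2 (((c : SpecialLinearGroup (Fin 2) F)⁻¹ : SpecialLinearGroup (Fin 2) F) :
        Matrix (Fin 2) (Fin 2) F) := by
      intro hs
      apply hns
      rw [coe_inv_SL2] at hs
      obtain ⟨s1, s2, s3⟩ := hs
      simp only [Matrix.sub_apply, Matrix.smul_apply, Matrix.one_apply_eq, smul_eq_mul, mul_one,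
        ne_eq, zero_ne_one, one_ne_zero, not_false_eq_true, Matrix.one_apply_ne, mul_zero,
        zero_sub, neg_eq_zero] at s1 s2 s3
      exact ⟨s1, s2, by linear_combination -s3⟩
    have h1 := isConj_comp2SL _ hns htr
    have h3 := isConj_comp2SL _ hns' (by
      show (((c : SpecialLinearGroup (Fin 2) F)⁻¹ : SpecialLinearGroup (Fin 2) F).1.trace) ^ 2 ≠ 4
      rw [htinv]; exact htr)
    have h3' : IsConj ((c : SpecialLinearGroup (Fin 2) F)⁻¹)
        (comp2SL ((c : SpecialLinearGroup (Fin 2) F) : Matrix (Fin 2) (Fin 2) F).trace) := by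
      have : (((c : SpecialLinearGroup (Fin 2) F)⁻¹ : SpecialLinearGroup (Fin 2) F) :
        Matrix (Fin 2) (Fin 2) F).trace = ((c : SpecialLinearGroup (Fin 2) F) :
          Matrix (Fin 2) (Fin 2) F).trace := htinv
      rw [← this]
      exact h3
    exact h1.trans h3'.symm
  have hinv : (c : SpecialLinearGroup (Fin 2) F)⁻¹ ∈ C := C.inv_mem c.2
  have key := indFun_of_conj_cases C (thetaC C θ) (c : SpecialLinearGroup (Fin 2) F) c.2 hinv
    (inv_ne_self_of_isElliptic h2 _ hell) ?_ hconj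
    (by rw [card_centralizer_of_isElliptic hodd _ hell, hcard])
  · unfold indC
    rw [key]
    unfold thetaC
    rfl
  · intro x hx
    apply eq_or_eq_inv_of_commute_of_isConj _ _ hell
    · have := hcomm c ⟨_, hx⟩
      exact congrArg Subtype.val this
    · rw [isConj_iff]
      exact ⟨x⁻¹, by group⟩

end torus

/-! ### The cuspidal class functions -/

section cusp

variable [Fintype F] [DecidableEq F] (C : Subgroup (SpecialLinearGroup (Fin 2) F))

/-- The Steinberg character minus one. -/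
noncomputable def stm : SpecialLinearGroup (Fin 2) F → ℂ :=
  fun g => res (st (1 : MulChar F ℂ)) g - 1

/-- The generalized character `(St - 1) · Ind_B^G α - Ind_C^G θ`. -/
noncomputable def cuspFun (α : MulChar F ℂ) (θ : C →* ℂˣ) : SpecialLinearGroup (Fin 2) F → ℂ :=
  fun g => stm g * res (ps α 1) g - indC C θ g

theorem cuspFun_isGeneralizedCharacter (α : MulChar F ℂ) (θ : C →* ℂˣ) :
    Cfsg.IsGeneralizedCharacter (SpecialLinearGroup (Fin 2) F) (cuspFun C α θ) := by
  refine ⟨res (st (1 : MulChar F ℂ)) * res (ps α 1), res (ps α 1) + indC C θ,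
    isCharacter_mul (IsIrrCharacter.isCharacter res_st_irr) (res_ps_isCharacter α 1),
    isCharacter_add (res_ps_isCharacter α 1) (indC_isCharacter C θ), ?_⟩
  ext g
  simp only [cuspFun, stm, Pi.sub_apply, Pi.mul_apply, Pi.add_apply]
  ring

theorem cuspFun_isClassFunction (α : MulChar F ℂ) (θ : C →* ℂˣ) :
    Cfsg.IsClassFunction (SpecialLinearGroup (Fin 2) F) (cuspFun C α θ) := by
  intro g h
  have h1 := IsCharacter.isClassFunction (IsIrrCharacter.isCharacter (res_st_irr (F := F))) g h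
  have h2 := IsCharacter.isClassFunction (res_ps_isCharacter α 1) g h
  have h3 := IsCharacter.isClassFunction (indC_isCharacter C θ) g h
  simp only [cuspFun, stm, h1, h2, h3]

theorem stm_neg (g : SpecialLinearGroup (Fin 2) F) : stm (-1 * g) = stm g := by
  unfold stm
  rw [res_st_neg]

theorem stm_one : stm (1 : SpecialLinearGroup (Fin 2) F) = (Fintype.card F : ℂ) - 1 := by
  unfold stm
  rw [res_st_one]

theorem stm_unip (g : SpecialLinearGroup (Fin 2) F)
    (h10 : (g : Matrix (Fin 2) (Fin 2) F) 1 0 = 0)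
    (heq : (g : Matrix (Fin 2) (Fin 2) F) 0 0 = (g : Matrix (Fin 2) (Fin 2) F) 1 1)
    (h01 : (g : Matrix (Fin 2) (Fin 2) F) 0 1 ≠ 0) : stm g = -1 := by
  unfold stm
  rw [res_st_unip g h10 heq h01, zero_sub]

theorem stm_upper (g : SpecialLinearGroup (Fin 2) F)
    (h10 : (g : Matrix (Fin 2) (Fin 2) F) 1 0 = 0)
    (hne : (g : Matrix (Fin 2) (Fin 2) F) 0 0 ^ 2 ≠ 1) : stm g = 0 := by
  unfold stm
  rw [res_st_upper g h10 hne, sub_self]

theorem stm_elliptic (g : SpecialLinearGroup (Fin 2) F) (h : IsElliptic g) : stm g = -2 := by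
  unfold stm
  rw [res_st_elliptic g h]
  norm_num

variable (hodd : Odd (Fintype.card F)) (hcard : Nat.card C = Fintype.card F + 1)

/-- The central character. -/
theorem cuspFun_neg (α : MulChar F ℂ) (θ : C →* ℂˣ)
    (hneg : (-1 : SpecialLinearGroup (Fin 2) F) ∈ C)
    (hα : α (-1) = ((θ ⟨-1, hneg⟩ : ℂˣ) : ℂ)) (g : SpecialLinearGroup (Fin 2) F) :
    cuspFun C α θ (-1 * g) = ((θ ⟨-1, hneg⟩ : ℂˣ) : ℂ) * cuspFun C α θ g := by
  unfold cuspFun
  rw [stm_neg, res_ps_neg, indC_neg C θ hneg, hα]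
  ring

include hcard in
theorem cuspFun_one (α : MulChar F ℂ) (θ : C →* ℂˣ) :
    cuspFun C α θ 1 = (Fintype.card F : ℂ) - 1 := by
  unfold cuspFun
  rw [stm_one, res_ps_one, indC_one C hcard]
  ring

include hodd hcard in
theorem cuspFun_unip (α : MulChar F ℂ) (θ : C →* ℂˣ) (g : SpecialLinearGroup (Fin 2) F)
    (h10 : (g : Matrix (Fin 2) (Fin 2) F) 1 0 = 0)
    (h00 : (g : Matrix (Fin 2) (Fin 2) F) 0 0 = 1) (h11 : (g : Matrix (Fin 2) (Fin 2) F) 1 1 = 1)
    (h01 : (g : Matrix (Fin 2) (Fin 2) F) 0 1 ≠ 0) : cuspFun C α θ g = -1 := by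
  have h2 := two_ne_zero_of_odd hodd
  unfold cuspFun
  rw [stm_unip g h10 (by rw [h00, h11]) h01, res_ps_unip α 1 g h10 (by rw [h00, h11]) h01,
    indC_upper C hodd hcard θ g h10, h00, h11]
  · simp
  · intro h
    rw [h] at h01
    simp at h01
  · intro h
    rw [h] at h01
    simp at h01

include hodd hcard in
theorem cuspFun_upper (α : MulChar F ℂ) (θ : C →* ℂˣ) (g : SpecialLinearGroup (Fin 2) F)
    (h10 : (g : Matrix (Fin 2) (Fin 2) F) 1 0 = 0)
    (hne : (g : Matrix (Fin 2) (Fin 2) F) 0 0 ^ 2 ≠ 1) : cuspFun C α θ g = 0 := by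
  unfold cuspFun
  rw [stm_upper g h10 hne, indC_upper C hodd hcard θ g h10, zero_mul, sub_zero]
  · intro h
    rw [h] at hne
    simp at hne
  · intro h
    rw [h] at hne
    simp at hne

include hodd hcard in
theorem cuspFun_mem (hC : IsCyclic C) (α : MulChar F ℂ) (θ : C →* ℂˣ) (c : C)
    (hne1 : (c : SpecialLinearGroup (Fin 2) F) ≠ 1) (hne2 : (c : SpecialLinearGroup (Fin 2) F) ≠ -1) :
    cuspFun C α θ c = -(((θ c : ℂˣ) : ℂ) + ((θ c⁻¹ : ℂˣ) : ℂ)) := by
  have hell := isElliptic_of_mem hodd C hcard c c.2 hne1 hne2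
  unfold cuspFun
  rw [res_ps_elliptic α 1 _ hell, mul_zero, zero_sub, indC_mem C hodd hcard hC θ c hne1 hne2]

end cusp

/-! ### Inner products -/

section inner

variable [Fintype F] [DecidableEq F] (C : Subgroup (SpecialLinearGroup (Fin 2) F))

omit [DecidableEq F] in
theorem conj_theta (θ : C →* ℂˣ) (c : C) :
    conj ((θ c : ℂˣ) : ℂ) = ((θ c⁻¹ : ℂˣ) : ℂ) := by
  have hfin : ((θ c : ℂˣ) : ℂ) ^ Nat.card C = 1 := by
    rw [← Units.val_pow_eq_pow_val, ← map_pow, pow_card_eq_one', map_one, Units.val_one]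
  have hnorm := Complex.norm_eq_one_of_pow_eq_one hfin Nat.card_pos.ne'
  rw [← Complex.inv_eq_conj hnorm, map_inv, Units.val_inv_eq_inv_val]

omit [Fintype F] [DecidableEq F] in
theorem sum_theta_mul [Fintype C] (θ θ' : C →* ℂˣ) [Decidable (θ * θ' = 1)] :
    ∑ c : C, ((θ c : ℂˣ) : ℂ) * ((θ' c : ℂˣ) : ℂ) =
      if θ * θ' = 1 then (Nat.card C : ℂ) else 0 := by
  classical
  have h := sum_hom_units ((Units.coeHom ℂ).comp (θ * θ'))
  have heq : ((Units.coeHom ℂ).comp (θ * θ') = 1) ↔ θ * θ' = 1 := by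
    constructor
    · intro h1
      ext c
      have := DFunLike.congr_fun h1 c
      simpa using this
    · intro h1
      rw [h1]
      ext c
      simp
  simp only [MonoidHom.coe_comp, Function.comp_apply, MonoidHom.mul_apply, Units.coeHom_apply,
    Units.val_mul] at h
  rw [h, Nat.card_eq_fintype_card]
  by_cases h1 : θ * θ' = 1
  · rw [if_pos h1, if_pos (heq.mpr h1)]
  · rw [if_neg h1, if_neg (fun h2 => h1 (heq.mp h2)), Nat.cast_zero]

variable (hodd : Odd (Fintype.card F)) (hcard : Nat.card C = Fintype.card F + 1)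

include hodd hcard in
/-- The inner product of `Ind_C^G θ` with a cuspidal class function. -/
theorem classInner_indC_cuspFun (hC : IsCyclic C) (θ θ' : C →* ℂˣ) (α' : MulChar F ℂ)
    (hneg : (-1 : SpecialLinearGroup (Fin 2) F) ∈ C)
    (hα' : α' (-1) = ((θ' ⟨-1, hneg⟩ : ℂˣ) : ℂ)) (hsign : θ ⟨-1, hneg⟩ = θ' ⟨-1, hneg⟩)
    [Decidable (θ * θ'⁻¹ = 1)] [Decidable (θ * θ' = 1)] :
    Cfsg.classInner (indC C θ) (cuspFun C α' θ') =
      2 - (if θ * θ'⁻¹ = 1 then 1 else 0) - (if θ * θ' = 1 then 1 else 0) := by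
  classical
  have h2 := two_ne_zero_of_odd hodd
  have : Fintype C := Fintype.ofFinite _
  unfold indC
  rw [frobenius_reciprocity C _ _ (cuspFun_isClassFunction C α' θ'), classInner_def]
  set negC : C := ⟨-1, hneg⟩ with hnegC
  have hnegsq : negC * negC = 1 := by
    apply Subtype.ext
    show (-1 : SpecialLinearGroup (Fin 2) F) * -1 = 1
    simp
  have hneginv : negC⁻¹ = negC := inv_eq_of_mul_eq_one_right hnegsq
  have hne : (1 : C) ≠ negC := by
    intro h
    have h1 : (1 : SpecialLinearGroup (Fin 2) F) = -1 := congrArg Subtype.val h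
    have e1 : ((1 : SpecialLinearGroup (Fin 2) F) : Matrix (Fin 2) (Fin 2) F) 0 0 = 1 := by simp
    have e2 : ((-1 : SpecialLinearGroup (Fin 2) F) : Matrix (Fin 2) (Fin 2) F) 0 0 = -1 := by simp
    have e3 : ((1 : SpecialLinearGroup (Fin 2) F) : Matrix (Fin 2) (Fin 2) F) 0 0 =
        ((-1 : SpecialLinearGroup (Fin 2) F) : Matrix (Fin 2) (Fin 2) F) 0 0 := by rw [← h1]
    rw [e1, e2] at e3
    apply h2
    linear_combination e3
  have hpt : ∀ c : C, thetaC C θ c * conj (cuspFun C α' θ' (c : SpecialLinearGroup (Fin 2) F)) =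
      -(((θ c : ℂˣ) : ℂ) * ((θ'⁻¹ c : ℂˣ) : ℂ) + ((θ c : ℂˣ) : ℂ) * ((θ' c : ℂˣ) : ℂ)) +
        (if c = 1 then ((Fintype.card F : ℂ) + 1) else 0) +
        (if c = negC then ((Fintype.card F : ℂ) + 1) else 0) := by
    intro c
    unfold thetaC
    by_cases hc1 : c = 1
    · subst hc1
      rw [if_pos rfl, if_neg hne, Subgroup.coe_one, cuspFun_one C hcard]
      simp only [map_one, Units.val_one, map_sub, map_natCast]
      ring
    · by_cases hc2 : c = negC
      · subst hc2
        rw [if_neg hc1, if_pos rfl]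
        have hval : cuspFun C α' θ' ((negC : C) : SpecialLinearGroup (Fin 2) F) =
            ((θ' negC : ℂˣ) : ℂ) * ((Fintype.card F : ℂ) - 1) := by
          have := cuspFun_neg C α' θ' hneg hα' 1
          rw [mul_one, cuspFun_one C hcard] at this
          exact this
        rw [hval, map_mul, conj_theta, hneginv, hsign]
        have h3 : ((θ' negC : ℂˣ) : ℂ) * ((θ' negC : ℂˣ) : ℂ) = 1 := by
          rw [← Units.val_mul, ← map_mul, hnegsq, map_one, Units.val_one]
        have h4 : ((θ'⁻¹ negC : ℂˣ) : ℂ) = ((θ' negC : ℂˣ) : ℂ) := by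
          rw [MonoidHom.inv_apply, ← map_inv, hneginv]
        rw [h4]
        simp only [map_sub, map_natCast, map_one]
        linear_combination ((Fintype.card F : ℂ) - 1 + 2) * h3
      · rw [if_neg hc1, if_neg hc2, add_zero, add_zero]
        have hc1' : (c : SpecialLinearGroup (Fin 2) F) ≠ 1 := fun h => hc1 (Subtype.ext h)
        have hc2' : (c : SpecialLinearGroup (Fin 2) F) ≠ -1 := fun h => hc2 (Subtype.ext h)
        rw [cuspFun_mem C hodd hcard hC α' θ' c hc1' hc2', map_neg, map_add, conj_theta,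
          conj_theta, inv_inv, MonoidHom.inv_apply, ← map_inv]
        ring
  simp only [hpt]
  rw [Finset.sum_add_distrib, Finset.sum_add_distrib, Finset.sum_neg_distrib,
    Finset.sum_add_distrib, sum_theta_mul, sum_theta_mul, Finset.sum_ite_eq' Finset.univ (1 : C),
    Finset.sum_ite_eq' Finset.univ negC, if_pos (Finset.mem_univ _), if_pos (Finset.mem_univ _),
    hcard]
  have hq : ((Fintype.card F : ℂ) + 1) ≠ 0 := by
    exact_mod_cast Nat.succ_ne_zero (Fintype.card F)
  push_cast
  by_cases h1 : θ * θ'⁻¹ = 1 <;> by_cases h3 : θ * θ' = 1 <;> simp only [h1, h3, if_true, if_false] <;>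
    field_simp <;> ring

omit [Fintype F] [DecidableEq F] in
theorem bSL_one_zero : bSL (1 : Fˣ) (0 : F) = 1 := by
  apply Subtype.ext
  show (!![((1 : Fˣ) : F), 0; 0, (((1 : Fˣ)⁻¹ : Fˣ) : F)] : Matrix (Fin 2) (Fin 2) F) = 1
  rw [inv_one, Units.val_one, Matrix.one_fin_two]

omit [Fintype F] [DecidableEq F] in
theorem bSL_neg_one (x : F) : bSL (-1 : Fˣ) x = -1 * bSL (1 : Fˣ) (-x) := by
  apply Subtype.ext
  show (!![((-1 : Fˣ) : F), x; 0, (((-1 : Fˣ)⁻¹ : Fˣ) : F)] : Matrix (Fin 2) (Fin 2) F) =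
    (-(1 : Matrix (Fin 2) (Fin 2) F)) *
      !![((1 : Fˣ) : F), -x; 0, (((1 : Fˣ)⁻¹ : Fˣ) : F)]
  rw [inv_one, Units.val_one, inv_neg, inv_one, Units.val_neg, Units.val_one, neg_mul, one_mul]
  apply mat2_ext <;> simp

include hodd hcard in
/-- The inner product of `(St - 1) · Ind_B^G α` with a cuspidal class function. -/
theorem classInner_stm_ps_cuspFun (α α' : MulChar F ℂ) (θ' : C →* ℂˣ)
    (hneg : (-1 : SpecialLinearGroup (Fin 2) F) ∈ C)
    (hα' : α' (-1) = ((θ' ⟨-1, hneg⟩ : ℂˣ) : ℂ)) (hα : α (-1) = ((θ' ⟨-1, hneg⟩ : ℂˣ) : ℂ)) :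
    Cfsg.classInner (fun g => stm g * res (ps α 1) g) (cuspFun C α' θ') = 2 := by
  classical
  have h2 := two_ne_zero_of_odd hodd
  have : Fintype (borelSL F) := Fintype.ofFinite _
  set X' := cuspFun C α' θ' with hX'
  -- move `stm` to the other side
  set Z : SpecialLinearGroup (Fin 2) F → ℂ := fun g => conj (stm g) * X' g with hZ
  have hZcl : Cfsg.IsClassFunction (SpecialLinearGroup (Fin 2) F) Z := by
    intro g h
    have h1 := IsCharacter.isClassFunction (IsIrrCharacter.isCharacter (res_st_irr (F := F))) g h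
    have h3 := cuspFun_isClassFunction C α' θ' g h
    simp only [hZ, stm, h1, hX', h3]
  have hstep : Cfsg.classInner (fun g => stm g * res (ps α 1) g) X' =
      Cfsg.classInner (res (ps α 1)) Z := by
    rw [classInner_def, classInner_def]
    congr 1
    apply Finset.sum_congr rfl
    intro g _
    simp only [hZ, map_mul, Complex.conj_conj]
    ring
  rw [hstep, ← indFun_thetaSL, frobenius_reciprocity _ _ _ hZcl, classInner_def, sum_borelSL]
  -- the sum over `x` for `a = 1`
  have hf : ∀ x : F, stm (bSL (1 : Fˣ) x) * conj (X' (bSL (1 : Fˣ) x)) =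
      1 + (if x = 0 then ((Fintype.card F : ℂ) - 1) ^ 2 - 1 else 0) := by
    intro x
    by_cases hx : x = 0
    · subst hx
      rw [if_pos rfl, bSL_one_zero, stm_one, hX', cuspFun_one C hcard]
      simp only [map_sub, map_natCast, map_one]
      ring
    · rw [if_neg hx, add_zero, stm_unip _ (by simp) (by simp) (by simpa using hx), hX',
        cuspFun_unip C hodd hcard α' θ' _ (by simp) (by simp) (by simp) (by simpa using hx)]
      simp
  have hK : ∑ x : F, (1 + (if x = 0 then ((Fintype.card F : ℂ) - 1) ^ 2 - 1 else 0)) =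
      (Fintype.card F : ℂ) * ((Fintype.card F : ℂ) - 1) := by
    rw [Finset.sum_add_distrib, Finset.sum_ite_eq' Finset.univ (0 : F), if_pos (Finset.mem_univ _),
      Finset.sum_const, Finset.card_univ, nsmul_eq_mul, mul_one]
    ring
  have hunit : ((θ' ⟨-1, hneg⟩ : ℂˣ) : ℂ) * conj ((θ' ⟨-1, hneg⟩ : ℂˣ) : ℂ) = 1 := by
    rw [conj_theta, ← Units.val_mul, ← map_mul, mul_inv_cancel, map_one, Units.val_one]
  have hT : ∀ a : Fˣ, ∑ x : F, thetaSL α ⟨bSL a x, bSL_mem a x⟩ *
      conj (Z ((⟨bSL a x, bSL_mem a x⟩ : borelSL F) : SpecialLinearGroup (Fin 2) F)) =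
      (if a = 1 then (Fintype.card F : ℂ) * ((Fintype.card F : ℂ) - 1) else 0) +
      (if a = -1 then (Fintype.card F : ℂ) * ((Fintype.card F : ℂ) - 1) else 0) := by
    intro a
    have hth : ∀ x : F, thetaSL α ⟨bSL a x, bSL_mem a x⟩ = α (a : F) := by
      intro x
      unfold thetaSL
      simp
    have hZc : ∀ g : SpecialLinearGroup (Fin 2) F, conj (Z g) = stm g * conj (X' g) := by
      intro g
      simp only [hZ, map_mul, Complex.conj_conj]
    simp only [hth, hZc]
    have hne : (1 : Fˣ) ≠ -1 := by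
      intro h
      have := congrArg (fun u : Fˣ => (u : F)) h
      simp only [Units.val_one, Units.val_neg] at this
      apply h2
      linear_combination this
    by_cases ha1 : a = 1
    · subst ha1
      rw [if_pos rfl, if_neg hne, add_zero, Units.val_one, map_one]
      simp only [one_mul, hf]
      exact hK
    · by_cases ha2 : a = -1
      · subst ha2
        rw [if_neg ha1, if_pos rfl, zero_add, Units.val_neg, Units.val_one, hα]
        have : ∀ x : F, ((θ' ⟨-1, hneg⟩ : ℂˣ) : ℂ) * (stm (bSL (-1 : Fˣ) x) *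
            conj (X' (bSL (-1 : Fˣ) x))) =
            1 + (if x = 0 then ((Fintype.card F : ℂ) - 1) ^ 2 - 1 else 0) := by
          intro x
          rw [bSL_neg_one, stm_neg, hX', cuspFun_neg C α' θ' hneg hα', map_mul, ← hX']
          have := hf (-x)
          simp only [neg_eq_zero] at this
          rw [← this]
          linear_combination (stm (bSL 1 (-x)) * conj (X' (bSL 1 (-x)))) * hunit
        simp only [this]
        exact hK
      · rw [if_neg ha1, if_neg ha2, add_zero]
        apply Finset.sum_eq_zero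
        intro x _
        have hne2 : (a : F) ^ 2 ≠ 1 := by
          intro h
          have h3 : ((a : F) - 1) * ((a : F) + 1) = 0 := by linear_combination h
          rcases mul_eq_zero.mp h3 with h4 | h4
          · apply ha1
            apply Units.ext
            rw [Units.val_one]
            linear_combination h4
          · apply ha2
            apply Units.ext
            rw [Units.val_neg, Units.val_one]
            linear_combination h4
        rw [stm_upper _ (by simp) (by simpa using hne2)]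
        ring
  simp only [hT]
  rw [Finset.sum_add_distrib, Finset.sum_ite_eq' Finset.univ (1 : Fˣ),
    Finset.sum_ite_eq' Finset.univ (-1 : Fˣ), if_pos (Finset.mem_univ _),
    if_pos (Finset.mem_univ _), card_borelSL]
  have hq : 2 ≤ Fintype.card F := Fintype.one_lt_card
  have hq1 : ((Fintype.card F : ℂ) - 1) ≠ 0 := by
    have : (Fintype.card F : ℂ) ≠ 1 := by exact_mod_cast (by omega : Fintype.card F ≠ 1)
    exact sub_ne_zero.mpr this
  have hq0 : (Fintype.card F : ℂ) ≠ 0 := by
    exact_mod_cast (by omega : Fintype.card F ≠ 0)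
  rw [Nat.cast_mul, Nat.cast_sub (by omega), Nat.cast_one]
  field_simp
  ring

include hodd hcard in
/-- Inner products of the cuspidal class functions. -/
theorem classInner_cuspFun (hC : IsCyclic C) (α α' : MulChar F ℂ) (θ θ' : C →* ℂˣ)
    (hneg : (-1 : SpecialLinearGroup (Fin 2) F) ∈ C)
    (hα : α (-1) = ((θ ⟨-1, hneg⟩ : ℂˣ) : ℂ)) (hα' : α' (-1) = ((θ' ⟨-1, hneg⟩ : ℂˣ) : ℂ))
    (hsign : θ ⟨-1, hneg⟩ = θ' ⟨-1, hneg⟩)
    [Decidable (θ * θ'⁻¹ = 1)] [Decidable (θ * θ' = 1)] :
    Cfsg.classInner (cuspFun C α θ) (cuspFun C α' θ') =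
      (if θ * θ'⁻¹ = 1 then 1 else 0) + (if θ * θ' = 1 then 1 else 0) := by
  have h1 : cuspFun C α θ = (fun g => stm g * res (ps α 1) g) - indC C θ := rfl
  rw [h1, classInner_sub_left, classInner_stm_ps_cuspFun C hodd hcard α α' θ' hneg hα'
    (by rw [hα, hsign]), classInner_indC_cuspFun C hodd hcard hC θ θ' α' hneg hα' hsign]
  ring

include hodd hcard in
/-- The cuspidal class function attached to `θ` with `θ² ≠ 1` is an irreducible character. -/
theorem cuspFun_isIrrCharacter (hC : IsCyclic C) (α : MulChar F ℂ) (θ : C →* ℂˣ)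
    (hneg : (-1 : SpecialLinearGroup (Fin 2) F) ∈ C)
    (hα : α (-1) = ((θ ⟨-1, hneg⟩ : ℂˣ) : ℂ)) (hθ : θ * θ ≠ 1) :
    Cfsg.IsIrrCharacter (SpecialLinearGroup (Fin 2) F) (cuspFun C α θ) := by
  classical
  have hnorm : Cfsg.classInner (cuspFun C α θ) (cuspFun C α θ) = 1 := by
    rw [classInner_cuspFun C hodd hcard hC α α θ θ hneg hα hα rfl, if_pos (mul_inv_cancel θ),
      if_neg hθ, add_zero]
  rcases Cfsg.Agent.Lib.Helper11.IsGeneralizedCharacter.isSignedIrr_of_norm_one
    (cuspFun_isGeneralizedCharacter C α θ) hnorm with h | h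
  · exact h
  · exfalso
    obtain ⟨n, hn, hn1⟩ := IsIrrCharacter.apply_one h
    rw [Pi.neg_apply, cuspFun_one C hcard] at hn1
    have hq : 2 ≤ Fintype.card F := Fintype.one_lt_card
    have : ((n + Fintype.card F : ℕ) : ℂ) = ((1 : ℕ) : ℂ) := by
      push_cast
      linear_combination -hn1
    have := Nat.cast_injective this
    omega

end inner

end Cfsg.Agent.Lib.Helper14
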