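import Mathlib
import Cfsg.Agent.Lib.Helper14.McKayDefs
import Cfsg.Agent.Lib.Helper14.McKayA
import Cfsg.Agent.S2439

/-!
# S2436 piece SL-A (helper14): in the defining characteristic exactly one irreducible character of
`SL₂(q)` has degree divisible by `p`.
-/

set_option autoImplicit false

namespace Cfsg.Agent.Lib.Helper14.McKay

open Cfsg Matrix Cfsg.Agent.Lib.Helper14

section SL2

variable {F : Type*} [Field F] [Fintype F]

/-- SL-A: in the defining characteristic only the Steinberg character has degree divisible by `p`. -/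
theorem mk_SL2_char (hodd : Odd (Fintype.card F)) (p : ℕ) [Fact p.Prime] [CharP F p] :
    mk p (SpecialLinearGroup (Fin 2) F) = Fintype.card F + 3 := by
  classical
  have : Fintype (Cfsg.IrrCharacter (SpecialLinearGroup (Fin 2) F)) := Fintype.ofFinite _
  have hk := card_irr_SL2_odd (F := F) hodd
  have hst : p ∣ Cfsg.charDegree ((Cfsg.Agent.S2439.stIrr :
      Cfsg.IrrCharacter (SpecialLinearGroup (Fin 2) F)) : SpecialLinearGroup (Fin 2) F → ℂ) := by
    have h1 := Cfsg.Agent.Lib.Helper24.apply_one_eq_charDegree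
      (Cfsg.Agent.S2439.stIrr : Cfsg.IrrCharacter (SpecialLinearGroup (Fin 2) F))
    rw [Cfsg.Agent.S2439.stIrr_one] at h1
    have h2 : Cfsg.charDegree ((Cfsg.Agent.S2439.stIrr :
      Cfsg.IrrCharacter (SpecialLinearGroup (Fin 2) F)) : SpecialLinearGroup (Fin 2) F → ℂ) =
        Fintype.card F := by exact_mod_cast h1.symm
    rw [h2]
    exact Cfsg.Agent.S2439.p_dvd_q p
  have hiff : ∀ χ : Cfsg.IrrCharacter (SpecialLinearGroup (Fin 2) F),
      ¬ p ∣ Cfsg.charDegree (χ : SpecialLinearGroup (Fin 2) F → ℂ) ↔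
        χ ≠ Cfsg.Agent.S2439.stIrr := by
    intro χ
    constructor
    · intro h he
      rw [he] at h
      exact h hst
    · exact Cfsg.Agent.S2439.not_dvd_degree p χ
  rw [mk_def, Nat.card_eq_fintype_card, Fintype.card_subtype]
  have : (Finset.univ.filter (fun χ : Cfsg.IrrCharacter (SpecialLinearGroup (Fin 2) F) =>
      ¬ p ∣ Cfsg.charDegree (χ : SpecialLinearGroup (Fin 2) F → ℂ))) =
      Finset.univ.erase Cfsg.Agent.S2439.stIrr := by
    ext χ
    rw [Finset.mem_filter, Finset.mem_erase, hiff]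
    simp
  rw [this, Finset.card_erase_of_mem (Finset.mem_univ _), Finset.card_univ, hk]
  rfl

end SL2

end Cfsg.Agent.Lib.Helper14.McKay
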