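import Mathlib
import Cfsg.Agent.Lib.Helper14.McKayDefs
import Cfsg.Agent.Lib.Helper14.McKayA
import Cfsg.Agent.Lib.Helper14.McKayB
import Cfsg.Agent.Lib.Helper2.S2436P1
import Cfsg.Agent.Lib.Helper7.S2436P2
import Cfsg.Agent.Lib.Helper12.S2436P3
import Cfsg.Agent.Lib.Helper12.S2436P4
import Cfsg.Agent.Lib.Helper7.S2436P5
import Cfsg.Agent.Lib.Helper6.S2436P6
import Cfsg.Agent.Lib.Helper6.S2436P7
import Cfsg.Agent.Lib.Helper3.S2436P8

/-!
# S2436 (helper14): the McKay equality for `SL₂(q)`, `q` odd: final assembly.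
Pieces by helper2 (P1), helper7 (P2, P5), helper12 (P3, P4), helper6 (P6, P7), helper3 (P8).
-/

set_option autoImplicit false

namespace Cfsg.Agent.Lib.Helper14.McKay

open Cfsg

universe u

theorem mk_normalizer_of_eq_top (ℓ : ℕ) {G : Type*} [Group G] [Finite G] (H : Subgroup G)
    (h : Subgroup.normalizer (H : Set G) = ⊤) :
    mk ℓ G = mk ℓ (Subgroup.normalizer (H : Set G)) :=
  Cfsg.Agent.Lib.Helper2.McKayP1.mk_normalizer_of_eq_top ℓ H h

section SL2

open Matrix

variable {F : Type u} [Field F] [Fintype F]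

theorem mk_normalizer_sylow_char (hodd : Odd (Fintype.card F)) (p : ℕ) [Fact p.Prime] [CharP F p]
    (P : Sylow p (SpecialLinearGroup (Fin 2) F)) :
    mk p (Subgroup.normalizer ((P : Subgroup (SpecialLinearGroup (Fin 2) F)) :
      Set (SpecialLinearGroup (Fin 2) F))) = Fintype.card F + 3 :=
  Cfsg.Agent.Lib.Helper7.S2436P5.mk_normalizer_sylow_char hodd p P

theorem mk_normalizer_sylow_odd (hodd : Odd (Fintype.card F)) (ℓ : ℕ) [Fact ℓ.Prime] (hℓ : ℓ ≠ 2)
    (P : Sylow ℓ (SpecialLinearGroup (Fin 2) F)) :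
    (ℓ ∣ Fintype.card F - 1 →
      mk ℓ (Subgroup.normalizer ((P : Subgroup (SpecialLinearGroup (Fin 2) F)) :
        Set (SpecialLinearGroup (Fin 2) F))) = (Fintype.card F + 5) / 2) ∧
    (ℓ ∣ Fintype.card F + 1 →
      mk ℓ (Subgroup.normalizer ((P : Subgroup (SpecialLinearGroup (Fin 2) F)) :
        Set (SpecialLinearGroup (Fin 2) F))) = (Fintype.card F + 7) / 2) :=
  Cfsg.Agent.Lib.Helper6.S2436P6.mk_normalizer_sylow_odd hodd ℓ hℓ P

theorem mk_normalizer_sylow_two_self (hodd : Odd (Fintype.card F))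
    (S : Sylow 2 (SpecialLinearGroup (Fin 2) F))
    (h : Fintype.card F % 8 = 1 ∨ Fintype.card F % 8 = 7) :
    mk 2 (Subgroup.normalizer ((S : Subgroup (SpecialLinearGroup (Fin 2) F)) :
      Set (SpecialLinearGroup (Fin 2) F))) = 4 :=
  Cfsg.Agent.Lib.Helper6.S2436P7.mk_normalizer_sylow_two_self hodd S h

theorem mk_normalizer_sylow_two_three (hodd : Odd (Fintype.card F))
    (S : Sylow 2 (SpecialLinearGroup (Fin 2) F))
    (h : Fintype.card F % 8 = 3 ∨ Fintype.card F % 8 = 5) :
    mk 2 (Subgroup.normalizer ((S : Subgroup (SpecialLinearGroup (Fin 2) F)) :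
      Set (SpecialLinearGroup (Fin 2) F))) = 4 :=
  Cfsg.Agent.Lib.Helper3.S2436P8.mk_normalizer_sylow_two_three_of
    (fun _ _ _ hN S _ hS hinv hC =>
      Cfsg.Agent.Lib.Helper12.S2436P4.mk_two_of_card_24 hN S hS hinv hC) hodd S h

theorem normalizer_sylow_two_eq_top_of_card_three (h3 : Fintype.card F = 3)
    (S : Sylow 2 (SpecialLinearGroup (Fin 2) F)) :
    Subgroup.normalizer ((S : Subgroup (SpecialLinearGroup (Fin 2) F)) :
      Set (SpecialLinearGroup (Fin 2) F)) = ⊤ :=
  Cfsg.Agent.Lib.Helper3.S2436P8.normalizer_sylow_two_eq_top_of_card_three h3 S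

theorem normalizer_sylow_eq_top_of_not_dvd {K : Type*} [Group K] [Finite K] (ℓ : ℕ) [Fact ℓ.Prime]
    (P : Sylow ℓ K) (h : ¬ ℓ ∣ Nat.card K) :
    Subgroup.normalizer ((P : Subgroup K) : Set K) = ⊤ :=
  Cfsg.Agent.Lib.Helper7.S2436P2.normalizer_sylow_eq_top_of_not_dvd ℓ P h

theorem card_SL2' : Nat.card (SpecialLinearGroup (Fin 2) F) =
    Fintype.card F * (Fintype.card F - 1) * (Fintype.card F + 1) :=
  Cfsg.Agent.Lib.Helper3.S2436P8.card_SL2

/-- Final assembly (helper14). -/
theorem mckay_SL2 (hodd : Odd (Fintype.card F)) (ℓ : ℕ) [Fact ℓ.Prime]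
    (S : Sylow ℓ (SpecialLinearGroup (Fin 2) F)) :
    mk ℓ (SpecialLinearGroup (Fin 2) F) =
      mk ℓ (Subgroup.normalizer ((S : Subgroup (SpecialLinearGroup (Fin 2) F)) :
        Set (SpecialLinearGroup (Fin 2) F))) := by
  classical
  have hℓp : ℓ.Prime := Fact.out
  have hq2 : 2 ≤ Fintype.card F := Fintype.one_lt_card
  obtain ⟨k, hk⟩ := hodd
  have hk1 : 1 ≤ k := by omega
  by_cases h2 : ℓ = 2
  · subst h2
    by_cases hq3 : Fintype.card F = 3
    · exact mk_normalizer_of_eq_top 2 _ (normalizer_sylow_two_eq_top_of_card_three hq3 S)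
    · have h5 : 5 ≤ Fintype.card F := by omega
      have hR : mk 2 (Subgroup.normalizer ((S : Subgroup (SpecialLinearGroup (Fin 2) F)) :
          Set (SpecialLinearGroup (Fin 2) F))) = 4 := by
        have hmod : Fintype.card F % 8 = 1 ∨ Fintype.card F % 8 = 7 ∨ Fintype.card F % 8 = 3 ∨
            Fintype.card F % 8 = 5 := by omega
        rcases hmod with h | h | h | h
        · exact mk_normalizer_sylow_two_self ⟨k, hk⟩ S (Or.inl h)
        · exact mk_normalizer_sylow_two_self ⟨k, hk⟩ S (Or.inr h)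
        · exact mk_normalizer_sylow_two_three ⟨k, hk⟩ S (Or.inl h)
        · exact mk_normalizer_sylow_two_three ⟨k, hk⟩ S (Or.inr h)
      rw [hR, mk_SL2_formula ⟨k, hk⟩ h5 2]
      have e1 : ¬ 2 ∣ Fintype.card F := by omega
      have e2 : 2 ∣ Fintype.card F + 1 := by omega
      have e3 : 2 ∣ Fintype.card F - 1 := by omega
      rw [if_neg e1, if_pos e2, if_pos e3]
      have e4 : (Fintype.card F + 1) / 2 = k + 1 := by omega
      have e5 : (Fintype.card F - 1) / 2 = k := by omega
      rw [e4, e5]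
      rcases Nat.even_or_odd k with hev | hod
      · have a1 : ¬ 2 ∣ k + 1 := by
          obtain ⟨r, hr⟩ := hev
          omega
        have a2 : 2 ∣ k := by
          obtain ⟨r, hr⟩ := hev
          omega
        rw [if_neg a1, if_pos a2]
      · have a1 : 2 ∣ k + 1 := by
          obtain ⟨r, hr⟩ := hod
          omega
        have a2 : ¬ 2 ∣ k := by
          obtain ⟨r, hr⟩ := hod
          omega
        rw [if_pos a1, if_neg a2]
  · have hℓ3 : 3 ≤ ℓ := by
      have := hℓp.two_le
      omega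
    have hodd' : Odd ℓ := hℓp.odd_of_ne_two h2
    by_cases hdvd : ℓ ∣ Nat.card (SpecialLinearGroup (Fin 2) F)
    swap
    · exact mk_normalizer_of_eq_top ℓ _ (normalizer_sylow_eq_top_of_not_dvd ℓ S hdvd)
    rw [card_SL2'] at hdvd
    have hnot2 : ¬ ℓ ∣ 2 := by
      intro h
      have := Nat.le_of_dvd (by norm_num) h
      omega
    rcases (Nat.Prime.dvd_mul hℓp).1 hdvd with h | hp1
    · rcases (Nat.Prime.dvd_mul hℓp).1 h with h0 | hm1
      · -- the defining characteristic
        obtain ⟨p, hp⟩ := CharP.exists F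
        have := hp
        have : Fact p.Prime := ⟨CharP.char_is_prime F p⟩
        obtain ⟨n, hn⟩ := FiniteField.card F p
        have hpp : p.Prime := Fact.out
        have hℓeq : ℓ = p := by
          rw [hn.2] at h0
          exact (Nat.prime_dvd_prime_iff_eq hℓp hpp).1 (hℓp.dvd_of_dvd_pow h0)
        subst hℓeq
        rw [mk_SL2_char ⟨k, hk⟩ ℓ, mk_normalizer_sylow_char ⟨k, hk⟩ ℓ S]
      · -- `ℓ ∣ q - 1`
        have hle := Nat.le_of_dvd (by omega) hm1
        have h5 : 5 ≤ Fintype.card F := by omega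
        rw [(mk_normalizer_sylow_odd ⟨k, hk⟩ ℓ h2 S).1 hm1, mk_SL2_formula ⟨k, hk⟩ h5 ℓ]
        have e1 : ¬ ℓ ∣ Fintype.card F := by
          intro h'
          have : ℓ ∣ Fintype.card F - (Fintype.card F - 1) := Nat.dvd_sub h' hm1
          have e : Fintype.card F - (Fintype.card F - 1) = 1 := by omega
          rw [e] at this
          exact hℓp.one_lt.ne' (Nat.dvd_one.1 this)
        have e2 : ¬ ℓ ∣ Fintype.card F + 1 := by
          intro h'
          have : ℓ ∣ Fintype.card F + 1 - (Fintype.card F - 1) := Nat.dvd_sub h' hm1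
          have e : Fintype.card F + 1 - (Fintype.card F - 1) = 2 := by omega
          rw [e] at this
          exact hnot2 this
        have e4 : ¬ ℓ ∣ (Fintype.card F + 1) / 2 := by
          intro h'
          apply e2
          have e : Fintype.card F + 1 = (Fintype.card F + 1) / 2 * 2 := by omega
          rw [e]
          exact Dvd.dvd.mul_right h' 2
        have e5 : ℓ ∣ (Fintype.card F - 1) / 2 := by
          have e : Fintype.card F - 1 = 2 * ((Fintype.card F - 1) / 2) := by omega
          rw [e] at hm1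
          exact ((Nat.Prime.dvd_mul hℓp).1 hm1).resolve_left hnot2
        rw [if_neg e1, if_neg e2, if_pos hm1, if_neg e4, if_pos e5]
        omega
    · -- `ℓ ∣ q + 1`
      have hle := Nat.le_of_dvd (by omega) hp1
      have hne3 : Fintype.card F ≠ 3 := by
        intro h3
        rw [h3] at hp1
        have : ℓ ∣ 2 * 2 := hp1
        rcases (Nat.Prime.dvd_mul hℓp).1 this with h' | h' <;> exact hnot2 h'
      have h5 : 5 ≤ Fintype.card F := by omega
      rw [(mk_normalizer_sylow_odd ⟨k, hk⟩ ℓ h2 S).2 hp1, mk_SL2_formula ⟨k, hk⟩ h5 ℓ]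
      have e1 : ¬ ℓ ∣ Fintype.card F := by
        intro h'
        have : ℓ ∣ Fintype.card F + 1 - Fintype.card F := Nat.dvd_sub hp1 h'
        have e : Fintype.card F + 1 - Fintype.card F = 1 := by omega
        rw [e] at this
        exact hℓp.one_lt.ne' (Nat.dvd_one.1 this)
      have e3 : ¬ ℓ ∣ Fintype.card F - 1 := by
        intro h'
        have : ℓ ∣ Fintype.card F + 1 - (Fintype.card F - 1) := Nat.dvd_sub hp1 h'
        have e : Fintype.card F + 1 - (Fintype.card F - 1) = 2 := by omega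
        rw [e] at this
        exact hnot2 this
      have e5 : ¬ ℓ ∣ (Fintype.card F - 1) / 2 := by
        intro h'
        apply e3
        have e : Fintype.card F - 1 = (Fintype.card F - 1) / 2 * 2 := by omega
        rw [e]
        exact Dvd.dvd.mul_right h' 2
      have e4 : ℓ ∣ (Fintype.card F + 1) / 2 := by
        have e : Fintype.card F + 1 = 2 * ((Fintype.card F + 1) / 2) := by omega
        rw [e] at hp1
        exact ((Nat.Prime.dvd_mul hℓp).1 hp1).resolve_left hnot2
      rw [if_neg e1, if_pos hp1, if_neg e3, if_pos e4, if_neg e5]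
      omega

end SL2

end Cfsg.Agent.Lib.Helper14.McKay
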