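import Mathlib
import Cfsg.Prelude.Def_SporadicB

/-!
# Generic lemmas for the centraliser of an involution of the McLaughlin group

* a surjective homomorphism onto a centreless group whose kernel is generated by an involution which
  is a square gives a non-split double cover;
* the same after transport along an injective homomorphism onto a group that is not larger;
* a bound for the order of a centraliser from a list of distinct conjugates;
* transport of centralisers along isomorphisms.
-/

set_option autoImplicit false

namespace Cfsg.Agent.Lib.Helper14.McLC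

/-- a surjective homomorphism onto a centreless group whose kernel is generated by an involution
which is a square: a non-split double cover -/
theorem nonsplit_of_hom {H K : Type*} [Group H] [Group K] [Finite H] (π : H →* K)
    (hπ : Function.Surjective π) (z q : H) (hker : π.ker = Subgroup.zpowers z)
    (hz2 : orderOf z = 2) (hq : q * q = z) (hK : Subgroup.center K = ⊥) :
    Cfsg.IsNonsplitDoubleCover H K := by
  have hkc : Nat.card π.ker = 2 := by rw [hker, Nat.card_zpowers, hz2]
  have hz1 : z ≠ 1 := by
    intro h
    rw [h, orderOf_one] at hz2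
    omega
  have hzz : z * z = 1 := by
    have := pow_orderOf_eq_one z
    rwa [hz2, pow_two] at this
  -- the kernel is central
  have hle : π.ker ≤ Subgroup.center H := by
    intro w hw
    rw [Subgroup.mem_center_iff]
    intro g
    have hmem : ∀ y ∈ π.ker, y = 1 ∨ y = z := by
      intro y hy
      rw [hker, Subgroup.mem_zpowers_iff] at hy
      obtain ⟨k, rfl⟩ := hy
      rcases Int.even_or_odd k with ⟨j, hj⟩ | ⟨j, hj⟩
      · left
        rw [hj, zpow_add, ← (Commute.refl z).mul_zpow, hzz, one_zpow]
      · right
        rw [hj, zpow_add, zpow_one, two_mul, zpow_add, ← (Commute.refl z).mul_zpow, hzz, one_zpow, one_mul]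
    rcases hmem w hw with h | h
    · rw [h]; simp
    · rw [h]
      have hc : g * z * g⁻¹ ∈ π.ker := by
        have hzk : z ∈ π.ker := by rw [hker]; exact Subgroup.mem_zpowers z
        exact (inferInstance : π.ker.Normal).conj_mem z hzk g
      rcases hmem _ hc with h1 | h1
      · exfalso
        apply hz1
        have : g * z = g := by rw [← mul_inv_eq_one]; exact h1
        exact mul_eq_left.mp this
      · exact mul_inv_eq_iff_eq_mul.mp h1
  have hge : Subgroup.center H ≤ π.ker := by
    intro w hw
    rw [MonoidHom.mem_ker]
    have h1 : π w ∈ Subgroup.center K := by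
      rw [Subgroup.mem_center_iff]
      intro k
      obtain ⟨g, rfl⟩ := hπ k
      rw [← map_mul, ← map_mul, Subgroup.mem_center_iff.mp hw g]
    rw [hK] at h1
    exact h1
  have hZ : Subgroup.center H = π.ker := le_antisymm hge hle
  have hc2 : Nat.card (Subgroup.center H) = 2 := by rw [hZ]; exact hkc
  refine ⟨hc2, ?_, ?_⟩
  · exact ⟨(QuotientGroup.quotientMulEquivOfEq hZ).trans
      (QuotientGroup.quotientKerEquivOfSurjective π hπ)⟩
  · intro L hL
    have h1 : L.index = 2 := by
      rw [hL.index_eq_card, hc2]
    have : L.Normal := Subgroup.normal_of_index_eq_two h1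
    -- squares lie in `L`
    have hsq : ∀ g : H, g * g ∈ L := by
      intro g
      have hc : Nat.card (H ⧸ L) = 2 := h1
      have h3 : ((g : H ⧸ L)) ^ 2 = 1 := by
        have := pow_card_eq_one' (G := H ⧸ L) (x := (g : H ⧸ L))
        rwa [hc] at this
      have h4 : ((g * g : H) : H ⧸ L) = 1 := by
        rw [QuotientGroup.mk_mul, ← pow_two]; exact h3
      exact (QuotientGroup.eq_one_iff _).mp h4
    have hzL : z ∈ L := by rw [← hq]; exact hsq q
    have hzZ : z ∈ Subgroup.center H := by
      rw [hZ, hker]; exact Subgroup.mem_zpowers z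
    have hdisj : Disjoint (Subgroup.center H) L := hL.disjoint
    have := Subgroup.disjoint_def.mp hdisj hzZ hzL
    exact hz1 this

/-- the same, transported along an injective homomorphism onto a group that is not larger -/
theorem nonsplit_transport {Γ H K : Type*} [Group Γ] [Group H] [Group K] [Finite Γ] [Finite H]
    (ρ : Γ →* H) (hρ : Function.Injective ρ) (hcard : Nat.card H ≤ Nat.card Γ)
    (π : Γ →* K) (hπ : Function.Surjective π) (z q : Γ) (hker : π.ker = Subgroup.zpowers z)
    (hz2 : orderOf z = 2) (hq : q * q = z) (hK : Subgroup.center K = ⊥) :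
    Cfsg.IsNonsplitDoubleCover H K := by
  have hbij : Function.Bijective ρ := hρ.bijective_of_nat_card_le hcard
  let e : Γ ≃* H := MulEquiv.ofBijective ρ hbij
  have hker' : (π.comp e.symm.toMonoidHom).ker = Subgroup.zpowers (e z) := by
    ext y
    rw [MonoidHom.mem_ker, MonoidHom.comp_apply]
    have h1 : π (e.symm y) = 1 ↔ e.symm y ∈ Subgroup.zpowers z := by
      rw [← hker, MonoidHom.mem_ker]
    show π (e.symm y) = 1 ↔ _
    rw [h1, Subgroup.mem_zpowers_iff, Subgroup.mem_zpowers_iff]
    constructor
    · rintro ⟨k, hk⟩
      refine ⟨k, ?_⟩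
      rw [← map_zpow, hk, MulEquiv.apply_symm_apply]
    · rintro ⟨k, hk⟩
      refine ⟨k, ?_⟩
      rw [← hk, ← map_zpow, MulEquiv.symm_apply_apply]
  exact nonsplit_of_hom (π.comp e.symm.toMonoidHom) (hπ.comp e.symm.surjective) (e z) (e q) hker'
    (by rw [MulEquiv.orderOf_eq]; exact hz2) (by rw [← map_mul, hq]) hK

/-- distinct conjugates bound the order of the centraliser -/
theorem card_centralizer_le {G : Type*} [Group G] [Finite G] (t : G) (n : ℕ)
    (f : Fin n → G) (hf : Function.Injective f) (hconj : ∀ i, IsConj t (f i)) :
    n * Nat.card (Subgroup.centralizer ({t} : Set G)) ≤ Nat.card G := by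
  set C := Subgroup.centralizer ({t} : Set G) with hC
  have hex : ∀ i, ∃ g : G, g * t * g⁻¹ = f i := fun i => isConj_iff.mp (hconj i)
  choose g hg using hex
  have hinj : Function.Injective (fun i => (QuotientGroup.mk (g i) : G ⧸ C)) := by
    intro i j hij
    have h1 : (g i)⁻¹ * g j ∈ C := QuotientGroup.eq.mp hij
    have h2 : t * ((g i)⁻¹ * g j) = ((g i)⁻¹ * g j) * t :=
      Subgroup.mem_centralizer_iff.mp h1 t (Set.mem_singleton t)
    apply hf
    rw [← hg i, ← hg j]
    have h4 : g j * t * (g j)⁻¹ =
        g i * (((g i)⁻¹ * g j) * t * ((g i)⁻¹ * g j)⁻¹) * (g i)⁻¹ := by group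
    rw [h4, ← h2]
    group
  have h1 : n ≤ C.index := by
    have := Nat.card_le_card_of_injective _ hinj
    rwa [Nat.card_fin] at this
  calc n * Nat.card C ≤ C.index * Nat.card C := Nat.mul_le_mul_right _ h1
    _ = Nat.card G := C.index_mul_card

/-- centralisers correspond under an isomorphism -/
def centEquiv {M G : Type*} [Group M] [Group G] (e : M ≃* G) (t : M) :
    Subgroup.centralizer ({t} : Set M) ≃* Subgroup.centralizer ({e t} : Set G) where
  toFun x := ⟨e x.1, by
    rw [Subgroup.mem_centralizer_iff]
    intro y hy
    rw [Set.mem_singleton_iff] at hy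
    subst hy
    have := Subgroup.mem_centralizer_iff.mp x.2 t (Set.mem_singleton t)
    rw [← map_mul, ← map_mul, this]⟩
  invFun y := ⟨e.symm y.1, by
    rw [Subgroup.mem_centralizer_iff]
    intro w hw
    rw [Set.mem_singleton_iff] at hw
    subst hw
    have := Subgroup.mem_centralizer_iff.mp y.2 (e w) (Set.mem_singleton _)
    apply e.injective
    rw [map_mul, map_mul, MulEquiv.apply_symm_apply]
    exact this⟩
  left_inv x := by
    apply Subtype.ext
    exact e.symm_apply_apply x.1
  right_inv y := by
    apply Subtype.ext
    exact e.apply_symm_apply y.1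
  map_mul' x y := by
    apply Subtype.ext
    exact map_mul e x.1 y.1

end Cfsg.Agent.Lib.Helper14.McLC
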