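import Cfsg.Agent.Lib.Helper14.McLC1

/-!
# Restriction to the last 275 of 283 points; packaged cover data

* `hiHom`: a group of permutations of 283 points preserving the first eight points acts on the
  remaining 275 points;
* `CoverData H`: the data making `H` a non-split double cover of the alternating group of degree 8,
  in a form that is transported along isomorphisms;
* transport of the statement "one class of involutions, and the centraliser of an involution carries
  cover data" along an isomorphism.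
-/

set_option autoImplicit false

namespace Cfsg.Agent.Lib.Helper14.McLC

/-- permutations of 275 points -/
abbrev Q275 : Type := Equiv.Perm (Fin 275)

/-- permutations of 283 points -/
abbrev Q283 : Type := Equiv.Perm (Fin 283)

/-- the point `x + 8` -/
def up (x : Fin 275) : Fin 283 := ⟨x.val + 8, by omega⟩

theorem up_val (x : Fin 275) : (up x).val = x.val + 8 := rfl

theorem inv_app_self {α : Type*} (g : Equiv.Perm α) (x : α) : g⁻¹ (g x) = x :=
  Equiv.Perm.inv_eq_iff_eq.mpr rfl

theorem app_inv_self {α : Type*} (g : Equiv.Perm α) (x : α) : g (g⁻¹ x) = x :=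
  (Equiv.eq_symm_apply g).mp rfl

section Hi

variable (Γ : Subgroup Q283) (hinv : ∀ g ∈ Γ, ∀ x : Fin 283, x.val < 8 → (g x).val < 8)

include hinv in
theorem high_of_low (g : Q283) (hg : g ∈ Γ) (x : Fin 283) (hx : 8 ≤ x.val) : 8 ≤ (g x).val := by
  by_contra hlt
  have h1 := hinv g⁻¹ (Γ.inv_mem hg) (g x) (by omega)
  have h2 : g⁻¹ (g x) = x := inv_app_self g x
  rw [h2] at h1
  omega

theorem up_sub (y : Fin 283) (hy : 8 ≤ y.val) (h : y.val - 8 < 275) :
    up ⟨y.val - 8, h⟩ = y := by
  apply Fin.ext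
  show y.val - 8 + 8 = y.val
  omega

/-- the action on the last 275 points -/
def hiPerm (g : Γ) : Q275 where
  toFun x := ⟨(g.1 (up x)).val - 8, by
    have h1 := high_of_low Γ hinv g.1 g.2 (up x) (by rw [up_val]; omega)
    have h2 := (g.1 (up x)).isLt
    omega⟩
  invFun x := ⟨(g.1⁻¹ (up x)).val - 8, by
    have h1 := high_of_low Γ hinv g.1⁻¹ (Γ.inv_mem g.2) (up x) (by rw [up_val]; omega)
    have h2 := (g.1⁻¹ (up x)).isLt
    omega⟩
  left_inv x := by
    apply Fin.ext
    have h1 := high_of_low Γ hinv g.1 g.2 (up x) (by rw [up_val]; omega)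
    show (g.1⁻¹ (up ⟨(g.1 (up x)).val - 8, _⟩)).val - 8 = x.val
    rw [up_sub _ h1, inv_app_self, up_val]
    omega
  right_inv x := by
    apply Fin.ext
    have h1 := high_of_low Γ hinv g.1⁻¹ (Γ.inv_mem g.2) (up x) (by rw [up_val]; omega)
    show (g.1 (up ⟨(g.1⁻¹ (up x)).val - 8, _⟩)).val - 8 = x.val
    rw [up_sub _ h1, app_inv_self, up_val]
    omega

theorem hiPerm_val (g : Γ) (x : Fin 275) :
    ((hiPerm Γ hinv g) x).val + 8 = (g.1 (up x)).val := by
  have h1 := high_of_low Γ hinv g.1 g.2 (up x) (by rw [up_val]; omega)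
  show (g.1 (up x)).val - 8 + 8 = _
  omega

theorem up_hiPerm (g : Γ) (x : Fin 275) : up ((hiPerm Γ hinv g) x) = g.1 (up x) := by
  apply Fin.ext
  rw [up_val, hiPerm_val]

/-- the restriction homomorphism to the last 275 points -/
def hiHom : Γ →* Q275 where
  toFun := hiPerm Γ hinv
  map_one' := by
    apply Equiv.ext
    intro x
    apply Fin.ext
    have := hiPerm_val Γ hinv 1 x
    have h2 : ((1 : Γ).1 (up x)).val = x.val + 8 := rfl
    rw [h2] at this
    show ((hiPerm Γ hinv 1) x).val = x.val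
    omega
  map_mul' g h := by
    apply Equiv.ext
    intro x
    apply Fin.ext
    have h1 := hiPerm_val Γ hinv (g * h) x
    have h2 := hiPerm_val Γ hinv g ((hiPerm Γ hinv h) x)
    rw [up_hiPerm] at h2
    have h3 : ((g * h : Γ).1 (up x)) = g.1 (h.1 (up x)) := rfl
    rw [h3] at h1
    show ((hiPerm Γ hinv (g * h)) x).val = ((hiPerm Γ hinv g) ((hiPerm Γ hinv h) x)).val
    omega

theorem hiHom_val (g : Γ) (x : Fin 275) :
    ((hiHom Γ hinv g) x).val + 8 = (g.1 (up x)).val := hiPerm_val Γ hinv g x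

end Hi

/-- the data making `H` a non-split double cover of the alternating group of degree 8 -/
def CoverData (H : Type*) [Group H] : Prop :=
  ∃ (Γ : Type) (_ : Group Γ) (_ : Finite Γ) (ρ : Γ →* H) (π : Γ →* alternatingGroup (Fin 8))
    (z q : Γ), Function.Injective ρ ∧ Nat.card H ≤ Nat.card Γ ∧ Function.Surjective π ∧
      π.ker = Subgroup.zpowers z ∧ orderOf z = 2 ∧ q * q = z

theorem CoverData.congr {H H' : Type*} [Group H] [Group H'] (e : H ≃* H') (h : CoverData H) :
    CoverData H' := by
  obtain ⟨Γ, i1, i2, ρ, π, z, q, h1, h2, h3, h4, h5, h6⟩ := h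
  refine ⟨Γ, i1, i2, e.toMonoidHom.comp ρ, π, z, q, ?_, ?_, h3, h4, h5, h6⟩
  · exact e.injective.comp h1
  · rw [← Nat.card_congr e.toEquiv]; exact h2

theorem CoverData.nonsplit {H : Type*} [Group H] [Finite H] (h : CoverData H) :
    Cfsg.IsNonsplitDoubleCover H (alternatingGroup (Fin 8)) := by
  obtain ⟨Γ, i1, i2, ρ, π, z, q, h1, h2, h3, h4, h5, h6⟩ := h
  exact nonsplit_transport ρ h1 h2 π h3 z q h4 h5 h6
    (alternatingGroup.center_eq_bot (by rw [Nat.card_fin]; norm_num))

/-- the statement about involutions, transported along an isomorphism -/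
theorem transport_main {M G : Type*} [Group M] [Group G] [Finite M] (e : M ≃* G)
    (h1 : ∀ x y : G, orderOf x = 2 → orderOf y = 2 → IsConj x y)
    (h2 : ∃ t : G, orderOf t = 2 ∧ CoverData (Subgroup.centralizer ({t} : Set G))) :
    (∀ x y : M, orderOf x = 2 → orderOf y = 2 → IsConj x y) ∧
    ∃ t : M, orderOf t = 2 ∧
      Cfsg.IsNonsplitDoubleCover (Subgroup.centralizer ({t} : Set M)) (alternatingGroup (Fin 8)) := by
  constructor
  · intro x y hx hy
    have h := h1 (e x) (e y) (by rw [MulEquiv.orderOf_eq]; exact hx)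
      (by rw [MulEquiv.orderOf_eq]; exact hy)
    obtain ⟨c, hc⟩ := isConj_iff.mp h
    rw [isConj_iff]
    refine ⟨e.symm c, ?_⟩
    apply e.injective
    rw [map_mul, map_mul, map_inv, MulEquiv.apply_symm_apply]
    exact hc
  · obtain ⟨t, ht, hcd⟩ := h2
    refine ⟨e.symm t, by rw [MulEquiv.orderOf_eq]; exact ht, ?_⟩
    exact (hcd.congr (centEquiv e.symm t)).nonsplit

end Cfsg.Agent.Lib.Helper14.McLC
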