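import Cfsg.Agent.Lib.Helper14.McLCDefs

/-!
# Boolean certificates inside the big group on 275 points
-/

set_option autoImplicit false

namespace Cfsg.Agent.Lib.Helper14.McLC

open Cfsg.Agent.Lib.Helper28.BSGS Cfsg.Agent.Lib.Helper28.McLAData Cfsg.Agent.Lib.Helper24.Cov
open Cfsg.Agent.Lib.Helper28.McLA (TE keyW)

/-- the parts on the 275 points of the generators of `Γ` -/
theorem cert_part : partAll GG KH = true := by
  decide +kernel

/-- the generators of `K` lie in the big group and commute with the involution -/
theorem cert_cent : KG.all centB = true := by
  decide +kernel

/-- the involution exchanging `0` and `1`, conjugate to the standard involution -/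
theorem cert_t : (pairOK 275 9 tt tt && siftB 275 9 LEVELS [tt] && !(wordId 275 9 [tt]) &&
    Nat.beq (look 9 tt 0) 1 && Nat.beq (look 9 tt 1) 0 &&
    pairOK 275 9 th thi && siftB 275 9 LEVELS [th] && wordEq 275 9 [tt] [th, tb, thi]) = true := by
  decide +kernel

/-- the part on the 275 points of the central involution -/
theorem cert_z : matchB (gz, gz) (tt, tt) = true := by
  decide +kernel

/-- the points moved by the involution lie in the first orbit of `K` -/
theorem cert_moved : (List.range 275).all (fun x => Nat.beq (look 9 tt x) x ||
    ((LK.headD (0, [])).2.map fun e => e.1).contains x) = true := by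
  decide +kernel

/-- the standard involution -/
theorem cert_b : (pairOK 275 9 tb tb && siftB 275 9 LEVELS [tb] && !(wordId 275 9 [tb])) = true := by
  decide +kernel

theorem cert_gens : gensOK 275 9 GENS = true := by
  decide +kernel

theorem size_M : codeSize (LEVELS.drop 2) = 20160 := by decide +kernel

theorem len_ML : ML.length = 120 := by decide +kernel

/-- the 120 elements fixing `0` and `1` -/
theorem cert_ML : ML.all mlOK = true := by
  decide +kernel

/-- their conjugates of the involution are distinct -/
theorem cert_MLkeys : nodupB (ML.map fun m => keyW [m.1, tt, m.2]) = true := by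
  decide +kernel

/-- the involutions of the Sylow 2-subgroup -/
theorem cert_cj : ST.toList.all cjOK = true := by
  decide +kernel

end Cfsg.Agent.Lib.Helper14.McLC
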