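import Cfsg.Agent.Lib.Helper14.McLCDefs

/-!
# Boolean certificates for the part on the 275 points: sifting at the first level, generator 1
-/

set_option autoImplicit false
set_option Elab.async false

namespace Cfsg.Agent.Lib.Helper14.McLC

open Cfsg.Agent.Lib.Helper28.BSGS Cfsg.Agent.Lib.Helper28.McLAData Cfsg.Agent.Lib.Helper24.Cov

theorem sift_K_1 :
    trK0.all (fun e => siftB 275 9 LK [(KG.getD 1 (0, 0)).1, e.2.1]) = true := by
  decide +kernel

end Cfsg.Agent.Lib.Helper14.McLC
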