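import Cfsg.Agent.Lib.Helper14.McLCCertK0
import Cfsg.Agent.Lib.Helper14.McLCCertK1
import Cfsg.Agent.Lib.Helper14.McLCCertK2
import Cfsg.Agent.Lib.Helper14.McLCCertK3
import Cfsg.Agent.Lib.Helper14.McLCCertK4

/-!
# Boolean certificates for the part on the 275 points
-/

set_option autoImplicit false
set_option Elab.async false

namespace Cfsg.Agent.Lib.Helper14.McLC

open Cfsg.Agent.Lib.Helper28.BSGS Cfsg.Agent.Lib.Helper28.McLAData Cfsg.Agent.Lib.Helper24.Cov

theorem all_of_getD {α : Type} (l : List α) (d : α) (p : α → Bool)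
    (h : ∀ i, i < l.length → p (l.getD i d) = true) : l.all p = true := by
  rw [List.all_eq_true]
  intro x hx
  obtain ⟨i, hi, rfl⟩ := List.getElem_of_mem hx
  have := h i hi
  rwa [List.getD_eq_getElem _ _ hi] at this

theorem gens_K : gensOK 275 9 KG = true := by
  decide +kernel

theorem pre_K : (decide ((0 : ℕ) < 275) && headOK 275 9 0 trK0 && trK0.all (entryOK 275 9 0) &&
    nodupB (trK0.map fun e => e.1) &&
    orbitOK 9 KG [0] ((trK0.map fun e => e.1).tail)) = true := by
  decide +kernel

theorem chain_K1 : checkChain 275 9 (nextGens 9 KG 0) [(2, trK1), (3, trK2)] = true := by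
  decide +kernel

theorem sift_K : KG.all (fun g => trK0.all fun e => siftB 275 9 LK [g.1, e.2.1]) = true := by
  apply all_of_getD KG (0, 0)
  intro i hi
  have hl : KG.length = 5 := rfl
  rw [hl] at hi
  interval_cases i
  · exact sift_K_0
  · exact sift_K_1
  · exact sift_K_2
  · exact sift_K_3
  · exact sift_K_4

theorem level_K0 : levelOK 275 9 KG (0, trK0) [(2, trK1), (3, trK2)] = true := by
  show ((decide ((0 : ℕ) < 275) && headOK 275 9 0 trK0 && trK0.all (entryOK 275 9 0) &&
    nodupB (trK0.map fun e => e.1) &&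
    orbitOK 9 KG [0] ((trK0.map fun e => e.1).tail)) &&
    KG.all (fun g => trK0.all fun e => siftB 275 9 LK [g.1, e.2.1])) = true
  rw [pre_K, sift_K]
  rfl

/-- the part on the 275 points: chain -/
theorem cert_K : gensOK 275 9 KG = true ∧ checkChain 275 9 KG LK = true := by
  refine ⟨gens_K, ?_⟩
  show (levelOK 275 9 KG (0, trK0) [(2, trK1), (3, trK2)] &&
    checkChain 275 9 (nextGens 9 KG 0) [(2, trK1), (3, trK2)]) = true
  rw [level_K0, chain_K1]
  rfl

theorem size_K : codeSize LK = 40320 := by decide +kernel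

theorem size_K0 : codeSize LK.tail = 168 := by decide +kernel

end Cfsg.Agent.Lib.Helper14.McLC
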