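import Cfsg.Agent.Lib.Helper14.McLC2
import Cfsg.Agent.Lib.Helper14.McLCCertK
import Cfsg.Agent.Lib.Helper14.McLCCertH
import Cfsg.Agent.Lib.Helper24.CovAlt

/-!
# The centraliser of an involution of the McLaughlin group: the group on 275 points

`G0` is the group generated by the strong generators `GENS` (of `Cfsg.Agent.Lib.Helper28.McLAData`);
all statements assume the Schreier–Sims certificate `checkChain 275 9 GENS LEVELS = true`.  The
involution `tP` exchanges the points `0` and `1`; its centraliser in `G0` is the group `Kt` of order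
`40320` generated by the tables `KG`.
-/

set_option autoImplicit false

namespace Cfsg.Agent.Lib.Helper14.McLC

open Cfsg.Agent.Lib.Helper28.BSGS Cfsg.Agent.Lib.Helper28.McLAData Cfsg.Agent.Lib.Helper24.Cov
open Cfsg.Agent.Lib.Helper28.McLA (TE keyW)

attribute [local irreducible] permOf

/-- distinct conjugates under a subgroup bound the order of the centraliser in the subgroup -/
theorem card_inf_centralizer_le {P : Type*} [Group P] (M : Subgroup P) [Finite M] (t : P) (n : ℕ)
    (m : Fin n → P) (hm : ∀ i, m i ∈ M)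
    (hinj : Function.Injective fun i => m i * t * (m i)⁻¹) :
    n * Nat.card (M ⊓ Subgroup.centralizer ({t} : Set P) : Subgroup P) ≤ Nat.card M := by
  set C := Subgroup.centralizer ({t} : Set P) with hC
  set D : Subgroup M := C.subgroupOf M with hD
  have hq : Function.Injective (fun i => (QuotientGroup.mk (⟨m i, hm i⟩ : M) : M ⧸ D)) := by
    intro i j hij
    have h1 : (⟨m i, hm i⟩ : M)⁻¹ * ⟨m j, hm j⟩ ∈ D := QuotientGroup.eq.mp hij
    have h1' : (m i)⁻¹ * m j ∈ C := by
      rw [hD, Subgroup.mem_subgroupOf] at h1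
      exact h1
    have h2 : t * ((m i)⁻¹ * m j) = ((m i)⁻¹ * m j) * t :=
      Subgroup.mem_centralizer_iff.mp h1' t (Set.mem_singleton t)
    apply hinj
    show m i * t * (m i)⁻¹ = m j * t * (m j)⁻¹
    have h4 : m j * t * (m j)⁻¹ =
        m i * (((m i)⁻¹ * m j) * t * ((m i)⁻¹ * m j)⁻¹) * (m i)⁻¹ := by group
    rw [h4, ← h2]
    group
  have h1 : n ≤ D.index := by
    have := Nat.card_le_card_of_injective _ hq
    rwa [Nat.card_fin] at this
  have h2 : Nat.card D = Nat.card (M ⊓ C : Subgroup P) := by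
    have e1 : (M ⊓ C).subgroupOf M = D := by
      rw [hD, inf_comm, Subgroup.inf_subgroupOf_right]
    rw [← e1]
    exact Nat.card_congr (Subgroup.subgroupOfEquivOfLe (inf_le_left : M ⊓ C ≤ M)).toEquiv
  calc n * Nat.card (M ⊓ C : Subgroup P) = n * Nat.card D := by rw [h2]
    _ ≤ D.index * Nat.card D := Nat.mul_le_mul_right _ h1
    _ = Nat.card M := D.index_mul_card

theorem genGroup_le {n w : ℕ} [NeZero n] (gens : List (ℕ × ℕ)) (S : Subgroup (Equiv.Perm (Fin n)))
    (h : ∀ g ∈ gens, permOf n w g.1 g.2 ∈ S) : genGroup n w gens ≤ S := by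
  unfold genGroup
  rw [Subgroup.closure_le]
  intro s hs
  have hs' : s ∈ List.map (fun g => permOf n w g.1 g.2) gens := hs
  rw [List.mem_map] at hs'
  obtain ⟨k, hk, rfl⟩ := hs'
  exact h k hk

theorem mem_genGroup {n w : ℕ} [NeZero n] {gens : List (ℕ × ℕ)} {g : ℕ × ℕ} (hg : g ∈ gens) :
    permOf n w g.1 g.2 ∈ genGroup n w gens :=
  Subgroup.subset_closure (mem_semGens n w hg)

/-- the big group -/
def G0 : Subgroup Q275 := genGroup 275 9 GENS

/-- the involution exchanging `0` and `1` -/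
def tP : Q275 := permOf 275 9 tt tt

/-- the standard involution -/
def bP : Q275 := permOf 275 9 tb tb

/-- the group generated by the tables `KG` -/
def Kt : Subgroup Q275 := genGroup 275 9 KG

/-- the generators of `Kt` fixing `0` -/
def K0 : Subgroup Q275 := genGroup 275 9 (nextGens 9 KG 0)

/-- the stabiliser of `0` and `1` in the big group -/
def M01 : Subgroup Q275 := genGroup 275 9 (nextGens 9 (nextGens 9 GENS 0) 1)

theorem ct_spec : pairOK 275 9 tt tt = true ∧ siftB 275 9 LEVELS [tt] = true ∧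
    wordId 275 9 [tt] = false ∧ look 9 tt 0 = 1 ∧ look 9 tt 1 = 0 ∧
    pairOK 275 9 th thi = true ∧ siftB 275 9 LEVELS [th] = true ∧
    wordEq 275 9 [tt] [th, tb, thi] = true := by
  have h := cert_t
  simp only [Bool.and_eq_true, Bool.not_eq_true'] at h
  obtain ⟨⟨⟨⟨⟨⟨⟨h1, h2⟩, h3⟩, h4⟩, h5⟩, h6⟩, h7⟩, h8⟩ := h
  exact ⟨h1, h2, h3, Nat.eq_of_beq_eq_true h4, Nat.eq_of_beq_eq_true h5, h6, h7, h8⟩

theorem cb_spec : pairOK 275 9 tb tb = true ∧ siftB 275 9 LEVELS [tb] = true ∧
    wordId 275 9 [tb] = false := by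
  have h := cert_b
  simp only [Bool.and_eq_true, Bool.not_eq_true'] at h
  obtain ⟨⟨h1, h2⟩, h3⟩ := h
  exact ⟨h1, h2, h3⟩

theorem permOf_self_mul {t : ℕ} (hp : pairOK 275 9 t t = true) :
    permOf 275 9 t t * permOf 275 9 t t = 1 := by
  apply Equiv.ext
  intro x
  apply Fin.ext
  show (permOf 275 9 t t (permOf 275 9 t t x)).val = x.val
  rw [permOf_apply hp, permOf_apply hp]
  exact (pairOK_spec hp x.isLt).2.1

theorem permOf_ne_one {t u : ℕ} (hp : pairOK 275 9 t u = true) (h : wordId 275 9 [t] = false) :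
    permOf 275 9 t u ≠ 1 := by
  intro h1
  have := wordId_of_eq_one 275 9 (actsByW_permOf 275 9 hp) h1
  rw [h] at this
  exact Bool.noConfusion this

theorem orderOf_invol {g : Q275} (h1 : g * g = 1) (h2 : g ≠ 1) : orderOf g = 2 := by
  have : Fact (Nat.Prime 2) := ⟨Nat.prime_two⟩
  exact orderOf_eq_prime (by rw [pow_two]; exact h1) h2

theorem tP_mul_self : tP * tP = 1 := permOf_self_mul ct_spec.1

theorem tP_ne_one : tP ≠ 1 := permOf_ne_one ct_spec.1 ct_spec.2.2.1

theorem tP_zero : tP (pt 275 0) = pt 275 1 := by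
  unfold tP
  have h := permOf_pt 275 9 ct_spec.1 (a := 0) (by norm_num)
  rw [h, ct_spec.2.2.2.1]

theorem tP_val (x : Fin 275) : (tP x).val = look 9 tt x.val := by
  unfold tP
  exact permOf_apply ct_spec.1 x

theorem pt_zero_ne_one : pt 275 0 ≠ pt 275 1 := by
  intro h
  have := congrArg Fin.val h
  rw [pt_val 275 (by norm_num), pt_val 275 (by norm_num)] at this
  omega

section Chain

variable (hc : checkChain 275 9 GENS LEVELS = true)

include hc

theorem mem_G0 {t u : ℕ} (hp : pairOK 275 9 t u = true) (hs : siftB 275 9 LEVELS [t] = true) :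
    permOf 275 9 t u ∈ G0 :=
  (perm_main 275 9 GENS LEVELS cert_gens hc).2 _ _ (actsByW_permOf 275 9 hp) hs

theorem tP_mem : tP ∈ G0 := mem_G0 hc ct_spec.1 ct_spec.2.1

theorem bP_mem : bP ∈ G0 := mem_G0 hc cb_spec.1 cb_spec.2.1

theorem centB_spec {k : ℕ × ℕ} (h : centB k = true) :
    permOf 275 9 k.1 k.2 ∈ G0 ∧ permOf 275 9 k.1 k.2 * tP = tP * permOf 275 9 k.1 k.2 := by
  unfold centB at h
  simp only [Bool.and_eq_true] at h
  obtain ⟨⟨h1, h2⟩, h3⟩ := h
  refine ⟨mem_G0 hc h1 h2, ?_⟩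
  exact eq_of_wordEq 275 9
    (actsByW_cons (permOf_apply h1) (actsByW_permOf 275 9 ct_spec.1))
    (actsByW_cons (permOf_apply ct_spec.1) (actsByW_permOf 275 9 h1)) h3

/-- `Kt` lies in the big group and centralises the involution -/
theorem Kt_le : Kt ≤ G0 ⊓ Subgroup.centralizer ({tP} : Set Q275) := by
  apply genGroup_le
  intro k hk
  have h1 := List.all_eq_true.mp cert_cent k hk
  obtain ⟨h2, h3⟩ := centB_spec hc h1
  rw [Subgroup.mem_inf]
  refine ⟨h2, ?_⟩
  rw [Subgroup.mem_centralizer_iff]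
  intro y hy
  rw [Set.mem_singleton_iff] at hy
  rw [hy]
  exact h3.symm

omit hc in
theorem card_Kt : Nat.card Kt = 40320 := by
  unfold Kt
  rw [(perm_main 275 9 KG LK cert_K.1 cert_K.2).1, size_K]

omit hc in
theorem chainK0 : checkChain 275 9 (nextGens 9 KG 0) LK.tail = true :=
  checkChain_tail 275 9 0 trK0 _ cert_K.2

omit hc in
theorem card_K0 : Nat.card K0 = 168 := by
  unfold K0
  rw [(perm_main 275 9 (nextGens 9 KG 0) LK.tail (gensOK_next 275 9 cert_K.1 0) chainK0).1, size_K0]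

omit hc in
theorem K0_le : K0 ≤ Kt ∧ ∀ h ∈ K0, h (pt 275 0) = pt 275 0 :=
  nextGens_le 275 9 KG 0 (by norm_num) cert_K.1

omit hc in
/-- `Kt` is transitive on the points moved by the involution -/
theorem Kt_trans (x : ℕ) (hx : x < 275) (hm : look 9 tt x ≠ x) :
    ∃ k ∈ Kt, k (pt 275 0) = pt 275 x := by
  have h1 := List.all_eq_true.mp cert_moved x (List.mem_range.mpr hx)
  rw [Bool.or_eq_true] at h1
  rcases h1 with h1 | h1
  · exact absurd (Nat.eq_of_beq_eq_true h1) hm
  · have h2 : x ∈ trK0.map (fun e => e.1) := List.contains_iff_mem.mp h1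
    rw [List.mem_map] at h2
    obtain ⟨e, he, rfl⟩ := h2
    exact perm_reach 275 9 KG (0, trK0) _ cert_K.1 cert_K.2 e he

theorem chain1 : checkChain 275 9 (nextGens 9 GENS 0) LEVELS.tail = true :=
  checkChain_tail 275 9 0 mtr0 _ hc

theorem chain2 : checkChain 275 9 (nextGens 9 (nextGens 9 GENS 0) 1) (LEVELS.drop 2) = true :=
  checkChain_tail 275 9 1 mtr1 _ (chain1 hc)

omit hc in
theorem gens2 : gensOK 275 9 (nextGens 9 (nextGens 9 GENS 0) 1) = true :=
  gensOK_next 275 9 (gensOK_next 275 9 cert_gens 0) 1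

theorem card_M01 : Nat.card M01 = 20160 := by
  unfold M01
  rw [(perm_main 275 9 _ (LEVELS.drop 2) gens2 (chain2 hc)).1, size_M]

/-- the elements of the big group fixing `0` and `1` -/
theorem mem_M01 (g : Q275) (hg : g ∈ G0) (h0 : g (pt 275 0) = pt 275 0)
    (h1 : g (pt 275 1) = pt 275 1) : g ∈ M01 := by
  have k1 := perm_stab 275 9 GENS 0 mtr0 _ cert_gens hc g hg h0
  exact perm_stab 275 9 (nextGens 9 GENS 0) 1 mtr1 _ (gensOK_next 275 9 cert_gens 0) (chain1 hc) g k1 h1

omit hc in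
theorem M01_le : M01 ≤ G0 :=
  le_trans (nextGens_le 275 9 (nextGens 9 GENS 0) 1 (by norm_num) (gensOK_next 275 9 cert_gens 0)).1
    (nextGens_le 275 9 GENS 0 (by norm_num) cert_gens).1

/-- the entries of `ML` give elements of `M01` -/
theorem ml_mem {m : ℕ × ℕ} (hm : m ∈ ML) :
    pairOK 275 9 m.1 m.2 = true ∧ permOf 275 9 m.1 m.2 ∈ M01 := by
  have h := List.all_eq_true.mp cert_ML m hm
  unfold mlOK at h
  rw [Bool.and_eq_true] at h
  refine ⟨h.1, ?_⟩
  exact (perm_main 275 9 _ (LEVELS.drop 2) gens2 (chain2 hc)).2 _ _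
    (actsByW_permOf 275 9 h.1) h.2

omit hc in
theorem keyW_congr {ws ws' : List ℕ} (h : ∀ p, p < 6 → evalW 9 ws p = evalW 9 ws' p) :
    keyW ws = keyW ws' := by
  unfold keyW
  rw [h 0 (by norm_num), h 1 (by norm_num), h 2 (by norm_num), h 3 (by norm_num),
    h 4 (by norm_num), h 5 (by norm_num)]

/-- the centraliser of the involution in `M01` has at most 168 elements -/
theorem card_M01_cent : Nat.card (M01 ⊓ Subgroup.centralizer ({tP} : Set Q275) : Subgroup Q275) ≤ 168 := by
  have hlen : ML.length = 120 := len_ML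
  let m : Fin 120 → Q275 := fun i =>
    permOf 275 9 (ML.get (i.cast hlen.symm)).1 (ML.get (i.cast hlen.symm)).2
  have hmem : ∀ i, m i ∈ M01 := fun i => (ml_mem hc (List.get_mem ML _)).2
  have hnd : (ML.map fun m => keyW [m.1, tt, m.2]).Nodup := nodupB_sound _ cert_MLkeys
  have hinj : Function.Injective fun i => m i * tP * (m i)⁻¹ := by
    intro i j hij
    have hi := (ml_mem hc (List.get_mem ML (i.cast hlen.symm))).1
    have hj := (ml_mem hc (List.get_mem ML (j.cast hlen.symm))).1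
    have ai : ActsByW 275 9 (m i * tP * (m i)⁻¹)
        [(ML.get (i.cast hlen.symm)).1, tt, (ML.get (i.cast hlen.symm)).2] := by
      have := actsByW_append 275 9 (actsByW_append 275 9 (actsByW_permOf 275 9 hi)
        (actsByW_permOf 275 9 ct_spec.1)) (actsByW_permOf_inv 275 9 hi)
      exact this
    have aj : ActsByW 275 9 (m j * tP * (m j)⁻¹)
        [(ML.get (j.cast hlen.symm)).1, tt, (ML.get (j.cast hlen.symm)).2] := by
      have := actsByW_append 275 9 (actsByW_append 275 9 (actsByW_permOf 275 9 hj)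
        (actsByW_permOf 275 9 ct_spec.1)) (actsByW_permOf_inv 275 9 hj)
      exact this
    have hk : keyW [(ML.get (i.cast hlen.symm)).1, tt, (ML.get (i.cast hlen.symm)).2] =
        keyW [(ML.get (j.cast hlen.symm)).1, tt, (ML.get (j.cast hlen.symm)).2] := by
      apply keyW_congr
      intro p hp
      have e1 := ai ⟨p, by omega⟩
      have e2 := aj ⟨p, by omega⟩
      have hij' : m i * tP * (m i)⁻¹ = m j * tP * (m j)⁻¹ := hij
      rw [hij'] at e1
      exact e1.symm.trans e2
    have hidx := (List.Nodup.get_inj_iff hnd (i := ⟨i.val, by rw [List.length_map, hlen]; exact i.isLt⟩)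
      (j := ⟨j.val, by rw [List.length_map, hlen]; exact j.isLt⟩)).mp (by
        simp only [List.get_eq_getElem, List.getElem_map]
        simpa [List.get_eq_getElem] using hk)
    apply Fin.ext
    exact congrArg Fin.val hidx
  have hfin : Finite M01 := inferInstance
  have h1 := card_inf_centralizer_le M01 tP 120 m hmem hinj
  rw [card_M01 hc] at h1
  omega

omit hc in
/-- elements of the big group commuting with the involution and fixing `0` fix `1` -/
theorem fix_one (g : Q275) (hcomm : g * tP = tP * g) (h0 : g (pt 275 0) = pt 275 0) :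
    g (pt 275 1) = pt 275 1 := by
  have h1 : (g * tP) (pt 275 0) = (tP * g) (pt 275 0) := by rw [hcomm]
  rw [Equiv.Perm.mul_apply, Equiv.Perm.mul_apply, tP_zero, h0, tP_zero] at h1
  exact h1

/-- the centraliser of the involution in `M01` is `K0` -/
theorem K0_eq : K0 = M01 ⊓ Subgroup.centralizer ({tP} : Set Q275) := by
  have hle : K0 ≤ M01 ⊓ Subgroup.centralizer ({tP} : Set Q275) := by
    intro g hg
    have h1 : g ∈ G0 ⊓ Subgroup.centralizer ({tP} : Set Q275) := Kt_le hc (K0_le.1 hg)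
    rw [Subgroup.mem_inf] at h1 ⊢
    refine ⟨?_, h1.2⟩
    have h0 := K0_le.2 g hg
    have hcomm : g * tP = tP * g :=
      (Subgroup.mem_centralizer_iff.mp h1.2 tP (Set.mem_singleton tP)).symm
    exact mem_M01 hc g h1.1 h0 (fix_one g hcomm h0)
  apply Subgroup.eq_of_le_of_card_ge hle
  rw [card_K0]
  exact card_M01_cent hc

/-- the centraliser of the involution in the big group is `Kt` -/
theorem cent_eq : G0 ⊓ Subgroup.centralizer ({tP} : Set Q275) = Kt := by
  apply le_antisymm _ (Kt_le hc)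
  intro g hg
  rw [Subgroup.mem_inf] at hg
  obtain ⟨hg0, hgc⟩ := hg
  have hcomm : g * tP = tP * g :=
    (Subgroup.mem_centralizer_iff.mp hgc tP (Set.mem_singleton tP)).symm
  -- the image of `0` is moved by the involution
  have hmv : look 9 tt (g (pt 275 0)).val ≠ (g (pt 275 0)).val := by
    intro h
    have h1 : tP (g (pt 275 0)) = g (pt 275 0) := by
      apply Fin.ext
      rw [tP_val]; exact h
    have h2 : (g * tP) (pt 275 0) = (tP * g) (pt 275 0) := by rw [hcomm]
    rw [Equiv.Perm.mul_apply, Equiv.Perm.mul_apply, tP_zero, h1] at h2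
    exact pt_zero_ne_one (g.injective h2).symm
  obtain ⟨k, hk, hk0⟩ := Kt_trans (g (pt 275 0)).val (g (pt 275 0)).isLt hmv
  rw [pt_of_val] at hk0
  have hkc := Kt_le hc hk
  rw [Subgroup.mem_inf] at hkc
  have hkcomm : k * tP = tP * k :=
    (Subgroup.mem_centralizer_iff.mp hkc.2 tP (Set.mem_singleton tP)).symm
  -- `k⁻¹ * g` fixes `0`
  have h0 : (k⁻¹ * g) (pt 275 0) = pt 275 0 := by
    rw [Equiv.Perm.mul_apply, ← hk0]
    exact inv_app_self k _
  have hc' : (k⁻¹ * g) * tP = tP * (k⁻¹ * g) := by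
    have h3 : k⁻¹ * tP = tP * k⁻¹ := by
      have : tP = k⁻¹ * (k * tP) := by group
      calc k⁻¹ * tP = k⁻¹ * tP * (k * k⁻¹) := by group
        _ = k⁻¹ * (tP * k) * k⁻¹ := by group
        _ = k⁻¹ * (k * tP) * k⁻¹ := by rw [hkcomm]
        _ = tP * k⁻¹ := by group
    calc (k⁻¹ * g) * tP = k⁻¹ * (g * tP) := by group
      _ = k⁻¹ * (tP * g) := by rw [hcomm]
      _ = (k⁻¹ * tP) * g := by group
      _ = (tP * k⁻¹) * g := by rw [h3]
      _ = tP * (k⁻¹ * g) := by group
  have hin : k⁻¹ * g ∈ G0 := G0.mul_mem (G0.inv_mem hkc.1) hg0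
  have hM : k⁻¹ * g ∈ M01 := mem_M01 hc _ hin h0 (fix_one _ hc' h0)
  have hK0 : k⁻¹ * g ∈ K0 := by
    rw [K0_eq hc, Subgroup.mem_inf]
    refine ⟨hM, ?_⟩
    rw [Subgroup.mem_centralizer_iff]
    intro y hy
    rw [Set.mem_singleton_iff] at hy
    rw [hy]
    exact hc'.symm
  have : g = k * (k⁻¹ * g) := by group
  rw [this]
  exact Kt.mul_mem hk (K0_le.1 hK0)

end Chain

end Cfsg.Agent.Lib.Helper14.McLC
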