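import Cfsg.Agent.Lib.Helper14.McLCDefs

/-!
# Boolean certificates for the group on 283 points
-/

set_option autoImplicit false

namespace Cfsg.Agent.Lib.Helper14.McLC

open Cfsg.Agent.Lib.Helper28.BSGS Cfsg.Agent.Lib.Helper28.McLAData Cfsg.Agent.Lib.Helper24.Cov

/-- the group on 283 points: chain, central involution, commutator -/
theorem cert_data : dataCert 283 9 8 2 GG LG gz gz gA gAi gB gBi gI gI gI gI = true := by
  decide +kernel

/-- the generators and the chain on 283 points -/
theorem cert_G : gensOK 283 9 GG = true ∧ checkChain 283 9 GG LG = true := by
  decide +kernel

/-- the square root of the central involution -/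
theorem cert_q :
    (pairOK 283 9 gA gAi && siftB 283 9 LG [gA] && wordEq 283 9 [gA, gA] [gz]) = true := by
  decide +kernel

/-- the generators preserve the eight letters -/
theorem cert_low :
    GG.all (fun g => (List.range 8).all fun a => decide (look 9 g.1 a < 8)) = true := by
  decide +kernel

theorem size_G : codeSize LG = 40320 := by decide +kernel

/-- the lifts of the generators of the part on the 275 points -/
theorem cert_lift : liftAll KL KG = true := by
  decide +kernel

end Cfsg.Agent.Lib.Helper14.McLC
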