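import Cfsg.Agent.Lib.Helper14.McLC3
import Cfsg.Agent.Lib.Helper14.McLCCertG
import Cfsg.Agent.Lib.Helper2.J1SpecGen

/-!
# The centraliser of an involution of the McLaughlin group: the double cover

The group `Γt` on 283 points maps onto the alternating group of degree 8 (the first eight points)
with kernel of order 2, and isomorphically onto the centraliser `Kt` of the involution `tP` (the last
275 points).  All involutions of the big group are conjugate (Sylow's theorem and conjugators for the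
involutions of one Sylow 2-subgroup).
-/

set_option autoImplicit false

namespace Cfsg.Agent.Lib.Helper14.McLC

open Cfsg.Agent.Lib.Helper28.BSGS Cfsg.Agent.Lib.Helper28.McLAData Cfsg.Agent.Lib.Helper24.Cov
open Cfsg.Agent.Lib.Helper28.McLA (TE keyW)

attribute [local irreducible] permOf

/-- the group on 283 points -/
def Γt : Subgroup Q283 := genGroup 283 9 GG

theorem mem_Γt {t u : ℕ} (hp : pairOK 283 9 t u = true) (hs : siftB 283 9 LG [t] = true) :
    permOf 283 9 t u ∈ Γt :=
  (perm_main 283 9 GG LG cert_G.1 cert_G.2).2 _ _ (actsByW_permOf 283 9 hp) hs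

theorem Γ_inv : ∀ g ∈ Γt, ∀ x : Fin 283, x.val < 8 → (g x).val < 8 := by
  intro g hgm
  unfold Γt genGroup at hgm
  refine closure_induction_finite (p := fun g => ∀ x : Fin 283, x.val < 8 → (g x).val < 8)
    ?_ ?_ ?_ hgm
  · intro s hs x hx
    have hs' : s ∈ List.map (fun g => permOf 283 9 g.1 g.2) GG := hs
    rw [List.mem_map] at hs'
    obtain ⟨g0, hg0, rfl⟩ := hs'
    rw [permOf_apply (gensOK_spec 283 9 cert_G.1 g0 hg0)]
    have h1 := List.all_eq_true.mp cert_low g0 hg0
    rw [List.all_eq_true] at h1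
    exact of_decide_eq_true (h1 x.val (List.mem_range.mpr hx))
  · intro x hx; exact hx
  · intro a b ha hb x hx
    exact ha _ (hb x hx)

theorem Γ_data : Nat.card (genGroup 283 9 GG) = codeSize LG ∧
    ∃ hz : permOf 283 9 gz gz ∈ genGroup 283 9 GG,
      (⟨permOf 283 9 gz gz, hz⟩ : genGroup 283 9 GG) ∈ Subgroup.center (genGroup 283 9 GG) ∧
      (⟨permOf 283 9 gz gz, hz⟩ : genGroup 283 9 GG) ∈ commutator (genGroup 283 9 GG) ∧
      orderOf (⟨permOf 283 9 gz gz, hz⟩ : genGroup 283 9 GG) = 2 ∧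
      (∀ a, a < 8 → permOf 283 9 gz gz (pt 283 a) = pt 283 a) ∧
      ∀ g : genGroup 283 9 GG, (∀ a, a < 8 → g.1 (pt 283 a) = pt 283 a) →
        g ∈ Subgroup.zpowers (⟨permOf 283 9 gz gz, hz⟩ : genGroup 283 9 GG) :=
  dataCert_sound 283 9 8 2 (by norm_num) (by norm_num) GG LG gz gz gA gAi gB gBi gI gI gI gI
    cert_data

theorem card_Γt : Nat.card Γt = 40320 := by
  unfold Γt
  rw [Γ_data.1, size_G]

/-- the central involution -/
def zP : Q283 := permOf 283 9 gz gz

theorem zP_mem : zP ∈ Γt := by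
  obtain ⟨hz, _⟩ := Γ_data.2
  exact hz

/-- the central involution as an element of the group -/
def zΓ : Γt := ⟨zP, zP_mem⟩

theorem order_zΓ : orderOf zΓ = 2 := by
  obtain ⟨hz, _, _, h3, _, _⟩ := Γ_data.2
  exact h3

/-- the action on the eight letters -/
def resΓ : Γt →* Equiv.Perm (Fin 8) := resHom (by norm_num : 8 ≤ 283) Γt Γ_inv

theorem ker_resΓ : resΓ.ker = Subgroup.zpowers zΓ := by
  obtain ⟨hz, _, _, _, hzfix, hkerz⟩ := Γ_data.2
  apply le_antisymm
  · intro g hgk
    unfold resΓ at hgk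
    rw [MonoidHom.mem_ker, resHom_eq_one_iff] at hgk
    apply hkerz g
    intro a ha
    exact hgk (pt 283 a) (by rw [pt_val 283 (by omega)]; exact ha)
  · unfold resΓ
    rw [Subgroup.zpowers_le, MonoidHom.mem_ker, resHom_eq_one_iff]
    intro x hx
    have := hzfix x.val hx
    rwa [pt_of_val] at this

theorem range_resΓ : resΓ.range = alternatingGroup (Fin 8) := by
  apply Equiv.Perm.eq_alternatingGroup_of_index_eq_two
  have h1 : Nat.card Γt = Nat.card (Γt ⧸ resΓ.ker) * Nat.card resΓ.ker :=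
    Subgroup.card_eq_card_quotient_mul_card_subgroup _
  have h2 : Nat.card (Γt ⧸ resΓ.ker) = Nat.card resΓ.range :=
    Nat.card_congr (QuotientGroup.quotientKerEquivRange resΓ).toEquiv
  have h3 : Nat.card resΓ.ker = 2 := by rw [ker_resΓ, Nat.card_zpowers, order_zΓ]
  have h4 : Nat.card resΓ.range = 20160 := by
    rw [card_Γt, h2, h3] at h1
    omega
  have h5 := resΓ.range.card_mul_index
  rw [h4, Nat.card_perm, Nat.card_fin] at h5
  have h6 : (8 : ℕ).factorial = 40320 := by decide
  omega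

/-- the homomorphism onto the alternating group -/
def πΓ : Γt →* alternatingGroup (Fin 8) :=
  resΓ.codRestrict (alternatingGroup (Fin 8)) (fun g => by rw [← range_resΓ]; exact ⟨g, rfl⟩)

theorem πΓ_surj : Function.Surjective πΓ := by
  rintro ⟨y, hy⟩
  rw [← range_resΓ] at hy
  obtain ⟨g, hg⟩ := hy
  exact ⟨g, Subtype.ext hg⟩

theorem ker_πΓ : πΓ.ker = Subgroup.zpowers zΓ := by
  unfold πΓ
  rw [MonoidHom.ker_codRestrict, ker_resΓ]

theorem cq_spec : pairOK 283 9 gA gAi = true ∧ siftB 283 9 LG [gA] = true ∧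
    wordEq 283 9 [gA, gA] [gz] = true := by
  have h := cert_q
  simp only [Bool.and_eq_true] at h
  exact ⟨h.1.1, h.1.2, h.2⟩

/-- the square root of the central involution -/
def qΓ : Γt := ⟨permOf 283 9 gA gAi, mem_Γt cq_spec.1 cq_spec.2.1⟩

theorem qΓ_sq : qΓ * qΓ = zΓ := by
  apply Subtype.ext
  show permOf 283 9 gA gAi * permOf 283 9 gA gAi = zP
  have hpz : pairOK 283 9 gz gz = true := by
    have h := cert_data
    unfold dataCert at h
    simp only [Bool.and_eq_true] at h
    exact h.1.1.1.1.1.1.1.1.1.1.1.1.1.1.1.2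
  unfold zP
  exact eq_of_wordEq 283 9
    (actsByW_cons (permOf_apply cq_spec.1) (actsByW_permOf 283 9 cq_spec.1))
    (actsByW_permOf 283 9 hpz) cq_spec.2.2

/-- the action on the 275 points -/
def rΓ : Γt →* Q275 := hiHom Γt Γ_inv

theorem hi_of_match {g k : ℕ × ℕ} (hm : matchB g k = true) (hpg : pairOK 283 9 g.1 g.2 = true)
    (hpk : pairOK 275 9 k.1 k.2 = true) (hg : permOf 283 9 g.1 g.2 ∈ Γt) :
    rΓ ⟨permOf 283 9 g.1 g.2, hg⟩ = permOf 275 9 k.1 k.2 := by
  apply Equiv.ext
  intro x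
  apply Fin.ext
  have h1 := hiHom_val Γt Γ_inv ⟨_, hg⟩ x
  rw [permOf_apply hpg, up_val] at h1
  unfold matchB at hm
  have h2 := List.all_eq_true.mp hm x.val (List.mem_range.mpr x.isLt)
  rw [beq_iff_eq] at h2
  rw [permOf_apply hpk]
  show ((hiHom Γt Γ_inv ⟨_, hg⟩) x).val = _
  omega

theorem partAll_spec : ∀ (gs ks : List (ℕ × ℕ)), partAll gs ks = true →
    ∀ g ∈ gs, ∃ k, matchB g k = true ∧ centB k = true := by
  intro gs
  induction gs with
  | nil => intro ks _ g hg; simp at hg
  | cons g0 gs ih =>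
    intro ks h g hg
    cases ks with
    | nil => simp [partAll] at h
    | cons k0 ks =>
      unfold partAll at h
      simp only [Bool.and_eq_true] at h
      rcases List.mem_cons.mp hg with rfl | hg'
      · exact ⟨k0, h.1.1, h.1.2⟩
      · exact ih ks h.2 g hg'

theorem liftAll_spec : ∀ (gs ks : List (ℕ × ℕ)), liftAll gs ks = true →
    ∀ k ∈ ks, ∃ g, liftB g k = true := by
  intro gs
  induction gs with
  | nil =>
    intro ks h k hk
    cases ks with
    | nil => simp at hk
    | cons k0 ks => simp [liftAll] at h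
  | cons g0 gs ih =>
    intro ks h k hk
    cases ks with
    | nil => simp at hk
    | cons k0 ks =>
      unfold liftAll at h
      simp only [Bool.and_eq_true] at h
      rcases List.mem_cons.mp hk with rfl | hk'
      · exact ⟨g0, h.1⟩
      · exact ih ks h.2 k hk'

section Chain

variable (hc : checkChain 275 9 GENS LEVELS = true)

include hc

/-- the action on the 275 points lands in the centraliser -/
theorem rΓ_mem (g : Γt) : rΓ g ∈ Kt := by
  rw [← cent_eq hc]
  obtain ⟨g, hgm⟩ := g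
  have key : ∃ hg : g ∈ Γt, rΓ ⟨g, hg⟩ ∈ G0 ⊓ Subgroup.centralizer ({tP} : Set Q275) := by
    have hgm' := hgm
    unfold Γt genGroup at hgm'
    refine closure_induction_finite
      (p := fun g => ∃ hg : g ∈ Γt, rΓ ⟨g, hg⟩ ∈ G0 ⊓ Subgroup.centralizer ({tP} : Set Q275))
      ?_ ?_ ?_ hgm'
    · intro s hs
      have hs' : s ∈ List.map (fun g => permOf 283 9 g.1 g.2) GG := hs
      rw [List.mem_map] at hs'
      obtain ⟨g0, hg0, rfl⟩ := hs'
      obtain ⟨k, hk1, hk2⟩ := partAll_spec GG KH cert_part g0 hg0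
      have hmem : permOf 283 9 g0.1 g0.2 ∈ Γt := mem_genGroup hg0
      refine ⟨hmem, ?_⟩
      have hpk : pairOK 275 9 k.1 k.2 = true := by
        unfold centB at hk2
        simp only [Bool.and_eq_true] at hk2
        exact hk2.1.1
      rw [hi_of_match hk1 (gensOK_spec 283 9 cert_G.1 g0 hg0) hpk hmem]
      obtain ⟨h2, h3⟩ := centB_spec hc hk2
      rw [Subgroup.mem_inf]
      refine ⟨h2, ?_⟩
      rw [Subgroup.mem_centralizer_iff]
      intro y hy
      rw [Set.mem_singleton_iff] at hy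
      rw [hy]
      exact h3.symm
    · refine ⟨Γt.one_mem, ?_⟩
      have : (⟨1, Γt.one_mem⟩ : Γt) = 1 := rfl
      rw [this, map_one]
      exact Subgroup.one_mem _
    · rintro a b ⟨ha, ha'⟩ ⟨hb, hb'⟩
      refine ⟨Γt.mul_mem ha hb, ?_⟩
      have : (⟨a * b, Γt.mul_mem ha hb⟩ : Γt) = ⟨a, ha⟩ * ⟨b, hb⟩ := rfl
      rw [this, map_mul]
      exact Subgroup.mul_mem _ ha' hb'
  obtain ⟨_, h⟩ := key
  exact h

omit hc in
/-- every element of `Kt` comes from the group on 283 points -/
theorem Kt_le_range : Kt ≤ rΓ.range := by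
  apply genGroup_le
  intro k hk
  obtain ⟨g, hg⟩ := liftAll_spec KL KG cert_lift k hk
  unfold liftB at hg
  simp only [Bool.and_eq_true] at hg
  obtain ⟨⟨h1, h2⟩, h3⟩ := hg
  have hmem : permOf 283 9 g.1 g.2 ∈ Γt := mem_Γt h1 h2
  exact ⟨⟨_, hmem⟩, hi_of_match h3 h1 (gensOK_spec 275 9 cert_K.1 k hk) hmem⟩

omit hc in
theorem rΓ_inj : Function.Injective rΓ := by
  have h1 : Nat.card Kt ≤ Nat.card rΓ.range := Subgroup.card_le_of_le Kt_le_range
  rw [card_Kt] at h1
  have hbij : Function.Bijective rΓ.rangeRestrict :=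
    Function.Surjective.bijective_of_nat_card_le rΓ.rangeRestrict_surjective
      (by rw [card_Γt]; exact h1)
  intro a b hab
  apply hbij.1
  exact Subtype.ext hab

/-- the involution as an element of the big group -/
def tG : G0 := ⟨tP, tP_mem hc⟩

theorem order_tG : orderOf (tG hc) = 2 := by
  have : Fact (Nat.Prime 2) := ⟨Nat.prime_two⟩
  apply orderOf_eq_prime
  · apply Subtype.ext
    show ((tG hc) ^ 2).1 = 1
    rw [Subgroup.coe_pow, pow_two]
    exact tP_mul_self
  · intro h
    exact tP_ne_one (congrArg Subtype.val h)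

theorem mem_cent_iff (x : G0) :
    x ∈ Subgroup.centralizer ({tG hc} : Set G0) ↔
      x.1 ∈ Subgroup.centralizer ({tP} : Set Q275) := by
  rw [Subgroup.mem_centralizer_iff, Subgroup.mem_centralizer_iff]
  constructor
  · intro h y hy
    rw [Set.mem_singleton_iff] at hy
    rw [hy]
    exact congrArg Subtype.val (h (tG hc) (Set.mem_singleton _))
  · intro h y hy
    rw [Set.mem_singleton_iff] at hy
    rw [hy]
    exact Subtype.ext (h tP (Set.mem_singleton _))

/-- the isomorphism data for the centraliser -/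
theorem coverData : CoverData (Subgroup.centralizer ({tG hc} : Set G0)) := by
  have hKG : Kt ≤ G0 := le_trans (Kt_le hc) inf_le_left
  have hKC : Kt ≤ Subgroup.centralizer ({tP} : Set Q275) := le_trans (Kt_le hc) inf_le_right
  let ρ1 : Γt →* G0 := rΓ.codRestrict G0 (fun g => hKG (rΓ_mem hc g))
  let ρ : Γt →* Subgroup.centralizer ({tG hc} : Set G0) :=
    ρ1.codRestrict _ (fun g => (mem_cent_iff hc (ρ1 g)).mpr (hKC (rΓ_mem hc g)))
  have hρ : Function.Injective ρ := by
    intro a b hab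
    apply rΓ_inj
    have := congrArg (fun x : Subgroup.centralizer ({tG hc} : Set G0) => x.1.1) hab
    exact this
  have hcard : Nat.card (Subgroup.centralizer ({tG hc} : Set G0)) ≤ Nat.card Γt := by
    rw [card_Γt, ← card_Kt]
    let f : Subgroup.centralizer ({tG hc} : Set G0) → Kt := fun x => ⟨x.1.1, by
      rw [← cent_eq hc, Subgroup.mem_inf]
      exact ⟨x.1.2, (mem_cent_iff hc x.1).mp x.2⟩⟩
    have hf : Function.Injective f := by
      intro a b hab
      apply Subtype.ext
      apply Subtype.ext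
      have h1 : (f a).1 = (f b).1 := by rw [hab]
      exact h1
    exact Nat.card_le_card_of_injective f hf
  exact ⟨Γt, inferInstance, inferInstance, ρ, πΓ, zΓ, qΓ, hρ, hcard, πΓ_surj, ker_πΓ, order_zΓ,
    qΓ_sq⟩

/-! ### one class of involutions -/

omit hc in
theorem factorization_two : (898128000 : ℕ).factorization 2 = 7 := by
  have h : (898128000 : ℕ) = 2 ^ 7 * 7016625 := by norm_num
  rw [h, Nat.factorization_mul (by norm_num) (by norm_num),
    Nat.Prime.factorization_pow Nat.prime_two]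
  have h2 : (7016625 : ℕ).factorization 2 = 0 :=
    Nat.factorization_eq_zero_of_not_dvd (by norm_num)
  simp [h2]

/-- every involution of the big group is conjugate to the standard involution -/
theorem conj_bP (hcard : Nat.card G0 = 898128000) (Syl : Subgroup Q275) (hle : Syl ≤ G0)
    (hcs : Nat.card Syl = 128)
    (hmem : ∀ g ∈ Syl, ∃ e ∈ ST.toList, ∀ x : Fin 275, (g x).val = look 9 e.2.1 x.val)
    (x : G0) (hx : orderOf x = 2) : IsConj x (⟨bP, bP_mem hc⟩ : G0) := by
  have : Fact (Nat.Prime 2) := ⟨Nat.prime_two⟩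
  have hS : Nat.card (Syl.subgroupOf G0) = 2 ^ (Nat.card G0).factorization 2 := by
    rw [hcard, factorization_two]
    have h128 : (2 : ℕ) ^ 7 = 128 := by norm_num
    rw [h128, ← hcs]
    exact Nat.card_congr (Subgroup.subgroupOfEquivOfLe hle).toEquiv
  obtain ⟨c, hcc⟩ := Cfsg.Agent.Lib.Helper2.J1SpecGen.exists_conj_mem 2 (Subgroup.zpowers x)
    (Syl.subgroupOf G0) (Cfsg.Agent.Lib.Helper2.J1SpecGen.isPGroup_zpowers 2 x hx) hS
  have hy : c * x * c⁻¹ ∈ Syl.subgroupOf G0 := hcc x (Subgroup.mem_zpowers x)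
  rw [Subgroup.mem_subgroupOf] at hy
  obtain ⟨e, he, hact⟩ := hmem _ hy
  set y : Q275 := (c * x * c⁻¹ : G0).1 with hydef
  -- `y` is an involution
  have hy2 : y * y = 1 := by
    have h1 : (c * x * c⁻¹) * (c * x * c⁻¹) = 1 := by
      have h2 : x * x = 1 := by
        have := pow_orderOf_eq_one x
        rwa [hx, pow_two] at this
      calc (c * x * c⁻¹) * (c * x * c⁻¹) = c * (x * x) * c⁻¹ := by group
        _ = 1 := by rw [h2]; group
    have := congrArg Subtype.val h1
    exact this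
  have hy1 : y ≠ 1 := by
    intro h
    have h1 : c * x * c⁻¹ = 1 := Subtype.ext h
    have h2 : x = 1 := by
      have : x = c⁻¹ * (c * x * c⁻¹) * c := by group
      rw [this, h1]; group
    rw [h2, orderOf_one] at hx
    omega
  have hA : ActsByW 275 9 y [e.2.1] := actsByW_single hact
  have hw2 : wordId 275 9 [e.2.1, e.2.1] = true :=
    wordId_of_eq_one 275 9 (actsByW_cons hact hA) hy2
  have hw1 : wordId 275 9 [e.2.1] = false := by
    by_contra h
    rw [Bool.not_eq_false] at h
    exact hy1 (eq_one_of_wordId 275 9 hA h)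
  have hcj := List.all_eq_true.mp cert_cj e he
  unfold cjOK at hcj
  rw [hw2, hw1] at hcj
  simp only [Bool.not_true, Bool.false_or, List.any_eq_true, Bool.and_eq_true] at hcj
  obtain ⟨cj, _, ⟨⟨⟨k1, k2⟩, k3⟩, k4⟩⟩ := hcj
  have k1' : cj.1 = e.2.1 := Nat.eq_of_beq_eq_true k1
  have hh : permOf 275 9 cj.2.1 cj.2.2 ∈ G0 := mem_G0 hc k2 k3
  have hconj : permOf 275 9 cj.2.1 cj.2.2 * y * (permOf 275 9 cj.2.1 cj.2.2)⁻¹ = bP := by
    have hA' : ActsByW 275 9 y [cj.1] := by rw [k1']; exact hA
    have := actsByW_append 275 9 (actsByW_append 275 9 (actsByW_permOf 275 9 k2) hA')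
      (actsByW_permOf_inv 275 9 k2)
    unfold bP
    exact eq_of_wordEq 275 9 this (actsByW_permOf 275 9 cb_spec.1) k4
  rw [isConj_iff]
  refine ⟨⟨_, hh⟩ * c, ?_⟩
  apply Subtype.ext
  have h3 : ((⟨_, hh⟩ * c : G0) * x * (⟨_, hh⟩ * c : G0)⁻¹) =
      (⟨_, hh⟩ : G0) * (c * x * c⁻¹) * (⟨_, hh⟩ : G0)⁻¹ := by group
  rw [h3]
  exact hconj

/-- the main statement for the big group -/
theorem main (hcard : Nat.card G0 = 898128000) (Syl : Subgroup Q275) (hle : Syl ≤ G0)
    (hcs : Nat.card Syl = 128)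
    (hmem : ∀ g ∈ Syl, ∃ e ∈ ST.toList, ∀ x : Fin 275, (g x).val = look 9 e.2.1 x.val) :
    (∀ x y : G0, orderOf x = 2 → orderOf y = 2 → IsConj x y) ∧
    ∃ t : G0, orderOf t = 2 ∧ CoverData (Subgroup.centralizer ({t} : Set G0)) := by
  refine ⟨?_, tG hc, order_tG hc, coverData hc⟩
  intro x y hx hy
  exact (conj_bP hc hcard Syl hle hcs hmem x hx).trans
    (conj_bP hc hcard Syl hle hcs hmem y hy).symm

end Chain

end Cfsg.Agent.Lib.Helper14.McLC
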