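import Cfsg.Agent.Lib.Helper14.McLCData
import Cfsg.Agent.Lib.Helper24.CovData
import Cfsg.Agent.Lib.Helper28.McLADefs

/-!
# Boolean checks for the centraliser of an involution of the McLaughlin group
-/

set_option autoImplicit false

namespace Cfsg.Agent.Lib.Helper14.McLC

open Cfsg.Agent.Lib.Helper28.BSGS Cfsg.Agent.Lib.Helper28.McLAData Cfsg.Agent.Lib.Helper24.Cov
open Cfsg.Agent.Lib.Helper28.McLA (TE keyW)

/-- the table `k` is the part of the table `g` on the 275 points -/
def matchB (g k : ℕ × ℕ) : Bool :=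
  (List.range 275).all fun x => look 9 g.1 (x + 8) == look 9 k.1 x + 8

/-- the table is a valid element of the big group commuting with the involution -/
def centB (k : ℕ × ℕ) : Bool :=
  pairOK 275 9 k.1 k.2 && siftB 275 9 LEVELS [k.1] && wordEq 275 9 [k.1, tt] [tt, k.1]

/-- the table on 283 points is a valid element of `Γ` lifting `k` -/
def liftB (g k : ℕ × ℕ) : Bool :=
  pairOK 283 9 g.1 g.2 && siftB 283 9 LG [g.1] && matchB g k

/-- lifting all the tables of a list -/
def liftAll : List (ℕ × ℕ) → List (ℕ × ℕ) → Bool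
  | [], [] => true
  | g :: gs, k :: ks => liftB g k && liftAll gs ks
  | _, _ => false

/-- the tables of a list are the parts on the 275 points, and valid -/
def partAll : List (ℕ × ℕ) → List (ℕ × ℕ) → Bool
  | [], [] => true
  | g :: gs, k :: ks => matchB g k && centB k && partAll gs ks
  | _, _ => false

/-- an entry of the list of elements fixing `0` and `1` -/
def mlOK (m : ℕ × ℕ) : Bool :=
  pairOK 275 9 m.1 m.2 && siftB 275 9 (LEVELS.drop 2) [m.1]

/-- an entry of the table of the Sylow 2-subgroup: not an involution, or conjugate to `tb` -/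
def cjOK (e : TE) : Bool :=
  !(wordId 275 9 [e.2.1, e.2.1]) || wordId 275 9 [e.2.1] ||
  CJ.any fun c => Nat.beq c.1 e.2.1 && pairOK 275 9 c.2.1 c.2.2 && siftB 275 9 LEVELS [c.2.1] &&
    wordEq 275 9 [c.2.1, c.1, c.2.2] [tb]

end Cfsg.Agent.Lib.Helper14.McLC
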