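import Mathlib
import Cfsg.Prelude.Def_GeometricClasses
import Cfsg.Agent.Lib.Helper7.AschDefs

/-!
# Vocabulary for S5673 (Aschbacher's theorem for the odd-dimensional orthogonal groups, `q` odd)  (helper14)

Every subgroup `H` of the isometry group `I = isometryGroup F Q` of a non-degenerate quadratic form `Q` on `F^n`
(`n` odd, `|F|` odd, discriminant in the prime field up to squares) lies in a member of one of the geometric classes
1, 2, 3, 4, 5, 7 of `I` or is in the residual class.  The hypotheses `H ≤ Ω` and "H does not cover Ω" of the frozen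
statement are not needed.

* `InOClass Q M`  : the frozen `Cfsg.Geo.InOrthogonalOddClass` for an arbitrary index type `ι` and form `Q`
                    (`inOrthogonalOddClass_iff` : they agree for `ι = Unit ⊕ (Fin m ⊕ Fin m)`, `Q = quadFormOdd m F`);
* `OIn Q H`       : `H` lies in a member of a class;
* `OSetup Q`      : the standing hypotheses on `n`, `F`, `Q` (on `Fin n`);
* `OIn.of_*`      : wrappers, one per class.
-/

set_option autoImplicit false

namespace Cfsg.Agent.Lib.Helper14.OAsch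

open Matrix Cfsg Cfsg.Geo

variable {F : Type*} [Field F]

/-- the frozen `InOrthogonalOddClass` for an arbitrary index type and an arbitrary quadratic form -/
def InOClass [Fintype F] {ι : Type} [Fintype ι] [DecidableEq ι] (Q : (ι → F) → F) (M : Subgroup (GL ι F)) : Prop :=
  (∃ W : Submodule F (ι → F), W ≠ ⊥ ∧ IsTotallySingularQuad Q W ∧ M = subspaceStabilizer W ⊓ isometryGroup F Q) ∨
  (∃ W : Submodule F (ι → F), W ≠ ⊥ ∧ W ≠ ⊤ ∧ IsNondegenerateOn (QuadraticMap.polar Q) W ∧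
      M = subspaceStabilizer W ⊓ isometryGroup F Q) ∨
  (∃ (t k : ℕ) (D : Fin t → Submodule F (ι → F)), 1 < k ∧ IsOrthogonalMDecomposition Q k D ∧
      M = decompositionStabilizer D ⊓ isometryGroup F Q) ∨
  (∃ (t : ℕ) (D : Fin t → Submodule F (ι → F)), (Fintype.card F).Prime ∧ IsOrthogonalMDecomposition Q 1 D ∧
      M = decompositionStabilizer D ⊓ isometryGroup F Q) ∨
  (∃ (r : ℕ) (K : Subalgebra F (Matrix ι ι F)), r.Prime ∧ Fintype.card ι ≠ r ∧
      IsFieldSubalgebra r K ∧ IsSelfAdjointFor (QuadraticMap.polar Q) K ∧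
      M = subalgebraNormalizer K ⊓ isometryGroup F Q) ∨
  (∃ (n₁ n₂ : ℕ) (e : ι ≃ Fin n₁ × Fin n₂) (P : GL ι F)
      (f₁ : (Fin n₁ → F) → (Fin n₁ → F) → F) (f₂ : (Fin n₂ → F) → (Fin n₂ → F) → F),
      3 ≤ n₁ ∧ n₁ < n₂ ∧ IsSymmetricForm f₁ ∧ IsSymmetricForm f₂ ∧
      IsTensorFormStructure id (QuadraticMap.polar Q) f₁ f₂ e P ∧
      M = tensorProductSubgroup n₁ n₂ e P ⊓ isometryGroup F Q) ∨
  (∃ (F₀ : Subfield F) (r : ℕ) (P : GL ι F), r.Prime ∧ Fintype.card F = Nat.card F₀ ^ r ∧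
      IsQuadFormRationalStructure Q F₀ P ∧ M = subfieldSubgroup F₀ P ⊓ isometryGroup F Q) ∨
  (∃ (k t : ℕ) (e : ι ≃ (Fin t → Fin k)) (P : GL ι F)
      (f₁ : (Fin k → F) → (Fin k → F) → F), 3 ≤ k ∧ 2 ≤ t ∧ ¬ (Fintype.card F = 3 ∧ k = 3) ∧ IsSymmetricForm f₁ ∧
      IsTensorPowerFormStructure id (QuadraticMap.polar Q) f₁ e P ∧
      M = tensorWreathSubgroup k t e P ⊓ isometryGroup F Q)

/-- for the standard form on `Unit ⊕ (Fin m ⊕ Fin m)` this is the frozen predicate -/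
theorem inOrthogonalOddClass_iff [Fintype F] (m : ℕ) (M : Subgroup (GL (Unit ⊕ (Fin m ⊕ Fin m)) F)) :
    InOrthogonalOddClass m F M ↔ InOClass (quadFormOdd m F) M := by
  have hcard : Fintype.card (Unit ⊕ (Fin m ⊕ Fin m)) = 2 * m + 1 := by
    simp only [Fintype.card_sum, Fintype.card_fin, Fintype.card_unit]
    omega
  unfold InOrthogonalOddClass InOClass
  simp only [hcard]

/-- `H` lies in a member of one of the geometric classes of the isometry group of `Q` -/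
def OIn [Fintype F] {ι : Type} [Fintype ι] [DecidableEq ι] (Q : (ι → F) → F) (H : Subgroup (GL ι F)) : Prop :=
  ∃ M : Subgroup (GL ι F), InOClass Q M ∧ H ≤ M

/-- the standing hypotheses: `n ≥ 3` odd, `|F|` odd, `Q` non-degenerate with discriminant an integer times a square -/
structure OSetup [Fintype F] {n : ℕ} (Q : (Fin n → F) → F) : Prop where
  odd_n : Odd n
  three_le : 3 ≤ n
  odd_q : Odd (Fintype.card F)
  nd : IsNondegenerateQuadraticForm Q
  disc : ∃ (z : ℤ) (t : F), t ≠ 0 ∧ (gramMatrix (QuadraticMap.polar Q)).det = (z : F) * t ^ 2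

section wrappers

variable [Fintype F] {ι : Type} [Fintype ι] [DecidableEq ι] {Q : (ι → F) → F} {H : Subgroup (GL ι F)}

theorem OIn.mono {H' : Subgroup (GL ι F)} (h : OIn Q H) (hle : H' ≤ H) : OIn Q H' := by
  obtain ⟨M, hM, hH⟩ := h
  exact ⟨M, hM, hle.trans hH⟩

/-- class 1, totally singular subspace -/
theorem OIn.of_singular (hI : H ≤ isometryGroup F Q) (W : Submodule F (ι → F)) (hW : W ≠ ⊥)
    (hs : IsTotallySingularQuad Q W) (hH : H ≤ subspaceStabilizer W) : OIn Q H :=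
  ⟨_, Or.inl ⟨W, hW, hs, rfl⟩, le_inf hH hI⟩

/-- class 1, non-degenerate subspace -/
theorem OIn.of_nondeg (hI : H ≤ isometryGroup F Q) (W : Submodule F (ι → F)) (hW : W ≠ ⊥) (hW' : W ≠ ⊤)
    (hnd : IsNondegenerateOn (QuadraticMap.polar Q) W) (hH : H ≤ subspaceStabilizer W) : OIn Q H :=
  ⟨_, Or.inr (Or.inl ⟨W, hW, hW', hnd, rfl⟩), le_inf hH hI⟩

/-- class 2, members of dimension `k > 1` -/
theorem OIn.of_decomposition (hI : H ≤ isometryGroup F Q) {t : ℕ} (k : ℕ) (D : Fin t → Submodule F (ι → F))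
    (hk : 1 < k) (hD : IsOrthogonalMDecomposition Q k D) (hH : H ≤ decompositionStabilizer D) : OIn Q H :=
  ⟨_, Or.inr (Or.inr (Or.inl ⟨t, k, D, hk, hD, rfl⟩)), le_inf hH hI⟩

/-- class 2, lines over a prime field -/
theorem OIn.of_lines (hI : H ≤ isometryGroup F Q) {t : ℕ} (D : Fin t → Submodule F (ι → F))
    (hp : (Fintype.card F).Prime) (hD : IsOrthogonalMDecomposition Q 1 D) (hH : H ≤ decompositionStabilizer D) :
    OIn Q H :=
  ⟨_, Or.inr (Or.inr (Or.inr (Or.inl ⟨t, D, hp, hD, rfl⟩))), le_inf hH hI⟩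

/-- class 3 -/
theorem OIn.of_field (hI : H ≤ isometryGroup F Q) (r : ℕ) (K : Subalgebra F (Matrix ι ι F)) (hr : r.Prime)
    (hne : Fintype.card ι ≠ r) (hK : IsFieldSubalgebra r K) (hsa : IsSelfAdjointFor (QuadraticMap.polar Q) K)
    (hH : H ≤ subalgebraNormalizer K) : OIn Q H :=
  ⟨_, Or.inr (Or.inr (Or.inr (Or.inr (Or.inl ⟨r, K, hr, hne, hK, hsa, rfl⟩)))), le_inf hH hI⟩

/-- class 4 -/
theorem OIn.of_tensor (hI : H ≤ isometryGroup F Q) (n₁ n₂ : ℕ) (e : ι ≃ Fin n₁ × Fin n₂) (P : GL ι F)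
    (f₁ : (Fin n₁ → F) → (Fin n₁ → F) → F) (f₂ : (Fin n₂ → F) → (Fin n₂ → F) → F) (h1 : 3 ≤ n₁) (h2 : n₁ < n₂)
    (hf₁ : IsSymmetricForm f₁) (hf₂ : IsSymmetricForm f₂)
    (hT : IsTensorFormStructure id (QuadraticMap.polar Q) f₁ f₂ e P)
    (hH : H ≤ tensorProductSubgroup n₁ n₂ e P) : OIn Q H :=
  ⟨_, Or.inr (Or.inr (Or.inr (Or.inr (Or.inr (Or.inl ⟨n₁, n₂, e, P, f₁, f₂, h1, h2, hf₁, hf₂, hT, rfl⟩))))),
    le_inf hH hI⟩

/-- class 5 -/
theorem OIn.of_subfield (hI : H ≤ isometryGroup F Q) (F₀ : Subfield F) (r : ℕ) (P : GL ι F) (hr : r.Prime)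
    (hc : Fintype.card F = Nat.card F₀ ^ r) (hQ : IsQuadFormRationalStructure Q F₀ P)
    (hH : H ≤ subfieldSubgroup F₀ P) : OIn Q H :=
  ⟨_, Or.inr (Or.inr (Or.inr (Or.inr (Or.inr (Or.inr (Or.inl ⟨F₀, r, P, hr, hc, hQ, rfl⟩)))))), le_inf hH hI⟩

/-- class 7 -/
theorem OIn.of_tensorPower (hI : H ≤ isometryGroup F Q) (k t : ℕ) (e : ι ≃ (Fin t → Fin k)) (P : GL ι F)
    (f₁ : (Fin k → F) → (Fin k → F) → F) (hk : 3 ≤ k) (ht : 2 ≤ t) (h33 : ¬ (Fintype.card F = 3 ∧ k = 3))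
    (hf₁ : IsSymmetricForm f₁) (hT : IsTensorPowerFormStructure id (QuadraticMap.polar Q) f₁ e P)
    (hH : H ≤ tensorWreathSubgroup k t e P) : OIn Q H :=
  ⟨_, Or.inr (Or.inr (Or.inr (Or.inr (Or.inr (Or.inr (Or.inr ⟨k, t, e, P, f₁, hk, ht, h33, hf₁, hT, rfl⟩)))))),
    le_inf hH hI⟩

end wrappers

end Cfsg.Agent.Lib.Helper14.OAsch
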