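import Mathlib
import Cfsg.Prelude.Def_GeometricClasses
import Cfsg.Agent.Lib.Helper7.AschDefs
import Cfsg.Agent.Lib.Helper14.S5630CoreAB
import Cfsg.Agent.Lib.Helper14.OAschDefs

/-!
# S5673 block O6 (helper14): the symplectic-type case does not occur for isometry groups in odd dimension
-/

set_option autoImplicit false

namespace Cfsg.Agent.Lib.Helper14.OAschO6

open Matrix Cfsg Cfsg.Geo Cfsg.Agent.Lib.Helper7.Asch Cfsg.Agent.Lib.Helper14.OAsch
open scoped commutatorElement

variable {F : Type*} [Field F] {n : ℕ} {Q : (Fin n → F) → F}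

/-- a non-degenerate quadratic form in positive dimension takes a non-zero value -/
theorem exists_ne_zero (hn : 0 < n) (hQ : IsNondegenerateQuadraticForm Q) : ∃ v, Q v ≠ 0 := by
  by_contra hcon
  push Not at hcon
  let v : Fin n → F := Pi.single ⟨0, hn⟩ 1
  have hv : v ≠ 0 := by
    intro h
    have := congrFun h ⟨0, hn⟩
    simp [v] at this
  obtain ⟨⟨x, hx⟩, -⟩ := hQ.nondegenerate v hv
  apply hx
  unfold QuadraticMap.polar
  rw [hcon, hcon, hcon]
  simp

/-- a scalar isometry of a non-degenerate quadratic form has square one -/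
theorem sq_eq_one_of_scalar_isometry (hn : 0 < n) (hQ : IsNondegenerateQuadraticForm Q) (g : GL (Fin n) F)
    (hg : g ∈ isometryGroup F Q) (c : F) (hc : (g : Matrix (Fin n) (Fin n) F) = c • (1 : Matrix (Fin n) (Fin n) F)) :
    c ^ 2 = 1 := by
  obtain ⟨v, hv⟩ := exists_ne_zero hn hQ
  have h1 : Q ((g : Matrix (Fin n) (Fin n) F) *ᵥ v) = Q v := hg v v
  rw [hc, Matrix.smul_mulVec, Matrix.one_mulVec, hQ.smul] at h1
  have h2 : (c ^ 2 - 1) * Q v = 0 := by rw [sub_mul, h1, one_mul, sub_self]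
  rcases mul_eq_zero.mp h2 with h | h
  · exact sub_eq_zero.mp h
  · exact absurd h hv

/-- **O6** the symplectic-type case does not occur in odd dimension -/
theorem o6_false [Fintype F] (hS : OSetup Q) (H N : Subgroup (GL (Fin n) F)) (hH : H ≤ isometryGroup F Q)
    (hQP : QP H) (hNH : N ≤ H) (hnorm : NormBy H N) (hNs : ¬ N ≤ scalars (Fin n) F)
    (hcomm : ∀ x ∈ N, ∀ y ∈ N, ⁅x, y⁆ ∈ scalars (Fin n) F) : False := by
  have hn3 := hS.three_le
  have hcommute : ∀ x ∈ N, ∀ y ∈ N, x * y = y * x := by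
    intro x hx y hy
    obtain ⟨c, hc⟩ := (mem_scalars_iff _).mp (hcomm x hx y hy)
    have hmemN : ⁅x, y⁆ ∈ N := by
      rw [commutatorElement_def]
      exact N.mul_mem (N.mul_mem (N.mul_mem hx hy) (N.inv_mem hx)) (N.inv_mem hy)
    have hI : ⁅x, y⁆ ∈ isometryGroup F Q := hH (hNH hmemN)
    have hsq : (c : F) ^ 2 = 1 := sq_eq_one_of_scalar_isometry (by omega) hS.nd _ hI c hc
    have hdet : (Matrix.GeneralLinearGroup.det ⁅x, y⁆ : Fˣ) = 1 := by
      rw [commutatorElement_def]
      simp only [map_mul, map_inv]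
      rw [mul_comm (Matrix.GeneralLinearGroup.det x) (Matrix.GeneralLinearGroup.det y)]
      simp [mul_assoc]
    have hdet' : ((⁅x, y⁆ : GL (Fin n) F) : Matrix (Fin n) (Fin n) F).det = 1 := by
      have h3 : ((Matrix.GeneralLinearGroup.det ⁅x, y⁆ : Fˣ) : F) = 1 := by rw [hdet]; rfl
      rwa [Matrix.GeneralLinearGroup.val_det_apply] at h3
    rw [hc, Matrix.det_smul, Matrix.det_one, mul_one, Fintype.card_fin] at hdet'
    obtain ⟨k, hk⟩ := hS.odd_n
    have hc1 : (c : F) = 1 := by
      rw [hk, pow_succ, pow_mul, hsq, one_pow, one_mul] at hdet'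
      exact hdet'
    have hone : ⁅x, y⁆ = 1 := by
      apply Units.ext
      rw [hc, hc1, one_smul]
      rfl
    exact commutatorElement_eq_one_iff_mul_comm.mp hone
  rcases hQP N hNH hnorm with h | h
  · exact hNs h
  · exact Cfsg.Agent.Lib.Helper14.S5630Core.not_absIrr_of_comm (by omega) N hcommute h

end Cfsg.Agent.Lib.Helper14.OAschO6
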