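import Mathlib
import Cfsg.Prelude.Def_GeometricClasses
import Cfsg.Agent.Lib.Helper7.AschDefs
import Cfsg.Agent.Lib.Helper8.S5630I1
import Cfsg.Agent.Lib.Helper23.S5630I5
import Cfsg.Agent.Lib.Helper14.OAschDefs

/-!
# S5673: top-level skeleton (helper14).  The block theorems O1, O2, O4, O6, O7, O8 and BRIDGE are STUBS (`sorry`);
`main` (general theorem on `Fin n`) and `final` (the frozen statement) are real.
-/

set_option autoImplicit false

namespace Cfsg.Agent.Lib.Helper14.OAsch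

open Matrix Cfsg Cfsg.Geo Cfsg.Agent.Lib.Helper7.Asch
open scoped commutatorElement

variable {F : Type*} [Field F] [Fintype F] {n : ℕ} {Q : (Fin n → F) → F}

/-- **O1** reducible groups: stabiliser of a totally singular or of a non-degenerate subspace (class 1) -/
theorem oin_of_not_irr (hS : OSetup Q) (H : Subgroup (GL (Fin n) F)) (hH : H ≤ isometryGroup F Q)
    (h : ¬ Irr H) : OIn Q H := by
  sorry

/-- **O2** irreducible, not absolutely irreducible: class 3 with a self-adjoint field -/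
theorem oin_of_not_absIrr (hS : OSetup Q) (H : Subgroup (GL (Fin n) F)) (hH : H ≤ isometryGroup F Q)
    (h1 : Irr H) (h2 : ¬ AbsIrr H) : OIn Q H := by
  sorry

/-- **O4** Clifford trichotomy with the form -/
theorem o_clifford (hS : OSetup Q) (H N : Subgroup (GL (Fin n) F)) (hH : H ≤ isometryGroup F Q)
    (hHa : AbsIrr H) (hNH : N ≤ H) (hnorm : NormBy H N) :
    OIn Q H ∨ N ≤ scalars (Fin n) F ∨ AbsIrr N := by
  sorry

/-- **O6** the symplectic-type case does not occur in odd dimension -/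
theorem o6_false (hS : OSetup Q) (H N : Subgroup (GL (Fin n) F)) (hH : H ≤ isometryGroup F Q) (hQP : QP H)
    (hNH : N ≤ H) (hnorm : NormBy H N) (hNs : ¬ N ≤ scalars (Fin n) F)
    (hcomm : ∀ x ∈ N, ∀ y ∈ N, ⁅x, y⁆ ∈ scalars (Fin n) F) : False := by
  sorry

/-- **O7** the tensor-induced case: class 7 -/
theorem o7_case (hS : OSetup Q) (H L : Subgroup (GL (Fin n) F)) (hH : H ≤ isometryGroup F Q) (hHa : AbsIrr H)
    (hQP : QP H) (hLH : L ≤ H) (hLs : ¬ L ≤ scalars (Fin n) F) (hperf : ⁅L, L⁆ = L) (hqs : SimpleModScal L)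
    (hconj : ∀ h ∈ H, (∀ x ∈ L, h * x * h⁻¹ ∈ L) ∨
      (∀ x ∈ L, ∀ y ∈ L, (h * x * h⁻¹) * y = y * (h * x * h⁻¹)))
    (hnn : ¬ NormBy H L) : OIn Q H := by
  sorry

/-- **O8** the almost simple case: class 5 or the residual class -/
theorem o8_case (hS : OSetup Q) (H L : Subgroup (GL (Fin n) F)) (hH : H ≤ isometryGroup F Q) (hHa : AbsIrr H)
    (hQP : QP H) (hLH : L ≤ H) (hLs : ¬ L ≤ scalars (Fin n) F) (hperf : ⁅L, L⁆ = L) (hqs : SimpleModScal L)
    (hnorm : NormBy H L) : OIn Q H ∨ InOrthogonalResidualClass H := by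
  sorry

/-- **Aschbacher's theorem for the isometry group of a quadratic form in odd dimension, `|F|` odd** -/
theorem main (hS : OSetup Q) (H : Subgroup (GL (Fin n) F)) (hH : H ≤ isometryGroup F Q) :
    OIn Q H ∨ InOrthogonalResidualClass H := by
  by_cases h1 : Irr H
  swap
  · exact Or.inl (oin_of_not_irr hS H hH h1)
  by_cases h2 : AbsIrr H
  swap
  · exact Or.inl (oin_of_not_absIrr hS H hH h1 h2)
  by_cases h4 : QP H
  swap
  · unfold QP at h4
    push Not at h4
    obtain ⟨N, hNH, hnorm, hns, hna⟩ := h4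
    rcases o_clifford hS H N hH h2 hNH hnorm with h | h | h
    · exact Or.inl h
    · exact absurd h hns
    · exact absurd h hna
  have hn2 : 2 ≤ n := by have := hS.three_le; omega
  have hHs : ¬ H ≤ scalars (Fin n) F := Cfsg.Agent.Lib.Helper8.S5630I1.not_scalar_of_irr hn2 H h1
  rcases Cfsg.Agent.Lib.Helper23.S5630I5.group_dichotomy H hHs with
    ⟨N, r, hNH, hnorm, hNs, hmin, hr, hpow, hcomm⟩ | ⟨L, hLH, hLs, hperf, hqs, hconj⟩
  · exact (o6_false hS H N hH h4 hNH hnorm hNs hcomm).elim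
  · by_cases hnL : NormBy H L
    · exact o8_case hS H L hH h2 h4 hLH hLs hperf hqs hnL
    · exact Or.inl (o7_case hS H L hH h2 h4 hLH hLs hperf hqs hconj hnL)

/-! ## The bridge to the frozen index type `Unit ⊕ (Fin m ⊕ Fin m)` -/

/-- **BRIDGE** transport of `main` along a bijection `e₀ : ι ≃ Fin n` of index types (stub; sub-skeleton in the notes) -/
theorem bridge {ι : Type} [Fintype ι] [DecidableEq ι] (e₀ : ι ≃ Fin n) (Q₀ : (ι → F) → F)
    (hS : OSetup (fun v : Fin n → F => Q₀ (v ∘ e₀))) (H : Subgroup (GL ι F)) (hH : H ≤ isometryGroup F Q₀) :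
    OIn Q₀ H ∨ InOrthogonalResidualClass H := by
  sorry

/-- **STD** the standard form satisfies the standing hypotheses (stub) -/
theorem osetup_quadFormOdd (hodd : Odd (Fintype.card F)) (m : ℕ) (hm : 1 ≤ m)
    (e₀ : (Unit ⊕ (Fin m ⊕ Fin m)) ≃ Fin (2 * m + 1)) :
    OSetup (fun v : Fin (2 * m + 1) → F => quadFormOdd m F (v ∘ e₀)) := by
  sorry

/-- the frozen statement S5673 (`hproper` is not needed) -/
theorem final (hodd : Odd (Fintype.card F)) (m : ℕ) (hm : 3 ≤ m)
    (H : Subgroup (Matrix.GeneralLinearGroup (Unit ⊕ (Fin m ⊕ Fin m)) F))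
    (hH : H ≤ Cfsg.Geo.omegaGL (Cfsg.quadFormOdd m F)) :
    (∃ M : Subgroup (Matrix.GeneralLinearGroup (Unit ⊕ (Fin m ⊕ Fin m)) F),
      Cfsg.Geo.InOrthogonalOddClass m F M ∧ H ≤ M) ∨ Cfsg.Geo.InOrthogonalResidualClass H := by
  have hcard : Fintype.card (Unit ⊕ (Fin m ⊕ Fin m)) = 2 * m + 1 := by
    simp only [Fintype.card_sum, Fintype.card_fin, Fintype.card_unit]
    omega
  let e₀ : (Unit ⊕ (Fin m ⊕ Fin m)) ≃ Fin (2 * m + 1) := Fintype.equivFinOfCardEq hcard
  have hHI : H ≤ isometryGroup F (quadFormOdd m F) := by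
    refine hH.trans ?_
    unfold omegaGL
    exact Subgroup.map_subtype_le _
  rcases bridge e₀ (quadFormOdd m F) (osetup_quadFormOdd hodd m (by omega) e₀) H hHI with h | h
  · left
    obtain ⟨M, hM, hle⟩ := h
    exact ⟨M, (inOrthogonalOddClass_iff m M).mpr hM, hle⟩
  · exact Or.inr h

end Cfsg.Agent.Lib.Helper14.OAsch
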