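import Cfsg.Agent.Lib.Helper14.SpInv8
import Cfsg.Agent.Lib.Helper13.OrthCharTwo

set_option autoImplicit false

/-! # Centralisers of square-zero maps in orthogonal groups (characteristic two): exact sequence -/

namespace Cfsg.Agent.Lib.Helper14.OInv

open Module QuadraticMap
open Cfsg.Agent.Lib.Helper14.SpInv Cfsg.Agent.Lib.Helper13

universe u

section abs

variable {F V : Type u} [Field F] [AddCommGroup V] [Module F V]
variable (Q : QuadraticForm F V) (N : V →ₗ[F] V)

/-- the isometry group of `Q` inside the isometry group of its polar form -/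
def toIso : isoGroup Q →* IsoGrp (polarBilin Q : V →ₗ[F] V →ₗ[F] F) where
  toFun g := ⟨g.1, fun x y => by
    rw [polarBilin_apply_apply, polarBilin_apply_apply]
    exact isoGroup_polar Q g x y⟩
  map_one' := rfl
  map_mul' _ _ := rfl

theorem toIso_apply (g : isoGroup Q) (x : V) :
    ((toIso Q g : IsoGrp (polarBilin Q : V →ₗ[F] V →ₗ[F] F)) : V ≃ₗ[F] V) x = g.1 x := rfl

/-- the centraliser of `N` in the isometry group of `Q` -/
def OCent : Subgroup (isoGroup Q) where
  carrier := {g | ∀ x, g.1 (N x) = N (g.1 x)}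
  mul_mem' := by
    intro a b ha hb x
    show a.1 (b.1 (N x)) = N (a.1 (b.1 x))
    rw [hb, ha]
  one_mem' := by
    intro x
    rfl
  inv_mem' := by
    intro a ha x
    have h := ha ((a⁻¹).1 x)
    rw [isoGroup_inv_apply] at h
    rw [← h, isoGroup_inv_apply']

theorem mem_OCent (g : isoGroup Q) : g ∈ OCent Q N ↔ ∀ x, g.1 (N x) = N (g.1 x) := Iff.rfl

/-- the pointwise stabiliser of a subspace in the isometry group of `Q` -/
def OPStab (E : Submodule F V) : Subgroup (isoGroup Q) where
  carrier := {g | ∀ e ∈ E, g.1 e = e}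
  mul_mem' := by
    intro a b ha hb e he
    show a.1 (b.1 e) = e
    rw [hb e he, ha e he]
  one_mem' := by
    intro e _
    rfl
  inv_mem' := by
    intro a ha e he
    have h := ha e he
    conv_lhs => rw [← h]
    exact isoGroup_inv_apply' Q a e

theorem mem_OPStab (E : Submodule F V) (g : isoGroup Q) :
    g ∈ OPStab Q E ↔ ∀ e ∈ E, g.1 e = e := Iff.rfl

variable (hN2 : ∀ x, N (N x) = 0)
variable (hNB : ∀ x y, polar Q (N x) y = polar Q x (N y))

include hN2 hNB in
/-- an isometry of the polar form restricting to an isometry of the induced form commutes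
with `N` -/
theorem comm_of_restrict (hnd : ∀ x, (∀ y, polar Q x y = 0) → x = 0) (g : V ≃ₗ[F] V)
    (hg1 : ∀ x y, polar Q (g x) (g y) = polar Q x y)
    (a : IsoGrp (betaE (polarBilin Q : V →ₗ[F] V →ₗ[F] F) N))
    (hga : ∀ e : LinearMap.range N, g (e : V) =
      (((a : LinearMap.range N ≃ₗ[F] LinearMap.range N) e : LinearMap.range N) : V)) (v : V) :
    g (N v) = N (g v) := by
  have hNB' : ∀ x y, (polarBilin Q : V →ₗ[F] V →ₗ[F] F) (N x) y =
      (polarBilin Q : V →ₗ[F] V →ₗ[F] F) x (N y) := fun x y => by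
    rw [polarBilin_apply_apply, polarBilin_apply_apply]
    exact hNB x y
  have key : ∀ y, polar Q (g (N v)) y = polar Q (N (g v)) y := by
    intro y
    let e₁ : LinearMap.range N := ⟨N v, LinearMap.mem_range_self N v⟩
    let e₂ : LinearMap.range N := ⟨N y, LinearMap.mem_range_self N y⟩
    let e₂' : LinearMap.range N := (a : LinearMap.range N ≃ₗ[F] LinearMap.range N).symm e₂
    have h5 : (a : LinearMap.range N ≃ₗ[F] LinearMap.range N) e₂' = e₂ :=
      LinearEquiv.apply_symm_apply _ _
    have h1 : g (e₂' : V) = N y := by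
      rw [hga e₂', h5]
    have h2 : polar Q (N (g v)) y = polar Q v (e₂' : V) := by
      rw [hNB, ← h1, hg1]
    have h3 : betaE (polarBilin Q : V →ₗ[F] V →ₗ[F] F) N e₁ e₂' = polar Q v (e₂' : V) := by
      rw [betaE_apply _ N hN2 hNB' v e₁ e₂' rfl, polarBilin_apply_apply]
    have h4 := a.2 e₁ e₂'
    obtain ⟨x', hx'⟩ := ((a : LinearMap.range N ≃ₗ[F] LinearMap.range N) e₁).2
    have h6 : betaE (polarBilin Q : V →ₗ[F] V →ₗ[F] F) N
        ((a : LinearMap.range N ≃ₗ[F] LinearMap.range N) e₁) e₂ = polar Q x' (N y) := by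
      rw [betaE_apply _ N hN2 hNB' x' _ e₂ hx', polarBilin_apply_apply]
    have h7 : polar Q (g (N v)) y = polar Q x' (N y) := by
      have : g (N v) = g (e₁ : V) := rfl
      rw [this, hga e₁, ← hx', hNB]
    rw [h2, ← h3, ← h4, h5, h6, h7]
  have hsub : g (N v) - N (g v) = 0 := by
    apply hnd
    intro y
    rw [polar_sub_left, key, sub_self]
  exact sub_eq_zero.mp hsub

/-- inclusion of centralisers -/
def toCent : OCent Q N →* Cent (polarBilin Q : V →ₗ[F] V →ₗ[F] F) N where
  toFun g := ⟨toIso Q g.1, g.2⟩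
  map_one' := rfl
  map_mul' _ _ := rfl

end abs

section fin

variable {F V : Type u} [Field F] [Fintype F] [CharP F 2] [AddCommGroup V] [Module F V]
  [FiniteDimensional F V]
variable (Q : QuadraticForm F V) (N : V →ₗ[F] V)
variable (hQ : (polarBilin Q).Nondegenerate)
variable (hN2 : ∀ x, N (N x) = 0)
variable (hNB : ∀ x y, polar Q (N x) y = polar Q x (N y))
variable (hQN : ∀ v, Q (N v) = polar Q v (N v))

instance finite_isoGroup : Finite (isoGroup Q) := by
  haveI : Finite V := Module.finite_of_finite F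
  haveI : Finite (V ≃ₗ[F] V) := Finite.of_injective (fun g : V ≃ₗ[F] V => (g : V → V))
    (fun a b h => LinearEquiv.ext (congrFun h))
  infer_instance

omit [Fintype F] [CharP F 2] [FiniteDimensional F V] in
include hNB in
theorem hNB' (x y : V) : (polarBilin Q : V →ₗ[F] V →ₗ[F] F) (N x) y =
    (polarBilin Q : V →ₗ[F] V →ₗ[F] F) x (N y) := by
  rw [polarBilin_apply_apply, polarBilin_apply_apply]
  exact hNB x y

/-- restriction to the range of `N` -/
noncomputable def rhoO : OCent Q N →* IsoGrp (betaE (polarBilin Q : V →ₗ[F] V →ₗ[F] F) N) :=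
  (rho (polarBilin Q : V →ₗ[F] V →ₗ[F] F) N hN2 (hNB' Q N hNB)).comp (toCent Q N)

omit [Fintype F] [CharP F 2] [FiniteDimensional F V] in
theorem rhoO_apply (g : OCent Q N) (e : LinearMap.range N) :
    ((((rhoO Q N hN2 hNB g : IsoGrp (betaE (polarBilin Q : V →ₗ[F] V →ₗ[F] F) N)) :
      LinearMap.range N ≃ₗ[F] LinearMap.range N) e : LinearMap.range N) : V) = g.1.1 (e : V) := rfl

omit [Fintype F] [CharP F 2] [FiniteDimensional F V] in
include hN2 hNB hQN in
theorem Q_range (e : LinearMap.range N) :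
    Q (e : V) = betaE (polarBilin Q : V →ₗ[F] V →ₗ[F] F) N e e := by
  obtain ⟨v, hv⟩ := e.2
  rw [betaE_apply _ N hN2 (hNB' Q N hNB) v e e hv, polarBilin_apply_apply, ← hv, hQN]

omit [CharP F 2] in
include hQ hQN in
/-- **surjectivity** by Witt's lemma for quadratic forms -/
theorem rhoO_surjective : Function.Surjective (rhoO Q N hN2 hNB) := by
  intro a
  have hle : finrank F (LinearMap.range N) ≤ finrank F V := Submodule.finrank_le _
  obtain ⟨g, hg1, hg2⟩ := Cfsg.Agent.S0750.witt_quad Q hQ
    (finrank F V - finrank F (LinearMap.range N)) (LinearMap.range N)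
    (LinearMap.range N).subtype
    ((LinearMap.range N).subtype ∘ₗ ((a : LinearMap.range N ≃ₗ[F] LinearMap.range N) :
      LinearMap.range N →ₗ[F] LinearMap.range N))
    (Submodule.injective_subtype _)
    ((Submodule.injective_subtype _).comp (LinearEquiv.injective _)) (by
      intro e
      show Q (e : V) =
        Q ((((a : LinearMap.range N ≃ₗ[F] LinearMap.range N) e : LinearMap.range N)) : V)
      rw [Q_range Q N hN2 hNB hQN, Q_range Q N hN2 hNB hQN]
      exact (a.2 e e).symm) (by omega)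
  have hga : ∀ e : LinearMap.range N, g (e : V) =
      (((a : LinearMap.range N ≃ₗ[F] LinearMap.range N) e : LinearMap.range N) : V) := hg2
  have hpol : ∀ x y, polar Q (g x) (g y) = polar Q x y := by
    intro x y
    unfold polar
    rw [← map_add, hg1, hg1, hg1]
  have hgC : (⟨g, hg1⟩ : isoGroup Q) ∈ OCent Q N := by
    rw [mem_OCent]
    intro v
    exact comm_of_restrict Q N hN2 hNB (fun x hx => hQ.1 x hx) g hpol a hga v
  refine ⟨⟨⟨g, hg1⟩, hgC⟩, ?_⟩
  apply Subtype.ext
  apply LinearEquiv.ext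
  intro e
  apply Subtype.ext
  rw [rhoO_apply]
  exact hga e

include hQ in
/-- the kernel of the restriction -/
noncomputable def kerEquivO :
    (rhoO Q N hN2 hNB).ker ≃ OPStab Q (LinearMap.range N) where
  toFun g := ⟨g.1.1, by
    rw [mem_OPStab]
    intro e he
    have h := g.2
    rw [MonoidHom.mem_ker] at h
    have h2 := rhoO_apply Q N hN2 hNB g.1 ⟨e, he⟩
    rw [h] at h2
    exact h2.symm⟩
  invFun h := ⟨⟨h.1, by
      have h1 : toIso Q h.1 ∈ PStab (polarBilin Q : V →ₗ[F] V →ₗ[F] F) (LinearMap.range N) := by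
        rw [mem_PStab]
        intro e he
        exact (mem_OPStab Q _ h.1).mp h.2 e he
      have h2 := PStab_le_Cent (polarBilin Q : V →ₗ[F] V →ₗ[F] F) N hN2 (hNB' Q N hNB)
        (fun x => by rw [polarBilin_apply_apply]; exact polar_self_charTwo Q x)
        (fun x hx => hQ.1 x hx) (toIso Q h.1) h1
      exact h2⟩, by
    rw [MonoidHom.mem_ker]
    apply Subtype.ext
    apply LinearEquiv.ext
    intro e
    apply Subtype.ext
    rw [rhoO_apply]
    exact (mem_OPStab Q _ h.1).mp h.2 _ e.2⟩
  left_inv g := rfl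
  right_inv h := rfl

include hQ hN2 hNB hQN in
theorem card_OCent : Nat.card (OCent Q N) =
    Nat.card (OPStab Q (LinearMap.range N)) *
      Nat.card (IsoGrp (betaE (polarBilin Q : V →ₗ[F] V →ₗ[F] F) N)) := by
  have h1 := Subgroup.card_eq_card_quotient_mul_card_subgroup (rhoO Q N hN2 hNB).ker
  have h2 := Nat.card_congr (QuotientGroup.quotientKerEquivOfSurjective (rhoO Q N hN2 hNB)
    (rhoO_surjective Q N hQ hN2 hNB hQN)).toEquiv
  have h3 := Nat.card_congr (kerEquivO Q N hQ hN2 hNB)
  rw [h1, h2, h3, mul_comm]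

/-- isometric embeddings of a subspace -/
abbrev QEmb (E : Submodule F V) : Type u :=
  {φ : E →ₗ[F] V // Function.Injective φ ∧ ∀ e, Q (φ e) = Q (e : V)}

instance finite_QEmb (E : Submodule F V) : Finite (QEmb Q E) := by
  haveI : Finite V := Module.finite_of_finite F
  haveI : Finite (E →ₗ[F] V) := Finite.of_injective (fun g : E →ₗ[F] V => (g : E → V))
    (fun a b h => LinearMap.ext (congrFun h))
  infer_instance

/-- restriction of an isometry to a subspace -/
def embMap (E : Submodule F V) (g : isoGroup Q) : QEmb Q E :=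
  ⟨(g.1 : V →ₗ[F] V) ∘ₗ E.subtype,
    ⟨g.1.injective.comp (Submodule.injective_subtype E), fun e => g.2 e⟩⟩

omit [Fintype F] [CharP F 2] [FiniteDimensional F V] in
theorem embMap_apply (E : Submodule F V) (g : isoGroup Q) (e : E) :
    (embMap Q E g).1 e = g.1 (e : V) := rfl

omit [CharP F 2] in
include hQ in
theorem embMap_surjective (E : Submodule F V) : Function.Surjective (embMap Q E) := by
  intro φ
  have hle : finrank F E ≤ finrank F V := Submodule.finrank_le _
  obtain ⟨g, hg1, hg2⟩ := Cfsg.Agent.S0750.witt_quad Q hQ (finrank F V - finrank F E) E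
    E.subtype φ.1 (Submodule.injective_subtype _) φ.2.1 (fun e => (φ.2.2 e).symm) (by omega)
  refine ⟨⟨g, hg1⟩, ?_⟩
  apply Subtype.ext
  apply LinearMap.ext
  intro e
  rw [embMap_apply]
  exact hg2 e

omit [Fintype F] [CharP F 2] [FiniteDimensional F V] in
/-- the fibres of `embMap` are cosets of the pointwise stabiliser -/
noncomputable def embFiberEquiv (E : Submodule F V) (g₀ : isoGroup Q) :
    {g : isoGroup Q // embMap Q E g = embMap Q E g₀} ≃ OPStab Q E where
  toFun g := ⟨g₀⁻¹ * g.1, by
    rw [mem_OPStab]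
    intro e he
    have h := congrArg (fun φ : QEmb Q E => φ.1 ⟨e, he⟩) g.2
    simp only [embMap_apply] at h
    show (g₀⁻¹).1 (g.1.1 e) = e
    rw [h, isoGroup_inv_apply']⟩
  invFun h := ⟨g₀ * h.1, by
    apply Subtype.ext
    apply LinearMap.ext
    intro e
    rw [embMap_apply, embMap_apply]
    show g₀.1 (h.1.1 (e : V)) = g₀.1 (e : V)
    rw [(mem_OPStab Q E h.1).mp h.2 _ e.2]⟩
  left_inv g := by
    apply Subtype.ext
    show g₀ * (g₀⁻¹ * g.1) = g.1
    rw [mul_inv_cancel_left]
  right_inv h := by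
    apply Subtype.ext
    show g₀⁻¹ * (g₀ * h.1) = h.1
    rw [inv_mul_cancel_left]

omit [CharP F 2] in
include hQ in
theorem card_isoGroup_eq (E : Submodule F V) :
    Nat.card (isoGroup Q) = Nat.card (QEmb Q E) * Nat.card (OPStab Q E) := by
  classical
  haveI : Fintype (QEmb Q E) := Fintype.ofFinite _
  rw [Nat.card_congr (Equiv.sigmaFiberEquiv (embMap Q E)).symm, Nat.card_sigma]
  have hfib : ∀ φ : QEmb Q E, Nat.card {g : isoGroup Q // embMap Q E g = φ} =
      Nat.card (OPStab Q E) := by
    intro φ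
    obtain ⟨g₀, rfl⟩ := embMap_surjective Q hQ E φ
    exact Nat.card_congr (embFiberEquiv Q E g₀)
  simp only [hfib, Finset.sum_const, Finset.card_univ, smul_eq_mul]
  rw [Nat.card_eq_fintype_card (α := QEmb Q E)]

include hQ hN2 hNB hQN in
/-- **the order of the centraliser** -/
theorem card_OCent_mul :
    Nat.card (QEmb Q (LinearMap.range N)) * Nat.card (OCent Q N) =
      Nat.card (isoGroup Q) *
        Nat.card (IsoGrp (betaE (polarBilin Q : V →ₗ[F] V →ₗ[F] F) N)) := by
  rw [card_OCent Q N hQ hN2 hNB hQN, card_isoGroup_eq Q hQ (LinearMap.range N)]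
  ring

end fin

end Cfsg.Agent.Lib.Helper14.OInv
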