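import Cfsg.Agent.Lib.Helper14.OInv1
import Cfsg.Agent.Lib.Helper15.QuadCount4
import Cfsg.Agent.Lib.Helper13.OrthInvolCount

set_option autoImplicit false

/-! # Counting singular frames in a hyperbolic quadratic space (characteristic two) -/

namespace Cfsg.Agent.Lib.Helper14.OInv

open Module QuadraticMap
open Cfsg.Agent.Lib.Helper14.SpInv Cfsg.Agent.Lib.Helper13 Cfsg.Agent.Lib.Helper15

universe u

section frames

variable {F V : Type u} [Field F] [Fintype F] [CharP F 2] [AddCommGroup V] [Module F V]
  [FiniteDimensional F V]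
variable (Q : QuadraticForm F V)

/-- singular frames -/
abbrev SFrame (k : ℕ) : Type u :=
  {v : Fin k → V // LinearIndependent F v ∧ (∀ i j, polar Q (v i) (v j) = 0) ∧ ∀ i, Q (v i) = 0}

/-- singular frames extended by one vector of prescribed value -/
abbrev XFrame (k : ℕ) (a : F) : Type u :=
  {v : Fin (k + 1) → V // LinearIndependent F v ∧ (∀ i j, polar Q (v i) (v j) = 0) ∧
    (∀ i : Fin k, Q (v i.castSucc) = 0) ∧ Q (v (Fin.last k)) = a}

instance finite_SFrame (k : ℕ) : Finite (SFrame Q k) := by
  have : Finite V := Module.finite_of_finite F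
  infer_instance

instance finite_XFrame (k : ℕ) (a : F) : Finite (XFrame Q k a) := by
  have : Finite V := Module.finite_of_finite F
  infer_instance

omit [CharP F 2] in
/-- dual vectors for a linearly independent family -/
theorem exists_dual (hQ : (polarBilin Q).Nondegenerate) {k : ℕ} (p : Fin k → V)
    (hp : LinearIndependent F p) :
    ∃ f' : Fin k → V, ∀ i j, polar Q (p j) (f' i) = if j = i then 1 else 0 := by
  classical
  let L : V →ₗ[F] (Fin k → F) :=
    { toFun := fun x j => polar Q (p j) x
      map_add' := fun x y => by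
        funext j
        show polar Q (p j) (x + y) = polar Q (p j) x + polar Q (p j) y
        exact polar_add_right Q _ _ _
      map_smul' := fun c x => by
        funext j
        show polar Q (p j) (c • x) = c • polar Q (p j) x
        exact polar_smul_right Q _ _ _ }
  have hker : LinearMap.ker L = LinearMap.BilinForm.orthogonal
      (polarBilin Q : LinearMap.BilinForm F V) (Submodule.span F (Set.range p)) := by
    ext x
    rw [LinearMap.mem_ker, mem_orth_span]
    constructor
    · intro h j
      exact congrFun h j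
    · intro h
      funext j
      exact h j
  have hWd : finrank F (Submodule.span F (Set.range p)) = k := by
    rw [finrank_span_eq_card hp, Fintype.card_fin]
  have h1 := LinearMap.finrank_range_add_finrank_ker L
  rw [hker, LinearMap.BilinForm.finrank_orthogonal hQ, hWd] at h1
  have hle : finrank F (Submodule.span F (Set.range p)) ≤ finrank F V := Submodule.finrank_le _
  have hr : finrank F (LinearMap.range L) = finrank F (Fin k → F) := by
    rw [Module.finrank_fintype_fun_eq_card, Fintype.card_fin]
    omega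
  have hsurj : Function.Surjective L := by
    rw [← LinearMap.range_eq_top]
    exact Submodule.eq_top_of_finrank_eq hr
  choose f' hf' using fun i : Fin k => hsurj (Pi.single i 1)
  refine ⟨f', fun i j => ?_⟩
  have := congrFun (hf' i) j
  rw [Pi.single_apply] at this
  exact this

/-- a singular frame is half of a hyperbolic family -/
theorem exists_partner (hQ : (polarBilin Q).Nondegenerate) {k : ℕ} (p : SFrame Q k) :
    ∃ f : Fin k → V, IsHypFamily Q p.1 f := by
  classical
  obtain ⟨hli, hpp, hps⟩ := p.2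
  obtain ⟨f', hf'⟩ := exists_dual Q hQ p.1 hli
  let c : Fin k → Fin k → F := fun i j =>
    if i = j then Q (f' i) else if i < j then polar Q (f' i) (f' j) else 0
  let S : Fin k → V := fun i => ∑ j, c i j • p.1 j
  have hpS : ∀ j i, polar Q (p.1 j) (S i) = 0 := by
    intro j i
    show polar Q (p.1 j) (∑ l, c i l • p.1 l) = 0
    rw [polar_sum_right]
    apply Finset.sum_eq_zero
    intro l _
    rw [hpp, mul_zero]
  have hSS : ∀ i l, polar Q (S i) (S l) = 0 := by
    intro i l
    show polar Q (∑ j, c i j • p.1 j) (S l) = 0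
    rw [polar_sum_left]
    apply Finset.sum_eq_zero
    intro j _
    rw [hpS, mul_zero]
  have hfS : ∀ i l, polar Q (f' i) (S l) = c l i := by
    intro i l
    show polar Q (f' i) (∑ j, c l j • p.1 j) = c l i
    rw [polar_sum_right]
    have : ∀ j, c l j * polar Q (f' i) (p.1 j) = if j = i then c l j else 0 := by
      intro j
      rw [polar_comm, hf']
      split_ifs <;> simp
    simp only [this, Finset.sum_ite_eq', Finset.mem_univ, if_true]
  have hQS : ∀ i, Q (S i) = 0 := fun i => quad_sum_singular Q _ (c i) p.1 hps hpp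
  refine ⟨fun i => f' i + S i, hps, ?_, ?_, hpp, ?_⟩
  · intro i
    show Q (f' i + S i) = 0
    rw [quad_add, hQS, hfS, add_zero]
    show Q (f' i) + (if i = i then Q (f' i) else _) = 0
    rw [if_pos rfl]
    exact CharTwo.add_self_eq_zero _
  · intro i j
    show polar Q (p.1 i) (f' j + S j) = _
    rw [polar_add_right, hpS, add_zero, hf']
  · intro i j
    show polar Q (f' i + S i) (f' j + S j) = 0
    rw [polar_add_left, polar_add_right, polar_add_right, hfS, hSS, polar_comm Q (S i) (f' j),
      hfS, add_zero]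
    by_cases hij : i = j
    · subst hij
      rw [polar_self_charTwo, zero_add]
      exact CharTwo.add_self_eq_zero _
    · rcases lt_or_gt_of_ne hij with h | h
      · have h1 : c j i = 0 := by
          show (if j = i then _ else if j < i then _ else 0) = 0
          rw [if_neg (Ne.symm hij), if_neg (not_lt.mpr h.le)]
        have h2 : c i j = polar Q (f' i) (f' j) := by
          show (if i = j then _ else if i < j then _ else 0) = _
          rw [if_neg hij, if_pos h]
        rw [h1, h2, add_zero]
        exact CharTwo.add_self_eq_zero _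
      · have h1 : c i j = 0 := by
          show (if i = j then _ else if i < j then _ else 0) = 0
          rw [if_neg hij, if_neg (not_lt.mpr h.le)]
        have h2 : c j i = polar Q (f' i) (f' j) := by
          show (if j = i then _ else if j < i then _ else 0) = _
          rw [if_neg (Ne.symm hij), if_pos h, polar_comm]
        rw [h1, h2, add_zero]
        exact CharTwo.add_self_eq_zero _

/-- the number of vectors of prescribed value orthogonal to a singular frame -/
theorem card_perp_value (hQ : (polarBilin Q).Nondegenerate) (m : ℕ) (hd : finrank F V = 2 * m)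
    (a : F) (x : ℕ) (hN : Nat.card {v : V // Q v = a} = hypCount (Fintype.card F) 0 x m)
    {k : ℕ} (p : SFrame Q k) :
    k ≤ m ∧ Nat.card {y : V // (∀ i, polar Q (p.1 i) y = 0) ∧ Q y = a} =
      Fintype.card F ^ k * hypCount (Fintype.card F) 0 x (m - k) := by
  obtain ⟨f, h⟩ := exists_partner Q hQ p
  have hfr := finrank_hypPerp h
  have hk : k ≤ m := by omega
  refine ⟨hk, ?_⟩
  have h1 := card_value_hypPerp m 0 (by omega) a x hN k hk ⟨(p.1, f), h⟩
  have hdec : ∀ y : V, Q y = Q ((hypDecomp h) y).1.1 +
      ((hypDecomp h) y).2.1 ⬝ᵥ ((hypDecomp h) y).2.2 := by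
    intro y
    have h1 := quad_add_hypComb h ((hypDecomp h) y).1.1 ((hypDecomp h) y).1.2
      ((hypDecomp h) y).2.1 ((hypDecomp h) y).2.2
    have h2 : ((hypDecomp h) y).1.1 + hypComb p.1 f ((hypDecomp h) y).2.1
        ((hypDecomp h) y).2.2 = y := (hypDecomp h).left_inv y
    rw [h2] at h1
    exact h1
  let E1 : {y : V // (∀ i, polar Q (p.1 i) y = 0) ∧ Q y = a} ≃
      {z : hypPerp Q p.1 f × ((Fin k → F) × (Fin k → F)) // z.2.2 = 0 ∧ Q z.1.1 = a} :=
    (hypDecomp h).subtypeEquiv (fun y => by
      have hb : ((hypDecomp h) y).2.2 = fun i => polar Q y (p.1 i) := rfl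
      constructor
      · rintro ⟨hy1, hy2⟩
        have hb0 : ((hypDecomp h) y).2.2 = 0 := by
          rw [hb]
          funext i
          rw [polar_comm]
          exact hy1 i
        refine ⟨hb0, ?_⟩
        rw [hdec y, hb0, dotProduct_zero, add_zero] at hy2
        exact hy2
      · rintro ⟨hz1, hz2⟩
        refine ⟨fun i => ?_, ?_⟩
        · have := congrFun (hb.symm.trans hz1) i
          rw [polar_comm]
          exact this
        · rw [hdec y, hz1, dotProduct_zero, add_zero]
          exact hz2)
  let E2 : {z : hypPerp Q p.1 f × ((Fin k → F) × (Fin k → F)) // z.2.2 = 0 ∧ Q z.1.1 = a} ≃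
      {w : hypPerp Q p.1 f // Q w.1 = a} × (Fin k → F) :=
    { toFun := fun z => (⟨z.1.1, z.2.2⟩, z.1.2.1)
      invFun := fun z => ⟨(z.1.1, (z.2, 0)), rfl, z.1.2⟩
      left_inv := fun z => by
        apply Subtype.ext
        apply Prod.ext
        · rfl
        · apply Prod.ext
          · rfl
          · exact z.2.1.symm
      right_inv := fun z => rfl }
  rw [Nat.card_congr (E1.trans E2), Nat.card_prod, h1,
    Nat.card_eq_fintype_card (α := Fin k → F), Fintype.card_fun, Fintype.card_fin, mul_comm]

/-- restriction of an extended frame -/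
def XFrame.init {k : ℕ} {a : F} (x : XFrame Q k a) : SFrame Q k :=
  ⟨Fin.init x.1, by
    obtain ⟨h1, h2, h3, h4⟩ := x.2
    refine ⟨?_, fun i j => h2 _ _, fun i => h3 i⟩
    have e1 : x.1 = Fin.snoc (Fin.init x.1) (x.1 (Fin.last k)) := (Fin.snoc_init_self x.1).symm
    rw [e1, linearIndependent_finSnoc] at h1
    exact h1.1⟩

/-- the fibre of the restriction map -/
noncomputable def xFiberEquiv {k : ℕ} (a : F) (p : SFrame Q k) :
    {x : XFrame Q k a // x.init Q = p} ≃
      {y : V // ((∀ i, polar Q (p.1 i) y = 0) ∧ Q y = a) ∧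
        y ∉ Submodule.span F (Set.range p.1)} where
  toFun x := ⟨x.1.1 (Fin.last k), by
    obtain ⟨h1, h2, h3, h4⟩ := x.1.2
    have hp : Fin.init x.1.1 = p.1 := congrArg Subtype.val x.2
    have e1 : x.1.1 = Fin.snoc (Fin.init x.1.1) (x.1.1 (Fin.last k)) :=
      (Fin.snoc_init_self x.1.1).symm
    rw [e1, linearIndependent_finSnoc, hp] at h1
    refine ⟨⟨fun i => ?_, h4⟩, h1.2⟩
    rw [← hp]
    exact h2 _ _⟩
  invFun y := ⟨⟨(Fin.snoc p.1 y.1 : Fin (k + 1) → V), by
    obtain ⟨⟨hy1, hy2⟩, hy3⟩ := y.2
    obtain ⟨hli, hpp, hps⟩ := p.2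
    refine ⟨?_, ?_, ?_, ?_⟩
    · rw [linearIndependent_finSnoc]
      exact ⟨hli, hy3⟩
    · intro i j
      induction i using Fin.lastCases with
      | last =>
        induction j using Fin.lastCases with
        | last => rw [Fin.snoc_last]; exact polar_self_charTwo Q _
        | cast j => rw [Fin.snoc_last, Fin.snoc_castSucc, polar_comm]; exact hy1 j
      | cast i =>
        induction j using Fin.lastCases with
        | last => rw [Fin.snoc_last, Fin.snoc_castSucc]; exact hy1 i
        | cast j => rw [Fin.snoc_castSucc, Fin.snoc_castSucc]; exact hpp i j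
    · intro i
      rw [Fin.snoc_castSucc]
      exact hps i
    · rw [Fin.snoc_last]
      exact hy2⟩, by
    apply Subtype.ext
    show Fin.init (Fin.snoc p.1 y.1 : Fin (k + 1) → V) = p.1
    exact Fin.init_snoc _ _⟩
  left_inv x := by
    apply Subtype.ext
    apply Subtype.ext
    show (Fin.snoc p.1 (x.1.1 (Fin.last k)) : Fin (k + 1) → V) = x.1.1
    have hp : Fin.init x.1.1 = p.1 := congrArg Subtype.val x.2
    rw [← hp]
    exact Fin.snoc_init_self _
  right_inv y := by
    apply Subtype.ext
    show (Fin.snoc p.1 y.1 : Fin (k + 1) → V) (Fin.last k) = y.1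
    exact Fin.snoc_last _ _

omit [Fintype F] [CharP F 2] [FiniteDimensional F V] in
theorem span_singular {k : ℕ} (p : SFrame Q k) (y : V)
    (hy : y ∈ Submodule.span F (Set.range p.1)) :
    Q y = 0 ∧ ∀ i, polar Q (p.1 i) y = 0 := by
  classical
  obtain ⟨hli, hpp, hps⟩ := p.2
  rw [Submodule.mem_span_range_iff_exists_fun] at hy
  obtain ⟨c, rfl⟩ := hy
  refine ⟨quad_sum_singular Q _ c p.1 hps hpp, fun i => ?_⟩
  rw [polar_sum_right]
  apply Finset.sum_eq_zero
  intro l _
  rw [hpp, mul_zero]

theorem card_xFiber (hQ : (polarBilin Q).Nondegenerate) (m : ℕ) (hd : finrank F V = 2 * m)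
    (a : F) (x : ℕ) (hx : (a = 0 ∧ x = 1) ∨ (a ≠ 0 ∧ x = 0))
    (hN : Nat.card {v : V // Q v = a} = hypCount (Fintype.card F) 0 x m)
    {k : ℕ} (p : SFrame Q k) :
    Nat.card {y : V // ((∀ i, polar Q (p.1 i) y = 0) ∧ Q y = a) ∧
        y ∉ Submodule.span F (Set.range p.1)} =
      Fintype.card F ^ k * hypCount (Fintype.card F) 0 x (m - k) - x * Fintype.card F ^ k := by
  classical
  haveI : Finite V := Module.finite_of_finite F
  haveI : Fintype V := Fintype.ofFinite _
  obtain ⟨-, h1⟩ := card_perp_value Q hQ m hd a x hN p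
  set W := Submodule.span F (Set.range p.1) with hW
  have hWd : finrank F W = k := by
    rw [hW, finrank_span_eq_card p.2.1, Fintype.card_fin]
  have h2 : Nat.card {y : V // y ∈ W ∧ Q y = a} = x * Fintype.card F ^ k := by
    rcases hx with ⟨ha, hx⟩ | ⟨ha, hx⟩
    · rw [hx, one_mul, ← hWd, ← card_submodule W]
      apply Nat.card_congr
      exact Equiv.subtypeEquivRight (fun y => ⟨fun h => h.1, fun h =>
        ⟨h, by rw [(span_singular Q p y h).1, ha]⟩⟩)
    · rw [hx, zero_mul]
      haveI : IsEmpty {y : V // y ∈ W ∧ Q y = a} := ⟨fun y => by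
        apply ha
        rw [← y.2.2, (span_singular Q p y.1 y.2.1).1]⟩
      exact Nat.card_of_isEmpty
  rw [← h1, ← h2]
  rw [Nat.card_eq_fintype_card, Nat.card_eq_fintype_card, Nat.card_eq_fintype_card,
    Fintype.card_subtype, Fintype.card_subtype, Fintype.card_subtype]
  have h3 : (Finset.univ.filter (fun y : V => ((∀ i, polar Q (p.1 i) y = 0) ∧ Q y = a) ∧ y ∉ W)) =
      (Finset.univ.filter (fun y : V => (∀ i, polar Q (p.1 i) y = 0) ∧ Q y = a)) \
        (Finset.univ.filter (fun y : V => y ∈ W ∧ Q y = a)) := by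
    ext y
    simp only [Finset.mem_filter, Finset.mem_univ, true_and, Finset.mem_sdiff]
    constructor
    · rintro ⟨hy1, hy2⟩
      exact ⟨hy1, fun h => hy2 h.1⟩
    · rintro ⟨hy1, hy2⟩
      exact ⟨hy1, fun h => hy2 ⟨h, hy1.2⟩⟩
  rw [h3, Finset.card_sdiff_of_subset]
  intro y hy
  simp only [Finset.mem_filter, Finset.mem_univ, true_and] at hy ⊢
  exact ⟨(span_singular Q p y hy.1).2, hy.2⟩

theorem card_XFrame (hQ : (polarBilin Q).Nondegenerate) (m : ℕ) (hd : finrank F V = 2 * m)
    (a : F) (x : ℕ) (hx : (a = 0 ∧ x = 1) ∨ (a ≠ 0 ∧ x = 0))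
    (hN : Nat.card {v : V // Q v = a} = hypCount (Fintype.card F) 0 x m) (k : ℕ) :
    Nat.card (XFrame Q k a) = Nat.card (SFrame Q k) *
      (Fintype.card F ^ k * hypCount (Fintype.card F) 0 x (m - k) - x * Fintype.card F ^ k) := by
  classical
  haveI : Fintype (SFrame Q k) := Fintype.ofFinite _
  rw [Nat.card_congr (Equiv.sigmaFiberEquiv (XFrame.init Q (k := k) (a := a))).symm,
    Nat.card_sigma]
  have hfib : ∀ p : SFrame Q k, Nat.card {x : XFrame Q k a // x.init Q = p} =
      Fintype.card F ^ k * hypCount (Fintype.card F) 0 x (m - k) - x * Fintype.card F ^ k := by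
    intro p
    rw [Nat.card_congr (xFiberEquiv Q a p)]
    exact card_xFiber Q hQ m hd a x hx hN p
  simp only [hfib, Finset.sum_const, Finset.card_univ, smul_eq_mul]
  rw [Nat.card_eq_fintype_card (α := SFrame Q k)]

omit [Fintype F] [CharP F 2] [FiniteDimensional F V] in
/-- singular frames as extended frames of value zero -/
def sframeSuccEquiv (k : ℕ) : SFrame Q (k + 1) ≃ XFrame Q k 0 :=
  Equiv.subtypeEquivRight (fun v => by
    rw [Fin.forall_fin_succ' (P := fun i => Q (v i) = 0)])

theorem card_SFrame (hQ : (polarBilin Q).Nondegenerate) (m : ℕ) (hd : finrank F V = 2 * m)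
    (hN : Nat.card {v : V // Q v = 0} = hypCount (Fintype.card F) 0 1 m) (s : ℕ) :
    Nat.card (SFrame Q s) = ∏ j ∈ Finset.range s,
      (Fintype.card F ^ j * hypCount (Fintype.card F) 0 1 (m - j) - 1 * Fintype.card F ^ j) := by
  induction s with
  | zero =>
    rw [Finset.range_zero, Finset.prod_empty]
    haveI : Unique (SFrame Q 0) :=
      { default := ⟨Fin.elim0, linearIndependent_empty_type, fun i => i.elim0, fun i => i.elim0⟩
        uniq := fun x => by
          apply Subtype.ext
          funext i
          exact i.elim0 }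
    exact Nat.card_unique
  | succ s ih =>
    rw [Nat.card_congr (sframeSuccEquiv Q s), card_XFrame Q hQ m hd 0 1 (Or.inl ⟨rfl, rfl⟩) hN,
      ih, Finset.prod_range_succ]

end frames

section emb

variable {F V : Type u} [Field F] [Fintype F] [CharP F 2] [AddCommGroup V] [Module F V]
  [FiniteDimensional F V]
variable (Q : QuadraticForm F V)

/-- frames with prescribed values -/
abbrev QFrame {s : ℕ} (c : Fin s → F) : Type u :=
  {v : Fin s → V // LinearIndependent F v ∧ (∀ i j, polar Q (v i) (v j) = 0) ∧
    ∀ i, Q (v i) = c i}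

omit [Fintype F] [CharP F 2] [FiniteDimensional F V] in
theorem quad_comb {s : ℕ} (v : Fin s → V) (hv : ∀ i j, polar Q (v i) (v j) = 0)
    (c : Fin s → F) : Q (∑ i, c i • v i) = ∑ i, c i * c i * Q (v i) := by
  rw [map_sum_of_orth Q Finset.univ (fun i => c i • v i) (fun i j => by
    rw [polar_smul_left, polar_smul_right, hv, smul_zero, smul_zero])]
  apply Finset.sum_congr rfl
  intro i _
  rw [QuadraticMap.map_smul, smul_eq_mul]

omit [Fintype F] [CharP F 2] [FiniteDimensional F V] in
theorem QEmb_polar (E : Submodule F V) (φ : QEmb Q E) (e e' : E) :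
    polar Q (φ.1 e) (φ.1 e') = polar Q (e : V) (e' : V) := by
  unfold polar
  rw [← map_add, φ.2.2, φ.2.2, φ.2.2, Submodule.coe_add]

omit [Fintype F] [CharP F 2] [FiniteDimensional F V] in
theorem quad_constr {s : ℕ} (E : Submodule F V) (b : Basis (Fin s) F E)
    (hE : ∀ x ∈ E, ∀ y ∈ E, polar Q x y = 0) (v : Fin s → V)
    (hv : ∀ i j, polar Q (v i) (v j) = 0) (hQv : ∀ i, Q (v i) = Q (b i : V)) (e : E) :
    Q (b.constr F v e) = Q (e : V) := by
  rw [Basis.constr_apply_fintype, quad_comb Q v hv]
  have h1 : (e : V) = ∑ i, b.equivFun e i • (b i : V) := by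
    conv_lhs => rw [← b.sum_equivFun e]
    rw [Submodule.coe_sum]
    apply Finset.sum_congr rfl
    intro i _
    rw [Submodule.coe_smul]
  rw [h1, quad_comb Q (fun i => (b i : V)) (fun i j => hE _ (b i).2 _ (b j).2)]
  apply Finset.sum_congr rfl
  intro i _
  rw [hQv]

omit [Fintype F] [CharP F 2] [FiniteDimensional F V] in
theorem constr_injective {s : ℕ} (E : Submodule F V) (b : Basis (Fin s) F E)
    (v : Fin s → V) (hv : LinearIndependent F v) : Function.Injective (b.constr F v) := by
  rw [← LinearMap.ker_eq_bot, LinearMap.ker_eq_bot']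
  intro x hx
  rw [Basis.constr_apply_fintype] at hx
  have h1 := Fintype.linearIndependent_iff.mp hv (b.equivFun x) hx
  have h2 : b.equivFun x = 0 := funext h1
  exact (LinearEquiv.map_eq_zero_iff _).mp h2

omit [Fintype F] [CharP F 2] [FiniteDimensional F V] in
/-- isometric embeddings of a subspace with trivial polar form as frames -/
noncomputable def qembEquiv {s : ℕ} (E : Submodule F V) (b : Basis (Fin s) F E)
    (hE : ∀ x ∈ E, ∀ y ∈ E, polar Q x y = 0) :
    QEmb Q E ≃ QFrame Q (fun i => Q (b i : V)) where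
  toFun φ := ⟨fun i => φ.1 (b i), by
    refine ⟨?_, ?_, fun i => φ.2.2 (b i)⟩
    · exact b.linearIndependent.map' φ.1 (LinearMap.ker_eq_bot.mpr φ.2.1)
    · intro i j
      rw [QEmb_polar]
      exact hE _ (b i).2 _ (b j).2⟩
  invFun v := ⟨b.constr F v.1, constr_injective E b v.1 v.2.1,
    fun e => quad_constr Q E b hE v.1 v.2.2.1 v.2.2.2 e⟩
  left_inv φ := by
    apply Subtype.ext
    apply b.ext
    intro i
    exact b.constr_basis F _ i
  right_inv v := by
    apply Subtype.ext
    funext i
    exact b.constr_basis F v.1 i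

omit [Fintype F] [CharP F 2] in
/-- totally singular subspaces -/
theorem card_QEmb_sing (E : Submodule F V) (hE0 : ∀ e ∈ E, Q e = 0) (s : ℕ)
    (hs : finrank F E = s) : Nat.card (QEmb Q E) = Nat.card (SFrame Q s) := by
  have hE : ∀ x ∈ E, ∀ y ∈ E, polar Q x y = 0 := by
    intro x hx y hy
    unfold polar
    rw [hE0 _ (E.add_mem hx hy), hE0 x hx, hE0 y hy, sub_zero, sub_zero]
  let b : Basis (Fin s) F E := Module.finBasisOfFinrankEq F E hs
  rw [Nat.card_congr (qembEquiv Q E b hE)]
  apply Nat.card_congr
  exact Equiv.subtypeEquivRight (fun v => by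
    simp only [hE0 _ (b _).2])

/-- square roots in a finite field of characteristic two -/
theorem exists_sqrt (a : F) : ∃ c : F, c * c = a := by
  have : Fact (Nat.Prime 2) := ⟨Nat.prime_two⟩
  refine ⟨(frobeniusEquiv F 2).symm a, ?_⟩
  have h := RingEquiv.apply_symm_apply (frobeniusEquiv F 2) a
  rw [frobeniusEquiv_def, pow_two] at h
  exact h

/-- a basis adapted to a non-zero quadratic form with trivial polar form -/
theorem exists_adapted_basis {W : Type u} [AddCommGroup W] [Module F W] [FiniteDimensional F W]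
    (R : QuadraticForm F W) (hR : ∀ x y, polar R x y = 0) (w₀ : W) (hw₀ : R w₀ ≠ 0) :
    ∃ (d : ℕ) (b : Basis (Fin (d + 1)) F W),
      (∀ i : Fin d, R (b i.castSucc) = 0) ∧ R (b (Fin.last d)) = 1 := by
  have hadd : ∀ x y, R (x + y) = R x + R y := by
    intro x y
    have := hR x y
    unfold polar at this
    linear_combination this
  let K : Submodule F W :=
    { carrier := {w | R w = 0}
      add_mem' := by
        intro a b ha hb
        show R (a + b) = 0
        rw [hadd, ha, hb, add_zero]
      zero_mem' := map_zero R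
      smul_mem' := by
        intro c a ha
        show R (c • a) = 0
        rw [QuadraticMap.map_smul, ha, smul_zero] }
  have hK : ∀ w, w ∈ K ↔ R w = 0 := fun w => Iff.rfl
  obtain ⟨c₀, hc₀⟩ := exists_sqrt (R w₀)
  have hc0 : c₀ ≠ 0 := by
    rintro rfl
    rw [mul_zero] at hc₀
    exact hw₀ hc₀.symm
  have he₁ : R (c₀⁻¹ • w₀) = 1 := by
    rw [QuadraticMap.map_smul, ← hc₀, smul_eq_mul]
    field_simp
  set e₁ := c₀⁻¹ • w₀ with he₁def
  let b₀ := Module.finBasis F K
  let v : Fin (finrank F K + 1) → W := Fin.snoc (fun i => (b₀ i : W)) e₁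
  have hspanK : Submodule.span F (Set.range (fun i => (b₀ i : W))) = K := by
    have h1 : Set.range (fun i => (b₀ i : W)) = K.subtype '' Set.range b₀ := by
      rw [← Set.range_comp]
      rfl
    rw [h1, Submodule.span_image, b₀.span_eq, Submodule.map_subtype_top]
  have hli : LinearIndependent F v := by
    rw [linearIndependent_finSnoc]
    refine ⟨b₀.linearIndependent.map' K.subtype (Submodule.ker_subtype K), ?_⟩
    rw [hspanK, hK, he₁]
    exact one_ne_zero
  have hsp : ⊤ ≤ Submodule.span F (Set.range v) := by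
    intro w _
    obtain ⟨c, hc⟩ := exists_sqrt (R w)
    have h1 : w + c • e₁ ∈ K := by
      rw [hK, hadd, QuadraticMap.map_smul, he₁, smul_eq_mul, mul_one, hc]
      exact CharTwo.add_self_eq_zero _
    have h2 : w = (w + c • e₁) + c • e₁ := by
      rw [add_assoc, smul_add_self_charTwo, add_zero]
    have h3 : K ≤ Submodule.span F (Set.range v) := by
      refine le_of_eq_of_le hspanK.symm ?_
      apply Submodule.span_mono
      rintro _ ⟨i, rfl⟩
      refine ⟨i.castSucc, ?_⟩
      show (Fin.snoc (fun i => (b₀ i : W)) e₁ : Fin (finrank F K + 1) → W) i.castSucc = _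
      rw [Fin.snoc_castSucc]
    have h4 : e₁ ∈ Submodule.span F (Set.range v) := by
      apply Submodule.subset_span
      refine ⟨Fin.last _, ?_⟩
      show (Fin.snoc (fun i => (b₀ i : W)) e₁ : Fin (finrank F K + 1) → W) (Fin.last _) = _
      rw [Fin.snoc_last]
    rw [h2]
    exact Submodule.add_mem _ (h3 h1) (Submodule.smul_mem _ _ h4)
  refine ⟨finrank F K, Basis.mk hli hsp, fun i => ?_, ?_⟩
  · rw [Basis.mk_apply]
    show R ((Fin.snoc (fun i => (b₀ i : W)) e₁ : Fin (finrank F K + 1) → W) i.castSucc) = 0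
    rw [Fin.snoc_castSucc]
    exact (b₀ i).2
  · rw [Basis.mk_apply]
    show R ((Fin.snoc (fun i => (b₀ i : W)) e₁ : Fin (finrank F K + 1) → W) (Fin.last _)) = 1
    rw [Fin.snoc_last]
    exact he₁

/-- subspaces with trivial polar form which are not totally singular -/
theorem card_QEmb_nonsing (E : Submodule F V) (hE : ∀ x ∈ E, ∀ y ∈ E, polar Q x y = 0)
    (e₀ : V) (he₀ : e₀ ∈ E) (hQe : Q e₀ ≠ 0) (d : ℕ) (hs : finrank F E = d + 1) :
    Nat.card (QEmb Q E) = Nat.card (XFrame Q d 1) := by
  obtain ⟨d', b, hb1, hb2⟩ := exists_adapted_basis (Q.comp E.subtype)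
    (fun x y => by rw [polar_comp_subtype]; exact hE _ x.2 _ y.2) ⟨e₀, he₀⟩ hQe
  have hd : d' = d := by
    have := Module.finrank_eq_card_basis b
    rw [Fintype.card_fin] at this
    omega
  subst hd
  rw [Nat.card_congr (qembEquiv Q E b hE)]
  apply Nat.card_congr
  exact Equiv.subtypeEquivRight (fun v => by
    rw [Fin.forall_fin_succ' (P := fun i => Q (v i) = Q (b i : V))]
    have h1 : ∀ i : Fin d', Q ((b i.castSucc : E) : V) = 0 := hb1
    have h2 : Q ((b (Fin.last d') : E) : V) = 1 := hb2
    simp only [h1, h2])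

end emb

end Cfsg.Agent.Lib.Helper14.OInv
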