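import Cfsg.Agent.Lib.Helper14.OInv2

set_option autoImplicit false

/-! # Centralisers of involutions in orthogonal groups of plus type, `q` even: the orders -/

namespace Cfsg.Agent.Lib.Helper14.OInv

open Module QuadraticMap
open Cfsg.Agent.Lib.Helper14.SpInv Cfsg.Agent.Lib.Helper13 Cfsg.Agent.Lib.Helper15

universe u

/-- the exponent `(3 s ^ 2 + s) / 2` -/
def Uexp (s : ℕ) : ℕ := (3 * s ^ 2 + s) / 2

theorem Uexp_succ (s : ℕ) : Uexp (s + 1) = Uexp s + (3 * s + 2) := by
  unfold Uexp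
  have h2 : 3 * (s + 1) ^ 2 + (s + 1) = (3 * s ^ 2 + s) + 2 * (3 * s + 2) := by ring
  rw [h2, Nat.add_mul_div_left _ _ (by norm_num : 0 < 2)]

theorem Uexp_le (s m : ℕ) (h : s ≤ m) : Uexp s ≤ 2 * m * s := by
  unfold Uexp
  have h1 : s * s ≤ m * s := Nat.mul_le_mul_right s h
  have h2 : s ^ 2 = s * s := by ring
  have h3 : 2 * m * s = 2 * (m * s) := by ring
  have h4 : s ≤ s * s := by nlinarith
  rw [h2, h3]
  omega

theorem Uexp_add_le (d m : ℕ) (h : d + 1 ≤ m) : Uexp d + d ≤ 2 * m * d := by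
  unfold Uexp
  have h1 : (d + 1) * d ≤ m * d := Nat.mul_le_mul_right d h
  have h2 : d ^ 2 = d * d := by ring
  have h3 : 2 * m * d = 2 * (m * d) := by ring
  have h4 : (d + 1) * d = d * d + d := by ring
  rw [h2, h3]
  omega

/-- the order of the orthogonal group of plus type -/
def Oplus (q n : ℕ) : ℕ :=
  ∏ i ∈ Finset.range n, ((hypCount q 0 1 (i + 1) - 1) * q ^ (2 * (i + 1) - 2))

theorem Oplus_succ (q n : ℕ) :
    Oplus q (n + 1) = Oplus q n * ((hypCount q 0 1 (n + 1) - 1) * q ^ (2 * n)) := by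
  unfold Oplus
  rw [Finset.prod_range_succ]
  have : 2 * (n + 1) - 2 = 2 * n := by omega
  rw [this]

/-- the key order identity -/
theorem Oplus_split (q : ℕ) : ∀ s j : ℕ,
    q ^ Uexp s * Oplus q (s + j) =
      (∏ i ∈ Finset.range s, (q ^ i * hypCount q 0 1 (s + j - i) - 1 * q ^ i)) *
        q ^ (2 * (s + j) * s) * Oplus q j := by
  intro s
  induction s with
  | zero =>
    intro j
    simp [Uexp]
  | succ s ih =>
    intro j
    have e1 : s + 1 + j = s + (j + 1) := by ring
    rw [e1, Uexp_succ, pow_add, Finset.prod_range_succ]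
    have hfac : q ^ s * hypCount q 0 1 (s + (j + 1) - s) - 1 * q ^ s =
        q ^ s * (hypCount q 0 1 (j + 1) - 1) := by
      have : s + (j + 1) - s = j + 1 := by omega
      rw [this, one_mul, Nat.mul_sub, mul_one]
    rw [hfac]
    have h1 : q ^ Uexp s * q ^ (3 * s + 2) * Oplus q (s + (j + 1)) =
        q ^ (3 * s + 2) * (q ^ Uexp s * Oplus q (s + (j + 1))) := by ring
    rw [h1, ih (j + 1), Oplus_succ]
    have hexp : q ^ (3 * s + 2) * q ^ (2 * (s + (j + 1)) * s) * q ^ (2 * j) =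
        q ^ s * q ^ (2 * (s + (j + 1)) * (s + 1)) := by
      rw [← pow_add, ← pow_add, ← pow_add]
      congr 1
      ring
    calc q ^ (3 * s + 2) * ((∏ i ∈ Finset.range s,
            (q ^ i * hypCount q 0 1 (s + (j + 1) - i) - 1 * q ^ i)) *
          q ^ (2 * (s + (j + 1)) * s) * (Oplus q j * ((hypCount q 0 1 (j + 1) - 1) * q ^ (2 * j))))
        = (∏ i ∈ Finset.range s, (q ^ i * hypCount q 0 1 (s + (j + 1) - i) - 1 * q ^ i)) *
          (q ^ (3 * s + 2) * q ^ (2 * (s + (j + 1)) * s) * q ^ (2 * j)) *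
          ((hypCount q 0 1 (j + 1) - 1) * Oplus q j) := by ring
      _ = _ := by
        rw [hexp]
        ring

theorem hypCount_ge_two (q t : ℕ) (hq : 2 ≤ q) (ht : 1 ≤ t) : 2 ≤ hypCount q 0 1 t := by
  unfold hypCount
  have h1 : 2 ≤ q ^ t := by
    calc 2 ≤ q := hq
      _ = q ^ 1 := (pow_one q).symm
      _ ≤ q ^ t := Nat.pow_le_pow_right (by omega) ht
  omega

theorem frame_prod_pos (q s j : ℕ) (hq : 2 ≤ q) :
    0 < ∏ i ∈ Finset.range s, (q ^ i * hypCount q 0 1 (s + j - i) - 1 * q ^ i) := by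
  apply Finset.prod_pos
  intro i hi
  rw [Finset.mem_range] at hi
  have h1 := hypCount_ge_two q (s + j - i) hq (by omega)
  have h2 : 0 < q ^ i := Nat.pow_pos (by omega)
  have h3 : q ^ i * 2 ≤ q ^ i * hypCount q 0 1 (s + j - i) := Nat.mul_le_mul_left _ h1
  omega

theorem Oplus_pos (q n : ℕ) (hq : 2 ≤ q) : 0 < Oplus q n := by
  unfold Oplus
  apply Finset.prod_pos
  intro i _
  have h1 := hypCount_ge_two q (i + 1) hq (by omega)
  have h2 : 0 < q ^ (2 * (i + 1) - 2) := Nat.pow_pos (by omega)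
  exact Nat.mul_pos (by omega) h2

/-- the order of `O⁺` in the usual form -/
theorem Oplus_closed (q n : ℕ) (hq : 1 ≤ q) :
    Oplus q (n + 1) = 2 * q ^ ((n + 1) * n) * (q ^ (n + 1) - 1) *
      ∏ i ∈ Finset.range n, (q ^ (2 * (i + 1)) - 1) :=
  plus_arith q hq n

section main

variable {F V : Type u} [Field F] [Fintype F] [CharP F 2] [AddCommGroup V] [Module F V]
  [FiniteDimensional F V]
variable (Q : QuadraticForm F V) (N : V →ₗ[F] V)
variable (hQ : (polarBilin Q).Nondegenerate)
variable (hN2 : ∀ x, N (N x) = 0)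
variable (hNB : ∀ x y, polar Q (N x) y = polar Q x (N y))
variable (hQN : ∀ v, Q (N v) = polar Q v (N v))
variable (m : ℕ) (hd : finrank F V = 2 * m)
variable (hN0 : Nat.card {v : V // Q v = 0} = hypCount (Fintype.card F) 0 1 m)
variable (hN1 : Nat.card {v : V // Q v = 1} = hypCount (Fintype.card F) 0 0 m)
variable (hO : Nat.card (isoGroup Q) = Oplus (Fintype.card F) m)

include hQ hN2 hNB hd in
theorem rank_le (s : ℕ) (hs : finrank F (LinearMap.range N) = s) : s ≤ m :=
  (card_Cent_final (polarBilin Q : V →ₗ[F] V →ₗ[F] F) N hN2 (hNB' Q N hNB) hQ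
    (fun x => by rw [polarBilin_apply_apply]; exact polar_self_charTwo Q x) m s hd hs).1

include hN2 hNB in
omit [Fintype F] [CharP F 2] [FiniteDimensional F V] in
theorem range_polar_zero : ∀ x ∈ LinearMap.range N, ∀ y ∈ LinearMap.range N, polar Q x y = 0 := by
  intro x hx y hy
  have := range_isotropic (polarBilin Q : V →ₗ[F] V →ₗ[F] F) N hN2 (hNB' Q N hNB) x y hx hy
  rwa [polarBilin_apply_apply] at this

include hQ hN2 hNB hQN hd hN0 hO in
/-- **the totally singular case** -/
theorem card_OCent_sing (s : ℕ) (hs : finrank F (LinearMap.range N) = s)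
    (ha : ∀ v, Q (N v) = 0) :
    s ≤ m ∧ Even s ∧ Nat.card (OCent Q N) =
      Fintype.card F ^ (2 * m * s - Uexp s) * Oplus (Fintype.card F) (m - s) *
        spOrd (Fintype.card F) (s / 2) := by
  have hq : 2 ≤ Fintype.card F := Fintype.one_lt_card
  have hsm := rank_le Q N hQ hN2 hNB m hd s hs
  have halt' : ∀ x, (polarBilin Q : V →ₗ[F] V →ₗ[F] F) x x = 0 := fun x => by
    rw [polarBilin_apply_apply]; exact polar_self_charTwo Q x
  have hsym := betaE_sym (polarBilin Q : V →ₗ[F] V →ₗ[F] F) N hN2 (hNB' Q N hNB) halt'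
  have hnd := betaE_nondeg (polarBilin Q : V →ₗ[F] V →ₗ[F] F) N hN2 (hNB' Q N hNB)
    (fun x hx => hQ.1 x hx)
  have halt : ∀ e, betaE (polarBilin Q : V →ₗ[F] V →ₗ[F] F) N e e = 0 := by
    intro e
    rw [← Q_range Q N hN2 hNB hQN]
    obtain ⟨v, hv⟩ := e.2
    rw [← hv]
    exact ha v
  have hev : Even s := by
    rw [← hs]
    exact even_finrank_of_alt _ hsym hnd halt
  refine ⟨hsm, hev, ?_⟩
  have hiso := card_IsoGrp_alt _ halt hnd (s / 2) (by
    rw [hs]
    obtain ⟨k, hk⟩ := hev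
    omega)
  have hmain := card_OCent_mul Q N hQ hN2 hNB hQN
  rw [card_QEmb_sing Q (LinearMap.range N) (fun e he => by
    obtain ⟨v, rfl⟩ := he
    exact ha v) s hs, card_SFrame Q hQ m hd hN0 s, hO, hiso] at hmain
  change _ = _ * spOrd (Fintype.card F) (s / 2) at hmain
  obtain ⟨j, rfl⟩ : ∃ j, m = s + j := ⟨m - s, by omega⟩
  have hsplit := Oplus_split (Fintype.card F) s j
  have hU := Uexp_le s (s + j) (by omega)
  have hPpos := frame_prod_pos (Fintype.card F) s j hq
  have hTpos : 0 < Fintype.card F ^ Uexp s := Nat.pow_pos (by omega)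
  have hsub : s + j - s = j := by omega
  rw [hsub]
  apply Nat.eq_of_mul_eq_mul_left (Nat.mul_pos hPpos hTpos)
  have hexp : Fintype.card F ^ Uexp s * Fintype.card F ^ (2 * (s + j) * s - Uexp s) =
      Fintype.card F ^ (2 * (s + j) * s) := by
    rw [← pow_add]
    congr 1
    omega
  calc (∏ i ∈ Finset.range s, (Fintype.card F ^ i * hypCount (Fintype.card F) 0 1 (s + j - i) -
          1 * Fintype.card F ^ i)) * Fintype.card F ^ Uexp s * Nat.card (OCent Q N)
      = Fintype.card F ^ Uexp s * ((∏ i ∈ Finset.range s,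
          (Fintype.card F ^ i * hypCount (Fintype.card F) 0 1 (s + j - i) -
          1 * Fintype.card F ^ i)) * Nat.card (OCent Q N)) := by ring
    _ = (Fintype.card F ^ Uexp s * Oplus (Fintype.card F) (s + j)) *
          spOrd (Fintype.card F) (s / 2) := by
        rw [hmain]
        ring
    _ = _ := by
        rw [hsplit, ← hexp]
        ring

theorem hypCount_zero_succ (q j : ℕ) : hypCount q 0 0 (j + 1) = (q ^ (j + 1) - 1) * q ^ j := by
  unfold hypCount
  simp

include hQ hN2 hNB hQN hd hN0 hN1 hO in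
/-- **the case of a range which is not totally singular** -/
theorem card_OCent_nonsing (d : ℕ) (hs : finrank F (LinearMap.range N) = d + 1)
    (hna : ∃ v, Q (N v) ≠ 0) :
    d + 1 ≤ m ∧ Nat.card (OCent Q N) =
      2 * Fintype.card F ^ (2 * m * d - (Uexp d + d)) * spOrd (Fintype.card F) (m - (d + 1)) *
        Acount (Fintype.card F) (d + 1) := by
  have hq : 2 ≤ Fintype.card F := Fintype.one_lt_card
  have hsm := rank_le Q N hQ hN2 hNB m hd (d + 1) hs
  have halt' : ∀ x, (polarBilin Q : V →ₗ[F] V →ₗ[F] F) x x = 0 := fun x => by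
    rw [polarBilin_apply_apply]; exact polar_self_charTwo Q x
  have hsym := betaE_sym (polarBilin Q : V →ₗ[F] V →ₗ[F] F) N hN2 (hNB' Q N hNB) halt'
  have hnd := betaE_nondeg (polarBilin Q : V →ₗ[F] V →ₗ[F] F) N hN2 (hNB' Q N hNB)
    (fun x hx => hQ.1 x hx)
  have hna' : ∃ e, betaE (polarBilin Q : V →ₗ[F] V →ₗ[F] F) N e e ≠ 0 := by
    obtain ⟨v, hv⟩ := hna
    refine ⟨⟨N v, LinearMap.mem_range_self N v⟩, ?_⟩
    rw [← Q_range Q N hN2 hNB hQN]
    exact hv
  refine ⟨hsm, ?_⟩
  have hiso := card_IsoGrp_nonalt _ hsym hnd hna' d hs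
  have hmain := card_OCent_mul Q N hQ hN2 hNB hQN
  obtain ⟨v, hv⟩ := hna
  rw [card_QEmb_nonsing Q (LinearMap.range N) (range_polar_zero Q N hN2 hNB) (N v)
      (LinearMap.mem_range_self N v) hv d hs,
    card_XFrame Q hQ m hd 1 0 (Or.inr ⟨one_ne_zero, rfl⟩) hN1 d,
    card_SFrame Q hQ m hd hN0 d, hO, hiso] at hmain
  obtain ⟨j, rfl⟩ : ∃ j, m = d + (j + 1) := ⟨m - d - 1, by omega⟩
  have hsub : d + (j + 1) - d = j + 1 := by omega
  have hsub2 : d + (j + 1) - (d + 1) = j := by omega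
  rw [hsub, hypCount_zero_succ, zero_mul, Nat.sub_zero] at hmain
  rw [hsub2]
  have hsplit := Oplus_split (Fintype.card F) d (j + 1)
  have hcl := Oplus_closed (Fintype.card F) j (by omega)
  have hU := Uexp_add_le d (d + (j + 1)) (by omega)
  have hPpos := frame_prod_pos (Fintype.card F) d (j + 1) hq
  have hT : 0 < Fintype.card F ^ (j + 1) - 1 := by
    have : 2 ≤ Fintype.card F ^ (j + 1) := by
      calc 2 ≤ Fintype.card F := hq
        _ = Fintype.card F ^ 1 := (pow_one _).symm
        _ ≤ Fintype.card F ^ (j + 1) := Nat.pow_le_pow_right (by omega) (by omega)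
    omega
  have hpow : 0 < Fintype.card F ^ (Uexp d + d + j) := Nat.pow_pos (by omega)
  have hexp : Fintype.card F ^ (Uexp d + d) *
      Fintype.card F ^ (2 * (d + (j + 1)) * d - (Uexp d + d)) =
      Fintype.card F ^ (2 * (d + (j + 1)) * d) := by
    rw [← pow_add]
    congr 1
    omega
  apply Nat.eq_of_mul_eq_mul_left (Nat.mul_pos (Nat.mul_pos hPpos hT) hpow)
  calc (∏ i ∈ Finset.range d, (Fintype.card F ^ i *
          hypCount (Fintype.card F) 0 1 (d + (j + 1) - i) - 1 * Fintype.card F ^ i)) *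
        (Fintype.card F ^ (j + 1) - 1) * Fintype.card F ^ (Uexp d + d + j) *
        Nat.card (OCent Q N)
      = Fintype.card F ^ Uexp d * ((∏ i ∈ Finset.range d, (Fintype.card F ^ i *
          hypCount (Fintype.card F) 0 1 (d + (j + 1) - i) - 1 * Fintype.card F ^ i)) *
          (Fintype.card F ^ d * ((Fintype.card F ^ (j + 1) - 1) * Fintype.card F ^ j)) *
          Nat.card (OCent Q N)) := by ring
    _ = (Fintype.card F ^ Uexp d * Oplus (Fintype.card F) (d + (j + 1))) *
          Acount (Fintype.card F) (d + 1) := by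
        rw [hmain]
        ring
    _ = (∏ i ∈ Finset.range d, (Fintype.card F ^ i *
          hypCount (Fintype.card F) 0 1 (d + (j + 1) - i) - 1 * Fintype.card F ^ i)) *
          Fintype.card F ^ (2 * (d + (j + 1)) * d) *
          (2 * Fintype.card F ^ ((j + 1) * j) * (Fintype.card F ^ (j + 1) - 1) *
            ∏ i ∈ Finset.range j, (Fintype.card F ^ (2 * (i + 1)) - 1)) *
          Acount (Fintype.card F) (d + 1) := by
        rw [hsplit, hcl]
    _ = _ := by
        unfold spOrd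
        rw [← hexp]
        ring

end main

end Cfsg.Agent.Lib.Helper14.OInv
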