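import Cfsg.Agent.Lib.Helper14.OInv3
import Cfsg.Agent.Lib.Helper13.OrthPlusFam

set_option autoImplicit false

/-! # Centralisers of involutions in `O⁺_{2m}(q)` and `Ω⁺_{2m}(q)`, `q` even: matrix form -/

namespace Cfsg.Agent.Lib.Helper14.OInv

open Module QuadraticMap Matrix
open Cfsg.Agent.Lib.Helper14.SpInv Cfsg.Agent.Lib.Helper13 Cfsg.Agent.Lib.Helper15
  Cfsg.Agent.Lib.Helper6

universe u

section ker

theorem card_ker_of_exists {G : Type*} [Group G] [Finite G] (φ : G →* ℤˣ) (g₀ : G)
    (h : φ g₀ ≠ 1) : 2 * Nat.card φ.ker = Nat.card G := by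
  have hsurj : Function.Surjective φ := by
    intro u
    rcases Int.units_eq_one_or u with rfl | rfl
    · exact ⟨1, map_one φ⟩
    · refine ⟨g₀, ?_⟩
      rcases Int.units_eq_one_or (φ g₀) with h1 | h1
      · exact absurd h1 h
      · exact h1
  have h1 := Subgroup.card_eq_card_quotient_mul_card_subgroup φ.ker
  have h2 := Nat.card_congr (QuotientGroup.quotientKerEquivOfSurjective φ hsurj).toEquiv
  have h3 : Nat.card ℤˣ = 2 := by
    rw [Nat.card_eq_fintype_card, Fintype.card_units_int]
  rw [h1, h2, h3]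

theorem card_ker_of_forall {G : Type*} [Group G] (φ : G →* ℤˣ) (h : ∀ g, φ g = 1) :
    Nat.card φ.ker = Nat.card G := by
  have : φ.ker = ⊤ := by
    ext g
    simp [MonoidHom.mem_ker, h g]
  rw [this]
  exact Nat.card_congr Subgroup.topEquiv.toEquiv

end ker

section plus

variable {F : Type u} [Field F] [Fintype F] [CharP F 2] (m : ℕ)

/-- the matrix group -/
abbrev GPl (m : ℕ) (F : Type u) [Field F] : Type u :=
  ↥(Cfsg.isometryGroup F (Cfsg.quadFormPlus m F))

variable (x : GPl m F)

/-- the nilpotent part `x - 1` of an involution -/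
noncomputable def tN : (Fin m ⊕ Fin m → F) →ₗ[F] (Fin m ⊕ Fin m → F) :=
  (plusEquiv F m x).1.toLinearMap - LinearMap.id

omit [Fintype F] [CharP F 2] in
theorem tN_apply (v : Fin m ⊕ Fin m → F) : tN m x v = (plusEquiv F m x).1 v - v := rfl

omit [Fintype F] [CharP F 2] in
theorem tN_mulVec (v : Fin m ⊕ Fin m → F) :
    tN m x v = (((x : GL (Fin m ⊕ Fin m) F) : Matrix (Fin m ⊕ Fin m) (Fin m ⊕ Fin m) F) - 1) *ᵥ v := by
  rw [tN_apply, plusEquiv_apply, Matrix.sub_mulVec, Matrix.one_mulVec]

omit [Fintype F] [CharP F 2] in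
theorem finrank_range_tN :
    finrank F (LinearMap.range (tN m x)) =
      (((x : GL (Fin m ⊕ Fin m) F) : Matrix (Fin m ⊕ Fin m) (Fin m ⊕ Fin m) F) - 1).rank :=
  (rank_sub_one_eq (Cfsg.quadFormPlus m F) (plusQF m F) (fun v => congrFun coe_plusQF v) x).symm

variable (hx : x ^ 2 = 1)

include hx in
omit [Fintype F] [CharP F 2] in
theorem t_mul_self : plusEquiv F m x * plusEquiv F m x = 1 := by
  rw [← map_mul, ← pow_two, hx, map_one]

include hx in
omit [Fintype F] [CharP F 2] in
theorem t_t (v : Fin m ⊕ Fin m → F) : (plusEquiv F m x).1 ((plusEquiv F m x).1 v) = v := by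
  have : (plusEquiv F m x * plusEquiv F m x).1 v = v := by
    rw [t_mul_self m x hx]
    rfl
  exact this

include hx in
omit [Fintype F] in
theorem tN_sq (v : Fin m ⊕ Fin m → F) : tN m x (tN m x v) = 0 := by
  rw [tN_apply, tN_apply, map_sub, t_t m x hx]
  have : v - (plusEquiv F m x).1 v - ((plusEquiv F m x).1 v - v) =
      (v - (plusEquiv F m x).1 v) + (v - (plusEquiv F m x).1 v) := by abel
  rw [this, add_self_charTwo F]

include hx in
omit [Fintype F] in
theorem tN_adj (v w : Fin m ⊕ Fin m → F) :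
    polar (plusQF m F) (tN m x v) w = polar (plusQF m F) v (tN m x w) :=
  (invol_facts (plusQF m F) (plusEquiv F m x) (t_mul_self m x hx)).1 v w

include hx in
omit [Fintype F] in
theorem tN_quad (v : Fin m ⊕ Fin m → F) :
    plusQF m F (tN m x v) = polar (plusQF m F) v (tN m x v) :=
  (invol_facts (plusQF m F) (plusEquiv F m x) (t_mul_self m x hx)).2.2 v

/-- the centraliser of `x` in the isometry group -/
def CG : Subgroup (GPl m F) where
  carrier := {g | g * x = x * g}
  mul_mem' := by
    intro a b ha hb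
    show a * b * x = x * (a * b)
    rw [mul_assoc, hb, ← mul_assoc, ha, mul_assoc]
  one_mem' := by
    show 1 * x = x * 1
    rw [one_mul, mul_one]
  inv_mem' := by
    intro a ha
    show a⁻¹ * x = x * a⁻¹
    have h : a * x = x * a := ha
    rw [inv_mul_eq_iff_eq_mul, ← mul_assoc, h, mul_assoc, mul_inv_cancel, mul_one]

omit [Fintype F] [CharP F 2] in
theorem mem_CG (g : GPl m F) : g ∈ CG m x ↔ g * x = x * g := Iff.rfl

omit [Fintype F] [CharP F 2] in
theorem mem_CG_iff (g : GPl m F) :
    g ∈ CG m x ↔ plusEquiv F m g ∈ OCent (plusQF m F) (tN m x) := by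
  rw [mem_CG, mem_OCent]
  constructor
  · intro h v
    have h1 : (plusEquiv F m (g * x)).1 v = (plusEquiv F m (x * g)).1 v := by rw [h]
    rw [map_mul, map_mul] at h1
    have h2 : (plusEquiv F m g).1 ((plusEquiv F m x).1 v) =
        (plusEquiv F m x).1 ((plusEquiv F m g).1 v) := h1
    rw [tN_apply, tN_apply, map_sub, h2]
  · intro h
    apply (plusEquiv F m).injective
    rw [map_mul, map_mul]
    apply Subtype.ext
    apply LinearEquiv.ext
    intro v
    show (plusEquiv F m g).1 ((plusEquiv F m x).1 v) =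
        (plusEquiv F m x).1 ((plusEquiv F m g).1 v)
    have h1 := h v
    rw [tN_apply, tN_apply, map_sub] at h1
    exact sub_left_injective h1

omit [Fintype F] [CharP F 2] in
/-- the centraliser as an abstract centraliser -/
noncomputable def cgEquiv : CG m x ≃ OCent (plusQF m F) (tN m x) where
  toFun g := ⟨plusEquiv F m g.1, (mem_CG_iff m x g.1).mp g.2⟩
  invFun h := ⟨(plusEquiv F m).symm h.1, by
    rw [mem_CG_iff, MulEquiv.apply_symm_apply]
    exact h.2⟩
  left_inv g := by
    apply Subtype.ext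
    exact (plusEquiv F m).symm_apply_apply g.1
  right_inv h := by
    apply Subtype.ext
    exact (plusEquiv F m).apply_symm_apply h.1

instance finite_GPl : Finite (GPl m F) := by
  unfold GPl
  infer_instance

/-- the family character restricted to the centraliser -/
noncomputable def famC : CG m x →* ℤˣ := (famHom m F).comp (CG m x).subtype

omit [Fintype F] [CharP F 2] in
theorem famC_apply (g : CG m x) : famC m x g = (-1) ^ famExp g.1 := rfl

/-- the elements of `Ω` commuting with `x` -/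
noncomputable def omegaCentEquiv (hm : 1 ≤ m) (h : Fintype.card F ≠ 2 ∨ m ≠ 2) :
    {g : ↥(Cfsg.Omega F (Cfsg.quadFormPlus m F)) // (g : GPl m F) * x = x * (g : GPl m F)} ≃
      (famC m x).ker where
  toFun g := ⟨⟨g.1.1, g.2⟩, by
    rw [MonoidHom.mem_ker, famC_apply]
    exact ((mem_Omega_iff_famExp m hm h g.1.1).mp g.1.2).neg_one_pow⟩
  invFun k := ⟨⟨k.1.1, by
    rw [mem_Omega_iff_famExp m hm h]
    have h2 := k.2
    rw [MonoidHom.mem_ker, famC_apply] at h2
    exact (neg_one_pow_eq_one_iff_even (by decide)).1 h2⟩, k.1.2⟩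
  left_inv g := rfl
  right_inv k := rfl

/-- a fixed vector of norm one forces the centraliser out of `Ω` -/
theorem card_omega_cent_of_fixed (hm : 1 ≤ m) (h : Fintype.card F ≠ 2 ∨ m ≠ 2)
    (a : Fin m ⊕ Fin m → F) (ha : plusQF m F a = 1) (hxa : tN m x a = 0) :
    2 * Nat.card {g : ↥(Cfsg.Omega F (Cfsg.quadFormPlus m F)) //
      (g : GPl m F) * x = x * (g : GPl m F)} = Nat.card (OCent (plusQF m F) (tN m x)) := by
  rw [Nat.card_congr (omegaCentEquiv m x hm h), ← Nat.card_congr (cgEquiv m x)]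
  have hta : (plusEquiv F m x).1 a = a := by
    have := hxa
    rw [tN_apply] at this
    exact sub_eq_zero.mp this
  have hr : (plusEquiv F m).symm (reflO (plusQF m F) a) ∈ CG m x := by
    rw [mem_CG]
    apply (plusEquiv F m).injective
    rw [map_mul, map_mul, MulEquiv.apply_symm_apply]
    have h1 := conj_reflO (plusQF m F) (plusEquiv F m x) a
    rw [hta, mul_inv_eq_iff_eq_mul] at h1
    exact h1.symm
  apply card_ker_of_exists (famC m x) ⟨_, hr⟩
  rw [famC_apply]
  show (-1 : ℤˣ) ^ famExp ((plusEquiv F m).symm (reflO (plusQF m F) a)) ≠ 1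
  rw [famExp_reflO m a ha, pow_one]
  decide

theorem exists_scale (w : Fin m ⊕ Fin m → F) (hw : plusQF m F w ≠ 0) :
    ∃ c : F, plusQF m F (c • w) = 1 := by
  obtain ⟨c₀, hc₀⟩ := exists_sqrt (plusQF m F w)
  have hc0 : c₀ ≠ 0 := by
    rintro rfl
    rw [mul_zero] at hc₀
    exact hw hc₀.symm
  refine ⟨c₀⁻¹, ?_⟩
  rw [QuadraticMap.map_smul, ← hc₀, smul_eq_mul]
  field_simp

include hx in
theorem exists_fixed_of_nonsing (hna : ∃ v, plusQF m F (tN m x v) ≠ 0) :
    ∃ a, plusQF m F a = 1 ∧ tN m x a = 0 := by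
  obtain ⟨v, hv⟩ := hna
  obtain ⟨c, hc⟩ := exists_scale m (tN m x v) hv
  refine ⟨c • tN m x v, hc, ?_⟩
  rw [map_smul, tN_sq m x hx, smul_zero]

theorem exists_fixed_of_lt (s : ℕ) (hs : finrank F (LinearMap.range (tN m x)) = s)
    (hsm : s < m) : ∃ a, plusQF m F a = 1 ∧ tN m x a = 0 := by
  have hV := finrank_plus_space (F := F) (m := m)
  have h1 := LinearMap.finrank_range_add_finrank_ker (tN m x)
  rw [hs, hV] at h1
  have hnts : ¬ TS (plusQF m F) (LinearMap.ker (tN m x)) := by
    intro hts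
    have := hts.two_mul_finrank_le nondegenerate_plusQF
    rw [hV] at this
    omega
  unfold TS at hnts
  push Not at hnts
  obtain ⟨w, hw, hQw⟩ := hnts
  obtain ⟨c, hc⟩ := exists_scale m w hQw
  refine ⟨c • w, hc, ?_⟩
  rw [map_smul, LinearMap.mem_ker.mp hw, smul_zero]

/-- a maximal totally singular range keeps the centraliser inside `Ω` -/
theorem card_omega_cent_of_max (hm : 1 ≤ m) (h : Fintype.card F ≠ 2 ∨ m ≠ 2)
    (ha : ∀ v, plusQF m F (tN m x v) = 0)
    (hs : finrank F (LinearMap.range (tN m x)) = m) :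
    Nat.card {g : ↥(Cfsg.Omega F (Cfsg.quadFormPlus m F)) //
      (g : GPl m F) * x = x * (g : GPl m F)} = Nat.card (OCent (plusQF m F) (tN m x)) := by
  rw [Nat.card_congr (omegaCentEquiv m x hm h), ← Nat.card_congr (cgEquiv m x)]
  apply card_ker_of_forall
  intro g
  rw [famC_apply]
  have hts : TS (plusQF m F) (LinearMap.range (tN m x)) := by
    rintro _ ⟨v, rfl⟩
    exact ha v
  have hmap : glMap g.1.1 (LinearMap.range (tN m x)) = LinearMap.range (tN m x) := by
    rw [glMap_eq]
    apply Submodule.eq_of_le_of_finrank_eq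
    · rintro _ ⟨_, ⟨v, rfl⟩, rfl⟩
      have hg := (mem_CG_iff m x g.1).mp g.2
      rw [mem_OCent] at hg
      show (plusEquiv F m g.1).1 (tN m x v) ∈ _
      rw [hg v]
      exact LinearMap.mem_range_self _ _
    · exact LinearEquiv.finrank_map_eq (plusEquiv F m g.1).1 _
  have hO := (mem_Omega_iff_dist m hm h g.1 _ hts hs).mpr (by
    rw [hmap, inf_idem, hs, Nat.sub_self]
    exact Even.zero)
  exact ((mem_Omega_iff_famExp m hm h g.1).mp hO).neg_one_pow

omit [CharP F 2] in
/-- value counts of the plus form -/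
theorem card_plusQF_value (c : F) (xx : ℕ) (hxx : (c = 0 ∧ xx = 1) ∨ (c ≠ 0 ∧ xx = 0)) :
    Nat.card {v : Fin m ⊕ Fin m → F // plusQF m F v = c} =
      hypCount (Fintype.card F) 0 xx m := by
  classical
  have h1 := card_plus_value (F := F) m c
  have h2 : Nat.card {v : Fin m ⊕ Fin m → F // plusQF m F v = c} =
      Nat.card {v : Fin m ⊕ Fin m → F // Cfsg.quadFormPlus m F v = c} := by
    apply Nat.card_congr
    exact Equiv.subtypeEquivRight (fun v => by rw [congrFun coe_plusQF v])
  rw [h2, h1]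
  unfold hypCount
  rcases hxx with ⟨hc, rfl⟩ | ⟨hc, rfl⟩
  · rw [if_pos hc]
    ring
  · rw [if_neg hc]
    ring

omit [CharP F 2] in
theorem card_isoGroup_plusQF :
    Nat.card (isoGroup (plusQF m F)) = Oplus (Fintype.card F) m := by
  rw [← Nat.card_congr (plusEquiv F m).toEquiv, card_isometryGroup_plus m]
  unfold Oplus
  exact prod_reflect_succ
    (fun t => (hypCount (Fintype.card F) 0 1 t - 1) * Fintype.card F ^ (2 * t - 2)) m

end plus

end Cfsg.Agent.Lib.Helper14.OInv
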