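import Cfsg.Agent.Lib.Helper14.OInv4

set_option autoImplicit false

/-! # Centralisers of involutions in `Ω⁺_{2m}(q)`, `q` even: the three cases -/

namespace Cfsg.Agent.Lib.Helper14.OInv

open Module QuadraticMap Matrix
open Cfsg.Agent.Lib.Helper14.SpInv Cfsg.Agent.Lib.Helper13 Cfsg.Agent.Lib.Helper15
  Cfsg.Agent.Lib.Helper6

universe u

section final

variable {F : Type u} [Field F] [Fintype F] [CharP F 2] (m : ℕ)
variable (x : GPl m F) (hx : x ^ 2 = 1)

include hx in
/-- the centraliser in the full orthogonal group, totally singular range -/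
theorem card_OCent_plus_sing (s : ℕ) (hs : finrank F (LinearMap.range (tN m x)) = s)
    (ha : ∀ v, plusQF m F (tN m x v) = 0) :
    s ≤ m ∧ Even s ∧ Nat.card (OCent (plusQF m F) (tN m x)) =
      Fintype.card F ^ (2 * m * s - Uexp s) * Oplus (Fintype.card F) (m - s) *
        spOrd (Fintype.card F) (s / 2) :=
  card_OCent_sing (plusQF m F) (tN m x) nondegenerate_plusQF (tN_sq m x hx) (tN_adj m x hx)
    (tN_quad m x hx) m finrank_plus_space (card_plusQF_value m 0 1 (Or.inl ⟨rfl, rfl⟩))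
    (card_isoGroup_plusQF m) s hs ha

include hx in
/-- the centraliser in the full orthogonal group, other ranges -/
theorem card_OCent_plus_nonsing (d : ℕ) (hs : finrank F (LinearMap.range (tN m x)) = d + 1)
    (hna : ∃ v, plusQF m F (tN m x v) ≠ 0) :
    d + 1 ≤ m ∧ Nat.card (OCent (plusQF m F) (tN m x)) =
      2 * Fintype.card F ^ (2 * m * d - (Uexp d + d)) * spOrd (Fintype.card F) (m - (d + 1)) *
        Acount (Fintype.card F) (d + 1) :=
  card_OCent_nonsing (plusQF m F) (tN m x) nondegenerate_plusQF (tN_sq m x hx) (tN_adj m x hx)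
    (tN_quad m x hx) m finrank_plus_space (card_plusQF_value m 0 1 (Or.inl ⟨rfl, rfl⟩))
    (card_plusQF_value m 1 0 (Or.inr ⟨one_ne_zero, rfl⟩))
    (card_isoGroup_plusQF m) d hs hna

include hx in
/-- the elements of `Ω` commuting with `x`: range not totally singular -/
theorem card_omega_cent_nonsing (h : Fintype.card F ≠ 2 ∨ m ≠ 2) (d : ℕ)
    (hs : finrank F (LinearMap.range (tN m x)) = d + 1)
    (hna : ∃ v, plusQF m F (tN m x v) ≠ 0) :
    d + 1 ≤ m ∧ Nat.card {g : ↥(Cfsg.Omega F (Cfsg.quadFormPlus m F)) //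
      (g : GPl m F) * x = x * (g : GPl m F)} =
      Fintype.card F ^ (2 * m * d - (Uexp d + d)) * spOrd (Fintype.card F) (m - (d + 1)) *
        Acount (Fintype.card F) (d + 1) := by
  obtain ⟨hdm, hcard⟩ := card_OCent_plus_nonsing m x hx d hs hna
  refine ⟨hdm, ?_⟩
  obtain ⟨a, ha1, ha2⟩ := exists_fixed_of_nonsing m x hx hna
  have h2 := card_omega_cent_of_fixed m x (by omega) h a ha1 ha2
  rw [hcard] at h2
  apply Nat.eq_of_mul_eq_mul_left (by norm_num : 0 < 2)
  rw [h2]
  ring

include hx in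
/-- **odd rank** -/
theorem card_omega_cent_odd (h : Fintype.card F ≠ 2 ∨ m ≠ 2) (s : ℕ)
    (hs : finrank F (LinearMap.range (tN m x)) = s) (hodd : Odd s) :
    Nat.card {g : ↥(Cfsg.Omega F (Cfsg.quadFormPlus m F)) //
      (g : GPl m F) * x = x * (g : GPl m F)} =
      Fintype.card F ^ (2 * m * (s - 1) - (3 * s ^ 2 - 3 * s) / 2) *
        spOrd (Fintype.card F) ((s - 1) / 2) * spOrd (Fintype.card F) (m - s) := by
  have hna : ∃ v, plusQF m F (tN m x v) ≠ 0 := by
    by_contra hno
    push Not at hno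
    obtain ⟨_, hev, _⟩ := card_OCent_plus_sing m x hx s hs hno
    exact (Nat.not_even_iff_odd.mpr hodd) hev
  obtain ⟨k, rfl⟩ := hodd
  obtain ⟨hdm, hcard⟩ := card_omega_cent_nonsing m x hx h (2 * k) hs hna
  rw [hcard, (Acount_closed (Fintype.card F) k).1]
  have e1 : 2 * k + 1 - 1 = 2 * k := by omega
  have e2 : 2 * k / 2 = k := by omega
  have e3 : (3 * (2 * k + 1) ^ 2 - 3 * (2 * k + 1)) / 2 = Uexp (2 * k) + 2 * k := by
    unfold Uexp
    have : (2 * k + 1) ^ 2 = (2 * k) ^ 2 + 2 * (2 * k) + 1 := by ring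
    rw [this]
    omega
  rw [e1, e2, e3]
  ring

include hx in
/-- **even rank, not totally singular range** -/
theorem card_omega_cent_even_nonsing (h : Fintype.card F ≠ 2 ∨ m ≠ 2) (s : ℕ)
    (hs : finrank F (LinearMap.range (tN m x)) = s) (heven : Even s)
    (hna : ∃ v, plusQF m F (tN m x v) ≠ 0) :
    Nat.card {g : ↥(Cfsg.Omega F (Cfsg.quadFormPlus m F)) //
      (g : GPl m F) * x = x * (g : GPl m F)} =
      Fintype.card F ^ (2 * m * (s - 1) - (3 * s ^ 2 - 5 * s) / 2 - 1) *
        spOrd (Fintype.card F) ((s - 2) / 2) * spOrd (Fintype.card F) (m - s) := by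
  have hs1 : 1 ≤ s := by
    by_contra h0
    have hs0 : s = 0 := by omega
    rw [hs0] at hs
    obtain ⟨v, hv⟩ := hna
    have : Subsingleton (LinearMap.range (tN m x)) := Module.finrank_zero_iff.mp hs
    apply hv
    have h1 : (⟨tN m x v, LinearMap.mem_range_self _ v⟩ : LinearMap.range (tN m x)) = 0 :=
      Subsingleton.elim _ _
    have h2 : tN m x v = 0 := congrArg Subtype.val h1
    rw [h2, map_zero]
  obtain ⟨k, hk⟩ : ∃ k, s = 2 * k + 1 + 1 := by
    obtain ⟨r, hr⟩ := heven
    exact ⟨r - 1, by omega⟩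
  subst hk
  obtain ⟨hdm, hcard⟩ := card_omega_cent_nonsing m x hx h (2 * k + 1) hs hna
  rw [hcard, (Acount_closed (Fintype.card F) k).2]
  have hU := Uexp_add_le (2 * k + 1) m hdm
  have e1 : 2 * k + 1 + 1 - 1 = 2 * k + 1 := by omega
  have e2 : (2 * k + 1 + 1 - 2) / 2 = k := by omega
  have e3 : 2 * m * (2 * k + 1) - (3 * (2 * k + 1 + 1) ^ 2 - 5 * (2 * k + 1 + 1)) / 2 - 1 =
      (2 * m * (2 * k + 1) - (Uexp (2 * k + 1) + (2 * k + 1))) + (2 * k + 1) := by
    unfold Uexp at hU ⊢
    have h1 : (2 * k + 1 + 1) ^ 2 = (2 * k + 1) ^ 2 + 2 * (2 * k + 1) + 1 := by ring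
    have h2 : 1 ≤ (2 * k + 1) ^ 2 := Nat.one_le_pow _ _ (by omega)
    rw [h1]
    omega
  rw [e1, e2, e3, pow_add]
  ring

include hx in
/-- **even rank, totally singular range** -/
theorem card_omega_cent_sing (h : Fintype.card F ≠ 2 ∨ m ≠ 2) (hx1 : x ≠ 1) (s : ℕ)
    (hs : finrank F (LinearMap.range (tN m x)) = s)
    (ha : ∀ v, plusQF m F (tN m x v) = 0) :
    Nat.card {g : ↥(Cfsg.Omega F (Cfsg.quadFormPlus m F)) //
      (g : GPl m F) * x = x * (g : GPl m F)} =
      Fintype.card F ^ (2 * m * s - (3 * s ^ 2 + s) / 2) * spOrd (Fintype.card F) (s / 2) *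
        (if s = m then 1 else Fintype.card F ^ ((m - s) * (m - s - 1)) *
          (Fintype.card F ^ (m - s) - 1) *
          ∏ i ∈ Finset.range (m - s - 1), (Fintype.card F ^ (2 * (i + 1)) - 1)) := by
  obtain ⟨hsm, hev, hcard⟩ := card_OCent_plus_sing m x hx s hs ha
  have hs1 : 1 ≤ s := by
    by_contra h0
    have hs0 : s = 0 := by omega
    rw [hs0] at hs
    apply hx1
    apply (plusEquiv F m).injective
    rw [map_one]
    apply Subtype.ext
    apply LinearEquiv.ext
    intro v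
    have : Subsingleton (LinearMap.range (tN m x)) := Module.finrank_zero_iff.mp hs
    have h1 : (⟨tN m x v, LinearMap.mem_range_self _ v⟩ : LinearMap.range (tN m x)) = 0 :=
      Subsingleton.elim _ _
    have h2 : tN m x v = 0 := congrArg Subtype.val h1
    rw [tN_apply] at h2
    exact sub_eq_zero.mp h2
  have hm : 1 ≤ m := by omega
  by_cases hsm' : s = m
  · rw [if_pos hsm', mul_one]
    rw [card_omega_cent_of_max m x hm h ha (hs.trans hsm'), hcard, hsm', Nat.sub_self]
    unfold Oplus Uexp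
    rw [Finset.range_zero, Finset.prod_empty, mul_one]
  · rw [if_neg hsm']
    obtain ⟨a, ha1, ha2⟩ := exists_fixed_of_lt m x s hs (by omega)
    have h2 := card_omega_cent_of_fixed m x hm h a ha1 ha2
    rw [hcard] at h2
    obtain ⟨j, hj⟩ : ∃ j, m - s = j + 1 := ⟨m - s - 1, by omega⟩
    rw [hj, Oplus_closed _ _ (by have := Fintype.card_pos (α := F); omega)] at h2
    rw [hj]
    apply Nat.eq_of_mul_eq_mul_left (by norm_num : 0 < 2)
    rw [h2]
    have e1 : j + 1 - 1 = j := by omega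
    rw [e1]
    unfold Uexp
    ring

end final

end Cfsg.Agent.Lib.Helper14.OInv
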