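import Mathlib

/-!
# Quadratic pairs, part A: the algebra generated by two square-zero elements

Let `n`, `n'` be elements of an algebra `E` over a commutative ring `R` with `n * n = 0`, `n' * n' = 0` and
`n' * n = t • 1 - n * n'` (so that `t = n n' + n' n` is a central scalar).  The elements
`Phi a b c d = a + b n + c n' + d n n'` multiply like the matrices `[[a + d t, b], [c t, a]]`.
-/

set_option autoImplicit false

namespace Cfsg.Agent.Lib.Helper14.QuadPair

section abstract

variable {R E : Type*} [CommRing R] [Ring E] [Algebra R E]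

/-- `a + b n + c n' + d n n'` -/
def Phi (n n' : E) (a b c d : R) : E := a • (1 : E) + b • n + c • n' + d • (n * n')

variable {n n' : E} {t : R}

theorem Phi_mul (hn : n * n = 0) (hn' : n' * n' = 0) (hrel : n' * n = t • (1 : E) - n * n')
    (a b c d a' b' c' d' : R) :
    Phi n n' a b c d * Phi n n' a' b' c' d' =
      Phi n n' (a * a' + c * b' * t) (a * b' + b * a' + d * b' * t) (a * c' + c * a' + c * d' * t)
        (a * d' + b * c' + d * a' - c * b' + d * d' * t) := by
  have w1 : n * (n * n') = 0 := by rw [← mul_assoc, hn, zero_mul]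
  have w2 : n' * (n * n') = t • n' := by
    rw [← mul_assoc, hrel, sub_mul, smul_mul_assoc, one_mul, mul_assoc, hn', mul_zero, sub_zero]
  have w3 : n * n' * n = t • n := by
    rw [mul_assoc, hrel, mul_sub, mul_smul_comm, mul_one, ← mul_assoc, hn, zero_mul, sub_zero]
  have w4 : n * n' * n' = 0 := by rw [mul_assoc, hn', mul_zero]
  have w5 : n * n' * (n * n') = t • (n * n') := by rw [← mul_assoc, w3, smul_mul_assoc]
  unfold Phi
  simp only [add_mul, mul_add, smul_mul_assoc, mul_smul_comm, one_mul, mul_one, hn, hn', hrel, w1, w2, w3, w4, w5,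
    smul_zero, smul_sub, smul_smul, add_zero]
  module

theorem Phi_one (n n' : E) : Phi n n' (1 : R) 0 0 0 = 1 := by
  unfold Phi
  simp

theorem Phi_scalar (n n' : E) (a : R) : Phi n n' a 0 0 0 = a • (1 : E) := by
  unfold Phi
  simp

/-- the conjugate -/
theorem Phi_mul_conj (hn : n * n = 0) (hn' : n' * n' = 0) (hrel : n' * n = t • (1 : E) - n * n')
    (a b c d : R) :
    Phi n n' a b c d * Phi n n' (a + d * t) (-b) (-c) (-d) = (a * (a + d * t) - b * c * t) • (1 : E) := by
  rw [Phi_mul hn hn' hrel, ← Phi_scalar n n']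
  congr 1 <;> ring

theorem Phi_add_conj (n n' : E) (t : R) (a b c d : R) :
    Phi n n' a b c d + Phi n n' (a + d * t) (-b) (-c) (-d) = (2 * a + d * t) • (1 : E) := by
  unfold Phi
  module

end abstract

end Cfsg.Agent.Lib.Helper14.QuadPair
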