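import Mathlib
import Cfsg.Agent.Lib.Helper14.QuadPairA

/-!
# Quadratic pairs, part B: involutions in the group generated by `1 + n`, `1 + n'`

For square-zero matrices `n`, `n'` put `τ = n n' + n' n`.  Every element of the group `D` generated by `1 + n` and `1 + n'` is
of the form `a + b n + c n' + d n n'` with polynomials `a, b, c, d` in `τ`, `a ≡ 1 mod τ`, and "determinant"
`a (a + d τ) - b c τ = 1`.  Hence (Cayley–Hamilton) an involution of `D` is a polynomial `1 + h(τ) τ` in `τ`: it commutes with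
`n` and `n'`, and `τ` is injective on its `(-1)`-eigenspace.
-/

set_option autoImplicit false

namespace Cfsg.Agent.Lib.Helper14.QuadPair

open Polynomial Matrix

section commute

variable {F A : Type*} [Field F] [Ring A] [Algebra F A]

theorem commute_aeval {x y : A} (h : Commute x y) (c : F[X]) : Commute x (Polynomial.aeval y c) := by
  induction c using Polynomial.induction_on' with
  | add p q hp hq => rw [map_add]; exact hp.add_right hq
  | monomial k a =>
    rw [Polynomial.aeval_monomial]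
    exact (Algebra.commute_algebraMap_right a x).mul_right (h.pow_right k)

end commute

section concrete

variable {F : Type*} [Field F] {ι : Type*} [Fintype ι] [DecidableEq ι]

/-- `τ = n n' + n' n` -/
def tau (n n' : Matrix ι ι F) : Matrix ι ι F := n * n' + n' * n

theorem tau_mul_left {n n' : Matrix ι ι F} (hn : n * n = 0) : tau n n' * n = n * tau n n' := by
  unfold tau
  rw [add_mul, mul_add, mul_assoc n' n n, hn, mul_zero, add_zero, ← mul_assoc n n n', hn, zero_mul, zero_add,
    mul_assoc]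

theorem tau_mul_right {n n' : Matrix ι ι F} (hn' : n' * n' = 0) : tau n n' * n' = n' * tau n n' := by
  unfold tau
  rw [add_mul, mul_add, mul_assoc n n' n', hn', mul_zero, zero_add, ← mul_assoc n' n' n, hn', zero_mul, add_zero,
    mul_assoc]

/-- the centraliser of `τ` -/
abbrev Cen (n n' : Matrix ι ι F) : Subalgebra F (Matrix ι ι F) :=
  Subalgebra.centralizer F ({tau n n'} : Set (Matrix ι ι F))

theorem tau_mem (n n' : Matrix ι ι F) : tau n n' ∈ Cen n n' := by
  rw [Subalgebra.mem_centralizer_iff]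
  intro g hg
  rw [Set.mem_singleton_iff.mp hg]

theorem mem_cen_iff (n n' x : Matrix ι ι F) : x ∈ Cen n n' ↔ tau n n' * x = x * tau n n' := by
  rw [Subalgebra.mem_centralizer_iff]
  constructor
  · intro h; exact h _ rfl
  · intro h g hg
    rw [Set.mem_singleton_iff.mp hg]; exact h

/-- `τ` as an element of its centraliser -/
def tau₀ (n n' : Matrix ι ι F) : Cen n n' := ⟨tau n n', tau_mem n n'⟩

/-- the centraliser of `τ` is an algebra over the polynomial ring, `X` acting as `τ` -/
noncomputable instance cenAlgebra (n n' : Matrix ι ι F) : Algebra F[X] (Cen n n') :=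
  RingHom.toAlgebra' ((Polynomial.aeval (tau₀ n n')).toRingHom) (by
    intro c x
    have hx : Commute x (tau₀ n n') := by
      have := (mem_cen_iff n n' x.1).mp x.2
      exact Subtype.ext this.symm
    exact (commute_aeval hx c).symm.eq)

theorem algebraMap_cen (n n' : Matrix ι ι F) (c : F[X]) :
    algebraMap F[X] (Cen n n') c = Polynomial.aeval (tau₀ n n') c := rfl

theorem coe_smul_one (n n' : Matrix ι ι F) (c : F[X]) :
    (((c • (1 : Cen n n')) : Cen n n') : Matrix ι ι F) = Polynomial.aeval (tau n n') c := by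
  rw [← Algebra.algebraMap_eq_smul_one, algebraMap_cen]
  exact (Polynomial.aeval_algHom_apply (Cen n n').val (tau₀ n n') c).symm

theorem X_smul_one (n n' : Matrix ι ι F) : (X : F[X]) • (1 : Cen n n') = tau₀ n n' := by
  apply Subtype.ext
  rw [coe_smul_one, Polynomial.aeval_X]
  rfl

variable {n n' : Matrix ι ι F}

/-- `n` in the centraliser -/
def n₀ (hn : n * n = 0) : Cen n n' := ⟨n, (mem_cen_iff n n' n).mpr (tau_mul_left hn)⟩

/-- `n'` in the centraliser -/
def n₀' (hn' : n' * n' = 0) : Cen n n' := ⟨n', (mem_cen_iff n n' n').mpr (tau_mul_right hn')⟩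

theorem n₀_sq (hn : n * n = 0) : (n₀ hn : Cen n n') * n₀ hn = 0 := Subtype.ext hn

theorem n₀'_sq (hn' : n' * n' = 0) : (n₀' hn' : Cen n n') * n₀' hn' = 0 := Subtype.ext hn'

theorem n₀_rel (hn : n * n = 0) (hn' : n' * n' = 0) :
    (n₀' hn' : Cen n n') * n₀ hn = (X : F[X]) • (1 : Cen n n') - n₀ hn * n₀' hn' := by
  rw [X_smul_one]
  apply Subtype.ext
  show n' * n = tau n n' - n * n'
  unfold tau
  abel

/-- the elements `a + b n + c n' + d n n'` with polynomial coefficients -/
noncomputable def PhiM (hn : n * n = 0) (hn' : n' * n' = 0) (a b c d : F[X]) : Matrix ι ι F :=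
  ((Phi (n₀ hn : Cen n n') (n₀' hn') a b c d : Cen n n') : Matrix ι ι F)

/-- the invariant -/
def Good (hn : n * n = 0) (hn' : n' * n' = 0) (g : Matrix ι ι F) : Prop :=
  ∃ a b c d : F[X], X ∣ a - 1 ∧ a * (a + d * X) - b * c * X = 1 ∧ g = PhiM hn hn' a b c d

theorem good_one (hn : n * n = 0) (hn' : n' * n' = 0) : Good hn hn' (1 : Matrix ι ι F) := by
  refine ⟨1, 0, 0, 0, by simp, by ring, ?_⟩
  unfold PhiM
  rw [Phi_one]
  rfl

theorem good_n (hn : n * n = 0) (hn' : n' * n' = 0) : Good hn hn' (1 + n) := by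
  refine ⟨1, 1, 0, 0, by simp, by ring, ?_⟩
  unfold PhiM Phi
  simp only [one_smul, zero_smul, add_zero]
  rfl

theorem good_n' (hn : n * n = 0) (hn' : n' * n' = 0) : Good hn hn' (1 + n') := by
  refine ⟨1, 0, 1, 0, by simp, by ring, ?_⟩
  unfold PhiM Phi
  simp only [one_smul, zero_smul, add_zero]
  rfl

theorem good_mul (hn : n * n = 0) (hn' : n' * n' = 0) {g h : Matrix ι ι F} (hg : Good hn hn' g)
    (hh : Good hn hn' h) : Good hn hn' (g * h) := by
  obtain ⟨a, b, c, d, ha, hN, rfl⟩ := hg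
  obtain ⟨a', b', c', d', ha', hN', rfl⟩ := hh
  refine ⟨a * a' + c * b' * X, a * b' + b * a' + d * b' * X, a * c' + c * a' + c * d' * X,
    a * d' + b * c' + d * a' - c * b' + d * d' * X, ?_, ?_, ?_⟩
  · have e : a * a' + c * b' * X - 1 = (a - 1) * a' + (a' - 1) + X * (c * b') := by ring
    rw [e]
    exact dvd_add (dvd_add (dvd_mul_of_dvd_left ha _) ha') (dvd_mul_right _ _)
  · linear_combination (a' * (a' + d' * X) - b' * c' * X) * hN + hN'
  · unfold PhiM
    rw [← Phi_mul (n₀_sq hn) (n₀'_sq hn') (n₀_rel hn hn')]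
    rfl

theorem good_inv (hn : n * n = 0) (hn' : n' * n' = 0) (g : GL ι F) (hg : Good hn hn' (g : Matrix ι ι F)) :
    Good hn hn' ((g⁻¹ : GL ι F) : Matrix ι ι F) := by
  obtain ⟨a, b, c, d, ha, hN, hgv⟩ := hg
  refine ⟨a + d * X, -b, -c, -d, ?_, by linear_combination hN, ?_⟩
  · have e : a + d * X - 1 = (a - 1) + X * d := by ring
    rw [e]
    exact dvd_add ha (dvd_mul_right _ _)
  · apply Units.inv_eq_of_mul_eq_one_right
    rw [hgv]
    unfold PhiM
    rw [← Subalgebra.coe_mul, Phi_mul_conj (n₀_sq hn) (n₀'_sq hn') (n₀_rel hn hn'), hN, one_smul]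
    rfl

/-- every element of the group generated by `1 + n`, `1 + n'` satisfies the invariant -/
theorem good_of_mem (hn : n * n = 0) (hn' : n' * n' = 0) (y y' : GL ι F)
    (hy : (y : Matrix ι ι F) = 1 + n) (hy' : (y' : Matrix ι ι F) = 1 + n') (g : GL ι F)
    (hg : g ∈ Subgroup.closure ({y, y'} : Set (GL ι F))) : Good hn hn' (g : Matrix ι ι F) := by
  induction hg using Subgroup.closure_induction with
  | mem x hx =>
    rcases hx with rfl | hx
    · rw [hy]; exact good_n hn hn'
    · rw [Set.mem_singleton_iff.mp hx, hy']; exact good_n' hn hn'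
  | one => exact good_one hn hn'
  | mul x z _ _ hx hz => rw [Units.val_mul]; exact good_mul hn hn' hx hz
  | inv x _ hx => exact good_inv hn hn' x hx

/-- **Cayley–Hamilton** an involution satisfying the invariant is `1 + h(τ) τ` -/
theorem involution_of_good (h2 : (2 : F) ≠ 0) (hn : n * n = 0) (hn' : n' * n' = 0) {z : Matrix ι ι F}
    (hz : Good hn hn' z) (hzz : z * z = 1) :
    ∃ h : F[X], z = 1 + Polynomial.aeval (tau n n') h * tau n n' ∧ z * n = n * z ∧ z * n' = n' * z := by
  obtain ⟨a, b, c, d, ha, hN, rfl⟩ := hz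
  set ζ : Cen n n' := Phi (n₀ hn) (n₀' hn') a b c d with hζ
  have hζζ : ζ * ζ = 1 := Subtype.ext hzz
  have hconj : ζ * Phi (n₀ hn : Cen n n') (n₀' hn') (a + d * X) (-b) (-c) (-d) = 1 := by
    rw [hζ, Phi_mul_conj (n₀_sq hn) (n₀'_sq hn') (n₀_rel hn hn'), hN, one_smul]
  have hbar : Phi (n₀ hn : Cen n n') (n₀' hn') (a + d * X) (-b) (-c) (-d) = ζ := by
    calc Phi (n₀ hn : Cen n n') (n₀' hn') (a + d * X) (-b) (-c) (-d)
        = (ζ * ζ) * Phi (n₀ hn : Cen n n') (n₀' hn') (a + d * X) (-b) (-c) (-d) := by rw [hζζ, one_mul]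
      _ = ζ := by rw [mul_assoc, hconj, mul_one]
  have hsum : ζ + ζ = (2 * a + d * X) • (1 : Cen n n') := by
    have := Phi_add_conj (n₀ hn : Cen n n') (n₀' hn') (X : F[X]) a b c d
    rw [hbar] at this
    exact this
  obtain ⟨w, hw⟩ : ∃ w : F[X], w = C (2⁻¹ : F) * (2 * a + d * X) := ⟨_, rfl⟩
  have hC : C (2⁻¹ : F) * 2 = (1 : F[X]) := by
    have : (2 : F[X]) = C (2 : F) := (map_ofNat C 2).symm
    rw [this, ← C_mul, inv_mul_cancel₀ h2, C_1]
  have hζw : ζ = w • (1 : Cen n n') := by
    have h1 : C (2⁻¹ : F) • (ζ + ζ) = w • (1 : Cen n n') := by rw [hsum, smul_smul, hw]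
    rw [← h1, ← two_smul F[X] ζ, smul_smul, hC, one_smul]
  obtain ⟨a₁, ha₁⟩ := ha
  obtain ⟨h, hh⟩ : ∃ h : F[X], w = 1 + h * X := by
    refine ⟨a₁ + C (2⁻¹ : F) * d, ?_⟩
    have e1 : a = 1 + X * a₁ := by linear_combination ha₁
    rw [hw, e1]
    linear_combination (1 + X * a₁) * hC
  have hzw : PhiM hn hn' a b c d = Polynomial.aeval (tau n n') w := by
    unfold PhiM
    rw [← hζ, hζw, coe_smul_one]
  refine ⟨h, ?_, ?_, ?_⟩
  · rw [hzw, hh, map_add, map_one, map_mul, Polynomial.aeval_X]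
  · have := Algebra.commutes w (n₀ hn : Cen n n')
    rw [Algebra.algebraMap_eq_smul_one, ← hζw] at this
    exact congrArg Subtype.val this
  · have := Algebra.commutes w (n₀' hn' : Cen n n')
    rw [Algebra.algebraMap_eq_smul_one, ← hζw] at this
    exact congrArg Subtype.val this

end concrete

end Cfsg.Agent.Lib.Helper14.QuadPair
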