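import Mathlib
import Cfsg.Agent.H5.SL2pSection
import Cfsg.Agent.H5.SL2Stable

/-!
# Quadratic pairs, part C: the group generated by two quadratic unipotent matrices has even order or is a `p`-group

Restriction of scalars to the prime field turns the natural module into a faithful representation over `ZMod p`; the theorem
of Dickson–Gorenstein (`Cfsg.H5.SL2p.rep_sectionP`) yields a section `SL(2, p)`, hence an involution.
-/

set_option autoImplicit false

namespace Cfsg.Agent.Lib.Helper14.QuadPair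

open Matrix

section evenOrder

/-- a finite group with a section `SL(2, p)`, `p` odd, has an involution -/
theorem exists_involution_of_hasSectionP {Γ : Type*} [Group Γ] [Finite Γ] {p : ℕ} [Fact p.Prime] (hp : p ≠ 2)
    (h : Cfsg.H5.SL2p.HasSectionP p Γ) : ∃ z : Γ, z ≠ 1 ∧ z * z = 1 := by
  obtain ⟨K, θ, hθ⟩ := h
  haveI : Fact (Even (Fintype.card (Fin 2))) := ⟨by decide⟩
  obtain ⟨x, hx⟩ := hθ (-1 : SpecialLinearGroup (Fin 2) (ZMod p))
  have hne : (-1 : SpecialLinearGroup (Fin 2) (ZMod p)) ≠ 1 := by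
    intro h1
    have h2 : ((-1 : SpecialLinearGroup (Fin 2) (ZMod p)) : Matrix (Fin 2) (Fin 2) (ZMod p)) 0 0 =
        ((1 : SpecialLinearGroup (Fin 2) (ZMod p)) : Matrix (Fin 2) (Fin 2) (ZMod p)) 0 0 := by rw [h1]
    simp at h2
    have h3 : (2 : ZMod p) = 0 := by linear_combination -h2
    have h4 : ((2 : ℕ) : ZMod p) = 0 := by exact_mod_cast h3
    rw [ZMod.natCast_eq_zero_iff] at h4
    have hpp : p.Prime := Fact.out
    have := (Nat.prime_dvd_prime_iff_eq hpp Nat.prime_two).mp h4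
    exact hp this
  have hsq : (-1 : SpecialLinearGroup (Fin 2) (ZMod p)) ^ 2 = 1 := by
    apply Subtype.ext
    simp
  have hord : orderOf (θ x) = 2 := by
    rw [hx]
    exact orderOf_eq_prime hsq hne
  have hdvd : 2 ∣ orderOf x := by
    rw [← hord]
    exact orderOf_map_dvd θ x
  obtain ⟨m, hm⟩ := hdvd
  have hpos : 0 < orderOf x := orderOf_pos x
  refine ⟨((x ^ m : K) : Γ), ?_, ?_⟩
  · intro h1
    have h2 : x ^ m = 1 := Subtype.ext h1
    have := orderOf_dvd_of_pow_eq_one h2
    have := Nat.le_of_dvd (by omega) this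
    omega
  · have h2 : x ^ m * x ^ m = 1 := by
      rw [← pow_add, ← two_mul, ← hm, pow_orderOf_eq_one]
    have := congrArg (Subtype.val) h2
    simpa using this

variable {F : Type*} [Field F] [Finite F] {p : ℕ} [Fact p.Prime] [CharP F p]
  {ι : Type*} [Fintype ι] [DecidableEq ι]

/-- the group generated by two quadratic unipotent matrices over a finite field of odd characteristic `p` is a `p`-group or
contains an involution -/
theorem isPGroup_or_exists_involution (hp : p ≠ 2) {n n' : Matrix ι ι F} (hn : n * n = 0) (hn' : n' * n' = 0)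
    (y y' : GL ι F) (hy : (y : Matrix ι ι F) = 1 + n) (hy' : (y' : Matrix ι ι F) = 1 + n') :
    IsPGroup p (Subgroup.closure ({y, y'} : Set (GL ι F))) ∨
      ∃ z ∈ Subgroup.closure ({y, y'} : Set (GL ι F)), z ≠ 1 ∧ z * z = 1 := by
  classical
  by_cases hnp : IsPGroup p (Subgroup.closure ({y, y'} : Set (GL ι F)))
  · exact Or.inl hnp
  right
  letI : Algebra (ZMod p) F := ZMod.algebra F p
  haveI : Module.Finite (ZMod p) F := Module.Finite.of_finite
  obtain ⟨m, hm⟩ : ∃ m, m = Module.finrank (ZMod p) (ι → F) := ⟨_, rfl⟩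
  let b : Module.Basis (Fin m) (ZMod p) (ι → F) := (Module.finBasis (ZMod p) (ι → F)).reindex (finCongr hm.symm)
  let e : (ι → F) ≃ₗ[ZMod p] (Fin m → ZMod p) := b.equivFun
  let rs : Module.End F (ι → F) →+* Module.End (ZMod p) (ι → F) :=
    { toFun := fun f => f.restrictScalars (ZMod p)
      map_one' := rfl
      map_mul' := fun _ _ => rfl
      map_zero' := rfl
      map_add' := fun _ _ => rfl }
  have hrs : Function.Injective rs := LinearMap.restrictScalars_injective (ZMod p)
  let Ψ : Matrix ι ι F →+* Module.End (ZMod p) (Fin m → ZMod p) :=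
    (e.conjRingEquiv : Module.End (ZMod p) (ι → F) →+* Module.End (ZMod p) (Fin m → ZMod p)).comp
      (rs.comp ((Matrix.toLinAlgEquiv' : Matrix ι ι F ≃ₐ[F] Module.End F (ι → F)) :
        Matrix ι ι F →+* Module.End F (ι → F)))
  have hΨ : Function.Injective Ψ := by
    intro a c hac
    have h1 := e.conjRingEquiv.injective hac
    have h2 := hrs h1
    exact (Matrix.toLinAlgEquiv' : Matrix ι ι F ≃ₐ[F] Module.End F (ι → F)).injective h2
  obtain ⟨Δ, hΔ⟩ : ∃ Δ : Subgroup (GL ι F), Δ = Subgroup.closure ({y, y'} : Set (GL ι F)) := ⟨_, rfl⟩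
  rw [← hΔ] at hnp ⊢
  have hyΔ : y ∈ Δ := by rw [hΔ]; exact Subgroup.subset_closure (by simp)
  have hy'Δ : y' ∈ Δ := by rw [hΔ]; exact Subgroup.subset_closure (by simp)
  let ρ₀ : Representation (ZMod p) Δ (Fin m → ZMod p) :=
    (Ψ : Matrix ι ι F →* Module.End (ZMod p) (Fin m → ZMod p)).comp
      ((Units.coeHom (Matrix ι ι F)).comp Δ.subtype)
  have hρ : ∀ g : Δ, ρ₀ g = Ψ ((g : GL ι F) : Matrix ι ι F) := fun g => rfl
  have hfaith : ∀ g : Δ, ρ₀ g = 1 → g = 1 := by
    intro g hg
    rw [hρ, ← map_one Ψ] at hg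
    exact Subtype.ext (Units.ext (hΨ hg))
  have hquad : ∀ (g : Δ) (k : Matrix ι ι F), ((g : GL ι F) : Matrix ι ι F) = 1 + k → k * k = 0 →
      (ρ₀ g - 1) * (ρ₀ g - 1) = 0 := by
    intro g k hg hk
    have h1 : ρ₀ g - 1 = Ψ k := by rw [hρ, hg, map_add, map_one, add_sub_cancel_left]
    rw [h1, ← map_mul, hk, map_zero]
  have hsec := Cfsg.H5.SL2p.rep_sectionP hp (⟨y, hyΔ⟩ : Δ) ⟨y', hy'Δ⟩
    (Cfsg.H5.SL2S.closure_pair_top y y' Δ hΔ hyΔ hy'Δ) m ρ₀ hfaith (hquad _ n hy hn) (hquad _ n' hy' hn') hnp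
  obtain ⟨z, hz1, hzz⟩ := exists_involution_of_hasSectionP hp hsec
  refine ⟨z, z.2, fun h => hz1 (Subtype.ext h), ?_⟩
  have := congrArg Subtype.val hzz
  simpa using this

end evenOrder

end Cfsg.Agent.Lib.Helper14.QuadPair
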