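import Mathlib
import Cfsg.Agent.Lib.Helper14.QuadPairB
import Cfsg.Agent.Lib.Helper14.QuadPairC

/-!
# The quadratic pair lemma

`F` a finite field of odd characteristic `p`, `n`, `n'` square-zero matrices, `D = ⟨1 + n, 1 + n'⟩`.  Then `D` is a `p`-group,
or `D` contains an involution `z` commuting with `n` and `n'` whose `(-1)`-eigenspace `V₋` satisfies
`V₋ = (V₋ ∩ im n) ⊕ (V₋ ∩ im n')`, the two summands having the same dimension.
-/

set_option autoImplicit false

namespace Cfsg.Agent.Lib.Helper14.QuadPair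

open Polynomial Matrix Module

section linalg

variable {F : Type*} [Field F] {ι : Type*} [Fintype ι] [DecidableEq ι]

/-- the `(-1)`-eigenspace of a matrix -/
def negSpace (Z : Matrix ι ι F) : Submodule F (ι → F) := LinearMap.ker (Matrix.toLin' (Z + 1))

theorem mem_negSpace (Z : Matrix ι ι F) (v : ι → F) : v ∈ negSpace Z ↔ Z *ᵥ v = -v := by
  unfold negSpace
  rw [LinearMap.mem_ker, Matrix.toLin'_apply, Matrix.add_mulVec, Matrix.one_mulVec, add_eq_zero_iff_eq_neg]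

/-- the image of a matrix -/
def imSpace (n : Matrix ι ι F) : Submodule F (ι → F) := LinearMap.range (Matrix.toLin' n)

theorem mem_imSpace (n : Matrix ι ι F) (v : ι → F) : v ∈ imSpace n ↔ ∃ u, n *ᵥ u = v := by
  unfold imSpace
  rw [LinearMap.mem_range]
  simp only [Matrix.toLin'_apply]

variable {n n' Z : Matrix ι ι F}

/-- an involution different from `1` has a non-zero `(-1)`-eigenspace -/
theorem negSpace_ne_bot (hZZ : Z * Z = 1) (hZ1 : Z ≠ 1) : negSpace Z ≠ ⊥ := by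
  intro hbot
  apply hZ1
  have h1 : ∀ v : ι → F, Z *ᵥ v = v := by
    intro v
    have hw : v - Z *ᵥ v ∈ negSpace Z := by
      rw [mem_negSpace, Matrix.mulVec_sub, Matrix.mulVec_mulVec, hZZ, Matrix.one_mulVec]
      abel
    rw [hbot, Submodule.mem_bot, sub_eq_zero] at hw
    exact hw.symm
  apply Matrix.toLin'.injective
  apply LinearMap.ext
  intro v
  rw [Matrix.toLin'_apply, h1, Matrix.toLin'_one, LinearMap.id_apply]

/-- the linear algebra of an involution `Z = 1 + H τ` commuting with `n`, `n'` -/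
theorem negSpace_decomp (h2 : (2 : F) ≠ 0) (hn : n * n = 0) (hn' : n' * n' = 0)
    (hZn : Z * n = n * Z) (hZn' : Z * n' = n' * Z) (H : Matrix ι ι F) (hZ : Z = 1 + H * tau n n') :
    (negSpace Z ⊓ imSpace n) ⊓ (negSpace Z ⊓ imSpace n') = ⊥ ∧
    (negSpace Z ⊓ imSpace n) ⊔ (negSpace Z ⊓ imSpace n') = negSpace Z ∧
    finrank F ↥(negSpace Z ⊓ imSpace n') = finrank F ↥(negSpace Z ⊓ imSpace n) ∧
    finrank F ↥(negSpace Z) = 2 * finrank F ↥(negSpace Z ⊓ imSpace n) := by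
  classical
  have hnn : ∀ v : ι → F, n *ᵥ (n *ᵥ v) = 0 := fun v => by rw [Matrix.mulVec_mulVec, hn, Matrix.zero_mulVec]
  have hnn' : ∀ v : ι → F, n' *ᵥ (n' *ᵥ v) = 0 := fun v => by rw [Matrix.mulVec_mulVec, hn', Matrix.zero_mulVec]
  have htau : ∀ v : ι → F, tau n n' *ᵥ v = n *ᵥ (n' *ᵥ v) + n' *ᵥ (n *ᵥ v) := fun v => by
    unfold tau
    rw [Matrix.add_mulVec, Matrix.mulVec_mulVec, Matrix.mulVec_mulVec]
  -- `τ` is injective on the `(-1)`-eigenspace
  have hinj : ∀ v, v ∈ negSpace Z → tau n n' *ᵥ v = 0 → v = 0 := by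
    intro v hv hτ
    rw [mem_negSpace] at hv
    have h1 : Z *ᵥ v = v := by
      rw [hZ, Matrix.add_mulVec, Matrix.one_mulVec, ← Matrix.mulVec_mulVec, hτ, Matrix.mulVec_zero, add_zero]
    rw [h1] at hv
    have h3 : (2 : F) • v = 0 := by
      rw [two_smul]
      nth_rewrite 1 [hv]
      exact neg_add_cancel v
    exact (smul_eq_zero.mp h3).resolve_left h2
  have hZv : ∀ (m : Matrix ι ι F), Z * m = m * Z → ∀ v, v ∈ negSpace Z → m *ᵥ v ∈ negSpace Z := by
    intro m hm v hv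
    rw [mem_negSpace] at hv ⊢
    rw [Matrix.mulVec_mulVec, hm, ← Matrix.mulVec_mulVec, hv, Matrix.mulVec_neg]
  have hZτ : Z * tau n n' = tau n n' * Z := by
    unfold tau
    rw [mul_add, add_mul, ← mul_assoc, hZn, mul_assoc, hZn', ← mul_assoc, ← mul_assoc, hZn', mul_assoc n' Z n, hZn,
      ← mul_assoc]
  -- `τ` is bijective on the `(-1)`-eigenspace
  have hmaps : ∀ v ∈ negSpace Z, Matrix.toLin' (tau n n') v ∈ negSpace Z := fun v hv => by
    rw [Matrix.toLin'_apply]; exact hZv _ hZτ v hv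
  have hTinj : Function.Injective ((Matrix.toLin' (tau n n')).restrict hmaps) := by
    rw [← LinearMap.ker_eq_bot, LinearMap.ker_eq_bot']
    intro v hv
    have h1 := congrArg Subtype.val hv
    simp only [LinearMap.coe_restrict_apply, Matrix.toLin'_apply, ZeroMemClass.coe_zero] at h1
    exact Subtype.ext (hinj v.1 v.2 h1)
  have hTsurj := LinearMap.injective_iff_surjective.mp hTinj
  have hsurj : ∀ v ∈ negSpace Z, ∃ u ∈ negSpace Z, tau n n' *ᵥ u = v := by
    intro v hv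
    obtain ⟨u, hu⟩ := hTsurj ⟨v, hv⟩
    refine ⟨u.1, u.2, ?_⟩
    have h1 := congrArg Subtype.val hu
    simpa only [LinearMap.coe_restrict_apply, Matrix.toLin'_apply] using h1
  have hdisj : (negSpace Z ⊓ imSpace n) ⊓ (negSpace Z ⊓ imSpace n') = ⊥ := by
    rw [eq_bot_iff]
    rintro x ⟨⟨hx, hxL⟩, ⟨_, hxL'⟩⟩
    rw [Submodule.mem_bot]
    obtain ⟨a, rfl⟩ := (mem_imSpace n x).mp hxL
    obtain ⟨b, hb⟩ := (mem_imSpace n' (n *ᵥ a)).mp hxL'
    apply hinj _ hx
    rw [htau, hnn, Matrix.mulVec_zero, add_zero, ← hb, hnn', Matrix.mulVec_zero]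
  have hsup : (negSpace Z ⊓ imSpace n) ⊔ (negSpace Z ⊓ imSpace n') = negSpace Z := by
    apply le_antisymm
    · exact sup_le inf_le_left inf_le_left
    · intro v hv
      obtain ⟨u, hu, rfl⟩ := hsurj v hv
      rw [htau]
      apply Submodule.add_mem_sup
      · exact ⟨hZv n hZn _ (hZv n' hZn' u hu), (mem_imSpace n _).mpr ⟨_, rfl⟩⟩
      · exact ⟨hZv n' hZn' _ (hZv n hZn u hu), (mem_imSpace n' _).mpr ⟨_, rfl⟩⟩
  have hAB : ∀ (m m' : Matrix ι ι F), m * m = 0 → m' * m' = 0 → Z * m = m * Z → Z * m' = m' * Z →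
      (∀ x, x ∈ negSpace Z → m *ᵥ (m' *ᵥ x) + m' *ᵥ (m *ᵥ x) = 0 → x = 0) →
      finrank F ↥(negSpace Z ⊓ imSpace m) ≤ finrank F ↥(negSpace Z ⊓ imSpace m') := by
    intro m m' hm hm' hZm hZm' hi
    have hmaps' : ∀ x ∈ negSpace Z ⊓ imSpace m, Matrix.toLin' m' x ∈ negSpace Z ⊓ imSpace m' := by
      intro x hx
      rw [Matrix.toLin'_apply]
      exact ⟨hZv m' hZm' x hx.1, (mem_imSpace m' _).mpr ⟨_, rfl⟩⟩
    let f : ↥(negSpace Z ⊓ imSpace m) →ₗ[F] ↥(negSpace Z ⊓ imSpace m') :=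
      ((Matrix.toLin' m').domRestrict (negSpace Z ⊓ imSpace m)).codRestrict _ (fun x => hmaps' x.1 x.2)
    apply LinearMap.finrank_le_finrank_of_injective (f := f)
    rw [← LinearMap.ker_eq_bot, LinearMap.ker_eq_bot']
    intro x hx
    have h1 : m' *ᵥ x.1 = 0 := congrArg Subtype.val hx
    obtain ⟨a, ha⟩ := (mem_imSpace m x.1).mp x.2.2
    apply Subtype.ext
    apply hi x.1 x.2.1
    rw [h1, Matrix.mulVec_zero, zero_add, ← ha, Matrix.mulVec_mulVec a m m, hm, Matrix.zero_mulVec,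
      Matrix.mulVec_zero]
  have h1 := hAB n n' hn hn' hZn hZn' (fun x hx h => hinj x hx (by rw [htau]; exact h))
  have h2' := hAB n' n hn' hn hZn' hZn (fun x hx h => hinj x hx (by rw [htau, add_comm]; exact h))
  have heq : finrank F ↥(negSpace Z ⊓ imSpace n') = finrank F ↥(negSpace Z ⊓ imSpace n) := le_antisymm h2' h1
  refine ⟨hdisj, hsup, heq, ?_⟩
  have h3 := Submodule.finrank_sup_add_finrank_inf_eq (negSpace Z ⊓ imSpace n) (negSpace Z ⊓ imSpace n')
  rw [hsup, hdisj, finrank_bot, add_zero, heq] at h3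
  rw [h3]; ring

end linalg

section main

variable {F : Type*} [Field F] {ι : Type*} [Fintype ι] [DecidableEq ι]

/-- **quadratic pair lemma, central part**: an involution of `⟨1 + n, 1 + n'⟩` commutes with `n`, `n'` and its `(-1)`-eigenspace
splits as `(V₋ ∩ im n) ⊕ (V₋ ∩ im n')` with summands of equal dimension -/
theorem involution_central (h2 : (2 : F) ≠ 0) {n n' : Matrix ι ι F} (hn : n * n = 0) (hn' : n' * n' = 0)
    (y y' : GL ι F) (hy : (y : Matrix ι ι F) = 1 + n) (hy' : (y' : Matrix ι ι F) = 1 + n')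
    (z : GL ι F) (hz : z ∈ Subgroup.closure ({y, y'} : Set (GL ι F))) (hzz : z * z = 1) :
    (z : Matrix ι ι F) * n = n * (z : Matrix ι ι F) ∧ (z : Matrix ι ι F) * n' = n' * (z : Matrix ι ι F) ∧
      (negSpace (z : Matrix ι ι F) ⊓ imSpace n) ⊓ (negSpace (z : Matrix ι ι F) ⊓ imSpace n') = ⊥ ∧
      (negSpace (z : Matrix ι ι F) ⊓ imSpace n) ⊔ (negSpace (z : Matrix ι ι F) ⊓ imSpace n') =
        negSpace (z : Matrix ι ι F) ∧
      finrank F ↥(negSpace (z : Matrix ι ι F) ⊓ imSpace n') = finrank F ↥(negSpace (z : Matrix ι ι F) ⊓ imSpace n) ∧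
      finrank F ↥(negSpace (z : Matrix ι ι F)) = 2 * finrank F ↥(negSpace (z : Matrix ι ι F) ⊓ imSpace n) := by
  have hgood := good_of_mem hn hn' y y' hy hy' z hz
  have hZZ : (z : Matrix ι ι F) * (z : Matrix ι ι F) = 1 := by
    rw [← Units.val_mul, hzz, Units.val_one]
  obtain ⟨h, hZ, hZn, hZn'⟩ := involution_of_good h2 hn hn' hgood hZZ
  exact ⟨hZn, hZn', negSpace_decomp h2 hn hn' hZn hZn' _ hZ⟩

end main

end Cfsg.Agent.Lib.Helper14.QuadPair
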