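import Mathlib
import Cfsg.Agent.Lib.Helper28.OTDefs
import Cfsg.Agent.Lib.Helper14.QuadPair

/-!
# `S5681` / `S5709`, piece QP: the quadratic pair lemma in the vocabulary of `Helper28.OTDefs`

`qp_invol` (QP-A) and `qp_central` (QP-B) with the exact signatures of `notes/S5681Skel_helper28.lean.txt`, PART 0.
-/

set_option autoImplicit false

namespace Cfsg.Agent.Lib.Helper14.OTQP

open Matrix Module
open Cfsg.Agent.Lib.Helper28.OT
open Cfsg.Agent.Lib.Helper14.QuadPair

section formfree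

variable {F : Type*} [Field F] [Fintype F]

/-- QP-A: two quadratic unipotent elements generating a non-`p`-group generate a group containing an involution -/
theorem qp_invol {ι : Type} [Fintype ι] [DecidableEq ι] (p : ℕ) [Fact p.Prime] [CharP F p] (hp2 : p ≠ 2)
    (n n' : Matrix ι ι F) (hn : n * n = 0) (hn' : n' * n' = 0) (y y' : GL ι F)
    (hy : (y : Matrix ι ι F) = 1 + n) (hy' : (y' : Matrix ι ι F) = 1 + n')
    (hD : ¬ IsPGroup p (Subgroup.closure ({y, y'} : Set (GL ι F)))) :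
    ∃ z ∈ Subgroup.closure ({y, y'} : Set (GL ι F)), z * z = 1 ∧ z ≠ 1 := by
  rcases isPGroup_or_exists_involution (p := p) hp2 hn hn' y y' hy hy' with h | ⟨z, hz, hz1, hzz⟩
  · exact absurd h hD
  · exact ⟨z, hz, hzz, hz1⟩

/-- QP-B: an involution of the closure commutes with `n`, `n'`, and its `(-1)`-eigenspace is
`(V₋ ∩ range n) ⊕ (V₋ ∩ range n')` with both summands of the same dimension -/
theorem qp_central {ι : Type} [Fintype ι] [DecidableEq ι] (h2 : (2 : F) ≠ 0)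
    (n n' : Matrix ι ι F) (hn : n * n = 0) (hn' : n' * n' = 0) (y y' : GL ι F)
    (hy : (y : Matrix ι ι F) = 1 + n) (hy' : (y' : Matrix ι ι F) = 1 + n')
    (z : GL ι F) (hz : z ∈ Subgroup.closure ({y, y'} : Set (GL ι F))) (hzz : z * z = 1) :
    (z : Matrix ι ι F) * n = n * (z : Matrix ι ι F) ∧ (z : Matrix ι ι F) * n' = n' * (z : Matrix ι ι F) ∧
      finrank F (Vm (z : Matrix ι ι F)) = 2 * finrank F ↥(Vm (z : Matrix ι ι F) ⊓ Rg n) ∧
      finrank F (Vm (z : Matrix ι ι F)) = 2 * finrank F ↥(Vm (z : Matrix ι ι F) ⊓ Rg n') ∧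
      Vm (z : Matrix ι ι F) ≤ (Vm (z : Matrix ι ι F) ⊓ Rg n) ⊔ (Vm (z : Matrix ι ι F) ⊓ Rg n') := by
  obtain ⟨h1, h1', _, hsup, heq, hfr⟩ := involution_central h2 hn hn' y y' hy hy' z hz hzz
  have e1 : Vm (z : Matrix ι ι F) = negSpace (z : Matrix ι ι F) := rfl
  have e2 : Rg n = imSpace n := rfl
  have e3 : Rg n' = imSpace n' := rfl
  rw [e1, e2, e3]
  refine ⟨h1, h1', hfr, ?_, hsup.ge⟩
  rw [heq]; exact hfr

/-- by-product: the two summands meet trivially -/
theorem qp_disjoint {ι : Type} [Fintype ι] [DecidableEq ι] (h2 : (2 : F) ≠ 0)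
    (n n' : Matrix ι ι F) (hn : n * n = 0) (hn' : n' * n' = 0) (y y' : GL ι F)
    (hy : (y : Matrix ι ι F) = 1 + n) (hy' : (y' : Matrix ι ι F) = 1 + n')
    (z : GL ι F) (hz : z ∈ Subgroup.closure ({y, y'} : Set (GL ι F))) (hzz : z * z = 1) :
    (Vm (z : Matrix ι ι F) ⊓ Rg n) ⊓ (Vm (z : Matrix ι ι F) ⊓ Rg n') = ⊥ :=
  (involution_central h2 hn hn' y y' hy hy' z hz hzz).2.2.1

/-- by-product: an involution different from `1` has a non-zero `(-1)`-eigenspace -/
theorem Vm_ne_bot {ι : Type} [Fintype ι] [DecidableEq ι] (z : GL ι F) (hzz : z * z = 1) (hz1 : z ≠ 1) :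
    Vm (z : Matrix ι ι F) ≠ ⊥ := by
  apply negSpace_ne_bot
  · rw [← Units.val_mul, hzz, Units.val_one]
  · intro h
    exact hz1 (Units.ext h)

end formfree

end Cfsg.Agent.Lib.Helper14.OTQP
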