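import Cfsg.Agent.Lib.Helper14.PolyExp

set_option autoImplicit false

/-! # Counting monic polynomials with prescribed irreducible factors invariant under an
involution of the factors -/

namespace Cfsg.Agent.Lib.Helper14.OrdCount

open Polynomial Cfsg.Agent.Lib.Helper14
open scoped Classical

noncomputable section

/-- the data: a finite set `S` of monic irreducible polynomials of degree `i`, a further one `P₀`
of degree one, a multiplicative map `star` permuting `S` and fixing `P₀`, and a set `S'` of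
representatives of the orbits of `star` on `S`, all orbits having `c` elements -/
structure SD (K : Type*) [Field K] where
  S : Finset K[X]
  S' : Finset K[X]
  P₀ : K[X]
  star : K[X] → K[X]
  rep : K[X] → K[X]
  i : ℕ
  c : ℕ
  hP₀ : P₀ ∉ S
  hT : ∀ P ∈ insert P₀ S, P.Monic ∧ Irreducible P
  hd0 : P₀.natDegree = 1
  hdS : ∀ P ∈ S, P.natDegree = i
  hi : 0 < i
  hc : 0 < c
  star_mul : ∀ f g, star (f * g) = star f * star g
  star_one : star 1 = 1
  star_P₀ : star P₀ = P₀
  star_mem : ∀ P ∈ S, star P ∈ S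
  star_star : ∀ P ∈ S, star (star P) = P
  hS' : S' ⊆ S
  rep_mem : ∀ P ∈ S, rep P ∈ S'
  rep_self : ∀ Q ∈ S', rep Q = Q
  rep_star : ∀ P ∈ S, rep (star P) = rep P
  rep_cases : ∀ P ∈ S, rep P = P ∨ rep P = star P
  hsum : ∀ g : K[X] → ℕ, ∑ P ∈ S, g (rep P) = c * ∑ Q ∈ S', g Q

variable {K : Type*} [Field K] (D : SD K)

/-- the full set of allowed irreducible factors -/
noncomputable def SD.T : Finset K[X] := insert D.P₀ D.S

/-- the index set of the exponent vectors -/
noncomputable def SD.T' : Finset K[X] := insert D.P₀ D.S'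

/-- the monic polynomials of degree `n` with all factors in `T`, invariant under `star` -/
def SD.Good (n : ℕ) (f : K[X]) : Prop :=
  f.Monic ∧ f.natDegree = n ∧ (∀ P : K[X], P.Monic → Irreducible P → P ∣ f → P ∈ D.T) ∧
    D.star f = f

theorem SD.hP₀' : D.P₀ ∉ D.S' := fun h => D.hP₀ (D.hS' h)

/-- `star` as a monoid homomorphism -/
noncomputable def SD.starHom : K[X] →* K[X] where
  toFun := D.star
  map_one' := D.star_one
  map_mul' := D.star_mul

theorem SD.star_T : ∀ P ∈ D.T, D.star P ∈ D.T := by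
  classical
  intro P hP
  unfold SD.T at hP ⊢
  rcases Finset.mem_insert.mp hP with rfl | hP
  · rw [D.star_P₀]
    exact Finset.mem_insert_self _ _
  · exact Finset.mem_insert_of_mem (D.star_mem P hP)

theorem SD.star_star_T : ∀ P ∈ D.T, D.star (D.star P) = P := by
  classical
  intro P hP
  unfold SD.T at hP
  rcases Finset.mem_insert.mp hP with rfl | hP
  · rw [D.star_P₀, D.star_P₀]
  · exact D.star_star P hP

/-- the image under `star` of a product of powers -/
theorem SD.star_expProd (ε : K[X] → ℕ) :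
    D.star (expProd D.T ε) = expProd D.T (fun Q => ε (D.star Q)) := by
  classical
  have h1 : D.star (expProd D.T ε) = ∏ P ∈ D.T, (D.star P) ^ ε P := by
    show D.starHom (expProd D.T ε) = _
    unfold expProd
    rw [map_prod]
    apply Finset.prod_congr rfl
    intro P _
    rw [map_pow]
    rfl
  rw [h1]
  unfold expProd
  apply Finset.prod_nbij' D.star D.star
  · exact D.star_T
  · exact D.star_T
  · exact D.star_star_T
  · exact D.star_star_T
  · intro P hP
    show D.star P ^ ε P = D.star P ^ ε (D.star (D.star P))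
    rw [D.star_star_T P hP]

/-- the exponent function attached to an exponent vector on `T'` -/
noncomputable def SD.eps (n : ℕ) (e : K[X] →₀ ℕ) : K[X] → ℕ :=
  fun P => if P = D.P₀ then n - D.c * D.i * ∑ Q ∈ D.S', e Q else e (D.rep P)

/-- the polynomial attached to an exponent vector on `T'` -/
noncomputable def SD.poly (n : ℕ) (e : K[X] →₀ ℕ) : K[X] := expProd D.T (D.eps n e)

theorem SD.eps_P₀ (n : ℕ) (e : K[X] →₀ ℕ) :
    D.eps n e D.P₀ = n - D.c * D.i * ∑ Q ∈ D.S', e Q := by
  classical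
  unfold SD.eps
  rw [if_pos rfl]

theorem SD.eps_S (n : ℕ) (e : K[X] →₀ ℕ) (P : K[X]) (hP : P ∈ D.S) :
    D.eps n e P = e (D.rep P) := by
  classical
  unfold SD.eps
  rw [if_neg]
  rintro rfl
  exact D.hP₀ hP

theorem SD.sum_le (n : ℕ) (e : K[X] →₀ ℕ) (he : e ∈ D.T'.finsuppAntidiag (n / (D.c * D.i))) :
    e D.P₀ + ∑ Q ∈ D.S', e Q = n / (D.c * D.i) := by
  classical
  rw [Finset.mem_finsuppAntidiag] at he
  rw [← he.1]
  unfold SD.T'
  rw [Finset.sum_insert D.hP₀']

theorem SD.mul_sum_le (n : ℕ) (e : K[X] →₀ ℕ)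
    (he : e ∈ D.T'.finsuppAntidiag (n / (D.c * D.i))) :
    D.c * D.i * ∑ Q ∈ D.S', e Q ≤ n := by
  have h1 := D.sum_le n e he
  calc D.c * D.i * ∑ Q ∈ D.S', e Q ≤ D.c * D.i * (n / (D.c * D.i)) :=
        Nat.mul_le_mul_left _ (by omega)
    _ ≤ n := Nat.mul_div_le n _

theorem SD.T_monic : ∀ P ∈ D.T, P.Monic := fun P hP => (D.hT P hP).1

theorem SD.natDegree_poly (n : ℕ) (e : K[X] →₀ ℕ)
    (he : e ∈ D.T'.finsuppAntidiag (n / (D.c * D.i))) : (D.poly n e).natDegree = n := by
  classical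
  have hle := D.mul_sum_le n e he
  unfold SD.poly
  rw [natDegree_expProd _ _ D.T_monic]
  unfold SD.T
  rw [Finset.sum_insert D.hP₀, D.eps_P₀, D.hd0, mul_one]
  have h2 : ∑ P ∈ D.S, D.eps n e P * P.natDegree = D.c * D.i * ∑ Q ∈ D.S', e Q := by
    have h3 : ∑ P ∈ D.S, D.eps n e P * P.natDegree = ∑ P ∈ D.S, e (D.rep P) * D.i := by
      apply Finset.sum_congr rfl
      intro P hP
      rw [D.eps_S n e P hP, D.hdS P hP]
    rw [h3, ← Finset.sum_mul, D.hsum (fun Q => e Q)]
    ring
  rw [h2]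
  omega

theorem SD.poly_good (n : ℕ) (e : K[X] →₀ ℕ)
    (he : e ∈ D.T'.finsuppAntidiag (n / (D.c * D.i))) : D.Good n (D.poly n e) := by
  classical
  refine ⟨expProd_monic _ _ D.T_monic, D.natDegree_poly n e he, ?_, ?_⟩
  · intro P hPm hPi hd
    exact mem_of_dvd_expProd _ _ D.hT P hPm hPi hd
  · unfold SD.poly
    rw [D.star_expProd]
    unfold expProd
    apply Finset.prod_congr rfl
    intro Q hQ
    congr 1
    unfold SD.T at hQ
    rcases Finset.mem_insert.mp hQ with rfl | hQ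
    · show D.eps n e (D.star D.P₀) = _
      rw [D.star_P₀]
    · show D.eps n e (D.star Q) = _
      rw [D.eps_S n e _ (D.star_mem Q hQ), D.eps_S n e Q hQ, D.rep_star Q hQ]

theorem SD.poly_injOn (n : ℕ) (e e' : K[X] →₀ ℕ)
    (he : e ∈ D.T'.finsuppAntidiag (n / (D.c * D.i)))
    (he' : e' ∈ D.T'.finsuppAntidiag (n / (D.c * D.i)))
    (h : D.poly n e = D.poly n e') : e = e' := by
  classical
  unfold SD.poly at h
  have h1 := expProd_injective _ _ _ D.hT h
  have hS : ∀ Q ∈ D.S', e Q = e' Q := by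
    intro Q hQ
    have h2 := h1 Q (Finset.mem_insert_of_mem (D.hS' hQ))
    rw [D.eps_S n e Q (D.hS' hQ), D.eps_S n e' Q (D.hS' hQ), D.rep_self Q hQ] at h2
    exact h2
  have hs := D.sum_le n e he
  have hs' := D.sum_le n e' he'
  have hsum : ∑ Q ∈ D.S', e Q = ∑ Q ∈ D.S', e' Q := Finset.sum_congr rfl hS
  ext P
  by_cases hP : P ∈ D.T'
  · unfold SD.T' at hP
    rcases Finset.mem_insert.mp hP with rfl | hP
    · omega
    · exact hS P hP
  · rw [Finset.mem_finsuppAntidiag] at he he'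
    have h2 : P ∉ e.support := fun hh => hP (he.2 hh)
    have h3 : P ∉ e'.support := fun hh => hP (he'.2 hh)
    rw [Finsupp.notMem_support_iff] at h2 h3
    rw [h2, h3]

theorem SD.exists_poly (n : ℕ) (f : K[X]) (hf : D.Good n f) :
    ∃ e ∈ D.T'.finsuppAntidiag (n / (D.c * D.i)), D.poly n e = f := by
  classical
  obtain ⟨hm, hn, hgood, hstar⟩ := hf
  obtain ⟨ε, hε⟩ := exists_expProd D.T n f hn hm hgood
  -- invariance of the exponents
  have hinv : ∀ Q ∈ D.T, ε (D.star Q) = ε Q := by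
    have h1 : expProd D.T (fun Q => ε (D.star Q)) = expProd D.T ε := by
      rw [← D.star_expProd, ← hε, hstar]
    exact expProd_injective _ _ _ D.hT h1
  have hrep : ∀ P ∈ D.S, ε (D.rep P) = ε P := by
    intro P hP
    rcases D.rep_cases P hP with h | h
    · rw [h]
    · rw [h]
      exact hinv P (Finset.mem_insert_of_mem hP)
  have hdeg : ε D.P₀ + D.c * D.i * ∑ Q ∈ D.S', ε Q = n := by
    have h1 := natDegree_expProd D.T ε D.T_monic
    rw [← hε, hn] at h1
    unfold SD.T at h1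
    rw [Finset.sum_insert D.hP₀, D.hd0, mul_one] at h1
    rw [h1]
    congr 1
    have h3 : ∑ P ∈ D.S, ε P * P.natDegree = ∑ P ∈ D.S, ε (D.rep P) * D.i := by
      apply Finset.sum_congr rfl
      intro P hP
      rw [hrep P hP, D.hdS P hP]
    rw [h3, ← Finset.sum_mul, D.hsum ε]
    ring
  have hci : 0 < D.c * D.i := Nat.mul_pos D.hc D.hi
  have hsle : ∑ Q ∈ D.S', ε Q ≤ n / (D.c * D.i) := by
    rw [Nat.le_div_iff_mul_le hci]
    calc (∑ Q ∈ D.S', ε Q) * (D.c * D.i) = D.c * D.i * ∑ Q ∈ D.S', ε Q := mul_comm _ _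
      _ ≤ n := by omega
  let e : K[X] →₀ ℕ := Finsupp.onFinset D.T'
    (fun P => if P = D.P₀ then n / (D.c * D.i) - ∑ Q ∈ D.S', ε Q else if P ∈ D.S' then ε P else 0)
    (by
      intro P hP
      by_contra hne
      unfold SD.T' at hne
      rw [Finset.mem_insert, not_or] at hne
      exact hP (by rw [if_neg hne.1, if_neg hne.2]))
  have he0 : e D.P₀ = n / (D.c * D.i) - ∑ Q ∈ D.S', ε Q := by
    show (if D.P₀ = D.P₀ then n / (D.c * D.i) - ∑ Q ∈ D.S', ε Q
      else if D.P₀ ∈ D.S' then ε D.P₀ else 0) = _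
    rw [if_pos rfl]
  have heS : ∀ P ∈ D.S', e P = ε P := by
    intro P hP
    have hne : P ≠ D.P₀ := by
      rintro rfl
      exact D.hP₀' hP
    show (if P = D.P₀ then n / (D.c * D.i) - ∑ Q ∈ D.S', ε Q else if P ∈ D.S' then ε P else 0) = _
    rw [if_neg hne, if_pos hP]
  have hsum : ∑ Q ∈ D.S', e Q = ∑ Q ∈ D.S', ε Q := Finset.sum_congr rfl heS
  refine ⟨e, ?_, ?_⟩
  · rw [Finset.mem_finsuppAntidiag]
    refine ⟨?_, ?_⟩
    · unfold SD.T'
      rw [Finset.sum_insert D.hP₀', he0, hsum]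
      omega
    · exact Finsupp.support_onFinset_subset
  · rw [hε]
    unfold SD.poly expProd
    apply Finset.prod_congr rfl
    intro P hP
    congr 1
    unfold SD.T at hP
    rcases Finset.mem_insert.mp hP with rfl | hP
    · rw [D.eps_P₀, hsum]
      omega
    · rw [D.eps_S n e P hP, heS _ (D.rep_mem P hP), hrep P hP]

/-- the count of the good polynomials -/
theorem SD.card_good (n : ℕ) :
    Nat.card {f : K[X] // D.Good n f} = Nat.choose (n / (D.c * D.i) + D.S'.card) D.S'.card := by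
  classical
  let Ψ : {e // e ∈ D.T'.finsuppAntidiag (n / (D.c * D.i))} → {f : K[X] // D.Good n f} :=
    fun e => ⟨D.poly n e.1, D.poly_good n e.1 e.2⟩
  have hinj : Function.Injective Ψ := by
    intro e e' h
    exact Subtype.ext (D.poly_injOn n e.1 e'.1 e.2 e'.2 (congrArg Subtype.val h))
  have hsurj : Function.Surjective Ψ := by
    rintro ⟨f, hf⟩
    obtain ⟨e, he, hpe⟩ := D.exists_poly n f hf
    exact ⟨⟨e, he⟩, Subtype.ext hpe⟩
  rw [← Nat.card_congr (Equiv.ofBijective Ψ ⟨hinj, hsurj⟩), Nat.card_eq_fintype_card,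
    Fintype.card_coe, Finset.card_finsuppAntidiag_nat_eq_choose]
  unfold SD.T'
  rw [Finset.card_insert_of_notMem D.hP₀']
  have h1 : ∀ N t : ℕ, t + 1 + N - 1 = N + t := fun N t => by omega
  rw [h1, Nat.choose_symm_add]

/-- the trivial good polynomial -/
theorem SD.pow_good (n : ℕ) : D.Good n (D.P₀ ^ n) := by
  classical
  have hP₀T : D.P₀ ∈ D.T := Finset.mem_insert_self _ _
  refine ⟨(D.T_monic _ hP₀T).pow n, ?_, ?_, ?_⟩
  · rw [(D.T_monic _ hP₀T).natDegree_pow, D.hd0, mul_one]
  · intro P hPm hPi hd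
    have h1 : P ∣ D.P₀ := hPi.prime.dvd_of_dvd_pow hd
    have := eq_of_monic_of_associated hPm (D.T_monic _ hP₀T)
      (hPi.associated_of_dvd (D.hT _ hP₀T).2 h1)
    rw [this]
    exact hP₀T
  · show D.starHom (D.P₀ ^ n) = _
    rw [map_pow]
    show D.star D.P₀ ^ n = _
    rw [D.star_P₀]

theorem SD.finite_good (n : ℕ) : Finite {f : K[X] // D.Good n f} := by
  apply Nat.finite_of_card_ne_zero
  rw [D.card_good]
  exact (Nat.choose_pos (Nat.le_add_left _ _)).ne'

/-- the count of the nontrivial good polynomials -/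
theorem SD.card_good_ne (n : ℕ) :
    Nat.card {f : K[X] // D.Good n f ∧ f ≠ D.P₀ ^ n} =
      Nat.choose (n / (D.c * D.i) + D.S'.card) D.S'.card - 1 := by
  classical
  have := D.finite_good n
  let a : {f : K[X] // D.Good n f} := ⟨D.P₀ ^ n, D.pow_good n⟩
  have h1 : Nat.card {f : K[X] // D.Good n f} = Nat.card {b : {f : K[X] // D.Good n f} // b ≠ a} + 1 := by
    rw [← Finite.card_option]
    exact Nat.card_congr (Equiv.optionSubtypeNe a).symm
  have h2 : Nat.card {b : {f : K[X] // D.Good n f} // b ≠ a} =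
      Nat.card {f : K[X] // D.Good n f ∧ f ≠ D.P₀ ^ n} := by
    apply Nat.card_congr
    refine ⟨fun b => ⟨b.1.1, b.1.2, fun h => b.2 (Subtype.ext h)⟩,
      fun f => ⟨⟨f.1, f.2.1⟩, fun h => f.2.2 (congrArg Subtype.val h)⟩, ?_, ?_⟩
    · intro b
      rfl
    · intro f
      rfl
  rw [← h2, ← D.card_good n, h1]
  omega

end

end Cfsg.Agent.Lib.Helper14.OrdCount
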