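import Cfsg.Agent.Lib.Helper14.OrdCount1

set_option autoImplicit false

/-! # Counting star-invariant polynomials: the two cases -/

namespace Cfsg.Agent.Lib.Helper14.OrdCount

open Polynomial Cfsg.Agent.Lib.Helper14
open scoped Classical

noncomputable section

variable {K : Type*} [Field K]

/-- the explicit form of the set of good polynomials -/
def GoodP (S : Finset K[X]) (P₀ : K[X]) (star : K[X] → K[X]) (n : ℕ) (f : K[X]) : Prop :=
  f.Monic ∧ f.natDegree = n ∧
    (∀ P : K[X], P.Monic → Irreducible P → P ∣ f → P ∈ insert P₀ S) ∧ star f = f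

/-- the case where `star` fixes all the factors -/
theorem card_fixed (S : Finset K[X]) (P₀ : K[X]) (star : K[X] → K[X]) (i : ℕ) (hP₀ : P₀ ∉ S)
    (hT : ∀ P ∈ insert P₀ S, P.Monic ∧ Irreducible P) (hd0 : P₀.natDegree = 1)
    (hdS : ∀ P ∈ S, P.natDegree = i) (hi : 0 < i)
    (star_mul : ∀ f g, star (f * g) = star f * star g) (star_one : star 1 = 1)
    (star_P₀ : star P₀ = P₀) (hfix : ∀ P ∈ S, star P = P) (n : ℕ) :
    Nat.card {f : K[X] // GoodP S P₀ star n f ∧ f ≠ P₀ ^ n} =
      Nat.choose (n / i + S.card) S.card - 1 := by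
  let D : SD K :=
    { S := S, S' := S, P₀ := P₀, star := star, rep := id, i := i, c := 1
      hP₀ := hP₀, hT := hT, hd0 := hd0, hdS := hdS, hi := hi, hc := one_pos
      star_mul := star_mul, star_one := star_one, star_P₀ := star_P₀
      star_mem := fun P hP => by rw [hfix P hP]; exact hP
      star_star := fun P hP => by rw [hfix P hP, hfix P hP]
      hS' := subset_refl S
      rep_mem := fun P hP => hP
      rep_self := fun _ _ => rfl
      rep_star := fun P hP => by rw [hfix P hP]
      rep_cases := fun P _ => Or.inl rfl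
      hsum := fun g => by simp }
  have h := D.card_good_ne n
  rw [one_mul] at h
  exact h

/-- a set of representatives for a fixed-point-free involution on a finite set -/
theorem exists_transversal {α : Type*} (S : Finset α) (star : α → α)
    (hmem : ∀ P ∈ S, star P ∈ S) (hinv : ∀ P ∈ S, star (star P) = P)
    (hfpf : ∀ P ∈ S, star P ≠ P) :
    ∃ S' : Finset α, S' ⊆ S ∧ ∀ P ∈ S, (P ∈ S' ↔ star P ∉ S') := by
  let φ : α → ℕ := fun P => if h : P ∈ S then (S.equivFin ⟨P, h⟩ : ℕ) else 0
  have hφ : ∀ P ∈ S, ∀ Q ∈ S, φ P = φ Q → P = Q := by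
    intro P hP Q hQ h
    simp only [φ, dif_pos hP, dif_pos hQ] at h
    have := S.equivFin.injective (Fin.ext h)
    exact congrArg Subtype.val this
  refine ⟨S.filter (fun P => φ P < φ (star P)), Finset.filter_subset _ _, ?_⟩
  intro P hP
  rw [Finset.mem_filter, Finset.mem_filter, hinv P hP]
  have hne : φ P ≠ φ (star P) := fun h => hfpf P hP (hφ P hP _ (hmem P hP) h).symm
  constructor
  · rintro ⟨_, h1⟩ ⟨_, h2⟩
    omega
  · intro h
    refine ⟨hP, ?_⟩
    by_contra h3
    exact h ⟨hmem P hP, by omega⟩

theorem sum_rep {α : Type*} (S S' : Finset α) [DecidablePred (fun P => P ∈ S')] (star : α → α)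
    (hmem : ∀ P ∈ S, star P ∈ S) (hinv : ∀ P ∈ S, star (star P) = P) (hS' : S' ⊆ S)
    (htr : ∀ P ∈ S, (P ∈ S' ↔ star P ∉ S')) (g : α → ℕ) :
    ∑ P ∈ S, g (if P ∈ S' then P else star P) = 2 * ∑ Q ∈ S', g Q := by
  rw [← Finset.sum_sdiff hS']
  have h1 : ∑ P ∈ S', g (if P ∈ S' then P else star P) = ∑ Q ∈ S', g Q := by
    apply Finset.sum_congr rfl
    intro P hP
    rw [if_pos hP]
  have h2 : ∑ P ∈ S \ S', g (if P ∈ S' then P else star P) = ∑ Q ∈ S', g Q := by
    apply Finset.sum_nbij' star star
    · intro P hP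
      rw [Finset.mem_sdiff] at hP
      by_contra h
      exact hP.2 ((htr P hP.1).mpr h)
    · intro Q hQ
      rw [Finset.mem_sdiff]
      exact ⟨hmem Q (hS' hQ), (htr Q (hS' hQ)).mp hQ⟩
    · intro P hP
      rw [Finset.mem_sdiff] at hP
      exact hinv P hP.1
    · intro Q hQ
      exact hinv Q (hS' hQ)
    · intro P hP
      rw [Finset.mem_sdiff] at hP
      rw [if_neg hP.2]
  rw [h1, h2]
  ring

/-- the case where `star` fixes none of the factors -/
theorem card_free (S : Finset K[X]) (P₀ : K[X]) (star : K[X] → K[X]) (i : ℕ) (hP₀ : P₀ ∉ S)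
    (hT : ∀ P ∈ insert P₀ S, P.Monic ∧ Irreducible P) (hd0 : P₀.natDegree = 1)
    (hdS : ∀ P ∈ S, P.natDegree = i) (hi : 0 < i)
    (star_mul : ∀ f g, star (f * g) = star f * star g) (star_one : star 1 = 1)
    (star_P₀ : star P₀ = P₀) (star_mem : ∀ P ∈ S, star P ∈ S)
    (star_star : ∀ P ∈ S, star (star P) = P) (hfpf : ∀ P ∈ S, star P ≠ P) (n : ℕ) :
    Nat.card {f : K[X] // GoodP S P₀ star n f ∧ f ≠ P₀ ^ n} =
      Nat.choose (n / (2 * i) + S.card / 2) (S.card / 2) - 1 := by
  obtain ⟨S', hS', htr⟩ := exists_transversal S star star_mem star_star hfpf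
  have hsum := sum_rep S S' star star_mem star_star hS' htr
  let D : SD K :=
    { S := S, S' := S', P₀ := P₀, star := star, rep := fun P => if P ∈ S' then P else star P
      i := i, c := 2
      hP₀ := hP₀, hT := hT, hd0 := hd0, hdS := hdS, hi := hi, hc := two_pos
      star_mul := star_mul, star_one := star_one, star_P₀ := star_P₀
      star_mem := star_mem
      star_star := star_star
      hS' := hS'
      rep_mem := fun P hP => by
        by_cases h : P ∈ S'
        · rw [if_pos h]; exact h
        · rw [if_neg h]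
          by_contra h2
          exact h ((htr P hP).mpr h2)
      rep_self := fun Q hQ => if_pos hQ
      rep_star := fun P hP => by
        by_cases h : P ∈ S'
        · rw [if_pos h, if_neg ((htr P hP).mp h), star_star P hP]
        · have h2 : star P ∈ S' := by
            by_contra h2
            exact h ((htr P hP).mpr h2)
          rw [if_neg h, if_pos h2]
      rep_cases := fun P _ => by
        by_cases h : P ∈ S'
        · left; rw [if_pos h]
        · right; rw [if_neg h]
      hsum := hsum }
  have h := D.card_good_ne n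
  have hc : S.card = 2 * S'.card := by
    have := hsum (fun _ => 1)
    simpa using this
  have hc' : S.card / 2 = S'.card := by omega
  rw [hc']
  exact h

end

end Cfsg.Agent.Lib.Helper14.OrdCount
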