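import Cfsg.Agent.S2568
import Cfsg.Agent.Lib.Helper14.HCount1
import Cfsg.Agent.Lib.Helper14.OrdCount2

set_option autoImplicit false

/-! # The twisted reciprocals of the irreducible factors of a cyclotomic polynomial over a
finite field -/

namespace Cfsg.Agent.Lib.Helper14.OrdCount

open Polynomial
open Cfsg.Agent.S2568 (cycFactors mem_cycFactors natDegree_of_mem_cycFactors
  cast_ne_zero_of_prime_ne)
open Cfsg.Agent.Lib.Helper14.HCount (dual dual_natDegree dual_monic dual_mul)

universe u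

section frob

variable {F : Type u} [Field F] {L : Type u} [Field L] [Algebra F L]

theorem eval₂_frob (p : ℕ) [Fact p.Prime] [CharP L p] (e : ℕ) (τ : F →+* F)
    (hτ : ∀ a, τ a = a ^ (p ^ e)) (P : F[X]) (x : L) :
    eval₂ (algebraMap F L) (x ^ (p ^ e)) (P.map τ) = (eval₂ (algebraMap F L) x P) ^ (p ^ e) := by
  rw [eval₂_map, eval₂_eq_sum_range, eval₂_eq_sum_range, sum_pow_char_pow]
  apply Finset.sum_congr rfl
  intro j _
  rw [RingHom.comp_apply, hτ, map_pow, mul_pow, ← pow_mul, ← pow_mul, mul_comm j]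

/-- the twisted inverse of a root is a root of the twisted reciprocal -/
theorem dual_root (p : ℕ) [Fact p.Prime] [CharP L p] (e : ℕ) (σ : F ≃+* F)
    (hσ : ∀ a, σ a = a ^ (p ^ e)) (P : F[X]) (x : L) (hx : x ≠ 0) (h : aeval x P = 0) :
    aeval (x ^ (p ^ e))⁻¹ (dual σ P) = 0 := by
  unfold dual
  rw [map_mul, aeval_C]
  have hx' : x ^ (p ^ e) ≠ 0 := pow_ne_zero _ hx
  let _ : Invertible (x ^ (p ^ e)) := invertibleOfNonzero hx'
  have h1 := eval₂_reverse_eq_zero_iff (algebraMap F L) (x ^ (p ^ e)) (P.map (σ : F →+* F))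
  rw [invOf_eq_inv] at h1
  have h2 : eval₂ (algebraMap F L) (x ^ (p ^ e)) (P.map (σ : F →+* F)) = 0 := by
    rw [eval₂_frob p e (σ : F →+* F) (fun a => hσ a) P x, ← aeval_def, h,
      zero_pow (pow_ne_zero _ (Fact.out : p.Prime).ne_zero)]
  rw [aeval_def, h1.mpr h2, mul_zero]

theorem aeval_pow_card [Fintype F] (P : F[X]) (x : L) :
    aeval (x ^ Fintype.card F) P = (aeval x P) ^ Fintype.card F := by
  rw [← expand_aeval, FiniteField.expand_card, map_pow]

theorem aeval_pow_card_pow [Fintype F] (P : F[X]) (x : L) (k : ℕ) :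
    aeval (x ^ (Fintype.card F ^ k)) P = (aeval x P) ^ (Fintype.card F ^ k) := by
  induction k with
  | zero => simp
  | succ k ih => rw [pow_succ, pow_mul, aeval_pow_card, ih, ← pow_mul]

theorem pow_eq_pow_iff_of_primitive {ζ : L} {r : ℕ} (h : IsPrimitiveRoot ζ r) (hr : 0 < r)
    (m n : ℕ) : ζ ^ m = ζ ^ n ↔ m ≡ n [MOD r] := by
  have hζ0 : ζ ≠ 0 := h.ne_zero hr.ne'
  wlog hmn : m ≤ n generalizing m n
  · rw [eq_comm, Nat.ModEq.comm]
    exact this n m (le_of_not_ge hmn)
  obtain ⟨k, rfl⟩ := Nat.exists_eq_add_of_le hmn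
  rw [pow_add]
  constructor
  · intro h1
    have h2 : ζ ^ k = 1 := by
      have h3 : ζ ^ m * 1 = ζ ^ m * ζ ^ k := by rw [mul_one]; exact h1
      exact (mul_left_cancel₀ (pow_ne_zero m hζ0) h3).symm
    have h3 := (h.pow_eq_one_iff_dvd k).mp h2
    exact (Nat.modEq_iff_dvd' (Nat.le_add_right m k)).mpr (by simpa using h3)
  · intro h1
    have h3 : r ∣ k := by
      have := (Nat.modEq_iff_dvd' (Nat.le_add_right m k)).mp h1
      simpa using this
    rw [(h.pow_eq_one_iff_dvd k).mpr h3, mul_one]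

end frob

section roots

variable {F : Type u} [Field F] [Fintype F]

/-- a field containing a root of a factor of a cyclotomic polynomial, in which all the roots of
the factor are the Frobenius conjugates of the given one -/
theorem exists_root_field (p : ℕ) [Fact p.Prime] [CharP F p] (r : ℕ) (hr : r.Prime)
    (hrp : r ≠ p) (P : F[X]) (hP : P ∈ cycFactors F r) :
    ∃ (L : Type u) (_ : Field L) (_ : Algebra F L) (ζ : L), IsPrimitiveRoot ζ r ∧
      aeval ζ P = 0 ∧ ∀ x : L, aeval x P = 0 → ∃ k, x = ζ ^ (Fintype.card F ^ k) := by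
  classical
  have hP' := (mem_cycFactors r P).mp hP
  have : Fact (Irreducible P) := ⟨hP'.1⟩
  have hdeg := natDegree_of_mem_cycFactors p r hr hrp P hP
  set d := orderOf ((Fintype.card F : ℕ) : ZMod r) with hd
  set ζ : AdjoinRoot P := AdjoinRoot.root P with hζ
  have hroot : aeval ζ P = 0 := by rw [AdjoinRoot.aeval_eq, AdjoinRoot.mk_self]
  have hcp : CharP (AdjoinRoot P) p :=
    charP_of_injective_algebraMap (algebraMap F (AdjoinRoot P)).injective p
  have hr0 : ((r : ℕ) : AdjoinRoot P) ≠ 0 := by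
    intro h
    rw [CharP.cast_eq_zero_iff (AdjoinRoot P) p] at h
    exact hrp ((Nat.prime_dvd_prime_iff_eq (Fact.out : p.Prime) hr).mp h).symm
  have : NeZero ((r : ℕ) : AdjoinRoot P) := ⟨hr0⟩
  have hprim : IsPrimitiveRoot ζ r := by
    rw [← isRoot_cyclotomic_iff]
    obtain ⟨c, hc⟩ := hP'.2.2
    have h1 : aeval ζ (cyclotomic r F) = 0 := by rw [hc, map_mul, hroot, zero_mul]
    rw [IsRoot.def, ← map_cyclotomic r (algebraMap F (AdjoinRoot P)), eval_map, ← aeval_def]
    exact h1
  refine ⟨AdjoinRoot P, inferInstance, inferInstance, ζ, hprim, hroot, ?_⟩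
  -- the Frobenius conjugates
  let R : Finset (AdjoinRoot P) :=
    (Finset.range d).image (fun k => ζ ^ (Fintype.card F ^ k))
  have hRcard : R.card = d := by
    rw [Finset.card_image_of_injOn, Finset.card_range]
    intro a ha b hb hab
    rw [Finset.coe_range, Set.mem_Iio] at ha hb
    have h1 := (pow_eq_pow_iff_of_primitive hprim hr.pos _ _).mp hab
    rw [← ZMod.natCast_eq_natCast_iff, Nat.cast_pow, Nat.cast_pow] at h1
    exact pow_injOn_Iio_orderOf ha hb h1
  have hmap0 : P.map (algebraMap F (AdjoinRoot P)) ≠ 0 :=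
    (Polynomial.map_ne_zero_iff (algebraMap F (AdjoinRoot P)).injective).mpr hP'.1.ne_zero
  have hRsub : R ⊆ (P.map (algebraMap F (AdjoinRoot P))).roots.toFinset := by
    intro x hx
    obtain ⟨k, _, rfl⟩ := Finset.mem_image.mp hx
    rw [Multiset.mem_toFinset, mem_roots hmap0, IsRoot.def, eval_map, ← aeval_def,
      aeval_pow_card_pow, hroot, zero_pow (pow_ne_zero _ Fintype.card_ne_zero)]
  have hle : (P.map (algebraMap F (AdjoinRoot P))).roots.toFinset.card ≤ R.card := by
    rw [hRcard]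
    calc (P.map (algebraMap F (AdjoinRoot P))).roots.toFinset.card
        ≤ Multiset.card (P.map (algebraMap F (AdjoinRoot P))).roots := Multiset.toFinset_card_le _
      _ ≤ (P.map (algebraMap F (AdjoinRoot P))).natDegree := Polynomial.card_roots' _
      _ = d := by rw [natDegree_map, hdeg]
  have hReq := Finset.eq_of_subset_of_card_le hRsub hle
  intro x hx
  have hxr : x ∈ (P.map (algebraMap F (AdjoinRoot P))).roots.toFinset := by
    rw [Multiset.mem_toFinset, mem_roots hmap0, IsRoot.def, eval_map, ← aeval_def]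
    exact hx
  rw [← hReq] at hxr
  obtain ⟨k, _, hk⟩ := Finset.mem_image.mp hxr
  exact ⟨k, hk.symm⟩

theorem coeff_zero_ne_of_mem (r : ℕ) (hr : r.Prime) (P : F[X]) (hP : P ∈ cycFactors F r) :
    P.coeff 0 ≠ 0 := by
  intro h0
  have hP' := (mem_cycFactors r P).mp hP
  have h1 : (X : F[X]) ∣ cyclotomic r F := (X_dvd_iff.mpr h0).trans hP'.2.2
  rw [X_dvd_iff, cyclotomic_coeff_zero F hr.one_lt] at h1
  exact one_ne_zero h1

variable (p : ℕ) [Fact p.Prime] [CharP F p] (r : ℕ) (hr : r.Prime) (hrp : r ≠ p) (e : ℕ)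
  (σ : F ≃+* F) (hσ : ∀ a, σ a = a ^ (p ^ e))

include hr hrp hσ in
/-- the twisted reciprocal of a factor of the cyclotomic polynomial is again one -/
theorem dual_mem (P : F[X]) (hP : P ∈ cycFactors F r) : dual σ P ∈ cycFactors F r := by
  classical
  obtain ⟨L, _, _, ζ, hprim, hroot, -⟩ := exists_root_field p r hr hrp P hP
  have hP' := (mem_cycFactors r P).mp hP
  have h0 := coeff_zero_ne_of_mem r hr P hP
  have hcp : CharP L p := charP_of_injective_algebraMap (algebraMap F L).injective p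
  have hζ0 : ζ ≠ 0 := hprim.ne_zero hr.ne_zero
  have hcop : (p ^ e).Coprime r :=
    Nat.Coprime.pow_left e ((Nat.coprime_primes (Fact.out : p.Prime) hr).mpr hrp.symm)
  set x : L := (ζ ^ (p ^ e))⁻¹ with hx
  have hxprim : IsPrimitiveRoot x r := (hprim.pow_of_coprime _ hcop).inv
  have hxcyc : aeval x (cyclotomic r F) = 0 := by
    have h1 := hxprim.isRoot_cyclotomic hr.pos
    rw [IsRoot.def, ← map_cyclotomic r (algebraMap F L), eval_map, ← aeval_def] at h1
    exact h1
  have hxint : IsIntegral F x := ⟨cyclotomic r F, cyclotomic.monic r F, hxcyc⟩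
  have hmem : minpoly F x ∈ cycFactors F r := by
    rw [mem_cycFactors]
    exact ⟨minpoly.irreducible hxint, minpoly.monic hxint, minpoly.dvd F x hxcyc⟩
  have hdvd : minpoly F x ∣ dual σ P := minpoly.dvd F x (dual_root p e σ hσ P ζ hζ0 hroot)
  have hdeg : (dual σ P).natDegree ≤ (minpoly F x).natDegree := by
    rw [dual_natDegree σ h0, natDegree_of_mem_cycFactors p r hr hrp P hP,
      natDegree_of_mem_cycFactors p r hr hrp _ hmem]
  rw [eq_of_monic_of_dvd_of_natDegree_le (minpoly.monic hxint) (dual_monic σ h0) hdvd hdeg]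
  exact hmem

include hr hrp hσ in
/-- the criterion for a factor of the cyclotomic polynomial to be its own twisted reciprocal -/
theorem dual_eq_iff (P : F[X]) (hP : P ∈ cycFactors F r) :
    dual σ P = P ↔ ∃ k, ((Fintype.card F : ℕ) : ZMod r) ^ k = -((p ^ e : ℕ) : ZMod r) := by
  classical
  obtain ⟨L, _, _, ζ, hprim, hroot, hall⟩ := exists_root_field p r hr hrp P hP
  have hP' := (mem_cycFactors r P).mp hP
  have h0 := coeff_zero_ne_of_mem r hr P hP
  have hcp : CharP L p := charP_of_injective_algebraMap (algebraMap F L).injective p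
  have hζ0 : ζ ≠ 0 := hprim.ne_zero hr.ne_zero
  set x : L := (ζ ^ (p ^ e))⁻¹ with hx
  have hxroot : aeval x (dual σ P) = 0 := dual_root p e σ hσ P ζ hζ0 hroot
  have hkey : ∀ k : ℕ, x = ζ ^ (Fintype.card F ^ k) ↔
      ((Fintype.card F : ℕ) : ZMod r) ^ k = -((p ^ e : ℕ) : ZMod r) := by
    intro k
    have h1 : x = ζ ^ (Fintype.card F ^ k) ↔ ζ ^ (Fintype.card F ^ k + p ^ e) = ζ ^ 0 := by
      rw [pow_zero, pow_add, hx]
      constructor
      · intro h
        rw [← h, inv_mul_cancel₀ (pow_ne_zero _ hζ0)]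
      · intro h
        exact (eq_inv_of_mul_eq_one_left h).symm
    rw [h1, pow_eq_pow_iff_of_primitive hprim hr.pos, ← ZMod.natCast_eq_natCast_iff,
      Nat.cast_add, Nat.cast_pow, Nat.cast_zero, add_eq_zero_iff_eq_neg]
  constructor
  · intro h
    rw [h] at hxroot
    obtain ⟨k, hk⟩ := hall x hxroot
    exact ⟨k, (hkey k).mp hk⟩
  · rintro ⟨k, hk⟩
    have hxk := (hkey k).mpr hk
    have hxP : aeval x P = 0 := by
      rw [hxk, aeval_pow_card_pow, hroot, zero_pow (pow_ne_zero _ Fintype.card_ne_zero)]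
    have hmin := minpoly.eq_of_irreducible_of_monic hP'.1 hxP hP'.2.1
    have hdvd : P ∣ dual σ P := by
      have h5 := minpoly.dvd F x hxroot
      rwa [← hmin] at h5
    exact eq_of_monic_of_dvd_of_natDegree_le hP'.2.1 (dual_monic σ h0) hdvd
      (le_of_eq (dual_natDegree σ h0))

end roots

end Cfsg.Agent.Lib.Helper14.OrdCount
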