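import Cfsg.Agent.Lib.Helper14.SpCount3

set_option autoImplicit false

/-! # Characteristic polynomials of semisimple symplectic matrices -/

namespace Cfsg.Agent.Lib.Helper14.SpCount

open Polynomial Matrix

variable {F : Type*} [Field F]

/-- every `X^n P(X + 1/X)` is the characteristic polynomial of a symplectic matrix -/
theorem exists_sp_charpoly (n : ℕ) {P : F[X]} (hP : P.Monic) (hn : P.natDegree = n) :
    ∃ g : symplecticGroup (Fin n) F,
      (g : Matrix (Fin n ⊕ Fin n) (Fin n ⊕ Fin n) F).charpoly = pal n P := by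
  rcases Nat.eq_zero_or_pos n with h0 | hpos
  · subst h0
    refine ⟨1, ?_⟩
    rw [Matrix.charpoly_isEmpty]
    have hP1 : P = 1 := (Polynomial.Monic.natDegree_eq_zero hP).mp hn
    unfold pal
    simp [hP1]
  · subst hn
    obtain ⟨G, Gi, M, h1, h2, h3, h4, h5⟩ := exists_symm_pair hP hpos
    obtain ⟨g, hg⟩ := exists_sp_of_symm G Gi M h1 h2 h3 h4
    refine ⟨g, ?_⟩
    rw [hg, Fintype.card_fin, h5]

variable {l : Type*} [Fintype l] [DecidableEq l]

/-- the characteristic polynomial of a symplectic matrix is palindromic -/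
theorem charpoly_reverse (g : symplecticGroup l F) :
    (g : Matrix (l ⊕ l) (l ⊕ l) F).charpoly.reverse = (g : Matrix (l ⊕ l) (l ⊕ l) F).charpoly := by
  set A : Matrix (l ⊕ l) (l ⊕ l) F := (g : Matrix (l ⊕ l) (l ⊕ l) F) with hA
  have hAmem : A ∈ symplecticGroup l F := g.2
  have hdet : A.det = 1 := SymplecticGroup.det_eq_one hAmem
  have hunit : IsUnit A := by
    rw [Matrix.isUnit_iff_isUnit_det, hdet]
    exact isUnit_one
  have h1 := Matrix.charpoly_inv A hunit
  rw [hdet, Ring.inverse_one, map_one, mul_one, Fintype.card_sum, ← two_mul, pow_mul, neg_one_sq,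
    one_pow, one_mul, ← Matrix.reverse_charpoly] at h1
  rw [← h1, SymplecticGroup.inv_eq_symplectic_inv A hAmem]
  -- conjugation by `J`
  have hJ : IsUnit (J l F) := by
    rw [Matrix.isUnit_iff_isUnit_det]
    exact Matrix.isUnit_det_J l F
  obtain ⟨u, hu⟩ := hJ
  have h2 : -J l F * Aᵀ * J l F = (u : Matrix (l ⊕ l) (l ⊕ l) F)⁻¹ * Aᵀ * u := by
    rw [hu, Matrix.J_inv]
  rw [h2, Matrix.charpoly_units_conj', Matrix.charpoly_transpose]

theorem charpoly_pow_card_pow [Fintype F] {ι : Type*} [Fintype ι] [DecidableEq ι]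
    (A : Matrix ι ι F) (k : ℕ) : (A ^ (Fintype.card F ^ k)).charpoly = A.charpoly := by
  induction k with
  | zero => rw [pow_zero, pow_one]
  | succ k ih => rw [pow_succ, pow_mul, FiniteField.Matrix.charpoly_pow_card, ih]

/-- the `p'`-part of a symplectic matrix has the same characteristic polynomial -/
theorem exists_pprime_part [Fintype F] (p : ℕ) [Fact p.Prime] [CharP F p]
    (g : symplecticGroup l F) :
    ∃ s : symplecticGroup l F, (orderOf s).Coprime p ∧
      (s : Matrix (l ⊕ l) (l ⊕ l) F).charpoly = (g : Matrix (l ⊕ l) (l ⊕ l) F).charpoly := by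
  have hp : p.Prime := Fact.out
  obtain ⟨f, -, hq⟩ := FiniteField.card F p
  have hN : Nat.card (symplecticGroup l F) ≠ 0 := Nat.card_pos.ne'
  obtain ⟨a, r, hr, hNr⟩ := Nat.exists_eq_pow_mul_and_not_dvd hN p hp.ne_one
  refine ⟨g ^ (Fintype.card F ^ a), ?_, ?_⟩
  · have h1 : (g ^ (Fintype.card F ^ a)) ^ r = 1 := by
      rw [← pow_mul]
      have h2 : Nat.card (symplecticGroup l F) ∣ Fintype.card F ^ a * r := by
        rw [hNr, hq, ← pow_mul]
        apply Nat.mul_dvd_mul_right
        apply pow_dvd_pow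
        have : 1 ≤ (f : ℕ) := f.pos
        nlinarith
      obtain ⟨c, hc⟩ := h2
      rw [hc, pow_mul, pow_card_eq_one', one_pow]
    have h3 : orderOf (g ^ (Fintype.card F ^ a)) ∣ r := orderOf_dvd_of_pow_eq_one h1
    have h4 : r.Coprime p := ((Nat.Prime.coprime_iff_not_dvd hp).mpr hr).symm
    exact Nat.Coprime.coprime_dvd_left h3 h4
  · rw [SubmonoidClass.coe_pow, charpoly_pow_card_pow]

end Cfsg.Agent.Lib.Helper14.SpCount
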