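import Mathlib
import Cfsg.Agent.Lib.Helper14.OrthEven2
import Cfsg.Agent.Lib.Helper14.JType5
import Cfsg.Agent.Lib.Helper14.SemiConjFin
import Cfsg.Agent.S2645

/-!
# Classes of elements of odd prime order in even-dimensional orthogonal groups: the bijection
with polynomials
-/

set_option autoImplicit false

namespace Cfsg.Agent.Lib.Helper14.OrthEven

open Polynomial Matrix
open Cfsg.Agent.Lib.Helper14 Cfsg.Agent.Lib.Helper14.OrdCount
open Cfsg.Agent.Lib.Helper14.HCount (dual dual_mul dual_dual)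
open Cfsg.Agent.Lib.Helper14.SpCount (exists_pprime_part)
open Cfsg.Agent.S2568 (cycFactors mem_cycFactors mem_T_iff T_monic_irreducible X_sub_one_notMem
  card_cycFactors natDegree_of_mem_cycFactors)

/-- The characteristic polynomial as a function on conjugacy classes of an isometry group. -/
noncomputable def cpI {F : Type*} [Field F] {ι : Type} [Fintype ι] [DecidableEq ι]
    (Qf : (ι → F) → F) : ConjClasses ↥(Cfsg.isometryGroup F Qf) → F[X] :=
  Quotient.lift (fun g : ↥(Cfsg.isometryGroup F Qf) =>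
    ((g : Matrix.GeneralLinearGroup ι F) : Matrix ι ι F).charpoly) (by
    intro a b hab
    obtain ⟨c, hc⟩ := isConj_iff.mp hab
    show ((a : Matrix.GeneralLinearGroup ι F) : Matrix ι ι F).charpoly =
      ((b : Matrix.GeneralLinearGroup ι F) : Matrix ι ι F).charpoly
    rw [← hc, Subgroup.coe_mul, Subgroup.coe_mul, Units.val_mul, Units.val_mul,
      Matrix.charpoly_mul_comm, ← mul_assoc, ← Units.val_mul, ← Subgroup.coe_mul, inv_mul_cancel,
      Subgroup.coe_one, Units.val_one, one_mul])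

theorem cpI_mk {F : Type*} [Field F] {ι : Type} [Fintype ι] [DecidableEq ι]
    (Qf : (ι → F) → F) (g : ↥(Cfsg.isometryGroup F Qf)) :
    cpI Qf (ConjClasses.mk g) =
      ((g : Matrix.GeneralLinearGroup ι F) : Matrix ι ι F).charpoly := rfl

section
open scoped Classical

variable {F : Type*} [Field F] [Fintype F] {ι : Type} [Fintype ι] [DecidableEq ι]

/-- elements of odd order prime to the characteristic with the same characteristic polynomial
are conjugate in the orthogonal group -/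
theorem isConj_of_charpoly_gen (p : ℕ) [Fact p.Prime] [CharP F p] (Qf : (ι → F) → F)
    (Q : QuadraticForm F (ι → F)) (hQf : ∀ v, Q v = Qf v)
    (hQ : (QuadraticMap.polarBilin Q).Nondegenerate) (r : ℕ)
    (hodd : Odd r) (hcop : r.Coprime p)
    (A B : ↥(Cfsg.isometryGroup F Qf)) (hA : orderOf A = r) (hB : orderOf B = r)
    (hc : ((A : Matrix.GeneralLinearGroup ι F) : Matrix ι ι F).charpoly =
      ((B : Matrix.GeneralLinearGroup ι F) : Matrix ι ι F).charpoly) :
    IsConj A B := by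
  have hp : p.Prime := Fact.out
  set a : Matrix.GeneralLinearGroup ι F := (A : Matrix.GeneralLinearGroup ι F) with ha
  set b : Matrix.GeneralLinearGroup ι F := (B : Matrix.GeneralLinearGroup ι F) with hb
  have hoa : orderOf a = r := by rw [ha, Subgroup.orderOf_coe, hA]
  have hob : orderOf b = r := by rw [hb, Subgroup.orderOf_coe, hB]
  obtain ⟨c, hcc⟩ := isConj_iff.mp (Cfsg.Agent.Lib.Helper14.isConj_GL_of_charpoly_eq p a b
    (by rw [hoa]; exact hcop) (by rw [hob]; exact hcop) hc)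
  have hc' : (c : Matrix ι ι F) * (a : Matrix ι ι F) = (b : Matrix ι ι F) * (c : Matrix ι ι F) := by
    have := mul_inv_eq_iff_eq_mul.mp hcc
    rw [← Units.val_mul, ← Units.val_mul, this]
  have ham : (a : Matrix ι ι F) ^ r = 1 := by
    rw [← Units.val_pow_eq_pow_val, ← hoa, pow_orderOf_eq_one, Units.val_one]
  have hbm : (b : Matrix ι ι F) ^ r = 1 := by
    rw [← Units.val_pow_eq_pow_val, ← hob, pow_orderOf_eq_one, Units.val_one]
  have hmF : (r : F) ≠ 0 := by
    intro h0
    have := (CharP.cast_eq_zero_iff F p r).1 h0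
    exact (Nat.Prime.coprime_iff_not_dvd hp).1 hcop.symm this
  have hinvmul : ∀ g : Matrix.GeneralLinearGroup ι F,
      Matrix.toLin' (g : Matrix ι ι F) *
        Matrix.toLin' ((g⁻¹ : Matrix.GeneralLinearGroup ι F) : Matrix ι ι F) = 1 := by
    intro g
    rw [Module.End.mul_eq_comp, ← Matrix.toLin'_mul, ← Units.val_mul, mul_inv_cancel, Units.val_one,
      Matrix.toLin'_one]
    rfl
  have hmulinv : ∀ g : Matrix.GeneralLinearGroup ι F,
      Matrix.toLin' ((g⁻¹ : Matrix.GeneralLinearGroup ι F) : Matrix ι ι F) *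
        Matrix.toLin' (g : Matrix ι ι F) = 1 := by
    intro g
    rw [Module.End.mul_eq_comp, ← Matrix.toLin'_mul, ← Units.val_mul, inv_mul_cancel, Units.val_one,
      Matrix.toLin'_one]
    rfl
  have I : Cfsg.Agent.Lib.Helper14.OrthSemi.Iso Q (Matrix.toLin' (a : Matrix ι ι F))
      (Matrix.toLin' ((a⁻¹ : Matrix.GeneralLinearGroup ι F) : Matrix ι ι F)) r :=
    { gh := hinvmul a
      hg := hmulinv a
      pres := fun v => by
        rw [Matrix.toLin'_apply, hQf, hQf]
        exact A.2 v v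
      odd := hodd
      hm := hmF
      gm := by
        rw [← Matrix.toLin'_pow, ham, Matrix.toLin'_one]
        rfl }
  have I' : Cfsg.Agent.Lib.Helper14.OrthSemi.Iso Q (Matrix.toLin' (b : Matrix ι ι F))
      (Matrix.toLin' ((b⁻¹ : Matrix.GeneralLinearGroup ι F) : Matrix ι ι F)) r :=
    { gh := hinvmul b
      hg := hmulinv b
      pres := fun v => by
        rw [Matrix.toLin'_apply, hQf, hQf]
        exact B.2 v v
      odd := hodd
      hm := hmF
      gm := by
        rw [← Matrix.toLin'_pow, hbm, Matrix.toLin'_one]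
        rfl }
  let C : (ι → F) ≃ₗ[F] (ι → F) :=
    LinearEquiv.ofLinearMap (Matrix.toLin' (c : Matrix ι ι F))
      (Matrix.toLin' ((c⁻¹ : (Matrix ι ι F)ˣ) : Matrix ι ι F))
      (by rw [← Matrix.toLin'_mul, Units.mul_inv, Matrix.toLin'_one])
      (by rw [← Matrix.toLin'_mul, Units.inv_mul, Matrix.toLin'_one])
  have hC : ∀ v, C (Matrix.toLin' (a : Matrix ι ι F) v) =
      Matrix.toLin' (b : Matrix ι ι F) (C v) := by
    intro v
    show Matrix.toLin' (c : Matrix ι ι F) (Matrix.toLin' (a : Matrix ι ι F) v) =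
      Matrix.toLin' (b : Matrix ι ι F) (Matrix.toLin' (c : Matrix ι ι F) v)
    rw [← LinearMap.comp_apply, ← Matrix.toLin'_mul, hc', Matrix.toLin'_mul, LinearMap.comp_apply]
  obtain ⟨g, hgQ, hgx⟩ := Cfsg.Agent.Lib.Helper14.OrthSemi.conj_of_linear_conj hQ I I' C hC
  have hG1 : LinearMap.toMatrix' g.toLinearMap * LinearMap.toMatrix' g.symm.toLinearMap = 1 := by
    rw [← LinearMap.toMatrix'_comp]
    have : g.toLinearMap ∘ₗ g.symm.toLinearMap = LinearMap.id := by
      apply LinearMap.ext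
      intro x
      simp
    rw [this, LinearMap.toMatrix'_id]
  have hG2 : LinearMap.toMatrix' g.symm.toLinearMap * LinearMap.toMatrix' g.toLinearMap = 1 := by
    rw [← LinearMap.toMatrix'_comp]
    have : g.symm.toLinearMap ∘ₗ g.toLinearMap = LinearMap.id := by
      apply LinearMap.ext
      intro x
      simp
    rw [this, LinearMap.toMatrix'_id]
  let Gu : Matrix.GeneralLinearGroup ι F :=
    ⟨LinearMap.toMatrix' g.toLinearMap, LinearMap.toMatrix' g.symm.toLinearMap, hG1, hG2⟩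
  have hGmem : Gu ∈ Cfsg.isometryGroup F Qf := by
    intro u _
    show Qf ((LinearMap.toMatrix' g.toLinearMap).mulVec u) = Qf u
    rw [LinearMap.toMatrix'_mulVec, ← hQf, ← hQf]
    exact hgQ u
  rw [isConj_iff]
  refine ⟨⟨Gu, hGmem⟩, ?_⟩
  rw [mul_inv_eq_iff_eq_mul]
  apply Subtype.ext
  apply Units.ext
  show LinearMap.toMatrix' g.toLinearMap * (a : Matrix ι ι F) =
    (b : Matrix ι ι F) * LinearMap.toMatrix' g.toLinearMap
  apply Matrix.toLin'.injective
  apply LinearMap.ext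
  intro v
  rw [Matrix.toLin'_mul, Matrix.toLin'_mul, Matrix.toLin'_toMatrix', LinearMap.comp_apply,
    LinearMap.comp_apply]
  exact hgx v

/-- the classes of elements of order `r` of an even-dimensional orthogonal group correspond to
the good polynomials that are divisible by `X - 1` or have the right sign -/
theorem card_classes_even (p : ℕ) [Fact p.Prime] [CharP F p] (Qf : (ι → F) → F)
    (Q : QuadraticForm F (ι → F)) (hQf : ∀ v, Q v = Qf v)
    (hQ : (QuadraticMap.polarBilin Q).Nondegenerate) (m : ℕ) (hι : Fintype.card ι = 2 * m)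
    (ε : ℤ) (hs : HasSign Qf m ε) (r : ℕ) (hr : r.Prime) (hr2 : r ≠ 2) (hrp : r ≠ p)
    (hex : ∀ s : Matrix (Fin m ⊕ Fin m) (Fin m ⊕ Fin m) F,
      s ∈ Matrix.symplecticGroup (Fin m) F → s ^ r = 1 → s ≠ 1 →
      ((X - 1 : F[X]) ∣ s.charpoly ∨
        ((Fintype.card F : ℕ) : ZMod r) ^ m = ((ε : ℤ) : ZMod r)) →
      ∃ M : Matrix ι ι F, (∀ v, Qf (M.mulVec v) = Qf v) ∧ M.charpoly = s.charpoly ∧ M ^ r = 1) :
    Nat.card {C : ConjClasses ↥(Cfsg.isometryGroup F Qf) //
      ∃ g : ↥(Cfsg.isometryGroup F Qf), ConjClasses.mk g = C ∧ orderOf g = r} =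
    Nat.card {f : F[X] //
      GoodP (cycFactors F r) (X - 1) (dual (RingEquiv.refl F)) (2 * m) f ∧
      f ≠ (X - 1) ^ (2 * m) ∧
      ((X - 1 : F[X]) ∣ f ∨ ((Fintype.card F : ℕ) : ZMod r) ^ m = ((ε : ℤ) : ZMod r))} := by
  have hp : p.Prime := Fact.out
  have : Fact r.Prime := ⟨hr⟩
  have hcop : r.Coprime p := (Nat.coprime_primes hr hp).mpr hrp
  have hodd : Odd r := hr.odd_of_ne_two hr2
  have hT := T_monic_irreducible (F := F) r
  have hrq : ¬ r ∣ Fintype.card F := by
    obtain ⟨k, -, hk⟩ := FiniteField.card F p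
    intro hd
    rw [hk] at hd
    have h1 := hr.dvd_of_dvd_pow hd
    exact hrp ((Nat.prime_dvd_prime_iff_eq hr hp).1 h1)
  have hsQ : HasSign (⇑Q) m ε := hs.congr_fun hQf
  have hmemQ : ∀ g : ↥(Cfsg.isometryGroup F Qf), g.1 ∈ Cfsg.isometryGroup F ⇑Q := by
    intro g u _
    show Q _ = Q u
    rw [hQf, hQf]
    exact g.2 u u
  have hdual : ∀ g : ↥(Cfsg.isometryGroup F Qf),
      dual (RingEquiv.refl F) ((g : Matrix.GeneralLinearGroup ι F) : Matrix ι ι F).charpoly =
        ((g : Matrix.GeneralLinearGroup ι F) : Matrix ι ι F).charpoly := by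
    intro g
    exact OrthOrd.dual_charpoly_of_pres _ (JType.gram Q) (JType.gram_isUnit_det _ hQ)
      (JType.gram_pres _ g.1 (hmemQ g)) (Units.isUnit g.1)
  have hpow : ∀ (g : ↥(Cfsg.isometryGroup F Qf)) (k : ℕ),
      (((g ^ k : ↥(Cfsg.isometryGroup F Qf)) : Matrix.GeneralLinearGroup ι F) : Matrix ι ι F) =
        ((g : Matrix.GeneralLinearGroup ι F) : Matrix ι ι F) ^ k := by
    intro g k
    rw [Subgroup.coe_pow, Units.val_pow_eq_pow_val]
  have hone : ∀ g : ↥(Cfsg.isometryGroup F Qf),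
      ((g : Matrix.GeneralLinearGroup ι F) : Matrix ι ι F) = 1 → g = 1 := by
    intro g h
    apply Subtype.ext
    apply Units.ext
    exact h
  have hgoodOf : ∀ g : ↥(Cfsg.isometryGroup F Qf), orderOf g = r →
      GoodP (cycFactors F r) (X - 1) (dual (RingEquiv.refl F)) (2 * m)
        ((g : Matrix.GeneralLinearGroup ι F) : Matrix ι ι F).charpoly ∧
      ((g : Matrix.GeneralLinearGroup ι F) : Matrix ι ι F).charpoly ≠ (X - 1) ^ (2 * m) ∧
      ((X - 1 : F[X]) ∣ ((g : Matrix.GeneralLinearGroup ι F) : Matrix ι ι F).charpoly ∨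
        ((Fintype.card F : ℕ) : ZMod r) ^ m = ((ε : ℤ) : ZMod r)) := by
    intro g ho
    have hgr : ((g : Matrix.GeneralLinearGroup ι F) : Matrix ι ι F) ^ r = 1 := by
      rw [← hpow, ← ho, pow_orderOf_eq_one]
      rfl
    refine ⟨⟨Matrix.charpoly_monic _, ?_, ?_, hdual g⟩, ?_, ?_⟩
    · rw [Matrix.charpoly_natDegree_eq_dim, hι]
    · intro P hPm hPi hd
      exact good_charpoly' r hr _ hgr P hPm hPi hd
    · intro hc
      have h1 := eq_one_of_charpoly' p _ r hcop hgr (2 * m) hc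
      have h2' := hone g h1
      rw [h2', orderOf_one] at ho
      exact hr.ne_one ho.symm
    · by_cases hd : (X - 1 : F[X]) ∣ ((g : Matrix.GeneralLinearGroup ι F) : Matrix ι ι F).charpoly
      · exact Or.inl hd
      · right
        apply pow_eq_sign Q hsQ
          (Matrix.toLin' ((g : Matrix.GeneralLinearGroup ι F) : Matrix ι ι F)) _ r _ _ hrq
        · intro v
          rw [Matrix.toLin'_apply]
          exact hmemQ g v v
        · rw [← Matrix.toLin'_pow, hgr, Matrix.toLin'_one]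
          rfl
        · intro v hv
          by_contra hv0
          apply hd
          rw [← exists_fixed_iff]
          refine ⟨v, hv0, ?_⟩
          rw [← Matrix.toLin'_apply]
          exact hv
  let Φ : {C : ConjClasses ↥(Cfsg.isometryGroup F Qf) //
      ∃ g : ↥(Cfsg.isometryGroup F Qf), ConjClasses.mk g = C ∧ orderOf g = r} →
      {f : F[X] // GoodP (cycFactors F r) (X - 1) (dual (RingEquiv.refl F)) (2 * m) f ∧
        f ≠ (X - 1) ^ (2 * m) ∧
        ((X - 1 : F[X]) ∣ f ∨ ((Fintype.card F : ℕ) : ZMod r) ^ m = ((ε : ℤ) : ZMod r))} :=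
    fun C => ⟨cpI Qf C.1, by
      obtain ⟨g, hg, ho⟩ := C.2
      rw [← hg, cpI_mk]
      exact hgoodOf g ho⟩
  apply Nat.card_congr
  apply Equiv.ofBijective Φ
  constructor
  · rintro ⟨C₁, g₁, rfl, h₁⟩ ⟨C₂, g₂, rfl, h₂⟩ h
    apply Subtype.ext
    have hc : ((g₁ : Matrix.GeneralLinearGroup ι F) : Matrix ι ι F).charpoly =
        ((g₂ : Matrix.GeneralLinearGroup ι F) : Matrix ι ι F).charpoly :=
      congrArg Subtype.val h
    show ConjClasses.mk g₁ = ConjClasses.mk g₂
    rw [ConjClasses.mk_eq_mk_iff_isConj]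
    exact isConj_of_charpoly_gen p Qf Q hQf hQ r hodd hcop g₁ g₂ h₁ h₂ hc
  · rintro ⟨f, ⟨hm, hn, hgood, hd⟩, hne, hcond⟩
    have h0 : f.coeff 0 ≠ 0 := by
      intro h0
      have hX : (X : F[X]) ∣ f := X_dvd_iff.mpr h0
      have hXT := hgood X monic_X irreducible_X hX
      rw [mem_T_iff r hr X monic_X irreducible_X, X_dvd_iff] at hXT
      simp at hXT
      rw [if_neg hr.ne_zero.symm] at hXT
      simp at hXT
    have hrev := Cfsg.Agent.S2645.reverse_eq_of_dual r hr hr2 f hm m hn hgood h0 hd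
    obtain ⟨g₀, hg₀⟩ := Cfsg.Agent.S2645.exists_sp_of_palindromic m f hm hn hrev
    obtain ⟨s, hs', hsc'⟩ := exists_pprime_part p g₀
    have hsc : (s : Matrix (Fin m ⊕ Fin m) (Fin m ⊕ Fin m) F).charpoly = f := hsc'.trans hg₀
    have hsk : (s : Matrix (Fin m ⊕ Fin m) (Fin m ⊕ Fin m) F) ^ orderOf s = 1 := by
      have : ((s ^ orderOf s : symplecticGroup (Fin m) F) :
          Matrix (Fin m ⊕ Fin m) (Fin m ⊕ Fin m) F) =
          (s : Matrix (Fin m ⊕ Fin m) (Fin m ⊕ Fin m) F) ^ orderOf s := rfl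
      rw [← this, pow_orderOf_eq_one]
      rfl
    obtain ⟨e, he⟩ := exists_expProd _ (2 * m) f hn hm hgood
    have hdvd : f ∣ (X ^ r - 1) ^ (∑ P ∈ insert (X - 1 : F[X]) (cycFactors F r), e P) := by
      rw [he]
      exact expProd_dvd_pow _ e _ fun P hP => (mem_T_iff r hr P (hT P hP).1 (hT P hP).2).mp hP
    have hsr : (s : Matrix (Fin m ⊕ Fin m) (Fin m ⊕ Fin m) F) ^ r = 1 :=
      pow_eq_one_of_charpoly p _ (orderOf s) hs' hsk r _ (by rw [hsc]; exact hdvd)
    have hdimS : Fintype.card (Fin m ⊕ Fin m) = 2 * m := by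
      rw [Fintype.card_sum, Fintype.card_fin, two_mul]
    have hs1 : (s : Matrix (Fin m ⊕ Fin m) (Fin m ⊕ Fin m) F) ≠ 1 := by
      intro h1
      apply hne
      rw [← hsc, h1, Matrix.charpoly_one, hdimS]
    obtain ⟨A, hA1, hA2, hA3⟩ := hex (s : Matrix (Fin m ⊕ Fin m) (Fin m ⊕ Fin m) F) s.2 hsr hs1
      (by rw [hsc]; exact hcond)
    have hrpos : 0 < r := hr.pos
    let Au : Matrix.GeneralLinearGroup ι F :=
      ⟨A, A ^ (r - 1), by rw [← pow_succ', Nat.sub_add_cancel hrpos, hA3],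
        by rw [← pow_succ, Nat.sub_add_cancel hrpos, hA3]⟩
    have hAmem : Au ∈ Cfsg.isometryGroup F Qf := by
      intro u _
      exact hA1 u
    let g : ↥(Cfsg.isometryGroup F Qf) := ⟨Au, hAmem⟩
    have hgA : ((g : Matrix.GeneralLinearGroup ι F) : Matrix ι ι F) = A := rfl
    have hgr : g ^ r = 1 := by
      apply hone
      rw [hpow, hgA, hA3]
    have hg1 : g ≠ 1 := by
      intro h1
      apply hne
      rw [← hsc, ← hA2, ← hgA, h1]
      show (1 : Matrix ι ι F).charpoly = _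
      rw [Matrix.charpoly_one, hι]
    have ho : orderOf g = r := orderOf_eq_prime hgr hg1
    refine ⟨⟨ConjClasses.mk g, g, rfl, ho⟩, ?_⟩
    apply Subtype.ext
    show cpI Qf (ConjClasses.mk g) = f
    rw [cpI_mk, hgA, hA2, hsc]

end

section goodcount
open scoped Classical

variable {K : Type*} [Field K]

/-- good polynomials that are divisible by `P₀` or satisfy a fixed condition -/
theorem card_good_cond (S : Finset K[X]) (P₀ : K[X]) (star : K[X] → K[X]) (hP₀m : P₀.Monic)
    (hP₀i : Irreducible P₀) (hd0 : P₀.natDegree = 1)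
    (star_mul : ∀ f g, star (f * g) = star f * star g) (star_P₀ : star P₀ = P₀) (n : ℕ)
    (hn : 1 ≤ n) (cond : Prop) :
    Nat.card {f : K[X] // GoodP S P₀ star n f ∧ f ≠ P₀ ^ n ∧ (P₀ ∣ f ∨ cond)} =
      if cond then Nat.card {f : K[X] // GoodP S P₀ star n f ∧ f ≠ P₀ ^ n}
      else Nat.card {f : K[X] // GoodP S P₀ star (n - 1) f ∧ f ≠ P₀ ^ (n - 1)} := by
  have hP₀0 : P₀ ≠ 0 := hP₀m.ne_zero
  have hpowsucc : P₀ ^ n = P₀ * P₀ ^ (n - 1) := by
    rw [← pow_succ', Nat.sub_add_cancel hn]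
  by_cases hc : cond
  · rw [if_pos hc]
    apply Nat.card_congr
    apply Equiv.subtypeEquivRight
    intro f
    constructor
    · rintro ⟨h1, h2, -⟩
      exact ⟨h1, h2⟩
    · rintro ⟨h1, h2⟩
      exact ⟨h1, h2, Or.inr hc⟩
  · rw [if_neg hc]
    symm
    let Ψ : {f : K[X] // GoodP S P₀ star (n - 1) f ∧ f ≠ P₀ ^ (n - 1)} →
        {f : K[X] // GoodP S P₀ star n f ∧ f ≠ P₀ ^ n ∧ (P₀ ∣ f ∨ cond)} :=
      fun f => ⟨P₀ * f.1, by
        obtain ⟨f, ⟨hfm, hfn, hfg, hfs⟩, hfne⟩ := f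
        refine ⟨⟨hP₀m.mul hfm, ?_, ?_, ?_⟩, ?_, Or.inl (dvd_mul_right _ _)⟩
        · show (P₀ * f).natDegree = n
          rw [hP₀m.natDegree_mul hfm, hd0, hfn]
          omega
        · intro P hPm hPi hPd
          have hPd' : P ∣ P₀ * f := hPd
          rcases hPi.prime.dvd_or_dvd hPd' with h | h
          · have := eq_of_monic_of_associated hPm hP₀m (hPi.associated_of_dvd hP₀i h)
            rw [this]
            exact Finset.mem_insert_self _ _
          · exact hfg P hPm hPi h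
        · show star (P₀ * f) = P₀ * f
          rw [star_mul, star_P₀, hfs]
        · intro h
          apply hfne
          have h' : P₀ * f = P₀ ^ n := h
          rw [hpowsucc] at h'
          exact mul_left_cancel₀ hP₀0 h'⟩
    apply Nat.card_congr
    apply Equiv.ofBijective Ψ
    constructor
    · intro f g h
      apply Subtype.ext
      have : P₀ * f.1 = P₀ * g.1 := congrArg Subtype.val h
      exact mul_left_cancel₀ hP₀0 this
    · rintro ⟨f, ⟨hfm, hfn, hfg, hfs⟩, hfne, hfc⟩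
      have hdvd : P₀ ∣ f := hfc.resolve_right hc
      obtain ⟨f', rfl⟩ := hdvd
      have hf'm : f'.Monic := hP₀m.of_mul_monic_left hfm
      refine ⟨⟨f', ⟨hf'm, ?_, ?_, ?_⟩, ?_⟩, rfl⟩
      · rw [hP₀m.natDegree_mul hf'm, hd0] at hfn
        omega
      · intro P hPm hPi hPd
        exact hfg P hPm hPi (hPd.mul_left _)
      · rw [star_mul, star_P₀] at hfs
        exact mul_left_cancel₀ hP₀0 hfs
      · intro h
        apply hfne
        rw [h, hpowsucc]

end goodcount

section arith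

theorem pred_div (n d : ℕ) (hn : 1 ≤ n) (hd : 1 ≤ d) :
    (n - 1) / d = if d ∣ n then n / d - 1 else n / d := by
  have h1 := Nat.div_add_mod n d
  have h2 := Nat.mod_lt n hd
  obtain ⟨k, hk⟩ : ∃ k, k = n / d := ⟨_, rfl⟩
  obtain ⟨ρ, hρ⟩ : ∃ ρ, ρ = n % d := ⟨_, rfl⟩
  rw [← hk, ← hρ] at h1
  rw [← hρ] at h2
  rw [← hk]
  obtain ⟨A, hA⟩ : ∃ A, A = d * k := ⟨_, rfl⟩
  rw [← hA] at h1
  by_cases hdvd : d ∣ n
  · rw [if_pos hdvd]
    have hρ0 : ρ = 0 := by
      rw [hρ]
      exact (Nat.dvd_iff_mod_eq_zero).1 hdvd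
    have hk1 : 1 ≤ k := by
      rcases Nat.eq_zero_or_pos k with hk0 | hk0
      · exfalso
        rw [hk0, mul_zero] at hA
        omega
      · exact hk0
    apply Nat.div_eq_of_lt_le
    · have h3 : (k - 1) * d = A - d := by
        rw [hA, Nat.sub_mul, one_mul, mul_comm]
      rw [h3]
      have h4 : d ≤ A := by
        rw [hA]
        exact Nat.le_mul_of_pos_right d hk1
      omega
    · have h3 : (k - 1 + 1) * d = A := by
        rw [Nat.sub_add_cancel hk1, hA, mul_comm]
      rw [h3]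
      omega
  · rw [if_neg hdvd]
    have hρ0 : ρ ≠ 0 := by
      intro h
      apply hdvd
      rw [hρ] at h
      exact (Nat.dvd_iff_mod_eq_zero).2 h
    apply Nat.div_eq_of_lt_le
    · rw [mul_comm, ← hA]
      omega
    · have h3 : (k + 1) * d = A + d := by
        rw [hA]
        ring
      rw [h3]
      omega

theorem choose_pascal_sub (N t : ℕ) (hN : 1 ≤ N) (ht : 1 ≤ t) :
    Nat.choose (N + t) t - 1 - Nat.choose (N + t - 1) (t - 1) = Nat.choose (N - 1 + t) t - 1 := by
  obtain ⟨t', rfl⟩ : ∃ t', t = t' + 1 := ⟨t - 1, by omega⟩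
  obtain ⟨N', rfl⟩ : ∃ N', N = N' + 1 := ⟨N - 1, by omega⟩
  have h := Nat.choose_succ_succ' (N' + t' + 1) t'
  have e1 : N' + 1 + (t' + 1) = N' + t' + 1 + 1 := by omega
  have e2 : N' + 1 + (t' + 1) - 1 = N' + t' + 1 := by omega
  have e3 : N' + 1 - 1 + (t' + 1) = N' + t' + 1 := by omega
  have e4 : t' + 1 - 1 = t' := by omega
  rw [e2, e3, e4, e1, h]
  omega

theorem odd_div_of_dvd_two_mul {i m : ℕ} (hi : 0 < i) (h2 : i ∣ 2 * m) (h1 : ¬ i ∣ m) :
    Odd (2 * m / i) := by
  obtain ⟨N, hN⟩ := h2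
  rw [hN, Nat.mul_div_cancel_left N hi]
  rcases Nat.even_or_odd N with ⟨N', hN'⟩ | h
  · exfalso
    apply h1
    refine ⟨N', ?_⟩
    rw [hN'] at hN
    have : 2 * m = 2 * (i * N') := by rw [hN]; ring
    omega
  · exact h

theorem even_div_of_dvd {i m : ℕ} (hi : 0 < i) (h1 : i ∣ m) : Even (2 * m / i) := by
  obtain ⟨N, rfl⟩ := h1
  have : 2 * (i * N) = i * (2 * N) := by ring
  rw [this, Nat.mul_div_cancel_left _ hi]
  exact even_two_mul N

end arith

end Cfsg.Agent.Lib.Helper14.OrthEven
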