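import Mathlib
import Cfsg.Agent.Lib.Helper14.PSU3Basic
import Cfsg.Agent.Lib.Helper6.Unitary2

set_option autoImplicit false
set_option linter.unusedSectionVars false
set_option linter.unusedVariables false

namespace Cfsg.Agent.Lib.Helper14.PSU3

open Cfsg Cfsg.Agent.Lib.Helper6 Cfsg.Agent.Lib.Helper16 Matrix Polynomial Module

variable {F : Type*} [Field F] [Fintype F] {q : ℕ} (hF : Fintype.card F = q ^ 2)

include hF in
/-- an element of `SU₃` all of whose scalar powers have exponent divisible by `N` yields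
elements of all orders dividing `N` in `PSU₃` -/
theorem range_of_lower (g : SU 3 F q) (N : ℕ)
    (h : ∀ (k : ℕ) (c : F), mat g ^ k = c • 1 → N ∣ k) (s : ℕ) (hs : s ∣ N) :
    s ∈ Set.range (orderOf : PSU 3 F q → ℕ) := by
  classical
  set x : PSU 3 F q := QuotientGroup.mk g with hx
  have ho : 0 < orderOf x := orderOf_pos x
  obtain ⟨c, hc⟩ := exists_scalar_of_mk_pow hF g (orderOf x) (pow_orderOf_eq_one x)
  have hN : N ∣ orderOf x := h _ c hc
  have hso : s ∣ orderOf x := hs.trans hN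
  obtain ⟨m, hm⟩ := hso
  have hm0 : m ≠ 0 := by
    rintro rfl
    rw [mul_zero] at hm
    omega
  have hs0 : s ≠ 0 := by
    rintro rfl
    rw [zero_mul] at hm
    omega
  refine ⟨x ^ m, ?_⟩
  rw [orderOf_pow_of_dvd hm0 ⟨s, by rw [hm, mul_comm]⟩, hm,
    Nat.mul_div_cancel _ (Nat.pos_of_ne_zero hm0)]

include hF in
/-- transport of an isometry of a Hermitian space of dimension three to `SU₃` -/
theorem transport {U : Type*} [AddCommGroup U] [Module F U] [FiniteDimensional F U]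
    (B : U →ₛₗ[conjQ hF] U →ₗ[F] F) (hS : B.IsSymm) (hN : ∀ u, (∀ v, B u v = 0) → u = 0)
    (hk : finrank F U = 3) (T : U →ₗ[F] U) (hT : ∀ x y, B (T x) (T y) = B x y)
    (hdet : LinearMap.det T = 1) :
    ∃ g : SU 3 F q, ∀ (k : ℕ) (c : F), mat g ^ k = c • 1 → ∀ u, (T ^ k) u = c • u := by
  classical
  obtain ⟨φ, hφ⟩ := exists_std_herm hF B hS hN 3 hk
  set T' : (Fin 3 → F) →ₗ[F] (Fin 3 → F) :=
    φ.toLinearMap ∘ₗ T ∘ₗ φ.symm.toLinearMap with hT'
  set M : Matrix (Fin 3) (Fin 3) F := LinearMap.toMatrix' T' with hM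
  have hMv : ∀ x, M *ᵥ x = φ (T (φ.symm x)) := by
    intro x
    rw [hM, LinearMap.toMatrix'_mulVec]
    rfl
  have hpres : ∀ x y, hermForm 3 F q (M *ᵥ x) (M *ᵥ y) = hermForm 3 F q x y := by
    intro x y
    rw [hMv, hMv, hφ, hT, ← hφ, LinearEquiv.apply_symm_apply, LinearEquiv.apply_symm_apply]
  have hdetM : M.det = 1 := by
    rw [hM, LinearMap.det_toMatrix']
    rw [hT', LinearMap.det_conj, hdet]
  obtain ⟨g, hg⟩ := exists_SU_of_pres M hpres hdetM
  refine ⟨g, ?_⟩
  have hg' : mat g = M := hg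
  have hpow : ∀ (k : ℕ) (u : U), (M ^ k) *ᵥ (φ u) = φ ((T ^ k) u) := by
    intro k
    induction k with
    | zero => intro u; simp
    | succ k ih =>
      intro u
      rw [pow_succ, ← Matrix.mulVec_mulVec, hMv, LinearEquiv.symm_apply_apply, ih, pow_succ]
      rfl
  intro k c hkc u
  rw [hg'] at hkc
  have := hpow k u
  rw [hkc, Matrix.smul_mulVec, Matrix.one_mulVec, ← map_smul] at this
  exact (φ.injective this).symm

end Cfsg.Agent.Lib.Helper14.PSU3
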