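import Mathlib
import Cfsg.Agent.Lib.Helper14.PSU3Basic

set_option autoImplicit false
set_option linter.unusedSectionVars false
set_option linter.unusedVariables false

namespace Cfsg.Agent.Lib.Helper14.PSU3

open Cfsg Cfsg.Agent.Lib.Helper6 Cfsg.Agent.Lib.Helper16 Matrix Polynomial

section poly

variable {F : Type*} [Field F]

/-- Cayley–Hamilton consequence -/
lemma pow_eq_smul_of_dvd (M : Matrix (Fin 3) (Fin 3) F) (k : ℕ) (s : F)
    (h : M.charpoly ∣ X ^ k - C s) : M ^ k = s • 1 := by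
  obtain ⟨r, hr⟩ := h
  have := congrArg (aeval M) hr
  rw [map_mul, Matrix.aeval_self_charpoly, zero_mul, map_sub, map_pow, aeval_X, aeval_C,
    Algebra.algebraMap_eq_smul_one] at this
  exact sub_eq_zero.mp this

lemma isRoot_pow_sub_C (k : ℕ) (s u : F) : (X ^ k - C s : F[X]).IsRoot u ↔ u ^ k = s := by
  simp [IsRoot, sub_eq_zero]

lemma prod_two_dvd {u v : F} (huv : u ≠ v) (P : F[X]) (hu : P.IsRoot u) (hv : P.IsRoot v) :
    (X - C u) * (X - C v) ∣ P := by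
  have h1 : IsCoprime (X - C u) (X - C v) :=
    isCoprime_X_sub_C_of_isUnit_sub (sub_ne_zero.mpr huv).isUnit
  exact h1.mul_dvd (dvd_iff_isRoot.mpr hu) (dvd_iff_isRoot.mpr hv)

lemma prod_three_dvd {u v w : F} (huv : u ≠ v) (huw : u ≠ w) (hvw : v ≠ w) (P : F[X])
    (hu : P.IsRoot u) (hv : P.IsRoot v) (hw : P.IsRoot w) :
    (X - C u) * (X - C v) * (X - C w) ∣ P := by
  have h1 : IsCoprime (X - C u) (X - C w) :=
    isCoprime_X_sub_C_of_isUnit_sub (sub_ne_zero.mpr huw).isUnit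
  have h2 : IsCoprime (X - C v) (X - C w) :=
    isCoprime_X_sub_C_of_isUnit_sub (sub_ne_zero.mpr hvw).isUnit
  exact (h1.mul_left h2).mul_dvd (prod_two_dvd huv P hu hv) (dvd_iff_isRoot.mpr hw)

end poly

section arith

variable {F : Type*} [Field F] [Fintype F] {q : ℕ} (hF : Fintype.card F = q ^ 2)

include hF in
lemma pow_q_sq (x : F) : x ^ (q ^ 2) = x := by
  rw [← hF]; exact FiniteField.pow_card x

include hF in
lemma pow_q_q (x : F) : (x ^ q) ^ q = x := by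
  rw [← pow_mul, ← pow_two, pow_q_sq hF]

include hF in
lemma pow_q_sq_sub_one {x : F} (hx : x ≠ 0) : x ^ (q ^ 2 - 1) = 1 := by
  rw [← hF]; exact FiniteField.pow_card_sub_one_eq_one x hx

include hF in
lemma exists_q_eq_pow (p : ℕ) [Fact p.Prime] [CharP F p] : ∃ j, q = p ^ j := by
  obtain ⟨n, -, hn⟩ := FiniteField.card F p
  rw [hF] at hn
  have hq : q ∣ p ^ (n : ℕ) := by rw [← hn]; exact dvd_pow_self q two_ne_zero
  obtain ⟨j, -, hj⟩ := (Nat.dvd_prime_pow (Fact.out : p.Prime)).mp hq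
  exact ⟨j, hj⟩

include hF in
lemma q_odd (p : ℕ) [Fact p.Prime] [CharP F p] (hp : p ≠ 2) : Odd q := by
  obtain ⟨j, hj⟩ := exists_q_eq_pow hF p
  rw [hj]
  exact ((Fact.out : p.Prime).odd_of_ne_two hp).pow

lemma d_cases (q : ℕ) : Nat.gcd 3 (q + 1) = 1 ∨ Nat.gcd 3 (q + 1) = 3 :=
  (Nat.dvd_prime Nat.prime_three).mp (Nat.gcd_dvd_left 3 (q + 1))

end arith

end Cfsg.Agent.Lib.Helper14.PSU3
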