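import Mathlib
import Cfsg.Agent.Lib.Helper14.PSU3Lower1
import Cfsg.Agent.Lib.Helper14.PSU3Upper1

set_option autoImplicit false
set_option linter.unusedSectionVars false
set_option linter.unusedVariables false

namespace Cfsg.Agent.Lib.Helper14.PSU3

open Cfsg Cfsg.Agent.Lib.Helper6 Cfsg.Agent.Lib.Helper16 Matrix Polynomial Module

/-- cancelling the gcd in a divisibility -/
lemma div_dvd_of_dvd_mul {a b k d : ℕ} (ha : 0 < a) (h : a ∣ b * k) (hg : Nat.gcd a b ∣ d)
    (hd : d ∣ a) : a / d ∣ k := by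
  have hg0 : 0 < Nat.gcd a b := Nat.gcd_pos_of_pos_left _ ha
  obtain ⟨a', ha'⟩ := Nat.gcd_dvd_left a b
  obtain ⟨b', hb'⟩ := Nat.gcd_dvd_right a b
  have hcop : Nat.Coprime (a / Nat.gcd a b) (b / Nat.gcd a b) := Nat.coprime_div_gcd_div_gcd hg0
  have e1 : a / Nat.gcd a b = a' := Nat.div_eq_of_eq_mul_right hg0 ha'
  have e2 : b / Nat.gcd a b = b' := Nat.div_eq_of_eq_mul_right hg0 hb'
  rw [e1, e2] at hcop
  have h1 : a' ∣ b' * k := by
    have : Nat.gcd a b * a' ∣ Nat.gcd a b * (b' * k) := by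
      rw [← ha', ← mul_assoc, ← hb']; exact h
    exact Nat.dvd_of_mul_dvd_mul_left hg0 this
  have h2 : a' ∣ k := hcop.dvd_of_dvd_mul_left h1
  have h3 : a / d ∣ a / Nat.gcd a b := Nat.div_dvd_div_left hd hg
  rw [e1] at h3
  exact h3.trans h2

variable {F : Type*} [Field F] [Fintype F] {q : ℕ} (hF : Fintype.card F = q ^ 2)

/-- the values of the hyperbolic Hermitian form on `F³` -/
noncomputable def hypf (y x : Fin 3 → F) : F :=
  conjQ hF (y 0) * x 1 + conjQ hF (y 1) * x 0 + conjQ hF (y 2) * x 2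

/-- the hyperbolic Hermitian form on `F³` -/
noncomputable def hypB : (Fin 3 → F) →ₛₗ[conjQ hF] (Fin 3 → F) →ₗ[F] F :=
  LinearMap.mk₂'ₛₗ (conjQ hF) (RingHom.id F) (hypf hF)
    (fun y y' x => by simp only [hypf, Pi.add_apply, map_add]; ring)
    (fun c y x => by
      simp only [hypf, Pi.smul_apply, smul_eq_mul, map_mul]; ring)
    (fun y x x' => by simp only [hypf, Pi.add_apply]; ring)
    (fun c y x => by
      simp only [hypf, Pi.smul_apply, smul_eq_mul, RingHom.id_apply]; ring)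

lemma hypB_apply (y x : Fin 3 → F) : hypB hF y x = hypf hF y x := rfl

lemma hypB_symm : (hypB hF).IsSymm :=
  ⟨fun y x => by
    simp only [hypB_apply, hypf, map_add, map_mul, conjQ_conjQ]
    ring⟩

lemma hypB_nondeg (u : Fin 3 → F) (h : ∀ v, hypB hF u v = 0) : u = 0 := by
  funext i
  fin_cases i
  · have := h (Pi.single 1 1)
    simp [hypB_apply, hypf] at this
    exact this
  · have := h (Pi.single 0 1)
    simp [hypB_apply, hypf] at this
    exact this
  · have := h (Pi.single 2 1)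
    simp [hypB_apply, hypf] at this
    exact this

include hF in
/-- transport of a matrix preserving the hyperbolic form to `SU₃` -/
theorem transport_hyp (A : Matrix (Fin 3) (Fin 3) F)
    (hA : ∀ y x, hypf hF (A *ᵥ y) (A *ᵥ x) = hypf hF y x) (hdet : A.det = 1) :
    ∃ g : SU 3 F q, ∀ (k : ℕ) (c : F), mat g ^ k = c • 1 → A ^ k = c • 1 := by
  classical
  obtain ⟨g, hg⟩ := transport hF (hypB hF) (hypB_symm hF) (hypB_nondeg hF)
    (by simp) (Matrix.toLin' A)
    (fun x y => by
      rw [hypB_apply, hypB_apply, Matrix.toLin'_apply, Matrix.toLin'_apply, hA])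
    (by rw [LinearMap.det_toLin', hdet])
  refine ⟨g, fun k c hkc => ?_⟩
  have h1 := hg k c hkc
  apply Matrix.toLin'.injective
  apply LinearMap.ext
  intro u
  rw [Matrix.toLin'_pow, h1]
  simp

end Cfsg.Agent.Lib.Helper14.PSU3
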