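import Mathlib
import Cfsg.Agent.Lib.Helper14.PSU3Lower2

set_option autoImplicit false
set_option linter.unusedSectionVars false
set_option linter.unusedVariables false

namespace Cfsg.Agent.Lib.Helper14.PSU3

open Cfsg Cfsg.Agent.Lib.Helper6 Cfsg.Agent.Lib.Helper16 Matrix Polynomial Module

variable {F : Type*} [Field F] [Fintype F] {q : ℕ} (hF : Fintype.card F = q ^ 2)

include hF in
/-- a primitive `(q+1)`-th root of unity in `F` -/
lemma exists_alpha : ∃ α : F, α ≠ 0 ∧ α ^ (q + 1) = 1 ∧ ∀ n : ℕ, α ^ n = 1 → (q + 1) ∣ n := by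
  obtain ⟨ζ, hζ⟩ := exists_prim_root hF
  refine ⟨(ζ : F), ζ.ne_zero, ?_, ?_⟩
  · have := congrArg Units.val hζ.pow_eq_one
    simpa using this
  · intro n hn
    apply (hζ.pow_eq_one_iff_dvd n).mp
    apply Units.ext
    simpa using hn

include hF in
/-- a generator of the multiplicative group of `F` -/
lemma exists_mu : ∃ μ : F, μ ≠ 0 ∧ ∀ n : ℕ, μ ^ n = 1 → (q ^ 2 - 1) ∣ n := by
  obtain ⟨ζ, hζ⟩ := IsCyclic.exists_generator (α := Fˣ)
  have ho : orderOf ζ = q ^ 2 - 1 := by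
    rw [orderOf_eq_card_of_forall_mem_zpowers hζ, Nat.card_units, Nat.card_eq_fintype_card, hF]
  refine ⟨(ζ : F), ζ.ne_zero, ?_⟩
  intro n hn
  rw [← ho]
  apply orderOf_dvd_of_pow_eq_one
  apply Units.ext
  simpa using hn

include hF in
/-- an element of order `q + 1` -/
theorem exists_lower_a :
    ∃ g : SU 3 F q, ∀ (k : ℕ) (c : F), mat g ^ k = c • 1 → (q + 1) ∣ k := by
  classical
  obtain ⟨α, hα0, hα, hαn⟩ := exists_alpha hF
  set d : Fin 3 → F := ![α, α⁻¹, 1] with hd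
  have hd1 : ∀ i, d i ^ (q + 1) = 1 := by
    intro i
    fin_cases i
    · simpa [hd] using hα
    · simp [hd, inv_pow, hα]
    · simp [hd]
  have hdet : (Matrix.diagonal d).det = 1 := by
    rw [Matrix.det_diagonal, Fin.prod_univ_three]
    simp [hd, hα0]
  obtain ⟨g, hg⟩ := exists_SU_of_pres (Matrix.diagonal d) (diag_pres d hd1) hdet
  refine ⟨g, fun k c hkc => ?_⟩
  have hg' : mat g = Matrix.diagonal d := hg
  rw [hg', Matrix.diagonal_pow] at hkc
  have h2 := congrFun (congrFun hkc 2) 2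
  have h0 := congrFun (congrFun hkc 0) 0
  simp [hd] at h2 h0
  apply hαn
  rw [h0, ← h2]

/-- arithmetic for the split torus -/
lemma gcd_c (q : ℕ) (hq : 3 ≤ q) : Nat.gcd (q ^ 2 - 1) (q - 2) ∣ Nat.gcd 3 (q + 1) := by
  obtain ⟨r, rfl⟩ : ∃ r, q = r + 2 := ⟨q - 2, by omega⟩
  have e1 : (r + 2) ^ 2 - 1 = r * (r + 4) + 3 := by
    have : (r + 2) ^ 2 = r * (r + 4) + 3 + 1 := by ring
    rw [this]; rfl
  have e2 : r + 2 - 2 = r := by omega
  rw [e1, e2]
  set g := Nat.gcd (r * (r + 4) + 3) r with hg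
  have h1 : g ∣ r := Nat.gcd_dvd_right _ _
  have h2 : g ∣ r * (r + 4) + 3 := Nat.gcd_dvd_left _ _
  have h3 : g ∣ 3 := (Nat.dvd_add_right (h1.mul_right (r + 4))).mp h2
  have h4 : g ∣ r + 2 + 1 := by
    have : r + 2 + 1 = r + 3 := by ring
    rw [this]
    exact Nat.dvd_add h1 h3
  exact Nat.dvd_gcd h3 h4

lemma d_dvd_sq_sub_one (q : ℕ) (hq : 1 ≤ q) : Nat.gcd 3 (q + 1) ∣ q ^ 2 - 1 := by
  have h1 : Nat.gcd 3 (q + 1) ∣ q + 1 := Nat.gcd_dvd_right _ _
  have h2 : q ^ 2 - 1 = (q + 1) * (q - 1) := by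
    obtain ⟨r, rfl⟩ : ∃ r, q = r + 1 := ⟨q - 1, by omega⟩
    have : (r + 1) ^ 2 = (r + 1 + 1) * r + 1 := by ring
    rw [this]; rfl
  rw [h2]
  exact h1.mul_right _

include hF in
/-- an element of order `(q² - 1) / d` -/
theorem exists_lower_c (hq3 : 3 ≤ q) :
    ∃ g : SU 3 F q, ∀ (k : ℕ) (c : F), mat g ^ k = c • 1 →
      (q ^ 2 - 1) / Nat.gcd 3 (q + 1) ∣ k := by
  classical
  obtain ⟨μ, hμ0, hμn⟩ := exists_mu hF
  obtain ⟨ν, hν⟩ : ∃ ν : F, ν = μ ^ q := ⟨_, rfl⟩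
  have hν0 : ν ≠ 0 := by rw [hν]; exact pow_ne_zero _ hμ0
  have hνq : ν ^ q = μ := by rw [hν, pow_q_q hF]
  set d : Fin 3 → F := ![μ, ν⁻¹, ν * μ⁻¹] with hd
  have hdet : (Matrix.diagonal d).det = 1 := by
    rw [Matrix.det_diagonal, Fin.prod_univ_three]
    simp [hd]
    field_simp
  have hA : ∀ y x, hypf hF (Matrix.diagonal d *ᵥ y) (Matrix.diagonal d *ᵥ x) = hypf hF y x := by
    intro y x
    simp only [hypf, Matrix.mulVec_diagonal, map_mul, conjQ_apply]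
    have e0 : d 0 = μ := rfl
    have e1 : d 1 = ν⁻¹ := rfl
    have e2 : d 2 = ν * μ⁻¹ := rfl
    rw [e0, e1, e2, mul_pow, inv_pow, inv_pow, hνq, ← hν]
    field_simp
  obtain ⟨g, hg⟩ := transport_hyp hF (Matrix.diagonal d) hA hdet
  refine ⟨g, fun k c hkc => ?_⟩
  have h1 := hg k c hkc
  rw [Matrix.diagonal_pow] at h1
  have h0 := congrFun (congrFun h1 0) 0
  have h2 := congrFun (congrFun h1 2) 2
  simp [hd] at h0 h2
  -- μ^k = c and (ν μ⁻¹)^k = c
  have h3 : μ ^ ((q - 2) * k) = 1 := by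
    have h4 : μ ^ (2 * k) * μ ^ ((q - 2) * k) = μ ^ (2 * k) * 1 := by
      rw [← pow_add, mul_one]
      have : 2 * k + (q - 2) * k = q * k := by
        obtain ⟨r, rfl⟩ : ∃ r, q = r + 2 := ⟨q - 2, by omega⟩
        simp only [Nat.add_sub_cancel]; ring
      rw [this, pow_mul, ← hν]
      have h5 : ν ^ k = c * μ ^ k := by
        rw [← h2, mul_pow, inv_pow]
        field_simp
      rw [h5, ← h0]; ring
    exact mul_left_cancel₀ (pow_ne_zero _ hμ0) h4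
  have h6 := hμn _ h3
  have hpos : 0 < q ^ 2 - 1 := by
    have : 9 ≤ q ^ 2 := by nlinarith
    omega
  exact div_dvd_of_dvd_mul hpos h6 (gcd_c q hq3) (d_dvd_sq_sub_one q (by omega))

end Cfsg.Agent.Lib.Helper14.PSU3
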