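import Mathlib
import Cfsg.Agent.Lib.Helper14.PSU3Lower3

set_option autoImplicit false
set_option linter.unusedSectionVars false
set_option linter.unusedVariables false

namespace Cfsg.Agent.Lib.Helper14.PSU3

open Cfsg Cfsg.Agent.Lib.Helper6 Cfsg.Agent.Lib.Helper16 Matrix Polynomial Module

variable {F : Type*} [Field F] [Fintype F] {q : ℕ} (hF : Fintype.card F = q ^ 2)

include hF in
/-- a non-zero element of trace zero -/
lemma exists_tr_zero : ∃ c : F, c ≠ 0 ∧ conjQ hF c = -c := by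
  obtain ⟨θ, hθ⟩ : ∃ θ : F, conjQ hF θ ≠ θ := by
    by_contra hcon
    push Not at hcon
    exact conjQ_ne_id hF (RingHom.ext fun a => by rw [hcon]; rfl)
  refine ⟨θ - conjQ hF θ, fun h => hθ (sub_eq_zero.mp h).symm, ?_⟩
  rw [map_sub, conjQ_conjQ]
  ring

/-- the matrix of the mixed element -/
def matB (α c : F) : Matrix (Fin 3) (Fin 3) F :=
  !![α, α * c, 0; 0, α, 0; 0, 0, (α ^ 2)⁻¹]

omit [Fintype F] in
lemma matB_pow (α c : F) (k : ℕ) :
    matB α c ^ k = !![α ^ k, k * α ^ k * c, 0; 0, α ^ k, 0; 0, 0, ((α ^ 2)⁻¹) ^ k] := by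
  induction k with
  | zero =>
    ext i j
    fin_cases i <;> fin_cases j <;> simp
  | succ k ih =>
    rw [pow_succ, ih, matB]
    ext i j
    fin_cases i <;> fin_cases j <;>
      simp [Matrix.mul_apply, Fin.sum_univ_three, pow_succ] <;> ring

include hF in
/-- an element of order `p (q + 1) / d` -/
theorem exists_lower_b (p : ℕ) [Fact p.Prime] [CharP F p] :
    ∃ g : SU 3 F q, ∀ (k : ℕ) (c : F), mat g ^ k = c • 1 →
      p * (q + 1) / Nat.gcd 3 (q + 1) ∣ k := by
  classical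
  obtain ⟨α, hα0, hα, hαn⟩ := exists_alpha hF
  obtain ⟨c₀, hc0, hc⟩ := exists_tr_zero hF
  have hconjα : conjQ hF α = α⁻¹ := by
    rw [conjQ_apply]
    apply eq_inv_of_mul_eq_one_left
    rw [← pow_succ, hα]
  have hdet : (matB α c₀).det = 1 := by
    rw [matB, Matrix.det_fin_three]
    simp
    field_simp
  have hA : ∀ y x, hypf hF (matB α c₀ *ᵥ y) (matB α c₀ *ᵥ x) = hypf hF y x := by
    intro y x
    simp only [hypf, matB, Matrix.mulVec, dotProduct, Fin.sum_univ_three, Matrix.of_apply,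
      Matrix.cons_val', Matrix.cons_val_zero, Matrix.cons_val_one, Matrix.cons_val_two,
      Matrix.cons_val_fin_one, Matrix.empty_val', Matrix.head_cons, Matrix.tail_cons,
      Matrix.head_fin_const]
    simp only [map_add, map_mul, map_zero, map_inv₀, map_pow, hconjα, hc]
    field_simp
    ring
  obtain ⟨g, hg⟩ := transport_hyp hF (matB α c₀) hA hdet
  refine ⟨g, fun k c hkc => ?_⟩
  have h1 := hg k c hkc
  rw [matB_pow] at h1
  have h01 := congrFun (congrFun h1 0) 1
  have h11 := congrFun (congrFun h1 1) 1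
  have h22 := congrFun (congrFun h1 2) 2
  simp at h01 h11 h22
  -- p ∣ k
  have hpk : p ∣ k := by
    rw [← CharP.cast_eq_zero_iff F p]
    rcases h01 with (h | h) | h
    · exact h
    · exact absurd h.1 hα0
    · exact absurd h hc0
  -- (q + 1) / d ∣ k
  have h3 : α ^ (3 * k) = 1 := by
    have e : α ^ (3 * k) = α ^ k * (α ^ 2) ^ k := by
      rw [← pow_mul, ← pow_add]; congr 1; ring
    rw [e, h11, ← h22, inv_mul_cancel₀ (pow_ne_zero _ (pow_ne_zero _ hα0))]
  have h4 : (q + 1) ∣ 3 * k := hαn _ h3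
  have h5 : (q + 1) / Nat.gcd 3 (q + 1) ∣ k :=
    div_dvd_of_dvd_mul (Nat.succ_pos q) h4 (by rw [Nat.gcd_comm]) (Nat.gcd_dvd_right _ _)
  -- coprimality
  obtain ⟨j, hj⟩ := exists_q_eq_pow hF p
  have hq2 := two_le_q hF
  have hj0 : j ≠ 0 := by
    rintro rfl
    rw [pow_zero] at hj
    omega
  have hpq : p ∣ q := by rw [hj]; exact dvd_pow_self p hj0
  have hcop : Nat.Coprime p ((q + 1) / Nat.gcd 3 (q + 1)) := by
    have hp : p.Prime := Fact.out
    rw [Nat.Prime.coprime_iff_not_dvd hp]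
    intro hdiv
    have h6 : p ∣ q + 1 := hdiv.trans (Nat.div_dvd_of_dvd (Nat.gcd_dvd_right _ _))
    have h7 : p ∣ 1 := (Nat.dvd_add_right hpq).mp h6
    exact hp.one_lt.ne' (Nat.dvd_one.mp h7)
  rw [Nat.mul_div_assoc p (Nat.gcd_dvd_right 3 (q + 1))]
  exact hcop.mul_dvd_of_dvd_of_dvd hpk h5

end Cfsg.Agent.Lib.Helper14.PSU3
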