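import Mathlib
import Cfsg.Agent.Lib.Helper14.PSU3Lower4
import Cfsg.Agent.Lib.Helper16.FieldEmbed

set_option autoImplicit false
set_option linter.unusedSectionVars false
set_option linter.unusedVariables false
set_option linter.style.haveILetI false

namespace Cfsg.Agent.Lib.Helper14.PSU3

open Cfsg Cfsg.Agent.Lib.Helper6 Cfsg.Agent.Lib.Helper16 Matrix Polynomial Module

/-- arithmetic for the anisotropic torus -/
lemma gcd_d (q : ℕ) (hq : 2 ≤ q) :
    Nat.gcd (q ^ 2 - q + 1) (q ^ 2 - 1) ∣ Nat.gcd 3 (q + 1) := by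
  obtain ⟨r, rfl⟩ : ∃ r, q = r + 2 := ⟨q - 2, by omega⟩
  have e1 : (r + 2) ^ 2 - (r + 2) + 1 = r * (r + 3) + 3 := by
    have : (r + 2) ^ 2 = r * (r + 3) + 2 + (r + 2) := by ring
    rw [this, Nat.add_sub_cancel]
  have e2 : (r + 2) ^ 2 - 1 = r * (r + 3) + 3 + r := by
    have : (r + 2) ^ 2 = r * (r + 3) + 3 + r + 1 := by ring
    rw [this]; rfl
  rw [e1, e2]
  set g := Nat.gcd (r * (r + 3) + 3) (r * (r + 3) + 3 + r) with hg
  have h1 : g ∣ r * (r + 3) + 3 := Nat.gcd_dvd_left _ _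
  have h2 : g ∣ r * (r + 3) + 3 + r := Nat.gcd_dvd_right _ _
  have h3 : g ∣ r := (Nat.dvd_add_right h1).mp h2
  have h4 : g ∣ 3 := (Nat.dvd_add_right (h3.mul_right (r + 3))).mp h1
  have h5 : g ∣ r + 2 + 1 := by
    have : r + 2 + 1 = r + 3 := by ring
    rw [this]
    exact Nat.dvd_add h3 h4
  exact Nat.dvd_gcd h4 h5

lemma d_dvd_N (q : ℕ) (hq : 2 ≤ q) : Nat.gcd 3 (q + 1) ∣ q ^ 2 - q + 1 := by
  obtain ⟨r, rfl⟩ : ∃ r, q = r + 2 := ⟨q - 2, by omega⟩
  have e1 : (r + 2) ^ 2 - (r + 2) + 1 = r * (r + 2 + 1) + 3 := by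
    have : (r + 2) ^ 2 = r * (r + 2 + 1) + 2 + (r + 2) := by ring
    rw [this, Nat.add_sub_cancel]
  rw [e1]
  exact Nat.dvd_add ((Nat.gcd_dvd_right _ _).mul_left r) (Nat.gcd_dvd_left _ _)

lemma N_dvd_cube (q : ℕ) (hq : 2 ≤ q) : q ^ 2 - q + 1 ∣ q ^ 3 + 1 := by
  obtain ⟨B, hB⟩ : ∃ B, B + q = q ^ 2 := ⟨q ^ 2 - q, Nat.sub_add_cancel (by nlinarith)⟩
  have hBq : q ^ 2 - q = B := by omega
  rw [hBq]
  refine ⟨q + 1, ?_⟩
  zify at hB ⊢
  linear_combination (-(q : ℤ) - 1) * hB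

lemma N_dvd_norm (q : ℕ) (hq : 2 ≤ q) : q ^ 2 - q + 1 ∣ q ^ 4 + q ^ 2 + 1 := by
  obtain ⟨B, hB⟩ : ∃ B, B + q = q ^ 2 := ⟨q ^ 2 - q, Nat.sub_add_cancel (by nlinarith)⟩
  have hBq : q ^ 2 - q = B := by omega
  rw [hBq]
  refine ⟨q ^ 2 + q + 1, ?_⟩
  zify at hB ⊢
  linear_combination (-(q : ℤ) ^ 2 - q - 1) * hB

lemma N_dvd_six (q : ℕ) (hq : 2 ≤ q) : q ^ 2 - q + 1 ∣ q ^ 6 - 1 := by
  have h1 := N_dvd_cube q hq
  have h2 : q ^ 6 - 1 = (q ^ 3 + 1) * (q ^ 3 - 1) := by
    obtain ⟨r, hr⟩ : ∃ r, q ^ 3 = r + 1 := ⟨q ^ 3 - 1, by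
      have : 1 ≤ q ^ 3 := Nat.one_le_pow _ _ (by omega)
      omega⟩
    have e6 : q ^ 6 = (q ^ 3) ^ 2 := by ring
    rw [e6, hr, Nat.add_sub_cancel]
    have : (r + 1) ^ 2 = (r + 1 + 1) * r + 1 := by ring
    rw [this]; rfl
  rw [h2]
  exact h1.mul_right _

section singer

variable {F : Type*} [Field F] [Fintype F] {q : ℕ} (hF : Fintype.card F = q ^ 2)
  (p : ℕ) [Fact p.Prime] [CharP F p]
  {K : Type*} [Field K] [Finite K] [Algebra F K] (hrank : finrank F K = 3)

include hF hrank in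
lemma pow_q_six (w : K) : w ^ (q ^ 6) = w := by
  letI : Fintype K := Fintype.ofFinite K
  have hcard : Fintype.card K = q ^ 6 := by
    rw [← Nat.card_eq_fintype_card, Module.natCard_eq_pow_finrank (K := F), hrank,
      Nat.card_eq_fintype_card, hF, ← pow_mul]
  rw [← hcard]
  exact FiniteField.pow_card w

include hF in
lemma algebraMap_pow_q_cube (c : F) :
    (algebraMap F K c) ^ (q ^ 3) = algebraMap F K (conjQ hF c) := by
  rw [← map_pow, conjQ_apply]
  congr 1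
  have : q ^ 3 = q ^ 2 * q := by ring
  rw [this, pow_mul, pow_q_sq hF]

end singer

section singer2

variable {F : Type*} [Field F] [Fintype F] {q : ℕ} (hF : Fintype.card F = q ^ 2)
  (p : ℕ) [Fact p.Prime] [CharP F p]
  {K : Type*} [Field K] [Finite K] [Algebra F K] (hrank : finrank F K = 3)
  [CharP K p] {j : ℕ} (hj : q = p ^ j)

/-- the `q³`-power map -/
noncomputable def sig (K : Type*) [Field K] (p : ℕ) [Fact p.Prime] [CharP K p] (j : ℕ) : K →+* K :=
  iterateFrobenius K p (3 * j)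

include hj in
lemma sig_apply (x : K) : sig K p j x = x ^ (q ^ 3) := by
  rw [sig, iterateFrobenius_def, hj, ← pow_mul]
  congr 2
  ring

include hF hj in
lemma sig_algebraMap (c : F) : sig K p j (algebraMap F K c) = algebraMap F K (conjQ hF c) := by
  rw [sig_apply p hj, algebraMap_pow_q_cube hF]

include hF hrank hj in
lemma sig_sig (x : K) : sig K p j (sig K p j x) = x := by
  rw [sig_apply p hj, sig_apply p hj, ← pow_mul]
  have : q ^ 3 * q ^ 3 = q ^ 6 := by ring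
  rw [this, pow_q_six hF hrank]

include hF hj in
lemma trace_sig (z : K) :
    conjQ hF (Algebra.trace F K z) = Algebra.trace F K (sig K p j z) := by
  apply (algebraMap F K).injective
  rw [← sig_algebraMap hF p hj, FiniteField.algebraMap_trace_eq_sum_pow,
    FiniteField.algebraMap_trace_eq_sum_pow, map_sum]
  simp only [map_pow]

include hF hj in
lemma exists_traceB : ∃ B : K →ₛₗ[conjQ hF] K →ₗ[F] F,
    ∀ y x, B y x = Algebra.trace F K (sig K p j y * x) :=
  ⟨LinearMap.mk₂'ₛₗ (conjQ hF) (RingHom.id F) (fun y x => Algebra.trace F K (sig K p j y * x))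
    (fun y y' x => by simp only [map_add, add_mul])
    (fun c y x => by
      show Algebra.trace F K (sig K p j (c • y) * x)
        = conjQ hF c • Algebra.trace F K (sig K p j y * x)
      rw [Algebra.smul_def, RingHom.map_mul, sig_algebraMap hF p hj, mul_assoc,
        ← Algebra.smul_def, map_smul])
    (fun y x x' => by simp only [mul_add, map_add])
    (fun c y x => by rw [mul_smul_comm, map_smul]; rfl),
   fun y x => rfl⟩

include hF hrank hj in
/-- an element of order `(q² - q + 1) / d`, given a cubic extension -/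
theorem exists_lower_d_aux (hq2 : 2 ≤ q) :
    ∃ g : SU 3 F q, ∀ (k : ℕ) (c : F), mat g ^ k = c • 1 →
      (q ^ 2 - q + 1) / Nat.gcd 3 (q + 1) ∣ k := by
  classical
  obtain ⟨B, hB⟩ := exists_traceB hF p hj (K := K)
  have hS : B.IsSymm := ⟨fun y x => by
    rw [hB, hB, trace_sig hF p hj, RingHom.map_mul, sig_sig hF p hrank hj, mul_comm]⟩
  haveI : Module.Finite F K := Module.Finite.of_finite
  have hN : ∀ u, (∀ v, B u v = 0) → u = 0 := by
    intro u hu
    have h1 := (traceForm_nondegenerate F K).1 (sig K p j u) (fun v => by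
      rw [Algebra.traceForm_apply, ← hB]; exact hu v)
    exact (map_eq_zero _).mp h1
  -- the element
  obtain ⟨N, hNdef⟩ : ∃ N, N = q ^ 2 - q + 1 := ⟨_, rfl⟩
  have hq6 : 0 < q ^ 6 - 1 := by
    have : 2 ^ 6 ≤ q ^ 6 := Nat.pow_le_pow_left hq2 6
    omega
  obtain ⟨lam, hlamN, hlamn⟩ : ∃ lam : K, lam ^ N = 1 ∧ ∀ n, lam ^ n = 1 → N ∣ n := by
    obtain ⟨ζ, hζ⟩ := IsCyclic.exists_generator (α := Kˣ)
    have ho : orderOf ζ = q ^ 6 - 1 := by
      rw [orderOf_eq_card_of_forall_mem_zpowers hζ, Nat.card_units,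
        Module.natCard_eq_pow_finrank (K := F), hrank, Nat.card_eq_fintype_card, hF, ← pow_mul]
    obtain ⟨m, hm⟩ := N_dvd_six q hq2
    rw [← hNdef] at hm
    have hm0 : m ≠ 0 := by
      rintro rfl
      rw [mul_zero] at hm
      omega
    have hord : orderOf (ζ ^ m) = N := by
      rw [orderOf_pow_of_dvd hm0 (by rw [ho, hm]; exact dvd_mul_left _ _), ho, hm,
        Nat.mul_div_cancel _ (Nat.pos_of_ne_zero hm0)]
    refine ⟨((ζ ^ m : Kˣ) : K), ?_, ?_⟩
    · have h1 := pow_orderOf_eq_one (ζ ^ m)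
      rw [hord] at h1
      have h2 := congrArg Units.val h1
      simpa using h2
    · intro n hn
      rw [← hord]
      apply orderOf_dvd_of_pow_eq_one
      apply Units.ext
      simpa using hn
  have hN0 : N ≠ 0 := by rw [hNdef]; omega
  have hlam0 : lam ≠ 0 := by
    rintro rfl
    rw [zero_pow hN0] at hlamN
    exact zero_ne_one hlamN
  have hlam3 : lam ^ (q ^ 3 + 1) = 1 := by
    obtain ⟨m, hm⟩ := N_dvd_cube q hq2
    rw [hm, ← hNdef, pow_mul, hlamN, one_pow]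
  have hlamnorm : lam ^ (q ^ 4 + q ^ 2 + 1) = 1 := by
    obtain ⟨m, hm⟩ := N_dvd_norm q hq2
    rw [hm, ← hNdef, pow_mul, hlamN, one_pow]
  have hT : ∀ x y, B (Algebra.lmul F K lam x) (Algebra.lmul F K lam y) = B x y := by
    intro x y
    show B (lam * x) (lam * y) = _
    rw [hB, hB, RingHom.map_mul, sig_apply p hj lam]
    have : lam ^ (q ^ 3) * sig K p j x * (lam * y) = lam ^ (q ^ 3 + 1) * (sig K p j x * y) := by
      ring
    rw [this, hlam3, one_mul]
  have hdet : LinearMap.det (Algebra.lmul F K lam) = 1 := by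
    rw [← Algebra.norm_apply]
    apply (algebraMap F K).injective
    rw [FiniteField.algebraMap_norm_eq_pow_sum, hrank, map_one]
    simp only [Finset.sum_range_succ, Finset.sum_range_zero, Nat.card_eq_fintype_card, hF]
    have : 0 + (q ^ 2) ^ 0 + (q ^ 2) ^ 1 + (q ^ 2) ^ 2 = q ^ 4 + q ^ 2 + 1 := by ring
    rw [this, hlamnorm]
  obtain ⟨g, hg⟩ := transport hF B hS hN hrank (Algebra.lmul F K lam) hT hdet
  refine ⟨g, fun k c hkc => ?_⟩
  have h1 := hg k c hkc 1
  rw [← map_pow] at h1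
  have h1' : lam ^ k = algebraMap F K c := by
    have : Algebra.lmul F K (lam ^ k) 1 = lam ^ k * 1 := rfl
    rw [this, mul_one] at h1
    rw [h1, Algebra.smul_def, mul_one]
  have hc0 : c ≠ 0 := by
    rintro rfl
    rw [map_zero] at h1'
    exact pow_ne_zero k hlam0 h1'
  have h2 : lam ^ ((q ^ 2 - 1) * k) = 1 := by
    rw [mul_comm, pow_mul, h1', ← map_pow, pow_q_sq_sub_one hF hc0, map_one]
  have h3 : N ∣ (q ^ 2 - 1) * k := hlamn _ h2
  rw [hNdef] at h3
  exact div_dvd_of_dvd_mul (by omega) h3 (gcd_d q hq2) (d_dvd_N q hq2)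

end singer2

end Cfsg.Agent.Lib.Helper14.PSU3
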