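import Mathlib
import Cfsg.Agent.Lib.Helper14.PSU3Upper1

set_option autoImplicit false
set_option linter.unusedSectionVars false
set_option linter.unusedVariables false

namespace Cfsg.Agent.Lib.Helper14.PSU3

open Cfsg Cfsg.Agent.Lib.Helper6 Cfsg.Agent.Lib.Helper16 Matrix Polynomial

/-- some power `M ^ k` with `k` dividing one of the four critical numbers is scalar -/
def Good {F : Type*} [Field F] (p q : ℕ) (M : Matrix (Fin 3) (Fin 3) F) : Prop :=
  ∃ (k : ℕ) (s : F), (k ∣ q + 1 ∨ k ∣ p * (q + 1) / Nat.gcd 3 (q + 1) ∨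
    k ∣ (q ^ 2 - 1) / Nat.gcd 3 (q + 1) ∨ k ∣ (q ^ 2 - q + 1) / Nat.gcd 3 (q + 1)) ∧
    M ^ k = s • 1

section split

variable {F : Type*} [Field F] [Fintype F] {q : ℕ} (hF : Fintype.card F = q ^ 2)
  (p : ℕ) [Fact p.Prime] [CharP F p] (hp : p ≠ 2) (M : Matrix (Fin 3) (Fin 3) F)

lemma sub_C_pow_char (c : F) : (X - C c : F[X]) ^ p = X ^ p - C (c ^ p) := by
  rw [sub_pow_char, C_pow]

lemma sub_C_pow_char' (k : ℕ) (s : F) : (X ^ k - C s : F[X]) ^ p = X ^ (k * p) - C (s ^ p) := by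
  rw [sub_pow_char, C_pow, pow_mul]

include hp in
lemma three_le_p : 3 ≤ p := by
  have h2 := (Fact.out : p.Prime).two_le
  omega

include hp in
lemma good_triple (c : F) (h : M.charpoly = (X - C c) ^ 3) : Good p q M := by
  refine ⟨p, c ^ p, Or.inr (Or.inl ?_), ?_⟩
  · rw [Nat.mul_div_assoc p (Nat.gcd_dvd_right 3 (q + 1))]
    exact dvd_mul_right _ _
  · apply pow_eq_smul_of_dvd
    rw [h, ← sub_C_pow_char]
    exact pow_dvd_pow _ (three_le_p p hp)

include hp in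
lemma good_double (u v : F) (huv : u ≠ v) (h : M.charpoly = (X - C u) ^ 2 * (X - C v))
    (hu : u ^ (q + 1) = 1) (hdet : u ^ 2 * v = 1) : Good p q M := by
  set d := Nat.gcd 3 (q + 1) with hd
  have hdq : d ∣ q + 1 := Nat.gcd_dvd_right 3 (q + 1)
  set m := (q + 1) / d with hm
  have hmd : m * d = q + 1 := Nat.div_mul_cancel hdq
  have hu3 : u ^ (3 * m) = 1 := by
    rcases d_cases q with h1 | h3
    · rw [← hd] at h1
      rw [h1, mul_one] at hmd
      rw [mul_comm, pow_mul, hmd, hu, one_pow]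
    · rw [← hd] at h3
      rw [h3] at hmd
      rw [mul_comm, hmd, hu]
  have hvm : v ^ m = u ^ m := by
    have h1 : (u ^ 2 * v) ^ m = 1 := by rw [hdet, one_pow]
    rw [mul_pow, ← pow_mul] at h1
    have h2 : u ^ (3 * m) = u ^ (2 * m) * u ^ m := by rw [← pow_add]; congr 1; ring
    have hu0 : u ^ (2 * m) ≠ 0 := by
      intro h0
      rw [h0, zero_mul] at h1
      exact zero_ne_one h1
    apply mul_left_cancel₀ hu0
    rw [h1, ← h2, hu3]
  refine ⟨m * p, (u ^ m) ^ p, Or.inr (Or.inl ?_), ?_⟩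
  · rw [Nat.mul_div_assoc p hdq, mul_comm]
  · apply pow_eq_smul_of_dvd
    rw [h, ← sub_C_pow_char']
    have h1 : (X - C u) * (X - C v) ∣ X ^ m - C (u ^ m) :=
      prod_two_dvd huv _ ((isRoot_pow_sub_C _ _ _).mpr rfl) ((isRoot_pow_sub_C _ _ _).mpr hvm)
    have h2 : (X - C u) ^ 2 * (X - C v) ∣ ((X - C u) * (X - C v)) ^ 2 := by
      rw [mul_pow]
      exact mul_dvd_mul_left _ (dvd_pow_self _ two_ne_zero)
    have h3 : ((X - C u) * (X - C v)) ^ 2 ∣ (X ^ m - C (u ^ m)) ^ 2 := pow_dvd_pow_of_dvd h1 2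
    have h4 : (X ^ m - C (u ^ m) : F[X]) ^ 2 ∣ (X ^ m - C (u ^ m)) ^ p :=
      pow_dvd_pow _ (by have := three_le_p p hp; omega)
    exact h2.trans (h3.trans h4)

lemma good_distinct_fixed (u v w : F)
    (H : ∀ P : F[X], P.IsRoot u → P.IsRoot v → P.IsRoot w → M.charpoly ∣ P)
    (hu : u ^ (q + 1) = 1) (hv : v ^ (q + 1) = 1) (hw : w ^ (q + 1) = 1) : Good p q M := by
  refine ⟨q + 1, 1, Or.inl dvd_rfl, ?_⟩
  apply pow_eq_smul_of_dvd
  exact H _ ((isRoot_pow_sub_C _ _ _).mpr hu) ((isRoot_pow_sub_C _ _ _).mpr hv)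
    ((isRoot_pow_sub_C _ _ _).mpr hw)

include hF in
lemma good_swap (u v w : F)
    (H : ∀ P : F[X], P.IsRoot u → P.IsRoot v → P.IsRoot w → M.charpoly ∣ P)
    (hu0 : u ≠ 0) (hv : v = (u ^ q)⁻¹) (hw : u * v * w = 1) : Good p q M := by
  set d := Nat.gcd 3 (q + 1) with hd
  have hdq : d ∣ q + 1 := Nat.gcd_dvd_right 3 (q + 1)
  set m := (q + 1) / d with hm
  have hmd : m * d = q + 1 := Nat.div_mul_cancel hdq
  have hq2 := two_le_q hF
  have hfac : q ^ 2 - 1 = (q - 1) * (q + 1) := by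
    obtain ⟨r, rfl⟩ : ∃ r, q = r + 1 := ⟨q - 1, by omega⟩
    have : (r + 1) ^ 2 = r * (r + 2) + 1 := by ring
    rw [this]
    simp
  have hk : (q ^ 2 - 1) / d = (q - 1) * m := by
    rw [hfac, Nat.mul_div_assoc _ hdq]
  set k := (q ^ 2 - 1) / d with hkdef
  have hu1 : u ^ (q ^ 2 - 1) = 1 := pow_q_sq_sub_one hF hu0
  set s := u ^ k with hs
  have hs1 : s ^ (q + 1) = 1 := by
    rw [hs, ← pow_mul, hk]
    have : (q - 1) * m * (q + 1) = (q ^ 2 - 1) * m := by rw [hfac]; ring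
    rw [this, pow_mul, hu1, one_pow]
  have hs3 : s ^ 3 = 1 := by
    rw [hs, ← pow_mul]
    rcases d_cases q with h1 | h3
    · rw [← hd] at h1
      have : k = q ^ 2 - 1 := by rw [hkdef, h1, Nat.div_one]
      rw [this, pow_mul, hu1, one_pow]
    · rw [← hd] at h3
      have h3d : 3 ∣ q ^ 2 - 1 := by
        rw [hfac]; exact Dvd.dvd.mul_left (h3 ▸ hdq) _
      have : k * 3 = q ^ 2 - 1 := by rw [hkdef, h3]; exact Nat.div_mul_cancel h3d
      rw [this, hu1]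
  have hs0 : s ≠ 0 := pow_ne_zero _ hu0
  have hvk : v ^ k = s := by
    rw [hv, inv_pow, ← pow_mul, mul_comm, pow_mul, ← hs]
    rw [inv_eq_iff_eq_inv]
    apply eq_inv_of_mul_eq_one_left
    rw [← pow_succ, hs1]
  have hwk : w ^ k = s := by
    have h1 : (u * v * w) ^ k = 1 := by rw [hw, one_pow]
    rw [mul_pow, mul_pow, hvk, ← hs] at h1
    have : s * s * s = 1 := by rw [← hs3]; ring
    have h2 : s * s * (w ^ k) = s * s * s := by rw [h1, this]
    exact mul_left_cancel₀ (mul_ne_zero hs0 hs0) h2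
  refine ⟨k, s, Or.inr (Or.inr (Or.inl dvd_rfl)), ?_⟩
  apply pow_eq_smul_of_dvd
  exact H _ ((isRoot_pow_sub_C _ _ _).mpr rfl) ((isRoot_pow_sub_C _ _ _).mpr hvk)
    ((isRoot_pow_sub_C _ _ _).mpr hwk)

end split

end Cfsg.Agent.Lib.Helper14.PSU3
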