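import Mathlib
import Cfsg.Agent.Lib.Helper14.PSU3Upper2

set_option autoImplicit false
set_option linter.unusedSectionVars false
set_option linter.unusedVariables false

namespace Cfsg.Agent.Lib.Helper14.PSU3

open Cfsg Cfsg.Agent.Lib.Helper6 Cfsg.Agent.Lib.Helper16 Matrix Polynomial

section split

variable {F : Type*} [Field F] [Fintype F] {q : ℕ} (hF : Fintype.card F = q ^ 2)
  (p : ℕ) [Fact p.Prime] [CharP F p] (hp : p ≠ 2) (M : Matrix (Fin 3) (Fin 3) F)

/-- the value of the normal form at a point -/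
lemma eval_form (a c : F) :
    (X ^ 3 - C a * X ^ 2 + C (a ^ q) * X - 1 : F[X]).eval c = c ^ 3 - a * c ^ 2 + a ^ q * c - 1 := by
  simp

include hF in
/-- roots of a self-dual cubic are permuted by `c ↦ (c ^ q)⁻¹` -/
lemma root_phi (a c : F) (h : c ^ 3 - a * c ^ 2 + a ^ q * c - 1 = 0) :
    c ≠ 0 ∧ ((c ^ q)⁻¹) ^ 3 - a * ((c ^ q)⁻¹) ^ 2 + a ^ q * (c ^ q)⁻¹ - 1 = 0 := by
  have hc : c ≠ 0 := by
    rintro rfl
    have hq := two_le_q hF
    simp at h
  refine ⟨hc, ?_⟩
  have he : c ^ q ≠ 0 := pow_ne_zero _ hc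
  have key : (c ^ q) ^ 3 - a ^ q * (c ^ q) ^ 2 + a * c ^ q - 1 = 0 := by
    have := congrArg (conjQ hF) h
    simp only [map_sub, map_add, map_mul, map_pow, map_one, map_zero, conjQ_apply] at this
    rw [pow_q_q hF a] at this
    rw [← this]
  field_simp
  linear_combination (-1) * key

include hF hp in
lemma split_double (a u v : F) (huv : u ≠ v)
    (hform : M.charpoly = X ^ 3 - C a * X ^ 2 + C (a ^ q) * X - 1)
    (hsplit : M.charpoly = (X - C u) ^ 2 * (X - C v)) : Good p q M := by
  have hdet : u ^ 2 * v = 1 := by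
    have h1 := congrArg (eval 0) hform
    have h2 := congrArg (eval 0) hsplit
    rw [h1] at h2
    have hq := two_le_q hF
    simp at h2
    linear_combination -h2
  have hru : u ^ 3 - a * u ^ 2 + a ^ q * u - 1 = 0 := by
    rw [← eval_form, ← hform, hsplit]; simp
  obtain ⟨hu0, hphi⟩ := root_phi hF a u hru
  have hmem : (u ^ q)⁻¹ = u ∨ (u ^ q)⁻¹ = v := by
    rw [← eval_form, ← hform, hsplit] at hphi
    simp only [eval_mul, eval_pow, eval_sub, eval_X, eval_C, mul_eq_zero, pow_eq_zero_iff,
      ne_eq, OfNat.ofNat_ne_zero, not_false_eq_true, sub_eq_zero] at hphi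
    exact hphi
  have hu1 : u ^ (q + 1) = 1 := by
    rcases hmem with h | h
    · rw [pow_succ]
      have he : u ^ q ≠ 0 := pow_ne_zero _ hu0
      rw [inv_eq_iff_eq_inv] at h
      rw [h, inv_mul_cancel₀ hu0]
    · exfalso
      have he : u ^ q ≠ 0 := pow_ne_zero _ hu0
      -- u^2 = u^q
      have h1 : u ^ 2 = u ^ q := by
        have : u ^ 2 * (u ^ q)⁻¹ = 1 := by rw [h]; exact hdet
        field_simp at this
        exact this
      have h2 : u = u ^ 4 := by
        calc u = (u ^ q) ^ q := (pow_q_q hF u).symm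
          _ = (u ^ 2) ^ q := by rw [h1]
          _ = (u ^ q) ^ 2 := by rw [← pow_mul, ← pow_mul, mul_comm]
          _ = (u ^ 2) ^ 2 := by rw [h1]
          _ = u ^ 4 := by ring
      have h3 : u ^ 3 = 1 := by
        have : u * (u ^ 3 - 1) = 0 := by linear_combination -h2
        rcases mul_eq_zero.mp this with h0 | h0
        · exact absurd h0 hu0
        · linear_combination h0
      apply huv
      have : u ^ 2 * u = u ^ 2 * v := by rw [hdet, ← h3]; ring
      exact mul_left_cancel₀ (pow_ne_zero 2 hu0) this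
  exact good_double p hp M u v huv hsplit hu1 hdet

include hF hp in
lemma split_distinct (a u v w : F) (huv : u ≠ v) (huw : u ≠ w) (hvw : v ≠ w)
    (hform : M.charpoly = X ^ 3 - C a * X ^ 2 + C (a ^ q) * X - 1)
    (hsplit : M.charpoly = (X - C u) * (X - C v) * (X - C w)) : Good p q M := by
  have hdet : u * v * w = 1 := by
    have h1 := congrArg (eval 0) hform
    have h2 := congrArg (eval 0) hsplit
    rw [h1] at h2
    simp at h2
    linear_combination -h2
  have H : ∀ P : F[X], P.IsRoot u → P.IsRoot v → P.IsRoot w → M.charpoly ∣ P := by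
    intro P h1 h2 h3
    rw [hsplit]
    exact prod_three_dvd huv huw hvw P h1 h2 h3
  have hroot : ∀ c : F, (c = u ∨ c = v ∨ c = w) → c ^ 3 - a * c ^ 2 + a ^ q * c - 1 = 0 := by
    intro c hc
    rw [← eval_form, ← hform, hsplit]
    rcases hc with rfl | rfl | rfl <;> simp
  have hmem : ∀ c : F, c ^ 3 - a * c ^ 2 + a ^ q * c - 1 = 0 → c = u ∨ c = v ∨ c = w := by
    intro c hc
    rw [← eval_form, ← hform, hsplit] at hc
    simp only [eval_mul, eval_sub, eval_X, eval_C, mul_eq_zero, sub_eq_zero] at hc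
    tauto
  obtain ⟨hu0, hpu⟩ := root_phi hF a u (hroot u (Or.inl rfl))
  obtain ⟨hv0, hpv⟩ := root_phi hF a v (hroot v (Or.inr (Or.inl rfl)))
  obtain ⟨hw0, hpw⟩ := root_phi hF a w (hroot w (Or.inr (Or.inr rfl)))
  have norm_of_fix : ∀ c : F, c ≠ 0 → (c ^ q)⁻¹ = c → c ^ (q + 1) = 1 := by
    intro c hc h
    rw [inv_eq_iff_eq_inv] at h
    rw [pow_succ, h, inv_mul_cancel₀ hc]
  rcases hmem _ hpu with h1 | h1 | h1
  · rcases hmem _ hpv with h2 | h2 | h2
    · -- φ v = u = φ u, so v = u
      exfalso
      apply huv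
      have : (u ^ q)⁻¹ = (v ^ q)⁻¹ := by rw [h1, h2]
      have h3 : u ^ q = v ^ q := inv_injective this
      have := congrArg (fun x => x ^ q) h3
      simpa only [pow_q_q hF] using this
    · rcases hmem _ hpw with h3 | h3 | h3
      · exfalso
        apply huw
        have : (u ^ q)⁻¹ = (w ^ q)⁻¹ := by rw [h1, h3]
        have h4 : u ^ q = w ^ q := inv_injective this
        have := congrArg (fun x => x ^ q) h4
        simpa only [pow_q_q hF] using this
      · exfalso
        apply hvw
        have : (v ^ q)⁻¹ = (w ^ q)⁻¹ := by rw [h2, h3]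
        have h4 : v ^ q = w ^ q := inv_injective this
        have := congrArg (fun x => x ^ q) h4
        simpa only [pow_q_q hF] using this
      · exact good_distinct_fixed p M u v w H (norm_of_fix u hu0 h1) (norm_of_fix v hv0 h2)
          (norm_of_fix w hw0 h3)
    · -- φ v = w
      exact good_swap hF p M v w u (fun P a b c => H P c a b) hv0 h2.symm
        (by linear_combination hdet)
  · -- φ u = v
    exact good_swap hF p M u v w H hu0 h1.symm hdet
  · -- φ u = w
    exact good_swap hF p M u w v (fun P a b c => H P a c b) hu0 h1.symm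
      (by linear_combination hdet)

include hF hp in
lemma split_main (a c₁ c₂ c₃ : F)
    (hform : M.charpoly = X ^ 3 - C a * X ^ 2 + C (a ^ q) * X - 1)
    (hsplit : M.charpoly = (X - C c₁) * (X - C c₂) * (X - C c₃)) : Good p q M := by
  by_cases h12 : c₁ = c₂
  · by_cases h23 : c₂ = c₃
    · subst h12; subst h23
      exact good_triple p hp M c₁ (by rw [hsplit]; ring)
    · subst h12
      exact split_double hF p hp M a c₁ c₃ h23 hform (by rw [hsplit]; ring)
  · by_cases h13 : c₁ = c₃
    · subst h13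
      exact split_double hF p hp M a c₁ c₂ h12 hform (by rw [hsplit]; ring)
    · by_cases h23 : c₂ = c₃
      · subst h23
        exact split_double hF p hp M a c₂ c₁ (Ne.symm h12) hform (by rw [hsplit]; ring)
      · exact split_distinct hF p hp M a c₁ c₂ c₃ h12 h13 h23 hform hsplit

end split

end Cfsg.Agent.Lib.Helper14.PSU3
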