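import Mathlib
import Cfsg.Agent.Lib.Helper14.PSU3Upper3

set_option autoImplicit false
set_option linter.unusedSectionVars false
set_option linter.unusedVariables false

namespace Cfsg.Agent.Lib.Helper14.PSU3

open Cfsg Cfsg.Agent.Lib.Helper6 Cfsg.Agent.Lib.Helper16 Matrix Polynomial

section red

variable {F : Type*} [Field F] [Fintype F] {q : ℕ} (hF : Fintype.card F = q ^ 2)
  (p : ℕ) [Fact p.Prime] [CharP F p] (hp : p ≠ 2) (M : Matrix (Fin 3) (Fin 3) F)

include hp in
lemma two_ne_zero' : (2 : F) ≠ 0 := by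
  intro h
  have h2 : ((2 : ℕ) : F) = 0 := by exact_mod_cast h
  rw [CharP.cast_eq_zero_iff F p] at h2
  have := (Nat.prime_dvd_prime_iff_eq (Fact.out : p.Prime) Nat.prime_two).mp h2
  exact hp this

include hF hp in
/-- a self-dual cubic with a root in `F` splits completely -/
lemma reducible_main (a c₁ : F)
    (hform : M.charpoly = X ^ 3 - C a * X ^ 2 + C (a ^ q) * X - 1)
    (hroot : c₁ ^ 3 - a * c₁ ^ 2 + a ^ q * c₁ - 1 = 0) : Good p q M := by
  have h2 : (2 : F) ≠ 0 := two_ne_zero' p hp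
  have h4 : (4 : F) ≠ 0 := by
    have : (4 : F) = 2 * 2 := by norm_num
    rw [this]; exact mul_ne_zero h2 h2
  obtain ⟨s, hs⟩ : ∃ s, s = a - c₁ := ⟨_, rfl⟩
  obtain ⟨t, ht⟩ : ∃ t, t = c₁ ^ 2 - a * c₁ + a ^ q := ⟨_, rfl⟩
  have hct : c₁ * t = 1 := by rw [ht]; linear_combination hroot
  have hfact : M.charpoly = (X - C c₁) * (X ^ 2 - C s * X + C t) := by
    rw [hform]
    have e1 : (1 : F[X]) = C (c₁ * t) := by rw [hct, C_1]
    have e2 : C (a ^ q) = C t - C c₁ ^ 2 + C a * C c₁ := by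
      rw [ht]; simp only [map_add, map_sub, map_mul, map_pow]; ring
    rw [e1, e2, hs]
    simp only [map_sub, map_mul]
    ring
  by_cases hQ : ∃ c₂ : F, c₂ ^ 2 - s * c₂ + t = 0
  · obtain ⟨c₂, hc₂⟩ := hQ
    apply split_main hF p hp M a c₁ c₂ (s - c₂) hform
    rw [hfact]
    have e : t = c₂ * (s - c₂) := by linear_combination hc₂
    rw [e]
    simp only [map_sub, map_mul]
    ring
  · exfalso
    push Not at hQ
    obtain ⟨hc0, hphi⟩ := root_phi hF a c₁ hroot
    have hd : (c₁ ^ q)⁻¹ = c₁ := by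
      have e : ((c₁ ^ q)⁻¹ - c₁) * (((c₁ ^ q)⁻¹) ^ 2 - s * (c₁ ^ q)⁻¹ + t) = 0 := by
        rw [hs, ht]
        rw [ht] at hct
        linear_combination hphi - hct
      rcases mul_eq_zero.mp e with h | h
      · exact sub_eq_zero.mp h
      · exact absurd h (hQ _)
    have hcq : c₁ ^ q * c₁ = 1 := by
      rw [inv_eq_iff_eq_inv] at hd
      rw [hd, inv_mul_cancel₀ hc0]
    have htq : t = c₁ ^ q := by
      have : c₁ * t = c₁ * c₁ ^ q := by rw [hct, mul_comm, hcq]
      exact mul_left_cancel₀ hc0 this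
    have haq : a ^ q = c₁ ^ q + s ^ q := by
      have : a = c₁ + s := by rw [hs]; ring
      rw [this]
      have := map_add (conjQ hF) c₁ s
      simpa only [conjQ_apply] using this
    have hsq : s ^ q = c₁ * s := by
      have e := ht
      rw [htq, haq] at e
      have : a = c₁ + s := by rw [hs]; ring
      rw [this] at e
      linear_combination -e
    obtain ⟨Δ, hΔ⟩ : ∃ Δ, Δ = s ^ 2 - 4 * t := ⟨_, rfl⟩
    have hΔq : Δ ^ q = c₁ ^ 2 * Δ := by
      have e1 : Δ ^ q = (s ^ q) ^ 2 - 4 * t ^ q := by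
        rw [hΔ]
        have := map_sub (conjQ hF) (s ^ 2) (4 * t)
        simp only [conjQ_apply, map_mul, map_pow, map_ofNat] at this
        rw [this]
      have e2 : t ^ q = c₁ := by rw [htq, pow_q_q hF]
      rw [e1, e2, hsq, hΔ]
      linear_combination (4 * c₁) * hct
    by_cases hΔ0 : Δ = 0
    · apply hQ (s / 2)
      rw [hΔ] at hΔ0
      field_simp
      linear_combination -hΔ0
    · have hΔ1 : Δ ^ (q - 1) = c₁ ^ 2 := by
        have hq1 : 1 ≤ q := by have := two_le_q hF; omega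
        have : Δ ^ (q - 1) * Δ = c₁ ^ 2 * Δ := by
          rw [← pow_succ, Nat.sub_add_cancel hq1, hΔq]
        exact mul_right_cancel₀ hΔ0 this
      obtain ⟨r, hr⟩ := q_odd hF p hp
      have hcard : Fintype.card F / 2 = (q - 1) * (r + 1) := by
        rw [hF, hr]
        have : (2 * r + 1) ^ 2 = 2 * ((2 * r + 1 - 1) * (r + 1)) + 1 := by
          simp only [Nat.add_sub_cancel]; ring
        rw [this]
        omega
      have heuler : Δ ^ (Fintype.card F / 2) = 1 := by
        rw [hcard, pow_mul, hΔ1, ← pow_mul]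
        have : 2 * (r + 1) = q + 1 := by omega
        rw [this, pow_succ, hcq]
      have hchar : ringChar F ≠ 2 := by
        rw [ringChar.eq F p]; exact hp
      obtain ⟨δ, hδ⟩ := (FiniteField.isSquare_iff hchar hΔ0).mpr heuler
      apply hQ ((s + δ) / 2)
      rw [hΔ] at hδ
      field_simp
      linear_combination (-1) * hδ

end red

end Cfsg.Agent.Lib.Helper14.PSU3
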