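import Mathlib
import Cfsg.Agent.Lib.Helper14.PSU3Upper4

set_option autoImplicit false
set_option linter.unusedSectionVars false
set_option linter.unusedVariables false
set_option linter.style.haveILetI false

namespace Cfsg.Agent.Lib.Helper14.PSU3

open Cfsg Cfsg.Agent.Lib.Helper6 Cfsg.Agent.Lib.Helper16 Matrix Polynomial

section galois

variable {F : Type*} [Field F] [Fintype F] {K : Type*} [Field K] [Algebra F K] [Finite K]

/-- iterating the Frobenius of `K / F` -/
lemma frob_pow_apply (i : ℕ) (x : K) :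
    (FiniteField.frobeniusAlgEquivOfAlgebraic F K ^ i) x = x ^ (Fintype.card F ^ i) := by
  rw [AlgEquiv.coe_pow, FiniteField.coe_frobeniusAlgEquivOfAlgebraic_iterate]

/-- every automorphism of `K / F` is a power of Frobenius -/
lemma exists_frob_pow (σ : Gal(K/F)) :
    ∃ i : ℕ, i < Module.finrank F K ∧ ∀ x : K, σ x = x ^ (Fintype.card F ^ i) := by
  obtain ⟨⟨i, hi⟩, rfl⟩ := (FiniteField.bijective_frobeniusAlgEquivOfAlgebraic_pow F K).2 σ
  exact ⟨i, hi, fun x => frob_pow_apply i x⟩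

/-- elements fixed by Frobenius come from `F` -/
lemma mem_range_of_pow_card (x : K) (hx : x ^ Fintype.card F = x) :
    ∃ c : F, algebraMap F K c = x := by
  have hfix : ∀ σ : Gal(K/F), σ x = x := by
    intro σ
    obtain ⟨i, -, hi⟩ := exists_frob_pow σ
    rw [hi]
    clear hi
    induction i with
    | zero => simp
    | succ i ih => rw [pow_succ, pow_mul, ih, hx]
  have := (IsGalois.mem_bot_iff_fixed x).mpr hfix
  rw [IntermediateField.mem_bot] at this
  exact this

end galois


section irr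

variable {F : Type*} [Field F] [Fintype F] {q : ℕ} (hF : Fintype.card F = q ^ 2)
  (p : ℕ) [Fact p.Prime] [CharP F p] (hp : p ≠ 2) (M : Matrix (Fin 3) (Fin 3) F)

include hF hp in
lemma irreducible_main (a : F)
    (hform : M.charpoly = X ^ 3 - C a * X ^ 2 + C (a ^ q) * X - 1)
    (hirr : Irreducible M.charpoly) : Good p q M := by
  classical
  set χ := M.charpoly with hχ
  haveI : Fact (Irreducible χ) := ⟨hirr⟩
  have hχ0 : χ ≠ 0 := hirr.ne_zero
  have hmonic : χ.Monic := Matrix.charpoly_monic M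
  have hdeg : χ.natDegree = 3 := by
    rw [hχ, Matrix.charpoly_natDegree_eq_dim, Fintype.card_fin]
  have hq2 := two_le_q hF
  -- the root field
  let pb := AdjoinRoot.powerBasis hχ0
  haveI : Module.Finite F (AdjoinRoot χ) := pb.finite
  haveI : Finite (AdjoinRoot χ) := Module.finite_of_finite F
  have hrank : Module.finrank F (AdjoinRoot χ) = 3 := by
    rw [pb.finrank, AdjoinRoot.powerBasis_dim, hdeg]
  set lam : AdjoinRoot χ := AdjoinRoot.root χ with hlam
  have hmin : minpoly F lam = χ := by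
    rw [hlam, AdjoinRoot.minpoly_root hχ0, hmonic.leadingCoeff, inv_one, C_1, mul_one]
  have hcardK : Nat.card (AdjoinRoot χ) = q ^ 6 := by
    rw [Module.natCard_eq_pow_finrank (K := F), hrank, Nat.card_eq_fintype_card, hF, ← pow_mul]
  -- the root equation
  set A : AdjoinRoot χ := algebraMap F (AdjoinRoot χ) a with hA
  have hroot : lam ^ 3 - A * lam ^ 2 + A ^ q * lam - 1 = 0 := by
    have h0 := minpoly.aeval F lam
    rw [hmin] at h0
    have h1 : aeval lam (X ^ 3 - C a * X ^ 2 + C (a ^ q) * X - 1 : F[X]) = 0 := by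
      rw [← hform]; exact h0
    simpa [hA] using h1
  have hlam0 : lam ≠ 0 := by
    intro h0
    rw [h0] at hroot
    simp at hroot
  have hAq : (A ^ q) ^ q = A := by
    rw [hA, ← map_pow, ← map_pow, pow_q_q hF]
  -- q-th power is additive
  obtain ⟨j, hj⟩ := exists_q_eq_pow hF p
  haveI : CharP (AdjoinRoot χ) p :=
    charP_of_injective_algebraMap (algebraMap F (AdjoinRoot χ)).injective p
  have hfr : ∀ x : AdjoinRoot χ, iterateFrobenius (AdjoinRoot χ) p j x = x ^ q := by
    intro x; rw [iterateFrobenius_def, hj]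
  have hpow_one : ∀ x : AdjoinRoot χ, x ^ q = 1 → x = 1 := by
    intro x hx
    have : (x - 1) ^ q = 0 := by
      rw [hj, sub_pow_char_pow, ← hj, hx, one_pow, sub_self]
    exact sub_eq_zero.mp (pow_eq_zero_iff (by omega) |>.mp this)
  -- the image of the root under c ↦ (c^q)⁻¹
  set mu : AdjoinRoot χ := (lam ^ q)⁻¹ with hmu
  have he : lam ^ q ≠ 0 := pow_ne_zero _ hlam0
  have hmuroot : mu ^ 3 - A * mu ^ 2 + A ^ q * mu - 1 = 0 := by
    have key : (lam ^ q) ^ 3 - A ^ q * (lam ^ q) ^ 2 + A * lam ^ q - 1 = 0 := by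
      have := congrArg (iterateFrobenius (AdjoinRoot χ) p j) hroot
      simp only [map_sub, map_add, map_mul, map_pow, map_one, map_zero] at this
      simp only [hfr] at this
      rw [hAq] at this
      rw [← this]
    rw [hmu]
    field_simp
    linear_combination (-1) * key
  have hmuaeval : aeval mu (minpoly F lam) = 0 := by
    have h1 : aeval mu (X ^ 3 - C a * X ^ 2 + C (a ^ q) * X - 1 : F[X]) = 0 := by
      simpa [hA] using hmuroot
    rw [hmin]
    rw [← hform] at h1
    exact h1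
  obtain ⟨σ, hσ⟩ := minpoly.exists_algEquiv_of_root' (Algebra.IsAlgebraic.isAlgebraic lam) hmuaeval
  obtain ⟨i, hi3, hi⟩ := exists_frob_pow σ
  rw [hrank] at hi3
  have hmu' : mu = lam ^ ((q ^ 2) ^ i) := by rw [← hσ, hi, hF]
  -- rational elements
  have hnotF : lam ^ (q ^ 2) ≠ lam := by
    intro h
    obtain ⟨c, hc⟩ := mem_range_of_pow_card (F := F) lam (by rw [hF]; exact h)
    have h1 := minpoly.aeval F lam
    rw [hmin] at h1
    rw [← hc, aeval_algebraMap_apply] at h1
    have h2 : eval c χ = 0 := by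
      have := (algebraMap F (AdjoinRoot χ)).injective
      apply this
      rw [map_zero]
      exact h1
    have h3 := degree_eq_one_of_irreducible_of_root hirr h2
    have h4 : χ.degree = 3 := by rw [degree_eq_natDegree hχ0, hdeg]; rfl
    rw [h4] at h3
    exact absurd h3 (by decide)
  have hnorm1 : lam ^ (q + 1) ≠ 1 := by
    intro h
    apply hnotF
    have e : q ^ 2 = (q + 1) * (q - 1) + 1 := by
      obtain ⟨r, rfl⟩ : ∃ r, q = r + 1 := ⟨q - 1, by omega⟩
      simp only [Nat.add_sub_cancel]; ring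
    rw [e, pow_succ, pow_mul, h, one_pow, one_mul]
  -- λ^(q³+1) = 1
  have hunit : lam ^ (q ^ 3 + 1) = 1 := by
    have hmul : mu * lam ^ q = 1 := by rw [hmu, inv_mul_cancel₀ he]
    rw [hmu'] at hmul
    interval_cases i
    · exfalso; apply hnorm1
      rw [pow_zero, pow_one] at hmul
      rw [pow_succ', hmul]
    · exfalso; apply hnorm1
      apply hpow_one
      rw [← pow_mul, ← hmul, pow_one, ← pow_add]; congr 1; ring
    · apply hpow_one
      rw [← pow_mul, ← hmul, ← pow_add]; congr 1; ring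
  -- the norm
  have hc0 : χ.coeff 0 = -1 := by rw [hform]; simp
  have hN : lam ^ (q ^ 4 + q ^ 2 + 1) = 1 := by
    have h1 := FiniteField.algebraMap_norm_eq_pow (K := F) (K' := AdjoinRoot χ) (x := lam)
    have h2 : Algebra.norm F lam = 1 := by
      have := Algebra.PowerBasis.norm_gen_eq_coeff_zero_minpoly pb
      rw [AdjoinRoot.powerBasis_gen, ← hlam, hmin, AdjoinRoot.powerBasis_dim, hdeg, hc0] at this
      rw [this]; norm_num
    rw [h2, map_one, hcardK, Nat.card_eq_fintype_card, hF] at h1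
    have h3 : (q ^ 6 - 1) / (q ^ 2 - 1) = q ^ 4 + q ^ 2 + 1 := by
      have hpos : 0 < q ^ 2 - 1 := by
        have : 4 ≤ q ^ 2 := by nlinarith
        omega
      have : q ^ 6 - 1 = (q ^ 4 + q ^ 2 + 1) * (q ^ 2 - 1) := by
        obtain ⟨r, hr⟩ : ∃ r, q ^ 2 = r + 1 := ⟨q ^ 2 - 1, by omega⟩
        have e6 : q ^ 6 = (q ^ 2) ^ 3 := by ring
        have e4 : q ^ 4 = (q ^ 2) ^ 2 := by ring
        rw [e6, e4, hr]
        simp only [Nat.add_sub_cancel]
        have : (r + 1) ^ 3 = ((r + 1) ^ 2 + (r + 1) + 1) * r + 1 := by ring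
        rw [this]
        simp
      rw [this, Nat.mul_div_cancel _ hpos]
    rw [h3] at h1
    exact h1.symm
  -- λ^(q²-q+1) = 1
  obtain ⟨B, hB⟩ : ∃ B, B + q = q ^ 2 := ⟨q ^ 2 - q, Nat.sub_add_cancel (by nlinarith)⟩
  have hBq : q ^ 2 - q = B := by omega
  unfold Good
  rw [hBq]
  have hA1 : lam ^ (B + 1) = 1 := by
    have e1 : (B + 1) * (q + 1) = q ^ 3 + 1 := by
      zify at hB ⊢
      linear_combination ((q : ℤ) + 1) * hB
    have e2 : (B + 1) * (q ^ 2 + q + 1) = q ^ 4 + q ^ 2 + 1 := by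
      zify at hB ⊢
      linear_combination ((q : ℤ) ^ 2 + q + 1) * hB
    have h1 : (lam ^ (B + 1)) ^ (q + 1) = 1 := by rw [← pow_mul, e1, hunit]
    have h2 : (lam ^ (B + 1)) ^ (q ^ 2 + q + 1) = 1 := by rw [← pow_mul, e2, hN]
    have h3 : ∀ y : AdjoinRoot χ, y ^ (q ^ 2 + q + 1) = (y ^ (q + 1)) ^ q * y := by
      intro y
      rw [← pow_mul, ← pow_succ]; congr 1; ring
    rw [h3 (lam ^ (B + 1)), h1, one_pow, one_mul] at h2
    exact h2
  rcases d_cases q with h1 | h3
  · refine ⟨B + 1, 1, Or.inr (Or.inr (Or.inr ?_)), ?_⟩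
    · rw [h1, Nat.div_one]
    · apply pow_eq_smul_of_dvd
      rw [← hχ, ← AdjoinRoot.mk_eq_zero]
      simp only [map_sub, map_pow, AdjoinRoot.mk_X, AdjoinRoot.mk_C, map_one]
      rw [← hlam, hA1, sub_self]
  · have h3q : 3 ∣ q + 1 := by
      have := Nat.gcd_dvd_right 3 (q + 1)
      rwa [h3] at this
    have h3A : 3 ∣ B + 1 := by
      have e : B + 1 + 3 * q = (q + 1) ^ 2 := by
        have : (q + 1) ^ 2 = q ^ 2 + 2 * q + 1 := by ring
        rw [this, ← hB]; ring
      have h4 : 3 ∣ (q + 1) ^ 2 := Dvd.dvd.pow h3q two_ne_zero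
      rw [← e] at h4
      exact (Nat.dvd_add_left (dvd_mul_right 3 q)).mp h4
    obtain ⟨k, hk⟩ := h3A
    have hω3 : (lam ^ k) ^ 3 = 1 := by
      rw [← pow_mul, mul_comm, ← hk, hA1]
    have hωF : (lam ^ k) ^ (q ^ 2) = lam ^ k := by
      obtain ⟨t, ht⟩ := h3q
      have e : q ^ 2 = 3 * (t * (q - 1)) + 1 := by
        have h5 : q ^ 2 = (q + 1) * (q - 1) + 1 := by
          obtain ⟨r, rfl⟩ : ∃ r, q = r + 1 := ⟨q - 1, by omega⟩
          simp only [Nat.add_sub_cancel]; ring
        rw [h5, ht]; ring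
      rw [e, pow_succ, pow_mul, hω3, one_pow, one_mul]
    obtain ⟨s, hs⟩ := mem_range_of_pow_card (F := F) (lam ^ k) (by rw [hF]; exact hωF)
    refine ⟨k, s, Or.inr (Or.inr (Or.inr ?_)), ?_⟩
    · rw [h3, hk, Nat.mul_div_cancel_left _ (by norm_num : 0 < 3)]
    · apply pow_eq_smul_of_dvd
      rw [← hχ, ← AdjoinRoot.mk_eq_zero]
      simp only [map_sub, map_pow, AdjoinRoot.mk_X, AdjoinRoot.mk_C]
      rw [← hlam, ← hs, AdjoinRoot.algebraMap_eq, sub_self]

end irr

end Cfsg.Agent.Lib.Helper14.PSU3
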