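import Mathlib
import Cfsg.Agent.Lib.Helper14.PSU3Upper5

set_option autoImplicit false
set_option linter.unusedSectionVars false
set_option linter.unusedVariables false

namespace Cfsg.Agent.Lib.Helper14.PSU3

open Cfsg Cfsg.Agent.Lib.Helper6 Cfsg.Agent.Lib.Helper16 Matrix Polynomial

variable {F : Type*} [Field F] [Fintype F] {q : ℕ} (hF : Fintype.card F = q ^ 2)
  (p : ℕ) [Fact p.Prime] [CharP F p] (hp : p ≠ 2)

include hF hp in
/-- every matrix of `SU₃(q)`, `q` odd, has a scalar power of controlled exponent -/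
theorem good_mat (g : SU 3 F q) : Good p q (mat g) := by
  obtain ⟨a, ha⟩ := charpoly_form hF g
  by_cases hr : ∃ c : F, c ^ 3 - a * c ^ 2 + a ^ q * c - 1 = 0
  · obtain ⟨c, hc⟩ := hr
    exact reducible_main hF p hp _ a c ha hc
  · apply irreducible_main hF p hp _ a ha
    apply irreducible_of_degree_le_three_of_not_isRoot
    · rw [Matrix.charpoly_natDegree_eq_dim, Fintype.card_fin]; decide
    · intro x hx
      apply hr
      refine ⟨x, ?_⟩
      rw [IsRoot.def, ha, eval_form] at hx
      exact hx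

include hF hp in
/-- the upper bound for the spectrum of `PSU₃(q)`, `q` odd -/
theorem upper (x : PSU 3 F q) :
    orderOf x ∣ q + 1 ∨ orderOf x ∣ p * (q + 1) / Nat.gcd 3 (q + 1) ∨
      orderOf x ∣ (q ^ 2 - 1) / Nat.gcd 3 (q + 1) ∨
      orderOf x ∣ (q ^ 2 - q + 1) / Nat.gcd 3 (q + 1) := by
  obtain ⟨g, rfl⟩ := QuotientGroup.mk_surjective x
  obtain ⟨k, s, hk, hs⟩ := good_mat hF p hp g
  have hd := orderOf_mk_dvd g k s hs
  rcases hk with h | h | h | h
  · exact Or.inl (hd.trans h)
  · exact Or.inr (Or.inl (hd.trans h))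
  · exact Or.inr (Or.inr (Or.inl (hd.trans h)))
  · exact Or.inr (Or.inr (Or.inr (hd.trans h)))

end Cfsg.Agent.Lib.Helper14.PSU3
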