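import Mathlib
import Cfsg.Agent.Lib.Helper14.PSU3Lower5
import Cfsg.Agent.Lib.Helper14.PSU3Upper6

set_option autoImplicit false
set_option linter.unusedSectionVars false
set_option linter.unusedVariables false
set_option linter.style.haveILetI false

namespace Cfsg.Agent.Lib.Helper14.PSU3

open Cfsg Cfsg.Agent.Lib.Helper6 Cfsg.Agent.Lib.Helper16 Matrix Polynomial Module

variable {F : Type*} [Field F] [Fintype F] {q : ℕ} (hF : Fintype.card F = q ^ 2)

include hF in
/-- an element of order `(q² - q + 1) / d` -/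
theorem exists_lower_d (p : ℕ) [Fact p.Prime] [CharP F p] :
    ∃ g : SU 3 F q, ∀ (k : ℕ) (c : F), mat g ^ k = c • 1 →
      (q ^ 2 - q + 1) / Nat.gcd 3 (q + 1) ∣ k := by
  classical
  obtain ⟨j, hj⟩ := exists_q_eq_pow hF p
  have hq2 := two_le_q hF
  have hj0 : j ≠ 0 := by
    rintro rfl
    rw [pow_zero] at hj
    omega
  let K := GaloisField p (2 * j * 3)
  letI : Fintype K := Fintype.ofFinite K
  have hK : Fintype.card K = (q ^ 2) ^ 3 := by
    rw [← Nat.card_eq_fintype_card, GaloisField.card p _ (by omega), hj]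
    ring
  obtain ⟨ι⟩ := exists_ringHom_of_card_pow (F := F) (K := K) (n := 3) (by norm_num) hF hK
  letI : Algebra F K := ι.toAlgebra
  have hrank : finrank F K = 3 := by
    have h1 : Fintype.card K = Fintype.card F ^ finrank F K := Module.card_eq_pow_finrank
    rw [hK, hF] at h1
    exact (Nat.pow_right_injective (by nlinarith : 2 ≤ q ^ 2) h1).symm
  exact exists_lower_d_aux hF p hrank hj hq2

include hF in
/-- the lower bound for the spectrum of `PSU₃(q)`, `q` odd -/
theorem lower (p : ℕ) [Fact p.Prime] [CharP F p] (hp : p ≠ 2) (s : ℕ)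
    (hs : s ∣ q + 1 ∨ s ∣ p * (q + 1) / Nat.gcd 3 (q + 1) ∨
      s ∣ (q ^ 2 - 1) / Nat.gcd 3 (q + 1) ∨ s ∣ (q ^ 2 - q + 1) / Nat.gcd 3 (q + 1)) :
    s ∈ Set.range (orderOf : PSU 3 F q → ℕ) := by
  have hq3 : 3 ≤ q := by
    have h2 := two_le_q hF
    have hodd := q_odd hF p hp
    rcases hodd with ⟨r, hr⟩
    omega
  rcases hs with h | h | h | h
  · obtain ⟨g, hg⟩ := exists_lower_a hF
    exact range_of_lower hF g _ hg s h
  · obtain ⟨g, hg⟩ := exists_lower_b hF p
    exact range_of_lower hF g _ hg s h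
  · obtain ⟨g, hg⟩ := exists_lower_c hF hq3
    exact range_of_lower hF g _ hg s h
  · obtain ⟨g, hg⟩ := exists_lower_d hF p
    exact range_of_lower hF g _ hg s h

end Cfsg.Agent.Lib.Helper14.PSU3
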