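import Mathlib
import Cfsg.Agent.Lib.Helper14.PSU3Lower6

set_option autoImplicit false
set_option linter.unusedSectionVars false
set_option linter.unusedVariables false

namespace Cfsg.Agent.Lib.Helper14.PSL3

open Matrix Polynomial Module

variable {F : Type*} [Field F] [Fintype F]

/-- the underlying matrix of an element of `SL₃` -/
def smat (g : Matrix.SpecialLinearGroup (Fin 3) F) : Matrix (Fin 3) (Fin 3) F := g.1

omit [Fintype F] in
lemma smat_pow (g : Matrix.SpecialLinearGroup (Fin 3) F) (k : ℕ) : smat (g ^ k) = smat g ^ k := by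
  simp [smat]

omit [Fintype F] in
lemma smat_det (g : Matrix.SpecialLinearGroup (Fin 3) F) : (smat g).det = 1 := g.2

omit [Fintype F] in
lemma mem_center_iff_scalar (g : Matrix.SpecialLinearGroup (Fin 3) F) :
    g ∈ Subgroup.center (Matrix.SpecialLinearGroup (Fin 3) F) ↔ ∃ c : F, smat g = c • 1 := by
  rw [Matrix.SpecialLinearGroup.mem_center_iff]
  constructor
  · rintro ⟨r, -, hr⟩
    refine ⟨r, ?_⟩
    rw [smat, ← hr, Matrix.scalar_apply, Matrix.smul_one_eq_diagonal]
  · rintro ⟨c, hc⟩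
    refine ⟨c, ?_, ?_⟩
    · have h1 := smat_det g
      rw [hc, Matrix.det_smul, Matrix.det_one, mul_one, Fintype.card_fin] at h1
      rw [Fintype.card_fin]; exact h1
    · have : (g : Matrix (Fin 3) (Fin 3) F) = c • 1 := hc
      rw [this, Matrix.scalar_apply, Matrix.smul_one_eq_diagonal]

omit [Fintype F] in
lemma orderOf_mk_dvd (g : Matrix.SpecialLinearGroup (Fin 3) F) (k : ℕ) (c : F)
    (h : smat g ^ k = c • 1) :
    orderOf (QuotientGroup.mk g : Matrix.ProjectiveSpecialLinearGroup (Fin 3) F) ∣ k := by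
  apply orderOf_dvd_of_pow_eq_one
  rw [← QuotientGroup.mk_pow, QuotientGroup.eq_one_iff, mem_center_iff_scalar]
  exact ⟨c, by rw [smat_pow, h]⟩

omit [Fintype F] in
lemma exists_scalar_of_mk_pow (g : Matrix.SpecialLinearGroup (Fin 3) F) (k : ℕ)
    (h : (QuotientGroup.mk g : Matrix.ProjectiveSpecialLinearGroup (Fin 3) F) ^ k = 1) :
    ∃ c : F, smat g ^ k = c • 1 := by
  rw [← QuotientGroup.mk_pow, QuotientGroup.eq_one_iff, mem_center_iff_scalar] at h
  obtain ⟨c, hc⟩ := h
  exact ⟨c, by rw [← smat_pow, hc]⟩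

/-- an element of `SL₃` all of whose scalar powers have exponent divisible by `N` yields
elements of all orders dividing `N` in `PSL₃` -/
theorem range_of_lower (g : Matrix.SpecialLinearGroup (Fin 3) F) (N : ℕ)
    (h : ∀ (k : ℕ) (c : F), smat g ^ k = c • 1 → N ∣ k) (s : ℕ) (hs : s ∣ N) :
    s ∈ Set.range (orderOf : Matrix.ProjectiveSpecialLinearGroup (Fin 3) F → ℕ) := by
  classical
  set x : Matrix.ProjectiveSpecialLinearGroup (Fin 3) F := QuotientGroup.mk g with hx
  have ho : 0 < orderOf x := orderOf_pos x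
  obtain ⟨c, hc⟩ := exists_scalar_of_mk_pow g (orderOf x) (pow_orderOf_eq_one x)
  have hN : N ∣ orderOf x := h _ c hc
  have hso : s ∣ orderOf x := hs.trans hN
  obtain ⟨m, hm⟩ := hso
  have hm0 : m ≠ 0 := by
    rintro rfl
    rw [mul_zero] at hm
    omega
  refine ⟨x ^ m, ?_⟩
  rw [orderOf_pow_of_dvd hm0 ⟨s, by rw [hm, mul_comm]⟩, hm,
    Nat.mul_div_cancel _ (Nat.pos_of_ne_zero hm0)]

/-- transport of a linear map of determinant one on a three-dimensional space to `SL₃` -/
theorem transport {U : Type*} [AddCommGroup U] [Module F U] [FiniteDimensional F U]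
    (hk : finrank F U = 3) (T : U →ₗ[F] U) (hdet : LinearMap.det T = 1) :
    ∃ g : Matrix.SpecialLinearGroup (Fin 3) F,
      ∀ (k : ℕ) (c : F), smat g ^ k = c • 1 → ∀ u, (T ^ k) u = c • u := by
  classical
  let b : Basis (Fin 3) F U := Module.finBasisOfFinrankEq F U hk
  set M : Matrix (Fin 3) (Fin 3) F := LinearMap.toMatrix b b T with hM
  have hdetM : M.det = 1 := by rw [hM, LinearMap.det_toMatrix, hdet]
  refine ⟨⟨M, hdetM⟩, fun k c hkc u => ?_⟩
  have h1 : smat (⟨M, hdetM⟩ : Matrix.SpecialLinearGroup (Fin 3) F) = M := rfl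
  rw [h1, hM, LinearMap.toMatrix_pow] at hkc
  have h2 : LinearMap.toMatrix b b (T ^ k) = LinearMap.toMatrix b b (c • LinearMap.id) := by
    rw [hkc, map_smul, LinearMap.toMatrix_id]
  have h3 := (LinearMap.toMatrix b b).injective h2
  rw [h3]
  rfl

end Cfsg.Agent.Lib.Helper14.PSL3
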