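import Mathlib
import Cfsg.Agent.Lib.Helper14.PSL3Basic

set_option autoImplicit false
set_option linter.unusedSectionVars false
set_option linter.unusedVariables false

namespace Cfsg.Agent.Lib.Helper14.PSL3

open Matrix Polynomial Module Cfsg.Agent.Lib.Helper14.PSU3

/-- some power `M ^ k` with `k` dividing one of the critical numbers is scalar -/
def GoodL {F : Type*} [Field F] (p q : ℕ) (M : Matrix (Fin 3) (Fin 3) F) : Prop :=
  ∃ (k : ℕ) (s : F), (k ∣ (q ^ 2 + q + 1) / Nat.gcd 3 (q - 1) ∨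
    k ∣ (q ^ 2 - 1) / Nat.gcd 3 (q - 1) ∨ k ∣ q - 1 ∨
    k ∣ p * (q - 1) / Nat.gcd 3 (q - 1) ∨ (p = 2 ∧ k ∣ 4)) ∧
    M ^ k = s • 1

lemma dL_cases (q : ℕ) : Nat.gcd 3 (q - 1) = 1 ∨ Nat.gcd 3 (q - 1) = 3 :=
  (Nat.dvd_prime Nat.prime_three).mp (Nat.gcd_dvd_left 3 (q - 1))

section split

variable {F : Type*} [Field F] [Fintype F] {q : ℕ} (hq : Fintype.card F = q)
  (p : ℕ) [Fact p.Prime] [CharP F p] (M : Matrix (Fin 3) (Fin 3) F)

include hq in
lemma pow_q_sub_one {x : F} (hx : x ≠ 0) : x ^ (q - 1) = 1 := by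
  rw [← hq]; exact FiniteField.pow_card_sub_one_eq_one x hx

include hq in
lemma pow_q (x : F) : x ^ q = x := by
  rw [← hq]; exact FiniteField.pow_card x

include hq in
lemma two_le_q : 2 ≤ q := by
  rw [← hq]; exact Fintype.one_lt_card

lemma goodL_triple (u : F) (h : M.charpoly = (X - C u) ^ 3) : GoodL p q M := by
  have hp2 := (Fact.out : p.Prime).two_le
  by_cases hp : p = 2
  · refine ⟨4, u ^ 4, Or.inr (Or.inr (Or.inr (Or.inr ⟨hp, dvd_rfl⟩))), ?_⟩
    apply pow_eq_smul_of_dvd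
    rw [h]
    have h4 : (X - C u : F[X]) ^ 4 = X ^ 4 - C (u ^ 4) := by
      subst hp
      have e : (X - C u : F[X]) ^ 4 = ((X - C u) ^ 2) ^ 2 := by ring
      rw [e, sub_pow_char, sub_pow_char, ← pow_mul, ← pow_mul, ← C_pow]
    rw [← h4]
    exact pow_dvd_pow _ (by norm_num)
  · refine ⟨p, u ^ p, Or.inr (Or.inr (Or.inr (Or.inl ?_))), ?_⟩
    · rw [Nat.mul_div_assoc p (Nat.gcd_dvd_right 3 (q - 1))]
      exact dvd_mul_right _ _
    · apply pow_eq_smul_of_dvd
      rw [h, ← sub_C_pow_char]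
      exact pow_dvd_pow _ (by omega)

include hq in
lemma goodL_double (u v : F) (huv : u ≠ v) (h : M.charpoly = (X - C u) ^ 2 * (X - C v))
    (hdet : u ^ 2 * v = 1) : GoodL p q M := by
  have hp2 := (Fact.out : p.Prime).two_le
  have hu0 : u ≠ 0 := by
    rintro rfl
    simp at hdet
  have hu : u ^ (q - 1) = 1 := pow_q_sub_one hq hu0
  set d := Nat.gcd 3 (q - 1) with hd
  have hdq : d ∣ q - 1 := Nat.gcd_dvd_right 3 (q - 1)
  set m := (q - 1) / d with hm
  have hmd : m * d = q - 1 := Nat.div_mul_cancel hdq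
  have hu3 : u ^ (3 * m) = 1 := by
    rcases dL_cases q with h1 | h3
    · rw [← hd] at h1
      rw [h1, mul_one] at hmd
      rw [mul_comm, pow_mul, hmd, hu, one_pow]
    · rw [← hd] at h3
      rw [h3] at hmd
      rw [mul_comm, hmd, hu]
  have hvm : v ^ m = u ^ m := by
    have h1 : (u ^ 2 * v) ^ m = 1 := by rw [hdet, one_pow]
    rw [mul_pow, ← pow_mul] at h1
    have h2 : u ^ (3 * m) = u ^ (2 * m) * u ^ m := by rw [← pow_add]; congr 1; ring
    have hu0' : u ^ (2 * m) ≠ 0 := pow_ne_zero _ hu0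
    apply mul_left_cancel₀ hu0'
    rw [h1, ← h2, hu3]
  refine ⟨m * p, (u ^ m) ^ p, Or.inr (Or.inr (Or.inr (Or.inl ?_))), ?_⟩
  · rw [Nat.mul_div_assoc p hdq, mul_comm]
  · apply pow_eq_smul_of_dvd
    rw [h, ← sub_C_pow_char']
    have h1 : (X - C u) * (X - C v) ∣ X ^ m - C (u ^ m) :=
      prod_two_dvd huv _ ((isRoot_pow_sub_C _ _ _).mpr rfl) ((isRoot_pow_sub_C _ _ _).mpr hvm)
    have h2 : (X - C u) ^ 2 * (X - C v) ∣ ((X - C u) * (X - C v)) ^ 2 := by
      rw [mul_pow]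
      exact mul_dvd_mul_left _ (dvd_pow_self _ two_ne_zero)
    have h3 : ((X - C u) * (X - C v)) ^ 2 ∣ (X ^ m - C (u ^ m)) ^ 2 := pow_dvd_pow_of_dvd h1 2
    have h4 : (X ^ m - C (u ^ m) : F[X]) ^ 2 ∣ (X ^ m - C (u ^ m)) ^ p :=
      pow_dvd_pow _ hp2
    exact h2.trans (h3.trans h4)

include hq in
lemma goodL_distinct (u v w : F) (huv : u ≠ v) (huw : u ≠ w) (hvw : v ≠ w)
    (h : M.charpoly = (X - C u) * (X - C v) * (X - C w)) (hdet : u * v * w = 1) :
    GoodL p q M := by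
  have hu0 : u ≠ 0 := by rintro rfl; simp at hdet
  have hv0 : v ≠ 0 := by rintro rfl; simp at hdet
  have hw0 : w ≠ 0 := by rintro rfl; simp at hdet
  refine ⟨q - 1, 1, Or.inr (Or.inr (Or.inl dvd_rfl)), ?_⟩
  apply pow_eq_smul_of_dvd
  rw [h]
  exact prod_three_dvd huv huw hvw _ ((isRoot_pow_sub_C _ _ _).mpr (pow_q_sub_one hq hu0))
    ((isRoot_pow_sub_C _ _ _).mpr (pow_q_sub_one hq hv0))
    ((isRoot_pow_sub_C _ _ _).mpr (pow_q_sub_one hq hw0))

include hq in
lemma goodL_split (c₁ c₂ c₃ : F) (h0 : M.charpoly.coeff 0 = -1)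
    (hsplit : M.charpoly = (X - C c₁) * (X - C c₂) * (X - C c₃)) : GoodL p q M := by
  have hdet : c₁ * c₂ * c₃ = 1 := by
    have h2 := congrArg (eval 0) hsplit
    rw [← coeff_zero_eq_eval_zero, h0] at h2
    simp at h2
    linear_combination -h2
  by_cases h12 : c₁ = c₂
  · by_cases h23 : c₂ = c₃
    · subst h12; subst h23
      exact goodL_triple p M c₁ (by rw [hsplit]; ring)
    · subst h12
      exact goodL_double hq p M c₁ c₃ h23 (by rw [hsplit]; ring) (by linear_combination hdet)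
  · by_cases h13 : c₁ = c₃
    · subst h13
      exact goodL_double hq p M c₁ c₂ h12 (by rw [hsplit]; ring) (by linear_combination hdet)
    · by_cases h23 : c₂ = c₃
      · subst h23
        exact goodL_double hq p M c₂ c₁ (Ne.symm h12) (by rw [hsplit]; ring)
          (by linear_combination hdet)
      · exact goodL_distinct hq p M c₁ c₂ c₃ h12 h13 h23 hsplit hdet

end split

end Cfsg.Agent.Lib.Helper14.PSL3
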