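import Mathlib
import Cfsg.Agent.Lib.Helper14.PSL3Upper1

set_option autoImplicit false
set_option linter.unusedSectionVars false
set_option linter.unusedVariables false
set_option linter.style.haveILetI false

namespace Cfsg.Agent.Lib.Helper14.PSL3

open Matrix Polynomial Module Cfsg.Agent.Lib.Helper14.PSU3

section ext

variable {F : Type*} [Field F] [Fintype F] {q : ℕ} (hq : Fintype.card F = q)
  {K : Type*} [Field K] [Algebra F K] [Finite K]

include hq in
/-- cube roots of unity are rational when `3 ∣ q - 1` -/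
lemma cube_root_mem (h3 : 3 ∣ q - 1) (ω : K) (hω : ω ^ 3 = 1) :
    ∃ σ : F, algebraMap F K σ = ω := by
  apply mem_range_of_pow_card (F := F)
  rw [hq]
  obtain ⟨t, ht⟩ := h3
  have hq2 := two_le_q hq
  have e : q = 3 * t + 1 := by omega
  rw [e, pow_succ, pow_mul, hω, one_pow, one_mul]

end ext

section quad

variable {F : Type*} [Field F] [Fintype F] {q : ℕ} (hq : Fintype.card F = q)
  (p : ℕ) [Fact p.Prime] [CharP F p] (M : Matrix (Fin 3) (Fin 3) F)

lemma sq_sub_one_eq (q : ℕ) (hq : 1 ≤ q) : q ^ 2 - 1 = (q - 1) * (q + 1) := by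
  obtain ⟨r, rfl⟩ : ∃ r, q = r + 1 := ⟨q - 1, by omega⟩
  have : (r + 1) ^ 2 = r * (r + 1 + 1) + 1 := by ring
  rw [this]
  simp

include hq in
/-- linear factor times an irreducible quadratic -/
lemma goodL_quad (c₁ : F) (Q : F[X]) (hQm : Q.Monic) (hQd : Q.natDegree = 2)
    (hQi : Irreducible Q) (h0 : M.charpoly.coeff 0 = -1)
    (hfac : M.charpoly = (X - C c₁) * Q) : GoodL p q M := by
  classical
  haveI : Fact (Irreducible Q) := ⟨hQi⟩
  have hQ0 : Q ≠ 0 := hQi.ne_zero
  have hq2 := two_le_q hq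
  let pb := AdjoinRoot.powerBasis hQ0
  haveI : Module.Finite F (AdjoinRoot Q) := pb.finite
  haveI : Finite (AdjoinRoot Q) := Module.finite_of_finite F
  have hrank : Module.finrank F (AdjoinRoot Q) = 2 := by
    rw [pb.finrank, AdjoinRoot.powerBasis_dim, hQd]
  set mu : AdjoinRoot Q := AdjoinRoot.root Q with hmu
  have hmin : minpoly F mu = Q := by
    rw [hmu, AdjoinRoot.minpoly_root hQ0, hQm.leadingCoeff, inv_one, C_1, mul_one]
  have hcardK : Nat.card (AdjoinRoot Q) = q ^ 2 := by
    rw [Module.natCard_eq_pow_finrank (K := F), hrank, Nat.card_eq_fintype_card, hq]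
  -- the constant terms
  obtain ⟨t, ht⟩ : ∃ t, t = Q.coeff 0 := ⟨_, rfl⟩
  have hct : c₁ * t = 1 := by
    have h2 := congrArg (fun P => P.coeff 0) hfac
    simp only [h0, mul_coeff_zero, coeff_sub, coeff_X_zero, coeff_C_zero, zero_sub] at h2
    rw [ht]; linear_combination h2
  have hc0 : c₁ ≠ 0 := by rintro rfl; simp at hct
  have ht0 : t ≠ 0 := by rintro rfl; simp at hct
  -- the norm
  have hnorm : mu ^ (q + 1) = algebraMap F (AdjoinRoot Q) t := by
    have h1 := FiniteField.algebraMap_norm_eq_pow (K := F) (K' := AdjoinRoot Q) (x := mu)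
    have h2 : Algebra.norm F mu = t := by
      have := Algebra.PowerBasis.norm_gen_eq_coeff_zero_minpoly pb
      rw [AdjoinRoot.powerBasis_gen, ← hmu, hmin, AdjoinRoot.powerBasis_dim, hQd, ← ht] at this
      rw [this]; norm_num
    rw [h2, hcardK, Nat.card_eq_fintype_card, hq] at h1
    have h3 : (q ^ 2 - 1) / (q - 1) = q + 1 := by
      rw [sq_sub_one_eq q (by omega)]
      exact Nat.mul_div_cancel_left _ (by omega)
    rw [h3] at h1
    exact h1.symm
  have hmu0 : mu ≠ 0 := by
    intro h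
    rw [h, zero_pow (by omega)] at hnorm
    exact ht0 ((algebraMap F (AdjoinRoot Q)).injective (by rw [← hnorm, map_zero]))
  have hmuK : mu ^ (q ^ 2 - 1) = 1 := by
    haveI : Fintype (AdjoinRoot Q) := Fintype.ofFinite _
    have := FiniteField.pow_card_sub_one_eq_one mu hmu0
    rwa [← Nat.card_eq_fintype_card, hcardK] at this
  have hcoprime : IsCoprime (X - C c₁) Q := by
    rw [(irreducible_X_sub_C c₁).coprime_iff_not_dvd]
    intro hdvd
    have hroot : Q.IsRoot c₁ := dvd_iff_isRoot.mp hdvd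
    have h1 := degree_eq_one_of_irreducible_of_root hQi hroot
    rw [degree_eq_natDegree hQ0, hQd] at h1
    exact absurd h1 (by decide)
  have key : ∀ (k : ℕ) (σ : F), c₁ ^ k = σ → mu ^ k = algebraMap F (AdjoinRoot Q) σ →
      M ^ k = σ • 1 := by
    intro k σ h1 h2
    apply pow_eq_smul_of_dvd
    rw [hfac]
    apply hcoprime.mul_dvd
    · exact dvd_iff_isRoot.mpr ((isRoot_pow_sub_C _ _ _).mpr h1)
    · rw [← AdjoinRoot.mk_eq_zero]
      simp only [map_sub, map_pow, AdjoinRoot.mk_X, AdjoinRoot.mk_C]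
      rw [← hmu, h2, AdjoinRoot.algebraMap_eq, sub_self]
  have hfacq := sq_sub_one_eq q (by omega)
  rcases dL_cases q with hd1 | hd3
  · refine ⟨q ^ 2 - 1, 1, Or.inr (Or.inl ?_), ?_⟩
    · rw [hd1, Nat.div_one]
    · apply key
      · rw [hfacq, pow_mul, pow_q_sub_one hq hc0, one_pow]
      · rw [hmuK, map_one]
  · have h3q : 3 ∣ q - 1 := by
      have := Nat.gcd_dvd_right 3 (q - 1)
      rwa [hd3] at this
    obtain ⟨m, hm⟩ := h3q
    have hk : (q ^ 2 - 1) / 3 = m * (q + 1) := by
      rw [hfacq, hm, mul_assoc]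
      exact Nat.mul_div_cancel_left _ (by norm_num)
    set ω := mu ^ (m * (q + 1)) with hω
    have hω3 : ω ^ 3 = 1 := by
      rw [hω, ← pow_mul]
      have : m * (q + 1) * 3 = q ^ 2 - 1 := by rw [hfacq, hm]; ring
      rw [this, hmuK]
    obtain ⟨σ, hσ⟩ := cube_root_mem hq ⟨m, hm⟩ ω hω3
    have hωq : ω ^ q = ω := by
      rw [← hσ, ← map_pow, pow_q hq]
    refine ⟨m * (q + 1), σ, Or.inr (Or.inl ?_), ?_⟩
    · rw [hd3, hk]
    · apply key
      · apply (algebraMap F (AdjoinRoot Q)).injective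
        rw [hσ, map_pow]
        -- algebraMap c₁ = (mu^(q+1))⁻¹
        have hc1 : algebraMap F (AdjoinRoot Q) c₁ * mu ^ (q + 1) = 1 := by
          rw [hnorm, ← map_mul, hct, map_one]
        have h5 : (algebraMap F (AdjoinRoot Q) c₁) ^ (m * (q + 1)) * ω ^ (q + 1) = 1 := by
          have e : ω ^ (q + 1) = (mu ^ (q + 1)) ^ (m * (q + 1)) := by
            rw [hω, ← pow_mul, ← pow_mul, mul_comm]
          rw [e, ← mul_pow, hc1, one_pow]
        have h6 : ω ^ (q + 1) * ω = 1 := by
          rw [pow_succ, hωq, ← hω3]; ring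
        have hω0 : ω ^ (q + 1) ≠ 0 := by
          intro h
          rw [h, zero_mul] at h6
          exact zero_ne_one h6
        apply mul_right_cancel₀ hω0
        rw [h5, mul_comm, h6]
      · rw [hσ]

end quad

end Cfsg.Agent.Lib.Helper14.PSL3
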