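import Mathlib
import Cfsg.Agent.Lib.Helper14.PSL3Upper2

set_option autoImplicit false
set_option linter.unusedSectionVars false
set_option linter.unusedVariables false
set_option linter.style.haveILetI false

namespace Cfsg.Agent.Lib.Helper14.PSL3

open Matrix Polynomial Module Cfsg.Agent.Lib.Helper14.PSU3

section cubic

variable {F : Type*} [Field F] [Fintype F] {q : ℕ} (hq : Fintype.card F = q)
  (p : ℕ) [Fact p.Prime] [CharP F p] (M : Matrix (Fin 3) (Fin 3) F)

lemma cube_sub_one_eq (q : ℕ) (hq : 1 ≤ q) : q ^ 3 - 1 = (q - 1) * (q ^ 2 + q + 1) := by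
  obtain ⟨r, rfl⟩ : ∃ r, q = r + 1 := ⟨q - 1, by omega⟩
  have : (r + 1) ^ 3 = r * ((r + 1) ^ 2 + (r + 1) + 1) + 1 := by ring
  rw [this]
  simp

lemma three_dvd_N1 (q : ℕ) (h : 3 ∣ q - 1) (hq : 1 ≤ q) : 3 ∣ q ^ 2 + q + 1 := by
  obtain ⟨m, hm⟩ := h
  have e : q = 3 * m + 1 := by omega
  rw [e]
  refine ⟨3 * m ^ 2 + 3 * m + 1, ?_⟩
  ring

include hq in
/-- irreducible characteristic polynomial -/
lemma goodL_irr (h0 : M.charpoly.coeff 0 = -1) (hirr : Irreducible M.charpoly) :
    GoodL p q M := by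
  classical
  set χ := M.charpoly with hχ
  haveI : Fact (Irreducible χ) := ⟨hirr⟩
  have hχ0 : χ ≠ 0 := hirr.ne_zero
  have hmonic : χ.Monic := Matrix.charpoly_monic M
  have hdeg : χ.natDegree = 3 := by
    rw [hχ, Matrix.charpoly_natDegree_eq_dim, Fintype.card_fin]
  have hq2 := two_le_q hq
  let pb := AdjoinRoot.powerBasis hχ0
  haveI : Module.Finite F (AdjoinRoot χ) := pb.finite
  haveI : Finite (AdjoinRoot χ) := Module.finite_of_finite F
  have hrank : Module.finrank F (AdjoinRoot χ) = 3 := by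
    rw [pb.finrank, AdjoinRoot.powerBasis_dim, hdeg]
  set lam : AdjoinRoot χ := AdjoinRoot.root χ with hlam
  have hmin : minpoly F lam = χ := by
    rw [hlam, AdjoinRoot.minpoly_root hχ0, hmonic.leadingCoeff, inv_one, C_1, mul_one]
  have hcardK : Nat.card (AdjoinRoot χ) = q ^ 3 := by
    rw [Module.natCard_eq_pow_finrank (K := F), hrank, Nat.card_eq_fintype_card, hq]
  have hN : lam ^ (q ^ 2 + q + 1) = 1 := by
    have h1 := FiniteField.algebraMap_norm_eq_pow (K := F) (K' := AdjoinRoot χ) (x := lam)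
    have h2 : Algebra.norm F lam = 1 := by
      have := Algebra.PowerBasis.norm_gen_eq_coeff_zero_minpoly pb
      rw [AdjoinRoot.powerBasis_gen, ← hlam, hmin, AdjoinRoot.powerBasis_dim, hdeg, h0] at this
      rw [this]; norm_num
    rw [h2, map_one, hcardK, Nat.card_eq_fintype_card, hq] at h1
    have h3 : (q ^ 3 - 1) / (q - 1) = q ^ 2 + q + 1 := by
      rw [cube_sub_one_eq q (by omega)]
      exact Nat.mul_div_cancel_left _ (by omega)
    rw [h3] at h1
    exact h1.symm
  have key : ∀ (k : ℕ) (σ : F), lam ^ k = algebraMap F (AdjoinRoot χ) σ → M ^ k = σ • 1 := by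
    intro k σ h2
    apply pow_eq_smul_of_dvd
    rw [← hχ, ← AdjoinRoot.mk_eq_zero]
    simp only [map_sub, map_pow, AdjoinRoot.mk_X, AdjoinRoot.mk_C]
    rw [← hlam, h2, AdjoinRoot.algebraMap_eq, sub_self]
  rcases dL_cases q with hd1 | hd3
  · refine ⟨q ^ 2 + q + 1, 1, Or.inl ?_, ?_⟩
    · rw [hd1, Nat.div_one]
    · apply key
      rw [hN, map_one]
  · have h3q : 3 ∣ q - 1 := by
      have := Nat.gcd_dvd_right 3 (q - 1)
      rwa [hd3] at this
    obtain ⟨m, hm⟩ := three_dvd_N1 q h3q (by omega)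
    set ω := lam ^ m with hω
    have hω3 : ω ^ 3 = 1 := by
      rw [hω, ← pow_mul, mul_comm, ← hm, hN]
    obtain ⟨σ, hσ⟩ := cube_root_mem hq h3q ω hω3
    refine ⟨m, σ, Or.inl ?_, ?_⟩
    · rw [hd3, hm, Nat.mul_div_cancel_left _ (by norm_num : 0 < 3)]
    · apply key
      rw [hσ]

end cubic

section main

variable {F : Type*} [Field F] [Fintype F] {q : ℕ} (hq : Fintype.card F = q)
  (p : ℕ) [Fact p.Prime] [CharP F p]

include hq in
/-- every matrix of `SL₃(q)` has a scalar power of controlled exponent -/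
theorem goodL_mat (g : Matrix.SpecialLinearGroup (Fin 3) F) : GoodL p q (smat g) := by
  classical
  set M := smat g with hM
  set χ := M.charpoly with hχ
  have hmonic : χ.Monic := Matrix.charpoly_monic M
  have hdeg : χ.natDegree = 3 := by
    rw [hχ, Matrix.charpoly_natDegree_eq_dim, Fintype.card_fin]
  have h0 : χ.coeff 0 = -1 := by
    have := Matrix.det_eq_sign_charpoly_coeff M
    rw [smat_det, Fintype.card_fin] at this
    rw [hχ]
    linear_combination this
  by_cases hr : ∃ c : F, χ.IsRoot c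
  · obtain ⟨c₁, hc₁⟩ := hr
    set Q := χ /ₘ (X - C c₁) with hQ
    have hfac : χ = (X - C c₁) * Q := (mul_divByMonic_eq_iff_isRoot.mpr hc₁).symm
    have hQm : Q.Monic := (monic_X_sub_C c₁).of_mul_monic_left (by rw [← hfac]; exact hmonic)
    have hQd : Q.natDegree = 2 := by
      rw [hQ, natDegree_divByMonic _ (monic_X_sub_C c₁), hdeg, natDegree_X_sub_C]
    by_cases hr2 : ∃ c : F, Q.IsRoot c
    · obtain ⟨c₂, hc₂⟩ := hr2
      set R := Q /ₘ (X - C c₂) with hR
      have hfac2 : Q = (X - C c₂) * R := (mul_divByMonic_eq_iff_isRoot.mpr hc₂).symm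
      have hRm : R.Monic := (monic_X_sub_C c₂).of_mul_monic_left (by rw [← hfac2]; exact hQm)
      have hRd : R.natDegree = 1 := by
        rw [hR, natDegree_divByMonic _ (monic_X_sub_C c₂), hQd, natDegree_X_sub_C]
      have hR' : R = X - C (-R.coeff 0) := by
        have := hRm.eq_X_add_C hRd
        rw [this]
        simp
      apply goodL_split hq p M (c₁) (c₂) (-R.coeff 0) h0
      rw [← hχ, hfac, hfac2, ← hR']
      ring
    · apply goodL_quad hq p M c₁ Q hQm hQd ?_ h0 hfac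
      apply irreducible_of_degree_le_three_of_not_isRoot
      · rw [hQd]; decide
      · intro x hx
        exact hr2 ⟨x, hx⟩
  · apply goodL_irr hq p M h0
    apply irreducible_of_degree_le_three_of_not_isRoot
    · rw [hdeg]; decide
    · intro x hx
      exact hr ⟨x, hx⟩

include hq in
/-- the upper bound for the spectrum of `PSL₃(q)` -/
theorem upper (x : Matrix.ProjectiveSpecialLinearGroup (Fin 3) F) :
    orderOf x ∣ (q ^ 2 + q + 1) / Nat.gcd 3 (q - 1) ∨
      orderOf x ∣ (q ^ 2 - 1) / Nat.gcd 3 (q - 1) ∨ orderOf x ∣ q - 1 ∨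
      orderOf x ∣ p * (q - 1) / Nat.gcd 3 (q - 1) ∨ (p = 2 ∧ orderOf x ∣ 4) := by
  obtain ⟨g, rfl⟩ := QuotientGroup.mk_surjective x
  obtain ⟨k, s, hk, hs⟩ := goodL_mat hq p g
  have hd := orderOf_mk_dvd g k s hs
  rcases hk with h | h | h | h | ⟨h2, h⟩
  · exact Or.inl (hd.trans h)
  · exact Or.inr (Or.inl (hd.trans h))
  · exact Or.inr (Or.inr (Or.inl (hd.trans h)))
  · exact Or.inr (Or.inr (Or.inr (Or.inl (hd.trans h))))
  · exact Or.inr (Or.inr (Or.inr (Or.inr ⟨h2, hd.trans h⟩)))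

end main

end Cfsg.Agent.Lib.Helper14.PSL3
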