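import Mathlib
import Cfsg.Agent.Lib.Helper14.PSL3Upper3

set_option autoImplicit false
set_option linter.unusedSectionVars false
set_option linter.unusedVariables false
set_option linter.style.haveILetI false

namespace Cfsg.Agent.Lib.Helper14.PSL3

open Matrix Polynomial Module Cfsg.Agent.Lib.Helper14.PSU3

variable {F : Type*} [Field F] [Fintype F] {q : ℕ} (hq : Fintype.card F = q)

include hq in
/-- a generator of the multiplicative group of `F` -/
lemma exists_nu : ∃ ν : F, ν ≠ 0 ∧ ∀ n : ℕ, ν ^ n = 1 → (q - 1) ∣ n := by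
  obtain ⟨ζ, hζ⟩ := IsCyclic.exists_generator (α := Fˣ)
  have ho : orderOf ζ = q - 1 := by
    rw [orderOf_eq_card_of_forall_mem_zpowers hζ, Nat.card_units, Nat.card_eq_fintype_card, hq]
  refine ⟨(ζ : F), ζ.ne_zero, ?_⟩
  intro n hn
  rw [← ho]
  apply orderOf_dvd_of_pow_eq_one
  apply Units.ext
  simpa using hn

include hq in
/-- an element of order `q - 1` -/
theorem exists_lower_3 :
    ∃ g : Matrix.SpecialLinearGroup (Fin 3) F,
      ∀ (k : ℕ) (c : F), smat g ^ k = c • 1 → (q - 1) ∣ k := by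
  classical
  obtain ⟨ν, hν0, hνn⟩ := exists_nu hq
  set d : Fin 3 → F := ![ν, ν⁻¹, 1] with hd
  have hdet : (Matrix.diagonal d).det = 1 := by
    rw [Matrix.det_diagonal, Fin.prod_univ_three]
    simp [hd, hν0]
  refine ⟨⟨Matrix.diagonal d, hdet⟩, fun k c hkc => ?_⟩
  have hg' : smat (⟨Matrix.diagonal d, hdet⟩ : Matrix.SpecialLinearGroup (Fin 3) F)
      = Matrix.diagonal d := rfl
  rw [hg', Matrix.diagonal_pow] at hkc
  have h2 := congrFun (congrFun hkc 2) 2
  have h0 := congrFun (congrFun hkc 0) 0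
  simp [hd] at h2 h0
  apply hνn
  rw [h0, ← h2]

include hq in
/-- an element of order `p (q - 1) / d` -/
theorem exists_lower_4 (p : ℕ) [Fact p.Prime] [CharP F p] :
    ∃ g : Matrix.SpecialLinearGroup (Fin 3) F,
      ∀ (k : ℕ) (c : F), smat g ^ k = c • 1 → p * (q - 1) / Nat.gcd 3 (q - 1) ∣ k := by
  classical
  obtain ⟨ν, hν0, hνn⟩ := exists_nu hq
  have hdet : (matB ν 1).det = 1 := by
    rw [matB, Matrix.det_fin_three]
    simp
    field_simp
  refine ⟨⟨matB ν 1, hdet⟩, fun k c hkc => ?_⟩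
  have hg' : smat (⟨matB ν 1, hdet⟩ : Matrix.SpecialLinearGroup (Fin 3) F) = matB ν 1 := rfl
  rw [hg', matB_pow] at hkc
  have h01 := congrFun (congrFun hkc 0) 1
  have h11 := congrFun (congrFun hkc 1) 1
  have h22 := congrFun (congrFun hkc 2) 2
  simp at h01 h11 h22
  have hpk : p ∣ k := by
    rw [← CharP.cast_eq_zero_iff F p]
    rcases h01 with h | h
    · exact h
    · exact absurd h.1 hν0
  have h3 : ν ^ (3 * k) = 1 := by
    have e : ν ^ (3 * k) = ν ^ k * (ν ^ 2) ^ k := by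
      rw [← pow_mul, ← pow_add]; congr 1; ring
    rw [e, h11, ← h22, inv_mul_cancel₀ (pow_ne_zero _ (pow_ne_zero _ hν0))]
  have h4 : (q - 1) ∣ 3 * k := hνn _ h3
  have hq2 := two_le_q hq
  have h5 : (q - 1) / Nat.gcd 3 (q - 1) ∣ k :=
    div_dvd_of_dvd_mul (by omega) h4 (by rw [Nat.gcd_comm]) (Nat.gcd_dvd_right _ _)
  obtain ⟨j, -, hj⟩ := FiniteField.card F p
  rw [hq] at hj
  have hpq : p ∣ q := by rw [hj]; exact dvd_pow_self p j.ne_zero
  have hcop : Nat.Coprime p ((q - 1) / Nat.gcd 3 (q - 1)) := by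
    have hp : p.Prime := Fact.out
    rw [Nat.Prime.coprime_iff_not_dvd hp]
    intro hdiv
    have h6 : p ∣ q - 1 := hdiv.trans (Nat.div_dvd_of_dvd (Nat.gcd_dvd_right _ _))
    have h7 : p ∣ 1 := by
      have : q = q - 1 + 1 := by omega
      rw [this] at hpq
      exact (Nat.dvd_add_right h6).mp hpq
    exact hp.one_lt.ne' (Nat.dvd_one.mp h7)
  rw [Nat.mul_div_assoc p (Nat.gcd_dvd_right 3 (q - 1))]
  exact hcop.mul_dvd_of_dvd_of_dvd hpk h5

/-- the regular unipotent matrix -/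
def matJ (F : Type*) [Field F] : Matrix (Fin 3) (Fin 3) F := !![1, 1, 0; 0, 1, 1; 0, 0, 1]

omit [Fintype F] in
lemma matJ_pow (k : ℕ) :
    matJ F ^ k = !![1, (k : F), ((k.choose 2 : ℕ) : F); 0, 1, (k : F); 0, 0, 1] := by
  induction k with
  | zero =>
    ext i j
    fin_cases i <;> fin_cases j <;> simp
  | succ k ih =>
    rw [pow_succ, ih, matJ]
    have hc : (((k + 1).choose 2 : ℕ) : F) = (k : F) + ((k.choose 2 : ℕ) : F) := by
      rw [Nat.choose_succ_succ, Nat.choose_one_right]; push_cast; ring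
    ext i j
    fin_cases i <;> fin_cases j <;>
      simp [Matrix.mul_apply, Fin.sum_univ_three, hc] <;> ring

/-- an element of order `4` in characteristic two -/
theorem exists_lower_5 [CharP F 2] :
    ∃ g : Matrix.SpecialLinearGroup (Fin 3) F,
      ∀ (k : ℕ) (c : F), smat g ^ k = c • 1 → 4 ∣ k := by
  classical
  have hdet : (matJ F).det = 1 := by
    rw [matJ, Matrix.det_fin_three]
    simp
  refine ⟨⟨matJ F, hdet⟩, fun k c hkc => ?_⟩
  have hg' : smat (⟨matJ F, hdet⟩ : Matrix.SpecialLinearGroup (Fin 3) F) = matJ F := rfl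
  rw [hg', matJ_pow] at hkc
  have h01 := congrFun (congrFun hkc 0) 1
  have h02 := congrFun (congrFun hkc 0) 2
  simp at h01 h02
  rw [CharP.cast_eq_zero_iff F 2] at h01 h02
  obtain ⟨j, rfl⟩ := h01
  rw [Nat.choose_two_right] at h02
  have e : 2 * j * (2 * j - 1) / 2 = j * (2 * j - 1) := by
    rw [mul_assoc]; exact Nat.mul_div_cancel_left _ (by norm_num)
  rw [e] at h02
  rcases (Nat.Prime.dvd_mul Nat.prime_two).mp h02 with h | h
  · obtain ⟨i, rfl⟩ := h
    exact ⟨i, by ring⟩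
  · rcases Nat.eq_zero_or_pos j with rfl | hj
    · simp
    · exfalso; omega

end Cfsg.Agent.Lib.Helper14.PSL3
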