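import Mathlib
import Cfsg.Agent.Lib.Helper14.PSL3Lower1

set_option autoImplicit false
set_option linter.unusedSectionVars false
set_option linter.unusedVariables false
set_option linter.style.haveILetI false

namespace Cfsg.Agent.Lib.Helper14.PSL3

open Matrix Polynomial Module Cfsg.Agent.Lib.Helper14.PSU3

lemma gcd_1 (q : ℕ) (hq : 1 ≤ q) :
    Nat.gcd (q ^ 2 + q + 1) (q - 1) ∣ Nat.gcd 3 (q - 1) := by
  obtain ⟨r, rfl⟩ : ∃ r, q = r + 1 := ⟨q - 1, by omega⟩
  have e1 : (r + 1) ^ 2 + (r + 1) + 1 = r * (r + 3) + 3 := by ring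
  have e2 : r + 1 - 1 = r := by omega
  rw [e1, e2]
  have h1 : Nat.gcd (r * (r + 3) + 3) r ∣ r := Nat.gcd_dvd_right _ _
  have h2 : Nat.gcd (r * (r + 3) + 3) r ∣ r * (r + 3) + 3 := Nat.gcd_dvd_left _ _
  have h3 : Nat.gcd (r * (r + 3) + 3) r ∣ 3 := (Nat.dvd_add_right (h1.mul_right (r + 3))).mp h2
  exact Nat.dvd_gcd h3 h1

lemma d_dvd_N1 (q : ℕ) (hq : 1 ≤ q) : Nat.gcd 3 (q - 1) ∣ q ^ 2 + q + 1 := by
  obtain ⟨r, rfl⟩ : ∃ r, q = r + 1 := ⟨q - 1, by omega⟩
  have e1 : (r + 1) ^ 2 + (r + 1) + 1 = (r + 1 - 1) * (r + 3) + 3 := by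
    have : r + 1 - 1 = r := by omega
    rw [this]; ring
  rw [e1]
  exact Nat.dvd_add ((Nat.gcd_dvd_right _ _).mul_right _) (Nat.gcd_dvd_left _ _)

lemma gcd_2 (q : ℕ) (hq : 2 ≤ q) :
    Nat.gcd (q ^ 2 - 1) (q + 2) ∣ Nat.gcd 3 (q - 1) := by
  obtain ⟨r, rfl⟩ : ∃ r, q = r + 2 := ⟨q - 2, by omega⟩
  have e1 : (r + 2) ^ 2 - 1 = (r + 2 + 2) * r + 3 := by
    have : (r + 2) ^ 2 = (r + 2 + 2) * r + 3 + 1 := by ring
    rw [this]; rfl
  have e2 : r + 2 - 1 = r + 1 := by omega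
  rw [e1, e2]
  set g := Nat.gcd ((r + 2 + 2) * r + 3) (r + 2 + 2) with hg
  have h1 : g ∣ r + 2 + 2 := Nat.gcd_dvd_right _ _
  have h2 : g ∣ (r + 2 + 2) * r + 3 := Nat.gcd_dvd_left _ _
  have h3 : g ∣ 3 := (Nat.dvd_add_right (h1.mul_right r)).mp h2
  have h4 : g ∣ r + 1 := by
    have : r + 2 + 2 = r + 1 + 3 := by ring
    rw [this] at h1
    exact (Nat.dvd_add_left h3).mp h1
  exact Nat.dvd_gcd h3 h4

lemma d_dvd_N2 (q : ℕ) (hq : 1 ≤ q) : Nat.gcd 3 (q - 1) ∣ q ^ 2 - 1 := by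
  rw [sq_sub_one_eq q hq]
  exact (Nat.gcd_dvd_right _ _).mul_right _

section singer

variable {F : Type*} [Field F] [Fintype F] {q : ℕ} (hq : Fintype.card F = q)
  {K : Type*} [Field K] [Finite K] [Algebra F K]

include hq in
/-- an element of order `(q² + q + 1) / d`, given a cubic extension -/
theorem exists_lower_1_aux (hrank : finrank F K = 3) :
    ∃ g : Matrix.SpecialLinearGroup (Fin 3) F,
      ∀ (k : ℕ) (c : F), smat g ^ k = c • 1 → (q ^ 2 + q + 1) / Nat.gcd 3 (q - 1) ∣ k := by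
  classical
  have hq2 := two_le_q hq
  haveI : Module.Finite F K := Module.Finite.of_finite
  have hcardK : Nat.card K = q ^ 3 := by
    rw [Module.natCard_eq_pow_finrank (K := F), hrank, Nat.card_eq_fintype_card, hq]
  obtain ⟨N, hNdef⟩ : ∃ N, N = q ^ 2 + q + 1 := ⟨_, rfl⟩
  have hq3 : 0 < q ^ 3 - 1 := by
    have : 2 ^ 3 ≤ q ^ 3 := Nat.pow_le_pow_left hq2 3
    omega
  obtain ⟨lam, hlamN, hlamn⟩ : ∃ lam : K, lam ^ N = 1 ∧ ∀ n, lam ^ n = 1 → N ∣ n := by
    obtain ⟨ζ, hζ⟩ := IsCyclic.exists_generator (α := Kˣ)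
    have ho : orderOf ζ = q ^ 3 - 1 := by
      rw [orderOf_eq_card_of_forall_mem_zpowers hζ, Nat.card_units, hcardK]
    have hm : q ^ 3 - 1 = N * (q - 1) := by
      rw [cube_sub_one_eq q (by omega), hNdef, mul_comm]
    have hm0 : q - 1 ≠ 0 := by omega
    have hord : orderOf (ζ ^ (q - 1)) = N := by
      rw [orderOf_pow_of_dvd hm0 (by rw [ho, hm]; exact dvd_mul_left _ _), ho, hm,
        Nat.mul_div_cancel _ (Nat.pos_of_ne_zero hm0)]
    refine ⟨((ζ ^ (q - 1) : Kˣ) : K), ?_, ?_⟩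
    · have h1 := pow_orderOf_eq_one (ζ ^ (q - 1))
      rw [hord] at h1
      have h2 := congrArg Units.val h1
      simpa using h2
    · intro n hn
      rw [← hord]
      apply orderOf_dvd_of_pow_eq_one
      apply Units.ext
      simpa using hn
  have hN0 : N ≠ 0 := by rw [hNdef]; omega
  have hlam0 : lam ≠ 0 := by
    rintro rfl
    rw [zero_pow hN0] at hlamN
    exact zero_ne_one hlamN
  have hdet : LinearMap.det (Algebra.lmul F K lam) = 1 := by
    rw [← Algebra.norm_apply]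
    apply (algebraMap F K).injective
    rw [FiniteField.algebraMap_norm_eq_pow, hcardK, Nat.card_eq_fintype_card, hq, map_one]
    have h3 : (q ^ 3 - 1) / (q - 1) = q ^ 2 + q + 1 := by
      rw [cube_sub_one_eq q (by omega)]
      exact Nat.mul_div_cancel_left _ (by omega)
    rw [h3, ← hNdef, hlamN]
  obtain ⟨g, hg⟩ := transport hrank (Algebra.lmul F K lam) hdet
  refine ⟨g, fun k c hkc => ?_⟩
  have h1 := hg k c hkc 1
  rw [← map_pow] at h1
  have h1' : lam ^ k = algebraMap F K c := by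
    have : Algebra.lmul F K (lam ^ k) 1 = lam ^ k * 1 := rfl
    rw [this, mul_one] at h1
    rw [h1, Algebra.smul_def, mul_one]
  have hc0 : c ≠ 0 := by
    rintro rfl
    rw [map_zero] at h1'
    exact pow_ne_zero k hlam0 h1'
  have h2 : lam ^ ((q - 1) * k) = 1 := by
    rw [mul_comm, pow_mul, h1', ← map_pow, pow_q_sub_one hq hc0, map_one]
  have h3 : N ∣ (q - 1) * k := hlamn _ h2
  rw [hNdef] at h3
  exact div_dvd_of_dvd_mul (by omega) h3 (gcd_1 q (by omega)) (d_dvd_N1 q (by omega))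

include hq in
/-- an element of order `(q² - 1) / d`, given a quadratic extension -/
theorem exists_lower_2_aux (hrank : finrank F K = 2) :
    ∃ g : Matrix.SpecialLinearGroup (Fin 3) F,
      ∀ (k : ℕ) (c : F), smat g ^ k = c • 1 → (q ^ 2 - 1) / Nat.gcd 3 (q - 1) ∣ k := by
  classical
  have hq2 := two_le_q hq
  haveI : Module.Finite F K := Module.Finite.of_finite
  have hcardK : Nat.card K = q ^ 2 := by
    rw [Module.natCard_eq_pow_finrank (K := F), hrank, Nat.card_eq_fintype_card, hq]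
  obtain ⟨mu, hmu0, hmun⟩ : ∃ mu : K, mu ≠ 0 ∧ ∀ n, mu ^ n = 1 → (q ^ 2 - 1) ∣ n := by
    obtain ⟨ζ, hζ⟩ := IsCyclic.exists_generator (α := Kˣ)
    have ho : orderOf ζ = q ^ 2 - 1 := by
      rw [orderOf_eq_card_of_forall_mem_zpowers hζ, Nat.card_units, hcardK]
    refine ⟨(ζ : K), ζ.ne_zero, ?_⟩
    intro n hn
    rw [← ho]
    apply orderOf_dvd_of_pow_eq_one
    apply Units.ext
    simpa using hn
  -- the norm
  obtain ⟨t, ht⟩ : ∃ t : F, t = Algebra.norm F mu := ⟨_, rfl⟩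
  have hnorm : algebraMap F K t = mu ^ (q + 1) := by
    rw [ht, FiniteField.algebraMap_norm_eq_pow, hcardK, Nat.card_eq_fintype_card, hq]
    have h3 : (q ^ 2 - 1) / (q - 1) = q + 1 := by
      rw [sq_sub_one_eq q (by omega)]
      exact Nat.mul_div_cancel_left _ (by omega)
    rw [h3]
  have ht0 : t ≠ 0 := by
    rintro rfl
    rw [map_zero] at hnorm
    exact pow_ne_zero _ hmu0 hnorm.symm
  set T : (K × F) →ₗ[F] (K × F) :=
    LinearMap.prodMap (Algebra.lmul F K mu) (t⁻¹ • LinearMap.id) with hT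
  have hdet : LinearMap.det T = 1 := by
    rw [hT, LinearMap.det_prodMap, ← Algebra.norm_apply, ← ht, LinearMap.det_smul,
      LinearMap.det_id, Module.finrank_self, pow_one, mul_one, mul_inv_cancel₀ ht0]
  have hrankU : finrank F (K × F) = 3 := by
    rw [Module.finrank_prod, hrank, Module.finrank_self]
  have hTpow : ∀ (k : ℕ) (u : K) (a : F), (T ^ k) (u, a) = (mu ^ k * u, (t⁻¹) ^ k * a) := by
    intro k
    induction k with
    | zero => intro u a; simp
    | succ k ih =>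
      intro u a
      rw [pow_succ, Module.End.mul_apply]
      have : T (u, a) = (mu * u, t⁻¹ * a) := by
        simp [hT]
      rw [this, ih]
      ext
      · simp only; ring
      · simp only; ring
  obtain ⟨g, hg⟩ := transport hrankU T hdet
  refine ⟨g, fun k c hkc => ?_⟩
  have h1 := hg k c hkc (1, 1)
  rw [hTpow] at h1
  have h1a : mu ^ k = algebraMap F K c := by
    have := congrArg Prod.fst h1
    simp only [mul_one, Prod.smul_fst] at this
    rw [this, Algebra.smul_def, mul_one]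
  have h1b : (t⁻¹) ^ k = c := by
    have := congrArg Prod.snd h1
    simpa using this
  have h2 : mu ^ ((q + 2) * k) = 1 := by
    have e : mu ^ ((q + 2) * k) = (mu ^ (q + 1)) ^ k * mu ^ k := by
      rw [← pow_mul, ← pow_add]; congr 1; ring
    rw [e, ← hnorm, h1a, ← h1b, ← map_pow, ← map_mul, ← mul_pow, mul_inv_cancel₀ ht0, one_pow,
      map_one]
  have h3 : (q ^ 2 - 1) ∣ (q + 2) * k := hmun _ h2
  have hpos : 0 < q ^ 2 - 1 := by
    have : 4 ≤ q ^ 2 := by nlinarith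
    omega
  exact div_dvd_of_dvd_mul hpos h3 (gcd_2 q hq2) (d_dvd_N2 q (by omega))

end singer

end Cfsg.Agent.Lib.Helper14.PSL3
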