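import Mathlib
import Cfsg.Agent.Lib.Helper14.PSL3Lower2

set_option autoImplicit false
set_option linter.unusedSectionVars false
set_option linter.unusedVariables false
set_option linter.style.haveILetI false

namespace Cfsg.Agent.Lib.Helper14.PSL3

open Matrix Polynomial Module Cfsg.Agent.Lib.Helper14.PSU3 Cfsg.Agent.Lib.Helper16

variable {F : Type*} [Field F] [Fintype F] {q : ℕ} (hq : Fintype.card F = q)

include hq in
/-- an element of order `(q² + q + 1) / d` -/
theorem exists_lower_1 (p : ℕ) [Fact p.Prime] [CharP F p] :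
    ∃ g : Matrix.SpecialLinearGroup (Fin 3) F,
      ∀ (k : ℕ) (c : F), smat g ^ k = c • 1 → (q ^ 2 + q + 1) / Nat.gcd 3 (q - 1) ∣ k := by
  classical
  obtain ⟨j, -, hj⟩ := FiniteField.card F p
  rw [hq] at hj
  let K := GaloisField p ((j : ℕ) * 3)
  letI : Fintype K := Fintype.ofFinite K
  have hK : Fintype.card K = q ^ 3 := by
    rw [← Nat.card_eq_fintype_card, GaloisField.card p _ (by have := j.pos; omega), hj, pow_mul]
  obtain ⟨ι⟩ := exists_ringHom_of_card_pow (F := F) (K := K) (n := 3) (by norm_num) hq hK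
  letI : Algebra F K := ι.toAlgebra
  have hq2 := two_le_q hq
  have hrank : finrank F K = 3 := by
    have h1 : Fintype.card K = Fintype.card F ^ finrank F K := Module.card_eq_pow_finrank
    rw [hK, hq] at h1
    exact (Nat.pow_right_injective hq2 h1).symm
  exact exists_lower_1_aux hq hrank

include hq in
/-- an element of order `(q² - 1) / d` -/
theorem exists_lower_2 (p : ℕ) [Fact p.Prime] [CharP F p] :
    ∃ g : Matrix.SpecialLinearGroup (Fin 3) F,
      ∀ (k : ℕ) (c : F), smat g ^ k = c • 1 → (q ^ 2 - 1) / Nat.gcd 3 (q - 1) ∣ k := by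
  classical
  obtain ⟨j, -, hj⟩ := FiniteField.card F p
  rw [hq] at hj
  let K := GaloisField p ((j : ℕ) * 2)
  letI : Fintype K := Fintype.ofFinite K
  have hK : Fintype.card K = q ^ 2 := by
    rw [← Nat.card_eq_fintype_card, GaloisField.card p _ (by have := j.pos; omega), hj, pow_mul]
  obtain ⟨ι⟩ := exists_ringHom_of_card_pow (F := F) (K := K) (n := 2) (by norm_num) hq hK
  letI : Algebra F K := ι.toAlgebra
  have hq2 := two_le_q hq
  have hrank : finrank F K = 2 := by
    have h1 : Fintype.card K = Fintype.card F ^ finrank F K := Module.card_eq_pow_finrank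
    rw [hK, hq] at h1
    exact (Nat.pow_right_injective hq2 h1).symm
  exact exists_lower_2_aux hq hrank

include hq in
/-- the lower bound for the spectrum of `PSL₃(q)` -/
theorem lower (p : ℕ) [Fact p.Prime] [CharP F p] (s : ℕ)
    (hs : s ∣ (q ^ 2 + q + 1) / Nat.gcd 3 (q - 1) ∨
      s ∣ (q ^ 2 - 1) / Nat.gcd 3 (q - 1) ∨ s ∣ q - 1 ∨
      s ∣ p * (q - 1) / Nat.gcd 3 (q - 1) ∨ (p = 2 ∧ s ∣ 4)) :
    s ∈ Set.range (orderOf : Matrix.ProjectiveSpecialLinearGroup (Fin 3) F → ℕ) := by
  rcases hs with h | h | h | h | ⟨h2, h⟩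
  · obtain ⟨g, hg⟩ := exists_lower_1 hq p
    exact range_of_lower g _ hg s h
  · obtain ⟨g, hg⟩ := exists_lower_2 hq p
    exact range_of_lower g _ hg s h
  · obtain ⟨g, hg⟩ := exists_lower_3 hq
    exact range_of_lower g _ hg s h
  · obtain ⟨g, hg⟩ := exists_lower_4 hq p
    exact range_of_lower g _ hg s h
  · subst h2
    obtain ⟨g, hg⟩ := exists_lower_5 (F := F)
    exact range_of_lower g _ hg s h

end Cfsg.Agent.Lib.Helper14.PSL3
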