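import Mathlib
set_option autoImplicit false
namespace Cfsg.Agent.Lib.Helper14
open Polynomial

/-!
# Monic polynomials with prescribed irreducible factors

For a finite set `T` of monic irreducible polynomials over a field, the monic polynomials all
of whose monic irreducible factors lie in `T` are exactly the products `∏ P ∈ T, P ^ e P`, and
the exponents are determined by the product.
-/

section
variable {K : Type*} [Field K]

/-- The product `∏ P ∈ T, P ^ e P`. -/
noncomputable def expProd (T : Finset K[X]) (e : K[X] → ℕ) : K[X] := ∏ P ∈ T, P ^ e P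

theorem expProd_monic (T : Finset K[X]) (e : K[X] → ℕ) (hT : ∀ P ∈ T, P.Monic) :
    (expProd T e).Monic :=
  monic_prod_of_monic _ _ fun P hP => (hT P hP).pow _

theorem natDegree_expProd (T : Finset K[X]) (e : K[X] → ℕ) (hT : ∀ P ∈ T, P.Monic) :
    (expProd T e).natDegree = ∑ P ∈ T, e P * P.natDegree := by
  unfold expProd
  rw [natDegree_prod_of_monic _ _ fun P hP => (hT P hP).pow _]
  exact Finset.sum_congr rfl fun P hP => (hT P hP).natDegree_pow _

theorem isCoprime_of_monic_irreducible_ne {P Q : K[X]} (hP : P.Monic) (hPi : Irreducible P)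
    (hQ : Q.Monic) (hQi : Irreducible Q) (hne : P ≠ Q) : IsCoprime P Q := by
  rcases hPi.isCoprime_or_dvd Q with h | h
  · exact h
  · exact absurd (eq_of_monic_of_associated hP hQ (hPi.associated_of_dvd hQi h)) hne

/-- A monic irreducible factor of `expProd T e` lies in `T`. -/
theorem mem_of_dvd_expProd (T : Finset K[X]) (e : K[X] → ℕ)
    (hT : ∀ P ∈ T, P.Monic ∧ Irreducible P) (P : K[X]) (hP : P.Monic) (hPi : Irreducible P)
    (hd : P ∣ expProd T e) : P ∈ T := by
  unfold expProd at hd
  have hprime : Prime P := hPi.prime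
  obtain ⟨Q, hQ, hdQ⟩ := (Prime.dvd_finsetProd_iff hprime _).mp hd
  have hdQ' : P ∣ Q := hprime.dvd_of_dvd_pow hdQ
  have := eq_of_monic_of_associated hP (hT Q hQ).1 (hPi.associated_of_dvd (hT Q hQ).2 hdQ')
  rw [this]
  exact hQ

theorem expProd_le_of_eq (T : Finset K[X]) (e e' : K[X] → ℕ)
    (hT : ∀ P ∈ T, P.Monic ∧ Irreducible P) (h : expProd T e = expProd T e') :
    ∀ P ∈ T, e P ≤ e' P := by
  classical
  intro P hP
  have h1 : P ^ e P ∣ expProd T e' := by
    rw [← h]
    unfold expProd
    exact Finset.dvd_prod_of_mem (fun Q => Q ^ e Q) hP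
  unfold expProd at h1
  rw [← Finset.mul_prod_erase T (fun Q => Q ^ e' Q) hP] at h1
  have hcop : IsCoprime (P ^ e P) (∏ Q ∈ T.erase P, Q ^ e' Q) := by
    apply IsCoprime.prod_right
    intro Q hQ
    have hQT := Finset.mem_of_mem_erase hQ
    have hne : P ≠ Q := (Finset.ne_of_mem_erase hQ).symm
    exact (isCoprime_of_monic_irreducible_ne (hT P hP).1 (hT P hP).2 (hT Q hQT).1 (hT Q hQT).2
      hne).pow
  have h2 : P ^ e P ∣ P ^ e' P := hcop.dvd_of_dvd_mul_right h1
  exact (pow_dvd_pow_iff (hT P hP).2.ne_zero (hT P hP).2.not_isUnit).mp h2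

/-- The exponents are determined by the product. -/
theorem expProd_injective (T : Finset K[X]) (e e' : K[X] → ℕ)
    (hT : ∀ P ∈ T, P.Monic ∧ Irreducible P) (h : expProd T e = expProd T e') :
    ∀ P ∈ T, e P = e' P := fun P hP =>
  le_antisymm (expProd_le_of_eq T e e' hT h P hP) (expProd_le_of_eq T e' e hT h.symm P hP)

/-- A monic polynomial all of whose monic irreducible factors lie in `T` is an `expProd`. -/
theorem exists_expProd (T : Finset K[X]) :
    ∀ (n : ℕ) (f : K[X]), f.natDegree = n → f.Monic →
      (∀ P : K[X], P.Monic → Irreducible P → P ∣ f → P ∈ T) →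
      ∃ e : K[X] → ℕ, f = expProd T e := by
  classical
  intro n
  induction n using Nat.strong_induction_on with
  | _ n ih =>
    intro f hn hm hgood
    by_cases hu : IsUnit f
    · refine ⟨fun _ => 0, ?_⟩
      have : f = 1 := hm.eq_one_of_isUnit hu
      rw [this]
      unfold expProd
      simp
    · obtain ⟨P, hPm, hPi, hPd⟩ := exists_monic_irreducible_factor f hu
      obtain ⟨f', rfl⟩ := hPd
      have hPT : P ∈ T := hgood P hPm hPi (dvd_mul_right _ _)
      have hm' : f'.Monic := hPm.of_mul_monic_left hm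
      have hdeg : (P * f').natDegree = P.natDegree + f'.natDegree := hPm.natDegree_mul hm'
      have hPdeg : 0 < P.natDegree := hPi.natDegree_pos
      obtain ⟨e', he'⟩ := ih f'.natDegree (by omega) f' rfl hm'
        (fun Q hQm hQi hQd => hgood Q hQm hQi (hQd.mul_left _))
      refine ⟨fun Q => if Q = P then e' Q + 1 else e' Q, ?_⟩
      rw [he']
      unfold expProd
      rw [← Finset.mul_prod_erase T (fun Q => Q ^ e' Q) hPT,
        ← Finset.mul_prod_erase T (fun Q => Q ^ (if Q = P then e' Q + 1 else e' Q)) hPT]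
      simp only [if_true]
      rw [pow_succ, ← mul_assoc, mul_comm P]
      congr 1
      apply Finset.prod_congr rfl
      intro Q hQ
      rw [if_neg (Finset.ne_of_mem_erase hQ)]

/-- If every monic irreducible factor of the squarefree-free... every member of `T` divides `h`,
then `expProd T e` divides a power of `h`. -/
theorem expProd_dvd_pow (T : Finset K[X]) (e : K[X] → ℕ) (h : K[X])
    (hT : ∀ P ∈ T, P ∣ h) : expProd T e ∣ h ^ (∑ P ∈ T, e P) := by
  unfold expProd
  rw [← Finset.prod_pow_eq_pow_sum]
  exact Finset.prod_dvd_prod_of_dvd _ _ fun P hP => pow_dvd_pow_of_dvd (hT P hP) _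

end

end Cfsg.Agent.Lib.Helper14
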