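import Mathlib

set_option autoImplicit false

/-! # Multisets of elements of a group of prime order modulo translation

The number of orbits of a group `R` of prime order `r` acting by translation on the multisets
of size `n` of its elements (Burnside). -/

namespace Cfsg.Agent.Lib.Helper14.ProjOrd

section act

variable {R : Type*} [Group R]

/-- translation of a multiset of group elements -/
def trSym (n : ℕ) (h : R) (s : Sym R n) : Sym R n := Sym.map (fun x => h * x) s

theorem trSym_val (n : ℕ) (h : R) (s : Sym R n) :
    ((trSym n h s : Sym R n) : Multiset R) = (s : Multiset R).map (fun x => h * x) := rfl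

/-- the translation action on multisets -/
instance symAction (n : ℕ) : MulAction R (Sym R n) where
  smul := trSym n
  one_smul := by
    intro s
    apply Subtype.ext
    show ((trSym n 1 s : Sym R n) : Multiset R) = _
    rw [trSym_val]
    simp
  mul_smul := by
    intro a b s
    apply Subtype.ext
    show ((trSym n (a * b) s : Sym R n) : Multiset R) = ((trSym n a (trSym n b s) : Sym R n) : Multiset R)
    rw [trSym_val, trSym_val, trSym_val, Multiset.map_map]
    apply Multiset.map_congr rfl
    intro x _
    simp [mul_assoc]

theorem smul_val (n : ℕ) (h : R) (s : Sym R n) :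
    ((h • s : Sym R n) : Multiset R) = (s : Multiset R).map (fun x => h * x) := rfl

end act

section burnside

variable {R : Type*} [Group R] [DecidableEq R]

theorem count_of_fixed (n : ℕ) (h : R) (s : Sym R n) (hs : h • s = s) (x : R) :
    (s : Multiset R).count (h * x) = (s : Multiset R).count x := by
  have h1 : ((h • s : Sym R n) : Multiset R).count (h * x) = (s : Multiset R).count x := by
    rw [smul_val]
    exact Multiset.count_map_eq_count' (fun y => h * y) _ (mul_right_injective h) x
  rw [hs] at h1
  exact h1

variable [Fintype R]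

theorem count_const_of_fixed (n r : ℕ) (hr : r.Prime) (hR : Nat.card R = r) (h : R) (h1 : h ≠ 1)
    (s : Sym R n) (hs : h • s = s) (x : R) :
    (s : Multiset R).count x = (s : Multiset R).count 1 := by
  have : Fact r.Prime := ⟨hr⟩
  have htop : Subgroup.zpowers h = ⊤ := zpowers_eq_top_of_prime_card hR h1
  have hx : x ∈ Subgroup.zpowers h := by rw [htop]; exact Subgroup.mem_top x
  have hpow : ∀ k : ℕ, (s : Multiset R).count (h ^ k) = (s : Multiset R).count 1 := by
    intro k
    induction k with
    | zero => rw [pow_zero]
    | succ k ih => rw [pow_succ', count_of_fixed n h s hs, ih]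
  rw [← mem_powers_iff_mem_zpowers] at hx
  obtain ⟨j, rfl⟩ := hx
  exact hpow j

theorem eq_nsmul_of_fixed (n r : ℕ) (hr : r.Prime) (hR : Nat.card R = r) (h : R) (h1 : h ≠ 1)
    (s : Sym R n) (hs : h • s = s) :
    (s : Multiset R) = ((s : Multiset R).count 1) • (Finset.univ : Finset R).val ∧
      n = (s : Multiset R).count 1 * r := by
  have h2 : (s : Multiset R) = ((s : Multiset R).count 1) • (Finset.univ : Finset R).val := by
    ext x
    rw [Multiset.count_nsmul, count_const_of_fixed n r hr hR h h1 s hs x,
      Multiset.count_eq_one_of_mem Finset.univ.nodup (Finset.mem_univ_val x), mul_one]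
  refine ⟨h2, ?_⟩
  have h3 := congrArg Multiset.card h2
  rw [Multiset.card_nsmul, Finset.card_val, Finset.card_univ, ← Nat.card_eq_fintype_card, hR] at h3
  have h4 : Multiset.card (s : Multiset R) = n := s.2
  rw [h4] at h3
  exact h3

theorem card_fixedBy (n r : ℕ) (hr : r.Prime) (hR : Nat.card R = r) (h : R) (h1 : h ≠ 1) :
    Nat.card (MulAction.fixedBy (Sym R n) h) = if r ∣ n then 1 else 0 := by
  have hsub : Subsingleton (MulAction.fixedBy (Sym R n) h) := by
    constructor
    rintro ⟨s, hs⟩ ⟨s', hs'⟩
    apply Subtype.ext
    apply Subtype.ext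
    show (s : Multiset R) = (s' : Multiset R)
    rw [MulAction.mem_fixedBy] at hs hs'
    obtain ⟨e1, e2⟩ := eq_nsmul_of_fixed n r hr hR h h1 s hs
    obtain ⟨e1', e2'⟩ := eq_nsmul_of_fixed n r hr hR h h1 s' hs'
    have : (s : Multiset R).count 1 = (s' : Multiset R).count 1 := by
      have : (s : Multiset R).count 1 * r = (s' : Multiset R).count 1 * r := by rw [← e2, ← e2']
      exact Nat.eq_of_mul_eq_mul_right hr.pos this
    rw [e1, e1', this]
  split_ifs with hd
  · obtain ⟨c, hc⟩ := hd
    have hcard : Multiset.card (c • (Finset.univ : Finset R).val) = n := by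
      rw [Multiset.card_nsmul, Finset.card_val, Finset.card_univ, ← Nat.card_eq_fintype_card, hR,
        hc, mul_comm]
    have hne : Nonempty (MulAction.fixedBy (Sym R n) h) := by
      let s₀ : Sym R n := ⟨c • (Finset.univ : Finset R).val, hcard⟩
      refine ⟨⟨s₀, ?_⟩⟩
      rw [MulAction.mem_fixedBy]
      apply Sym.coe_injective
      rw [smul_val]
      show Multiset.map (fun x => h * x) (c • (Finset.univ : Finset R).val) = _
      rw [Multiset.map_nsmul]
      congr 1
      exact Multiset.map_univ_val_equiv (Equiv.mulLeft h)
    have := hsub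
    have := hne
    exact Nat.card_unique
  · have hemp : IsEmpty (MulAction.fixedBy (Sym R n) h) := by
      constructor
      rintro ⟨s, hs⟩
      rw [MulAction.mem_fixedBy] at hs
      obtain ⟨-, e2⟩ := eq_nsmul_of_fixed n r hr hR h h1 s hs
      exact hd ⟨_, by rw [e2, mul_comm]⟩
    exact Nat.card_of_isEmpty

/-- **Burnside count** for multisets of size `n` on a group of prime order `r`, modulo
translation. -/
theorem card_orbits (n r : ℕ) (hr : r.Prime) (hR : Nat.card R = r) :
    Nat.card (Quotient (MulAction.orbitRel R (Sym R n))) * r =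
      (n + r - 1).choose (r - 1) + (r - 1) * (if r ∣ n then 1 else 0) := by
  classical
  haveI : Fintype (Quotient (MulAction.orbitRel R (Sym R n))) := Fintype.ofFinite _
  haveI : ∀ g : R, Fintype (MulAction.fixedBy (Sym R n) g) := fun g => Fintype.ofFinite _
  have hB := MulAction.sum_card_fixedBy_eq_card_orbits_mul_card_group R (Sym R n)
  rw [Nat.card_eq_fintype_card]
  have hRc : Fintype.card R = r := by rw [← Nat.card_eq_fintype_card, hR]
  rw [hRc] at hB
  rw [← hB]
  rw [← Finset.add_sum_erase Finset.univ _ (Finset.mem_univ (1 : R))]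
  congr 1
  · have h1 : Fintype.card (MulAction.fixedBy (Sym R n) (1 : R)) = Fintype.card (Sym R n) := by
      apply Fintype.card_congr
      refine ⟨fun s => s.1, fun s => ⟨s, ?_⟩, fun s => rfl, fun s => rfl⟩
      rw [MulAction.mem_fixedBy, one_smul]
    rw [h1, Sym.card_sym_eq_choose, hRc]
    have h2 : r + n - 1 = n + (r - 1) := by have := hr.two_le; omega
    have h3 : n + r - 1 = n + (r - 1) := by have := hr.two_le; omega
    rw [h2, h3]
    exact Nat.choose_symm_add
  · have h2 : ∀ g ∈ Finset.univ.erase (1 : R),
        Fintype.card (MulAction.fixedBy (Sym R n) g) = if r ∣ n then 1 else 0 := by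
      intro g hg
      rw [← Nat.card_eq_fintype_card]
      exact card_fixedBy n r hr hR g (Finset.ne_of_mem_erase hg)
    rw [Finset.sum_congr rfl h2, Finset.sum_const, Finset.card_erase_of_mem (Finset.mem_univ _),
      Finset.card_univ, hRc, smul_eq_mul]

end burnside

end Cfsg.Agent.Lib.Helper14.ProjOrd
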