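import Cfsg.Agent.Lib.Helper14.ProjOrd1
import Cfsg.Agent.Lib.Helper14.SemiConjFin
import Cfsg.Agent.Lib.Helper14.PolyExp

set_option autoImplicit false

/-! # Classes of prime order in a projective group: general lemmas -/

namespace Cfsg.Agent.Lib.Helper14.ProjOrd

open Polynomial

section classes

variable {P : Type*} [Group P]

/-- counting conjugacy classes through a parametrisation -/
theorem card_classes_of_param (Q : P → Prop) {T : Type*} (S : Setoid T) (ρ : T → P)
    (h1 : ∀ t, Q (ρ t)) (h2 : ∀ x, Q x → ∃ t, IsConj (ρ t) x)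
    (h3 : ∀ t t', IsConj (ρ t) (ρ t') ↔ S.r t t') :
    Nat.card {c : ConjClasses P // ∃ x, ConjClasses.mk x = c ∧ Q x} = Nat.card (Quotient S) := by
  symm
  apply Nat.card_congr
  refine Equiv.ofBijective (Quotient.lift
    (fun t => (⟨ConjClasses.mk (ρ t), ρ t, rfl, h1 t⟩ :
      {c : ConjClasses P // ∃ x, ConjClasses.mk x = c ∧ Q x})) ?_) ⟨?_, ?_⟩
  · intro t t' htt
    apply Subtype.ext
    show ConjClasses.mk (ρ t) = ConjClasses.mk (ρ t')
    rw [ConjClasses.mk_eq_mk_iff_isConj]
    exact (h3 t t').mpr htt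
  · intro a b
    induction a using Quotient.inductionOn with
    | _ t =>
      induction b using Quotient.inductionOn with
      | _ t' =>
        intro hab
        apply Quotient.sound
        have h4 := congrArg Subtype.val hab
        change ConjClasses.mk (ρ t) = ConjClasses.mk (ρ t') at h4
        rw [ConjClasses.mk_eq_mk_iff_isConj] at h4
        exact (h3 t t').mp h4
  · rintro ⟨c, x, rfl, hx⟩
    obtain ⟨t, ht⟩ := h2 x hx
    refine ⟨Quotient.mk S t, ?_⟩
    apply Subtype.ext
    show ConjClasses.mk (ρ t) = ConjClasses.mk x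
    rw [ConjClasses.mk_eq_mk_iff_isConj]
    exact ht

/-- counting conjugacy classes through an injective parametrisation -/
theorem card_classes_of_param_inj (Q : P → Prop) {T : Type*} (ρ : T → P)
    (h1 : ∀ t, Q (ρ t)) (h2 : ∀ x, Q x → ∃ t, IsConj (ρ t) x)
    (h3 : ∀ t t', IsConj (ρ t) (ρ t') → t = t') :
    Nat.card {c : ConjClasses P // ∃ x, ConjClasses.mk x = c ∧ Q x} = Nat.card T := by
  rw [card_classes_of_param Q ⊥ ρ h1 h2]
  · apply Nat.card_congr
    refine ⟨Quotient.lift id (fun a b hab => hab), fun t => Quotient.mk _ t, ?_, ?_⟩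
    · intro a
      induction a using Quotient.inductionOn with
      | _ t => rfl
    · intro t
      rfl
  · intro t t'
    constructor
    · intro h
      exact h3 t t' h
    · intro h
      have : t = t' := h
      rw [this]

/-- removing the class of the identity -/
theorem card_classes_ne_one [Finite P] (Q : P → Prop) (hQ1 : Q 1) :
    Nat.card {c : ConjClasses P // ∃ x, ConjClasses.mk x = c ∧ Q x ∧ x ≠ 1} =
      Nat.card {c : ConjClasses P // ∃ x, ConjClasses.mk x = c ∧ Q x} - 1 := by
  classical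
  have hiff : ∀ c : ConjClasses P, (∃ x, ConjClasses.mk x = c ∧ Q x ∧ x ≠ 1) ↔
      ((∃ x, ConjClasses.mk x = c ∧ Q x) ∧ c ≠ ConjClasses.mk 1) := by
    intro c
    constructor
    · rintro ⟨x, rfl, hx, hx1⟩
      refine ⟨⟨x, rfl, hx⟩, ?_⟩
      intro h
      rw [ConjClasses.mk_eq_mk_iff_isConj, isConj_comm, isConj_one_right] at h
      exact hx1 h
    · rintro ⟨⟨x, rfl, hx⟩, hc⟩
      refine ⟨x, rfl, hx, ?_⟩
      rintro rfl
      exact hc rfl
  haveI : Fintype (ConjClasses P) := Fintype.ofFinite _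
  rw [Nat.card_congr (Equiv.subtypeEquivRight hiff)]
  rw [Nat.card_eq_fintype_card, Nat.card_eq_fintype_card, Fintype.card_subtype,
    Fintype.card_subtype]
  have h1 : (Finset.univ.filter (fun c : ConjClasses P =>
      (∃ x, ConjClasses.mk x = c ∧ Q x) ∧ c ≠ ConjClasses.mk 1)) =
      (Finset.univ.filter (fun c : ConjClasses P =>
        ∃ x, ConjClasses.mk x = c ∧ Q x)).erase (ConjClasses.mk 1) := by
    ext c
    simp only [Finset.mem_filter, Finset.mem_univ, true_and, Finset.mem_erase]
    tauto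
  rw [h1, Finset.card_erase_of_mem]
  simp only [Finset.mem_filter, Finset.mem_univ, true_and]
  exact ⟨1, rfl, hQ1⟩

/-- splitting a count of classes according to two exclusive conjugation-invariant properties -/
theorem card_classes_or [Finite P] (Q₁ Q₂ : P → Prop)
    (hex : ∀ x y, IsConj x y → Q₁ x → Q₂ y → False) :
    Nat.card {c : ConjClasses P // ∃ x, ConjClasses.mk x = c ∧ (Q₁ x ∨ Q₂ x)} =
      Nat.card {c : ConjClasses P // ∃ x, ConjClasses.mk x = c ∧ Q₁ x} +
      Nat.card {c : ConjClasses P // ∃ x, ConjClasses.mk x = c ∧ Q₂ x} := by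
  classical
  haveI : Fintype (ConjClasses P) := Fintype.ofFinite _
  rw [Nat.card_eq_fintype_card, Nat.card_eq_fintype_card, Nat.card_eq_fintype_card,
    Fintype.card_subtype, Fintype.card_subtype, Fintype.card_subtype,
    ← Finset.card_union_of_disjoint]
  · congr 1
    ext c
    simp only [Finset.mem_filter, Finset.mem_univ, true_and, Finset.mem_union]
    constructor
    · rintro ⟨x, rfl, h | h⟩
      · exact Or.inl ⟨x, rfl, h⟩
      · exact Or.inr ⟨x, rfl, h⟩
    · rintro (⟨x, rfl, h⟩ | ⟨x, rfl, h⟩)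
      · exact ⟨x, rfl, Or.inl h⟩
      · exact ⟨x, rfl, Or.inr h⟩
  · rw [Finset.disjoint_left]
    intro c hc1 hc2
    simp only [Finset.mem_filter, Finset.mem_univ, true_and] at hc1 hc2
    obtain ⟨x, rfl, hx⟩ := hc1
    obtain ⟨y, hy, hy2⟩ := hc2
    rw [ConjClasses.mk_eq_mk_iff_isConj] at hy
    exact hex x y hy.symm hx hy2

end classes

section quot

variable {G : Type*} [Group G]

/-- conjugacy in the quotient by the centre -/
theorem isConj_mk_iff (g g' : G) :
    IsConj (QuotientGroup.mk g : G ⧸ Subgroup.center G) (QuotientGroup.mk g') ↔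
      ∃ h z : G, z ∈ Subgroup.center G ∧ g' = z * (h * g * h⁻¹) := by
  rw [isConj_iff]
  constructor
  · rintro ⟨y, hy⟩
    obtain ⟨h, rfl⟩ := QuotientGroup.mk_surjective y
    have h1 : ((h * g * h⁻¹ : G) : G ⧸ Subgroup.center G) = (g' : G ⧸ Subgroup.center G) := by
      rw [← hy]; rfl
    rw [QuotientGroup.eq] at h1
    refine ⟨h, (h * g * h⁻¹)⁻¹ * g', h1, ?_⟩
    have hc := Subgroup.mem_center_iff.mp h1 (h * g * h⁻¹)
    rw [← hc]
    group
  · rintro ⟨h, z, hz, rfl⟩
    refine ⟨(h : G ⧸ Subgroup.center G), ?_⟩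
    have h1 : ((z * (h * g * h⁻¹) : G) : G ⧸ Subgroup.center G) =
        ((h * g * h⁻¹ : G) : G ⧸ Subgroup.center G) := by
      rw [QuotientGroup.eq]
      have : (z * (h * g * h⁻¹))⁻¹ * (h * g * h⁻¹) = z⁻¹ := by
        have hc := Subgroup.mem_center_iff.mp hz (h * g * h⁻¹)
        rw [← hc]
        group
      rw [this]
      exact inv_mem hz
    rw [h1]
    rfl

end quot

section poly

variable {K : Type*} [Field K]

/-- the characteristic polynomial of a scalar multiple -/
theorem charpoly_smul {ι : Type*} [Fintype ι] [DecidableEq ι] (ν : K) (hν : ν ≠ 0)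
    (A : Matrix ι ι K) :
    (ν • A).charpoly = C ν ^ Fintype.card ι * A.charpoly.comp (C ν⁻¹ * X) := by
  unfold Matrix.charpoly
  have h1 : (Matrix.charmatrix A).det.comp (C ν⁻¹ * X) =
      ((Polynomial.compRingHom (C ν⁻¹ * X)).mapMatrix (Matrix.charmatrix A)).det := by
    rw [← RingHom.map_det]
    rfl
  rw [h1, ← Matrix.det_smul]
  congr 1
  ext i j : 1
  have hC : (C ν : K[X]) * C ν⁻¹ = 1 := by rw [← C_mul, mul_inv_cancel₀ hν, C_1]
  by_cases hij : i = j
  · subst hij
    simp only [Matrix.charmatrix_apply, Matrix.diagonal_apply_eq, Matrix.smul_apply, smul_eq_mul,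
      RingHom.mapMatrix_apply, Matrix.map_apply, Polynomial.coe_compRingHom, sub_comp, X_comp,
      C_comp, C_mul]
    rw [mul_sub, ← mul_assoc, hC, one_mul]
  · simp only [Matrix.charmatrix_apply, Matrix.diagonal_apply_ne _ hij, Matrix.smul_apply,
      smul_eq_mul, RingHom.mapMatrix_apply, Matrix.map_apply, Polynomial.coe_compRingHom, sub_comp,
      zero_comp, C_comp, C_mul]
    ring

/-- scaling a product of linear factors -/
theorem prod_linear_scale (ν : K) (hν : ν ≠ 0) (m : Multiset K) :
    C ν ^ Multiset.card m * ((m.map (fun a => X - C a)).prod).comp (C ν⁻¹ * X) =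
      ((m.map (fun a => ν * a)).map (fun a => X - C a)).prod := by
  have hC : (C ν : K[X]) * C ν⁻¹ = 1 := by rw [← C_mul, mul_inv_cancel₀ hν, C_1]
  induction m using Multiset.induction_on with
  | empty => simp
  | cons a m ih =>
    rw [Multiset.card_cons, Multiset.map_cons, Multiset.prod_cons, Multiset.map_cons,
      Multiset.map_cons, Multiset.prod_cons, ← ih, mul_comp, sub_comp, X_comp, C_comp, pow_succ,
      C_mul]
    have : (C ν : K[X]) * (C ν⁻¹ * X - C a) = X - C ν * C a := by
      rw [mul_sub, ← mul_assoc, hC, one_mul]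
    rw [← this]
    ring

/-- a polynomial all of whose irreducible factors divide a split polynomial splits -/
theorem splits_of_irreducible_dvd (f h : K[X]) (hf : f ≠ 0) (hh : h ≠ 0) (hs : h.Splits)
    (hd : ∀ g : K[X], Irreducible g → g ∣ f → g ∣ h) : f.Splits := by
  obtain ⟨u, hu⟩ := UniqueFactorizationMonoid.factors_prod hf
  rw [← hu]
  refine (Splits.multisetProd fun g hg => ?_).mul u.isUnit.splits
  exact hs.of_dvd hh (hd g (UniqueFactorizationMonoid.irreducible_of_factor g hg)
    (UniqueFactorizationMonoid.dvd_of_mem_factors hg))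

/-- the characteristic polynomial of a matrix with `A ^ r = 1` splits over a field containing
the `r`-th roots of unity, with roots `r`-th roots of unity -/
theorem exists_roots_of_pow_eq_one {ι : Type*} [Fintype ι] [DecidableEq ι] (r : ℕ) (hr : 0 < r)
    (ζ : K) (hζ : IsPrimitiveRoot ζ r) (A : Matrix ι ι K) (hA : A ^ r = 1) :
    ∃ m : Multiset K, Multiset.card m = Fintype.card ι ∧ (∀ a ∈ m, a ^ r = 1) ∧
      A.charpoly = (m.map (fun a => X - C a)).prod := by
  have hmin : minpoly K A ∣ (X ^ r - 1 : K[X]) := by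
    apply minpoly.dvd
    simp [hA]
  have hne : (X ^ r - 1 : K[X]) ≠ 0 := by
    have := monic_X_pow_sub_C (1 : K) hr.ne'
    rw [C_1] at this
    exact this.ne_zero
  have hsp : (X ^ r - 1 : K[X]).Splits := by
    rw [X_pow_sub_one_eq_prod hr hζ]
    exact Splits.prod fun i _ => Splits.X_sub_C i
  have hfs : A.charpoly.Splits := by
    apply splits_of_irreducible_dvd _ _ (Matrix.charpoly_monic A).ne_zero hne hsp
    intro g hg hgd
    exact (irreducible_dvd_minpoly_matrix A g hg hgd).trans hmin
  refine ⟨A.charpoly.roots, ?_, ?_, hfs.eq_prod_roots_of_monic (Matrix.charpoly_monic A)⟩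
  · rw [← hfs.natDegree_eq_card_roots, Matrix.charpoly_natDegree_eq_dim]
  · intro a ha
    have h1 : (X - C a : K[X]) ∣ A.charpoly := by
      rw [dvd_iff_isRoot]
      exact (mem_roots (Matrix.charpoly_monic A).ne_zero).mp ha
    have h2 : (X - C a : K[X]) ∣ X ^ r - 1 :=
      (irreducible_dvd_minpoly_matrix A _ (irreducible_X_sub_C a) h1).trans hmin
    rw [dvd_iff_isRoot, IsRoot.def, eval_sub, eval_pow, eval_X, eval_one] at h2
    exact sub_eq_zero.mp h2

/-- lifting a multiset of roots of unity -/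
theorem exists_lift_multiset (r : ℕ) (hr : 0 < r) (m : Multiset K) (hm : ∀ a ∈ m, a ^ r = 1) :
    ∃ s : Multiset (rootsOfUnity r K), s.map (fun x : rootsOfUnity r K => ((x : Kˣ) : K)) = m := by
  induction m using Multiset.induction_on with
  | empty => exact ⟨0, rfl⟩
  | cons a m ih =>
    obtain ⟨s, hs⟩ := ih (fun b hb => hm b (Multiset.mem_cons_of_mem hb))
    have ha := hm a (Multiset.mem_cons_self a m)
    have ha0 : a ≠ 0 := by
      rintro rfl
      rw [zero_pow hr.ne'] at ha
      exact zero_ne_one ha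
    have hu : Units.mk0 a ha0 ∈ rootsOfUnity r K := by
      rw [mem_rootsOfUnity]
      apply Units.ext
      rw [Units.val_pow_eq_pow_val, Units.val_mk0, ha, Units.val_one]
    refine ⟨⟨Units.mk0 a ha0, hu⟩ ::ₘ s, ?_⟩
    rw [Multiset.map_cons, hs]
    rfl

/-- a monic polynomial whose irreducible factors all equal `Q` is a power of `Q` -/
theorem eq_pow_of_factors (f Q : K[X]) (hf : f.Monic)
    (h : ∀ P : K[X], P.Monic → Irreducible P → P ∣ f → P = Q) : ∃ k : ℕ, f = Q ^ k := by
  classical
  obtain ⟨e, he⟩ := exists_expProd ({Q} : Finset K[X]) f.natDegree f rfl hf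
    (fun P hP hPi hPd => by rw [Finset.mem_singleton]; exact h P hP hPi hPd)
  refine ⟨e Q, ?_⟩
  rw [he]
  unfold expProd
  rw [Finset.prod_singleton]

end poly

end Cfsg.Agent.Lib.Helper14.ProjOrd
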