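import Cfsg.Agent.Lib.Helper14.ProjOrd2

set_option autoImplicit false

/-! # Classes of prime order in a projective group: the abstract setup, diagonalisable type -/

namespace Cfsg.Agent.Lib.Helper14.ProjOrd

open Polynomial

section mats

variable {K : Type*} [Field K] {n : ℕ}

theorem charpoly_conj_of_mul_eq_one (H H' A : Matrix (Fin n) (Fin n) K) (h : H' * H = 1) :
    (H * A * H').charpoly = A.charpoly := by
  rw [Matrix.charpoly_mul_comm, ← Matrix.mul_assoc, h, Matrix.one_mul]

theorem smul_one_eq_smul_one (hn : 1 ≤ n) (a b : K)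
    (h : a • (1 : Matrix (Fin n) (Fin n) K) = b • (1 : Matrix (Fin n) (Fin n) K)) : a = b := by
  have h1 := congrFun (congrFun h ⟨0, hn⟩) ⟨0, hn⟩
  simpa using h1

theorem smul_pow' (a : K) (A : Matrix (Fin n) (Fin n) K) (k : ℕ) :
    (a • A) ^ k = a ^ k • A ^ k := by
  induction k with
  | zero => simp
  | succ k ih =>
    rw [pow_succ, ih, pow_succ, pow_succ, Matrix.smul_mul, Matrix.mul_smul, smul_smul]

theorem prod_get_cast {α M : Type*} [CommMonoid M] (f : α → M) (l : List α) (n : ℕ)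
    (hlen : l.length = n) :
    ∏ i : Fin n, f (l.get (Fin.cast hlen.symm i)) = (l.map f).prod := by
  subst hlen
  conv_rhs => rw [← List.ofFn_get l]
  rw [List.map_ofFn, List.prod_ofFn]
  rfl

end mats

variable {K : Type*} [Field K] [Fintype K] {G : Type*} [Group G] {n : ℕ}

/-- the matrix of a group element -/
def mat (ι : G →* GL (Fin n) K) (g : G) : Matrix (Fin n) (Fin n) K :=
  ((ι g : GL (Fin n) K) : Matrix (Fin n) (Fin n) K)

theorem mat_mul (ι : G →* GL (Fin n) K) (g h : G) : mat ι (g * h) = mat ι g * mat ι h := by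
  unfold mat
  rw [map_mul, Units.val_mul]

theorem mat_one (ι : G →* GL (Fin n) K) : mat ι 1 = 1 := by
  unfold mat
  rw [map_one, Units.val_one]

theorem mat_pow (ι : G →* GL (Fin n) K) (g : G) (k : ℕ) : mat ι (g ^ k) = mat ι g ^ k := by
  unfold mat
  rw [map_pow, Units.val_pow_eq_pow_val]

theorem mat_inv_mul (ι : G →* GL (Fin n) K) (g : G) : mat ι g⁻¹ * mat ι g = 1 := by
  rw [← mat_mul, inv_mul_cancel, mat_one]

theorem mat_mul_inv (ι : G →* GL (Fin n) K) (g : G) : mat ι g * mat ι g⁻¹ = 1 := by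
  rw [← mat_mul, mul_inv_cancel, mat_one]

theorem charpoly_mat_conj (ι : G →* GL (Fin n) K) (h g : G) :
    (mat ι (h * g * h⁻¹)).charpoly = (mat ι g).charpoly := by
  rw [mat_mul, mat_mul]
  exact charpoly_conj_of_mul_eq_one _ _ _ (mat_inv_mul ι h)

theorem mat_conj_pow (ι : G →* GL (Fin n) K) (h g : G) (k : ℕ) :
    mat ι (h * g * h⁻¹) ^ k = mat ι h * mat ι g ^ k * mat ι h⁻¹ := by
  rw [← mat_pow, conj_pow, mat_mul, mat_mul, mat_pow]

/-- the hypotheses on the group `G ≤ GL_n(K)` with scalar subgroup `C` -/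
structure Hyp (r p : ℕ) (ι : G →* GL (Fin n) K) (Cs : Subgroup Kˣ) : Prop where
  hn : 1 ≤ n
  hr : r.Prime
  hrK : r ∣ Fintype.card K - 1
  center : ∀ g : G, g ∈ Subgroup.center G ↔
    ∃ c ∈ Cs, mat ι g = ((c : Kˣ) : K) • (1 : Matrix (Fin n) (Fin n) K)
  scalar : ∀ c ∈ Cs, ∃ z : G, mat ι z = ((c : Kˣ) : K) • (1 : Matrix (Fin n) (Fin n) K)
  conj : ∀ (g h : G) (M : ℕ), M.Coprime p → mat ι g ^ M = 1 → mat ι h ^ M = 1 →
    (mat ι g).charpoly = (mat ι h).charpoly → IsConj g h
  diag : ∀ d : Fin n → Kˣ, (∀ i, d i ^ r = 1) →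
    ∃ g : G, mat ι g = Matrix.diagonal (fun i => ((d i : Kˣ) : K))
  typeB : r ∣ n → ∀ c ∈ Cs, ∃ g : G,
    mat ι g ^ r = ((c : Kˣ) : K) • (1 : Matrix (Fin n) (Fin n) K)
  root : ∀ ν : Kˣ, ν ^ r ∈ Cs → ν ∈ Cs
  rC : r ∣ Nat.card Cs

section typeA

variable {r p : ℕ} {ι : G →* GL (Fin n) K} {Cs : Subgroup Kˣ}

/-- the polynomial with a given multiset of roots of unity as roots -/
noncomputable def poly (r n : ℕ) (s : Sym (rootsOfUnity r K) n) : K[X] :=
  ((s : Multiset (rootsOfUnity r K)).map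
    (fun x : rootsOfUnity r K => (X - C (((x : Kˣ) : K)) : K[X]))).prod

theorem poly_eq (r n : ℕ) (s : Sym (rootsOfUnity r K) n) :
    poly r n s = (((s : Multiset (rootsOfUnity r K)).map
      (fun x : rootsOfUnity r K => ((x : Kˣ) : K))).map (fun a => X - C a)).prod := by
  unfold poly
  rw [Multiset.map_map]
  rfl

theorem poly_inj (r n : ℕ) (s s' : Sym (rootsOfUnity r K) n) (h : poly r n s = poly r n s') :
    s = s' := by
  rw [poly_eq, poly_eq] at h
  have h1 := congrArg Polynomial.roots h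
  rw [roots_multiset_prod_X_sub_C, roots_multiset_prod_X_sub_C] at h1
  apply Sym.coe_injective
  refine Multiset.map_injective ?_ h1
  intro x y hxy
  apply Subtype.ext
  apply Units.ext
  exact hxy

theorem poly_smul (r n : ℕ) (h : rootsOfUnity r K) (s : Sym (rootsOfUnity r K) n) :
    poly r n (h • s) =
      C (((h : Kˣ) : K)) ^ n * (poly r n s).comp (C (((h : Kˣ) : K))⁻¹ * X) := by
  rw [poly_eq, poly_eq]
  have hc : Multiset.card ((s : Multiset (rootsOfUnity r K)).map
      (fun x : rootsOfUnity r K => ((x : Kˣ) : K))) = n := by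
    rw [Multiset.card_map]
    exact s.2
  have := prod_linear_scale (((h : Kˣ) : K)) (Units.ne_zero _)
    ((s : Multiset (rootsOfUnity r K)).map (fun x : rootsOfUnity r K => ((x : Kˣ) : K)))
  rw [hc] at this
  rw [this, smul_val]
  simp only [Multiset.map_map]
  congr 1

theorem exists_primitive (hr : r.Prime) (hrK : r ∣ Fintype.card K - 1) :
    ∃ ζ : K, IsPrimitiveRoot ζ r := by
  classical
  haveI : Fact r.Prime := ⟨hr⟩
  have h1 : r ∣ Fintype.card Kˣ := by rw [Fintype.card_units]; exact hrK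
  obtain ⟨u, hu⟩ := exists_prime_orderOf_dvd_card r h1
  refine ⟨(u : K), ?_⟩
  rw [IsPrimitiveRoot.coe_units_iff, ← hu]
  exact IsPrimitiveRoot.orderOf u

theorem card_roots (hr : r.Prime) (hrK : r ∣ Fintype.card K - 1) :
    Nat.card (rootsOfUnity r K) = r := by
  obtain ⟨ζ, hζ⟩ := exists_primitive hr hrK
  haveI : NeZero r := ⟨hr.ne_zero⟩
  exact hζ.card_rootsOfUnity

theorem exists_poly (hr : r.Prime) (hrK : r ∣ Fintype.card K - 1)
    (A : Matrix (Fin n) (Fin n) K) (hA : A ^ r = 1) :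
    ∃ s : Sym (rootsOfUnity r K) n, A.charpoly = poly r n s := by
  obtain ⟨ζ, hζ⟩ := exists_primitive hr hrK
  obtain ⟨m, hm1, hm2, hm3⟩ := exists_roots_of_pow_eq_one r hr.pos ζ hζ A hA
  obtain ⟨s, hs⟩ := exists_lift_multiset r hr.pos m hm2
  have hc : Multiset.card s = n := by
    have := congrArg Multiset.card hs
    rw [Multiset.card_map, hm1, Fintype.card_fin] at this
    exact this
  let s' : Sym (rootsOfUnity r K) n := ⟨s, hc⟩
  refine ⟨s', ?_⟩
  rw [poly_eq, hm3]
  show _ = ((s.map _).map _).prod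
  rw [hs]

theorem exists_of_sym (H : Hyp r p ι Cs) (s : Sym (rootsOfUnity r K) n) :
    ∃ g : G, mat ι g ^ r = 1 ∧ (mat ι g).charpoly = poly r n s := by
  obtain ⟨l, hl⟩ := Quot.exists_rep (s : Multiset (rootsOfUnity r K))
  have hlen : l.length = n := by
    have h1 : Multiset.card (s : Multiset (rootsOfUnity r K)) = n := s.2
    rw [← hl] at h1
    exact h1
  let d : Fin n → Kˣ := fun i => ((l.get (Fin.cast hlen.symm i) : rootsOfUnity r K) : Kˣ)
  have hd : ∀ i, d i ^ r = 1 := by
    intro i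
    exact (mem_rootsOfUnity _ _).mp (l.get (Fin.cast hlen.symm i)).2
  obtain ⟨g, hg⟩ := H.diag d hd
  refine ⟨g, ?_, ?_⟩
  · rw [hg, Matrix.diagonal_pow]
    rw [← Matrix.diagonal_one]
    congr 1
    ext i
    show ((d i : Kˣ) : K) ^ r = 1
    rw [← Units.val_pow_eq_pow_val, hd i, Units.val_one]
  · rw [hg, Matrix.charpoly_diagonal]
    unfold poly
    rw [← hl]
    show _ = (Multiset.map _ (↑l : Multiset (rootsOfUnity r K))).prod
    rw [Multiset.map_coe, Multiset.prod_coe]
    exact prod_get_cast (fun x : rootsOfUnity r K => (X - C (((x : Kˣ) : K)) : K[X])) l n hlen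

/-- the lift of a class of diagonalisable type -/
def IsA (r : ℕ) (ι : G →* GL (Fin n) K) (x : G ⧸ Subgroup.center G) : Prop :=
  ∃ g : G, (g : G ⧸ Subgroup.center G) = x ∧ mat ι g ^ r = 1

theorem mk_smul_eq (z g : G) (hz : z ∈ Subgroup.center G) :
    ((z * g : G) : G ⧸ Subgroup.center G) = (g : G ⧸ Subgroup.center G) := by
  rw [QuotientGroup.mk_mul, (QuotientGroup.eq_one_iff z).mpr hz, one_mul]

variable [Fact p.Prime] [CharP K p]

theorem r_coprime (H : Hyp r p ι Cs) : r.Coprime p := by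
  rw [Nat.coprime_primes H.hr (Fact.out : p.Prime)]
  rintro rfl
  have h1 := H.hrK
  have h2 : (r : ℕ) ∣ Fintype.card K := by
    obtain ⟨k, hk⟩ := FiniteField.card K r
    obtain ⟨hp, hk⟩ := hk
    rw [hk]
    exact dvd_pow_self r k.ne_zero
  have h3 : 1 ≤ Fintype.card K := Fintype.card_pos
  have h4 : r ∣ 1 := by
    have : Fintype.card K = (Fintype.card K - 1) + 1 := by omega
    rw [this] at h2
    exact (Nat.dvd_add_right h1).mp h2
  exact H.hr.one_lt.ne' (Nat.dvd_one.mp h4)

/-- **type A count**: classes with a lift of order dividing `r` correspond to orbits of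
eigenvalue multisets -/
theorem card_typeA (H : Hyp r p ι Cs) :
    Nat.card {c : ConjClasses (G ⧸ Subgroup.center G) // ∃ x, ConjClasses.mk x = c ∧ IsA r ι x} =
      Nat.card (Quotient (MulAction.orbitRel (rootsOfUnity r K) (Sym (rootsOfUnity r K) n))) := by
  classical
  let ρ : Sym (rootsOfUnity r K) n → G ⧸ Subgroup.center G :=
    fun s => ((Classical.choose (exists_of_sym H s) : G) : G ⧸ Subgroup.center G)
  have hρ1 : ∀ s, mat ι (Classical.choose (exists_of_sym H s)) ^ r = 1 :=
    fun s => (Classical.choose_spec (exists_of_sym H s)).1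
  have hρ2 : ∀ s, (mat ι (Classical.choose (exists_of_sym H s))).charpoly = poly r n s :=
    fun s => (Classical.choose_spec (exists_of_sym H s)).2
  apply card_classes_of_param (IsA r ι) (MulAction.orbitRel (rootsOfUnity r K)
    (Sym (rootsOfUnity r K) n)) ρ
  · intro s
    exact ⟨_, rfl, hρ1 s⟩
  · rintro x ⟨g, rfl, hg⟩
    obtain ⟨s, hs⟩ := exists_poly H.hr H.hrK (mat ι g) hg
    refine ⟨s, ?_⟩
    have h1 : IsConj (Classical.choose (exists_of_sym H s)) g :=
      H.conj _ _ r (r_coprime H) (hρ1 s) hg (by rw [hρ2 s, hs])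
    exact (QuotientGroup.mk' (Subgroup.center G)).map_isConj h1
  · intro s s'
    rw [MulAction.orbitRel_apply, MulAction.mem_orbit_iff]
    constructor
    · intro hc
      rw [isConj_comm] at hc
      obtain ⟨h, z, hz, hgz⟩ := (isConj_mk_iff _ _).mp hc
      obtain ⟨c, hcC, hcz⟩ := (H.center z).mp hz
      have hpow : mat ι (Classical.choose (exists_of_sym H s)) =
          ((c : Kˣ) : K) • mat ι (h * Classical.choose (exists_of_sym H s') * h⁻¹) := by
        rw [hgz, mat_mul, hcz, Matrix.smul_mul, Matrix.one_mul]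
      have hcr : ((c : Kˣ) : K) ^ r = 1 := by
        have h1 := hρ1 s
        rw [hpow, smul_pow', mat_conj_pow, hρ1 s', Matrix.mul_one, mat_mul_inv] at h1
        have h2 : ((c : Kˣ) : K) ^ r • (1 : Matrix (Fin n) (Fin n) K) =
            (1 : K) • (1 : Matrix (Fin n) (Fin n) K) := by rw [h1, one_smul]
        exact smul_one_eq_smul_one H.hn _ _ h2
      have hcR : c ∈ rootsOfUnity r K := by
        rw [mem_rootsOfUnity]
        apply Units.ext
        rw [Units.val_pow_eq_pow_val, hcr, Units.val_one]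
      refine ⟨⟨c, hcR⟩, ?_⟩
      apply poly_inj
      rw [poly_smul, ← hρ2 s, ← hρ2 s', hpow, charpoly_smul _ (Units.ne_zero c),
        charpoly_mat_conj, Fintype.card_fin]
    · rintro ⟨h, rfl⟩
      have hcC : (h : Kˣ) ∈ Cs := by
        apply H.root
        rw [(mem_rootsOfUnity _ _).mp h.2]
        exact one_mem Cs
      obtain ⟨z, hz⟩ := H.scalar _ hcC
      have hzc : z ∈ Subgroup.center G := (H.center z).mpr ⟨_, hcC, hz⟩
      have hmat : mat ι (z * Classical.choose (exists_of_sym H s')) =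
          (((h : Kˣ) : K)) • mat ι (Classical.choose (exists_of_sym H s')) := by
        rw [mat_mul, hz, Matrix.smul_mul, Matrix.one_mul]
      have hhr : (((h : Kˣ) : K)) ^ r = 1 := by
        rw [← Units.val_pow_eq_pow_val, (mem_rootsOfUnity _ _).mp h.2, Units.val_one]
      have h1 : IsConj (z * Classical.choose (exists_of_sym H s'))
          (Classical.choose (exists_of_sym H (h • s'))) := by
        apply H.conj _ _ r (r_coprime H)
        · rw [hmat, smul_pow', hhr, one_smul, hρ1 s']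
        · exact hρ1 _
        · rw [hmat, charpoly_smul _ (Units.ne_zero _), hρ2, hρ2, poly_smul, Fintype.card_fin]
      have h2 := (QuotientGroup.mk' (Subgroup.center G)).map_isConj h1
      rw [QuotientGroup.mk'_apply, QuotientGroup.mk'_apply, mk_smul_eq z _ hzc] at h2
      exact h2.symm

end typeA

end Cfsg.Agent.Lib.Helper14.ProjOrd
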