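import Cfsg.Agent.Lib.Helper14.ProjOrd3

set_option autoImplicit false

/-! # Classes of prime order in a projective group: irreducible type and the count -/

namespace Cfsg.Agent.Lib.Helper14.ProjOrd

open Polynomial

variable {K : Type*} [Field K] [Fintype K] {G : Type*} [Group G] {n : ℕ}
variable {r p : ℕ} {ι : G →* GL (Fin n) K} {Cs : Subgroup Kˣ}

/-- the lift of a class of irreducible type -/
def IsB (r : ℕ) (ι : G →* GL (Fin n) K) (Cs : Subgroup Kˣ) (x : G ⧸ Subgroup.center G) : Prop :=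
  ∃ g : G, ∃ c ∈ Cs, (∀ ν ∈ Cs, ν ^ r ≠ c) ∧ (g : G ⧸ Subgroup.center G) = x ∧
    mat ι g ^ r = ((c : Kˣ) : K) • (1 : Matrix (Fin n) (Fin n) K)

theorem not_pow_of_not_pow (H : Hyp r p ι Cs) (c : Kˣ) (hc : c ∈ Cs)
    (hcr : ∀ ν ∈ Cs, ν ^ r ≠ c) (b : K) : b ^ r ≠ ((c : Kˣ) : K) := by
  intro hb
  have hb0 : b ≠ 0 := by
    rintro rfl
    rw [zero_pow H.hr.ne_zero] at hb
    exact Units.ne_zero c hb.symm
  have h1 : (Units.mk0 b hb0) ^ r = c := by
    apply Units.ext
    rw [Units.val_pow_eq_pow_val, Units.val_mk0, hb]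
  have h2 : Units.mk0 b hb0 ∈ Cs := H.root _ (by rw [h1]; exact hc)
  exact hcr _ h2 h1

/-- the characteristic polynomial of a lift of irreducible type -/
theorem charpoly_typeB (H : Hyp r p ι Cs) (A : Matrix (Fin n) (Fin n) K) (c : Kˣ) (hc : c ∈ Cs)
    (hcr : ∀ ν ∈ Cs, ν ^ r ≠ c)
    (hA : A ^ r = ((c : Kˣ) : K) • (1 : Matrix (Fin n) (Fin n) K)) :
    ∃ k : ℕ, n = r * k ∧ A.charpoly = (X ^ r - C ((c : Kˣ) : K)) ^ k := by
  have hirr : Irreducible (X ^ r - C ((c : Kˣ) : K) : K[X]) :=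
    X_pow_sub_C_irreducible_of_prime H.hr (not_pow_of_not_pow H c hc hcr)
  have hmon : (X ^ r - C ((c : Kˣ) : K) : K[X]).Monic := monic_X_pow_sub_C _ H.hr.ne_zero
  have hmin : minpoly K A ∣ (X ^ r - C ((c : Kˣ) : K) : K[X]) := by
    apply minpoly.dvd
    rw [map_sub, map_pow, aeval_X, aeval_C, hA, Algebra.algebraMap_eq_smul_one, sub_self]
  obtain ⟨k, hk⟩ := eq_pow_of_factors A.charpoly (X ^ r - C ((c : Kˣ) : K))
    (Matrix.charpoly_monic A) (by
      intro P hP hPi hPd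
      have h1 : P ∣ (X ^ r - C ((c : Kˣ) : K) : K[X]) :=
        (irreducible_dvd_minpoly_matrix A P hPi hPd).trans hmin
      exact eq_of_monic_of_associated hP hmon (hPi.associated_of_dvd hirr h1))
  refine ⟨k, ?_, hk⟩
  have h2 := congrArg natDegree hk
  rw [Matrix.charpoly_natDegree_eq_dim, Fintype.card_fin, natDegree_pow, natDegree_X_pow_sub_C]
    at h2
  rw [h2, mul_comm]

variable [Fact p.Prime] [CharP K p]

omit [Fact p.Prime] in
theorem card_sub_one_coprime : (Fintype.card K - 1).Coprime p := by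
  have hp : p.Prime := by
    obtain ⟨k, hk⟩ := FiniteField.card K p
    exact hk.1
  obtain ⟨k, hk⟩ := FiniteField.card K p
  obtain ⟨hp, hk⟩ := hk
  rw [Nat.coprime_comm, Nat.Prime.coprime_iff_not_dvd hp]
  intro hd
  have h2 : p ∣ Fintype.card K := by
    rw [hk]
    exact dvd_pow_self p k.ne_zero
  have h3 : 1 ≤ Fintype.card K := Fintype.card_pos
  have h4 : p ∣ 1 := by
    have : Fintype.card K = (Fintype.card K - 1) + 1 := by omega
    rw [this] at h2
    exact (Nat.dvd_add_right hd).mp h2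
  exact hp.one_lt.ne' (Nat.dvd_one.mp h4)

/-- a lift of irreducible type is a `p'`-element -/
theorem pow_eq_one_typeB (A : Matrix (Fin n) (Fin n) K) (c : Kˣ)
    (hA : A ^ r = ((c : Kˣ) : K) • (1 : Matrix (Fin n) (Fin n) K)) :
    A ^ (r * (Fintype.card K - 1)) = 1 := by
  rw [pow_mul, hA, smul_pow', one_pow,
    FiniteField.pow_card_sub_one_eq_one _ (Units.ne_zero c), one_smul]

theorem exp_coprime (H : Hyp r p ι Cs) : (r * (Fintype.card K - 1)).Coprime p :=
  Nat.Coprime.mul_left (r_coprime H) card_sub_one_coprime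

/-- lifts of irreducible type with the same `r`-th power are conjugate -/
theorem isConj_typeB (H : Hyp r p ι Cs) (g g' : G) (c : Kˣ) (hc : c ∈ Cs)
    (hcr : ∀ ν ∈ Cs, ν ^ r ≠ c)
    (hg : mat ι g ^ r = ((c : Kˣ) : K) • (1 : Matrix (Fin n) (Fin n) K))
    (hg' : mat ι g' ^ r = ((c : Kˣ) : K) • (1 : Matrix (Fin n) (Fin n) K)) : IsConj g g' := by
  apply H.conj g g' _ (exp_coprime H) (pow_eq_one_typeB _ c hg) (pow_eq_one_typeB _ c hg')
  obtain ⟨k, hk1, hk2⟩ := charpoly_typeB H _ c hc hcr hg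
  obtain ⟨k', hk1', hk2'⟩ := charpoly_typeB H _ c hc hcr hg'
  have : k = k' := by
    have : r * k = r * k' := by rw [← hk1, ← hk1']
    exact Nat.eq_of_mul_eq_mul_left H.hr.pos this
  rw [hk2, hk2', this]

/-- the arithmetic of exponents of a generator modulo `r`-th powers -/
theorem exp_modEq (γ : Kˣ) (hγ : ∀ x ∈ Cs, x ∈ Subgroup.zpowers γ) (hr : r ∣ orderOf γ)
    (ν : Kˣ) (hν : ν ∈ Cs) (e e' : ℕ) (h : ν ^ r * γ ^ e = γ ^ e') : e ≡ e' [MOD r] := by
  have h1 := hγ ν hν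
  rw [← mem_powers_iff_mem_zpowers] at h1
  obtain ⟨k, rfl⟩ := h1
  rw [← pow_mul, ← pow_add, pow_eq_pow_iff_modEq] at h
  have h2 := Nat.ModEq.of_dvd hr h
  have h3 : k * r + e ≡ e [MOD r] := by
    have : k * r + e ≡ 0 + e [MOD r] := Nat.ModEq.add_right _ (by
      rw [Nat.modEq_zero_iff_dvd]; exact dvd_mul_left r k)
    rwa [zero_add] at this
  exact h3.symm.trans h2

theorem pow_conj_smul (g g' h z : G) (ν : K) (hz : mat ι z = ν • (1 : Matrix (Fin n) (Fin n) K))
    (hgz : g' = z * (h * g * h⁻¹)) (a : K)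
    (hg : mat ι g ^ r = a • (1 : Matrix (Fin n) (Fin n) K)) :
    mat ι g' ^ r = (ν ^ r * a) • (1 : Matrix (Fin n) (Fin n) K) := by
  rw [hgz, mat_mul, hz, Matrix.smul_mul, Matrix.one_mul, smul_pow', mat_conj_pow, hg,
    Matrix.mul_smul, Matrix.mul_one, Matrix.smul_mul, mat_mul_inv, smul_smul]

/-- **type B count** -/
theorem card_typeB [Finite G] (H : Hyp r p ι Cs) :
    Nat.card {c : ConjClasses (G ⧸ Subgroup.center G) //
      ∃ x, ConjClasses.mk x = c ∧ IsB r ι Cs x} = if r ∣ n then r - 1 else 0 := by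
  classical
  split_ifs with hrn
  · obtain ⟨γ₀, hγ₀⟩ := IsCyclic.exists_generator (α := Cs)
    have hord₀ : orderOf γ₀ = Nat.card Cs := orderOf_eq_card_of_forall_mem_zpowers hγ₀
    let γ : Kˣ := (γ₀ : Kˣ)
    have hγC : γ ∈ Cs := γ₀.2
    have hγ : ∀ x ∈ Cs, x ∈ Subgroup.zpowers γ := by
      intro x hx
      obtain ⟨k, hk⟩ := hγ₀ ⟨x, hx⟩
      refine ⟨k, ?_⟩
      have := congrArg Subtype.val hk
      simpa using this
    have hord : r ∣ orderOf γ := by
      have : orderOf γ = orderOf γ₀ := Subgroup.orderOf_coe γ₀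
      rw [this, hord₀]
      exact H.rC
    have hnot : ∀ e : ℕ, ¬ r ∣ e → ∀ ν ∈ Cs, ν ^ r ≠ γ ^ e := by
      intro e he ν hν h
      have h1 : ν ^ r * γ ^ 0 = γ ^ e := by rw [pow_zero, mul_one, h]
      have h2 := exp_modEq γ hγ hord ν hν 0 e h1
      exact he ((Nat.modEq_zero_iff_dvd.mp h2.symm))
    have hmem : ∀ e : ℕ, γ ^ e ∈ Cs := fun e => pow_mem hγC e
    have hjr : ∀ j : Fin (r - 1), ¬ r ∣ (j : ℕ) + 1 := by
      intro j hd
      have := Nat.le_of_dvd (Nat.succ_pos _) hd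
      have := j.2
      omega
    let gj : Fin (r - 1) → G := fun j => Classical.choose (H.typeB hrn (γ ^ ((j : ℕ) + 1)) (hmem _))
    have hgj : ∀ j, mat ι (gj j) ^ r =
        ((γ ^ ((j : ℕ) + 1) : Kˣ) : K) • (1 : Matrix (Fin n) (Fin n) K) :=
      fun j => Classical.choose_spec (H.typeB hrn (γ ^ ((j : ℕ) + 1)) (hmem _))
    rw [card_classes_of_param_inj (IsB r ι Cs)
      (fun j : Fin (r - 1) => ((gj j : G) : G ⧸ Subgroup.center G))]
    · rw [Nat.card_eq_fintype_card, Fintype.card_fin]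
    · intro j
      exact ⟨gj j, _, hmem _, hnot _ (hjr j), rfl, hgj j⟩
    · rintro x ⟨g, c, hc, hcr, rfl, hg⟩
      have h1 := hγ c hc
      rw [← mem_powers_iff_mem_zpowers] at h1
      obtain ⟨e, rfl⟩ := h1
      have her : e % r ≠ 0 := by
        intro h0
        have hd : r ∣ e := Nat.dvd_of_mod_eq_zero h0
        obtain ⟨k, rfl⟩ := hd
        exact hcr (γ ^ k) (hmem k) (by rw [← pow_mul, mul_comm])
      have hlt : e % r < r := Nat.mod_lt _ H.hr.pos
      let j : Fin (r - 1) := ⟨e % r - 1, by omega⟩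
      have hj : (j : ℕ) + 1 = e % r := by
        show e % r - 1 + 1 = e % r
        omega
      refine ⟨j, ?_⟩
      -- rescale `g`
      have hνC : (γ ^ (e / r))⁻¹ ∈ Cs := inv_mem (hmem _)
      obtain ⟨z, hz⟩ := H.scalar _ hνC
      have hzc : z ∈ Subgroup.center G := (H.center z).mpr ⟨_, hνC, hz⟩
      have hpow : mat ι (z * g) ^ r =
          ((γ ^ ((j : ℕ) + 1) : Kˣ) : K) • (1 : Matrix (Fin n) (Fin n) K) := by
        rw [mat_mul, hz, Matrix.smul_mul, Matrix.one_mul, smul_pow', hg, smul_smul]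
        congr 1
        rw [hj, ← Units.val_pow_eq_pow_val, ← Units.val_mul]
        congr 1
        rw [inv_pow, ← pow_mul, inv_mul_eq_iff_eq_mul, ← pow_add]
        congr 1
        exact (Nat.div_add_mod' e r).symm
      have hconj : IsConj (gj j) (z * g) :=
        isConj_typeB H _ _ _ (hmem _) (hnot _ (hjr j)) (hgj j) hpow
      have h2 := (QuotientGroup.mk' (Subgroup.center G)).map_isConj hconj
      rw [QuotientGroup.mk'_apply, QuotientGroup.mk'_apply, mk_smul_eq z _ hzc] at h2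
      exact h2
    · intro j j' hc
      obtain ⟨h, z, hz, hgz⟩ := (isConj_mk_iff _ _).mp hc
      obtain ⟨ν, hνC, hνz⟩ := (H.center z).mp hz
      have h1 := pow_conj_smul (gj j) (gj j') h z _ hνz hgz _ (hgj j)
      rw [hgj j'] at h1
      have h2 := smul_one_eq_smul_one H.hn _ _ h1
      have h3 : ν ^ r * γ ^ ((j : ℕ) + 1) = γ ^ ((j' : ℕ) + 1) := by
        apply Units.ext
        rw [Units.val_mul, Units.val_pow_eq_pow_val, ← h2]
      have h4 := exp_modEq γ hγ hord ν hνC _ _ h3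
      apply Fin.ext
      have h5 := j.2
      have h6 := j'.2
      have h7 : ((j : ℕ) + 1) % r = ((j' : ℕ) + 1) % r := h4
      rw [Nat.mod_eq_of_lt (by omega), Nat.mod_eq_of_lt (by omega)] at h7
      omega
  · have hemp : IsEmpty {c : ConjClasses (G ⧸ Subgroup.center G) //
        ∃ x, ConjClasses.mk x = c ∧ IsB r ι Cs x} := by
      constructor
      rintro ⟨_, x, rfl, g, c, hc, hcr, rfl, hg⟩
      obtain ⟨k, hk1, -⟩ := charpoly_typeB H _ c hc hcr hg
      exact hrn ⟨k, hk1⟩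
    exact Nat.card_of_isEmpty

/-- elements of order `r` of the projective group -/
theorem orderOf_eq_iff (H : Hyp r p ι Cs) (x : G ⧸ Subgroup.center G) :
    orderOf x = r ↔ ((IsA r ι x ∧ x ≠ 1) ∨ IsB r ι Cs x) := by
  haveI : Fact r.Prime := ⟨H.hr⟩
  constructor
  · intro hx
    obtain ⟨hx1, hx2⟩ := orderOf_eq_prime_iff.mp hx
    obtain ⟨g, rfl⟩ := QuotientGroup.mk_surjective x
    have h1 : g ^ r ∈ Subgroup.center G := by
      rw [← QuotientGroup.eq_one_iff, QuotientGroup.mk_pow]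
      exact hx1
    obtain ⟨c, hcC, hc⟩ := (H.center _).mp h1
    rw [mat_pow] at hc
    by_cases hex : ∃ ν ∈ Cs, ν ^ r = c
    · left
      refine ⟨?_, hx2⟩
      obtain ⟨ν, hνC, hν⟩ := hex
      have hνi : ν⁻¹ ∈ Cs := inv_mem hνC
      obtain ⟨z, hz⟩ := H.scalar _ hνi
      have hzc : z ∈ Subgroup.center G := (H.center z).mpr ⟨_, hνi, hz⟩
      refine ⟨z * g, mk_smul_eq z g hzc, ?_⟩
      rw [mat_mul, hz, Matrix.smul_mul, Matrix.one_mul, smul_pow', hc, smul_smul,
        ← Units.val_pow_eq_pow_val, ← Units.val_mul, inv_pow, hν, inv_mul_cancel, Units.val_one,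
        one_smul]
    · right
      push Not at hex
      exact ⟨g, c, hcC, hex, rfl, hc⟩
  · rintro (⟨⟨g, rfl, hg⟩, hx1⟩ | ⟨g, c, hcC, hcr, rfl, hg⟩)
    · apply orderOf_eq_prime _ hx1
      rw [← QuotientGroup.mk_pow, QuotientGroup.eq_one_iff, H.center]
      refine ⟨1, one_mem _, ?_⟩
      rw [mat_pow, hg, Units.val_one, one_smul]
    · apply orderOf_eq_prime
      · rw [← QuotientGroup.mk_pow, QuotientGroup.eq_one_iff, H.center]
        exact ⟨c, hcC, by rw [mat_pow, hg]⟩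
      · intro h1
        rw [QuotientGroup.eq_one_iff, H.center] at h1
        obtain ⟨ν, hνC, hν⟩ := h1
        rw [hν, smul_pow', one_pow] at hg
        have h2 := smul_one_eq_smul_one H.hn _ _ hg
        apply hcr ν hνC
        apply Units.ext
        rw [Units.val_pow_eq_pow_val, h2]

theorem not_A_B (H : Hyp r p ι Cs) (x y : G ⧸ Subgroup.center G) (hxy : IsConj x y)
    (hx : IsA r ι x) (hy : IsB r ι Cs y) : False := by
  obtain ⟨g, rfl, hg⟩ := hx
  obtain ⟨g', c, hcC, hcr, rfl, hg'⟩ := hy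
  obtain ⟨h, z, hz, hgz⟩ := (isConj_mk_iff _ _).mp hxy
  obtain ⟨ν, hνC, hνz⟩ := (H.center z).mp hz
  have hg1 : mat ι g ^ r = (1 : K) • (1 : Matrix (Fin n) (Fin n) K) := by rw [hg, one_smul]
  have h1 := pow_conj_smul g g' h z _ hνz hgz _ hg1
  rw [hg', mul_one] at h1
  have h2 := smul_one_eq_smul_one H.hn _ _ h1
  apply hcr ν hνC
  apply Units.ext
  rw [Units.val_pow_eq_pow_val, h2]

omit [Fintype K] in
theorem le_choose (m k : ℕ) (hk : 1 ≤ k) (hkm : k + 1 ≤ m) : m ≤ m.choose k := by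
  induction m with
  | zero => omega
  | succ m ih =>
    obtain ⟨k', rfl⟩ : ∃ k', k = k' + 1 := ⟨k - 1, by omega⟩
    rw [Nat.choose_succ_succ']
    rcases Nat.lt_or_ge (k' + 1 + 1) (m + 1) with h | h
    · have h1 := ih (by omega)
      have h2 : 0 < m.choose k' := Nat.choose_pos (by omega)
      omega
    · have hm : m = k' + 1 := by omega
      subst hm
      rw [Nat.choose_self, Nat.choose_succ_self_right]

/-- **the count of classes of elements of order `r`** in the projective group -/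
theorem card_classes_proj [Finite G] (H : Hyp r p ι Cs) :
    Nat.card {c : ConjClasses (G ⧸ Subgroup.center G) //
      ∃ x : G ⧸ Subgroup.center G, ConjClasses.mk x = c ∧ orderOf x = r} =
      (Nat.choose (n + r - 1) (r - 1) - r - (if r ∣ n then 1 else 0)) / r +
        r * (if r ∣ n then 1 else 0) := by
  classical
  have hiff : ∀ c : ConjClasses (G ⧸ Subgroup.center G),
      (∃ x : G ⧸ Subgroup.center G, ConjClasses.mk x = c ∧ orderOf x = r) ↔
      (∃ x : G ⧸ Subgroup.center G, ConjClasses.mk x = c ∧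
        ((IsA r ι x ∧ x ≠ 1) ∨ IsB r ι Cs x)) := by
    intro c
    constructor
    · rintro ⟨x, hx, hxr⟩
      exact ⟨x, hx, (orderOf_eq_iff H x).mp hxr⟩
    · rintro ⟨x, hx, hxr⟩
      exact ⟨x, hx, (orderOf_eq_iff H x).mpr hxr⟩
  rw [Nat.card_congr (Equiv.subtypeEquivRight hiff)]
  rw [card_classes_or (fun x => IsA r ι x ∧ x ≠ 1) (IsB r ι Cs)
    (fun x y hxy hx hy => not_A_B H x y hxy hx.1 hy)]
  rw [card_typeB H, card_classes_ne_one (IsA r ι) ⟨1, rfl, by rw [mat_one, one_pow]⟩,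
    card_typeA H]
  have hB := card_orbits (R := rootsOfUnity r K) n r H.hr (card_roots H.hr H.hrK)
  have hr2 := H.hr.two_le
  obtain ⟨N, hN⟩ : ∃ N, N = Nat.card (Quotient (MulAction.orbitRel (rootsOfUnity r K)
    (Sym (rootsOfUnity r K) n))) := ⟨_, rfl⟩
  rw [← hN] at hB ⊢
  obtain ⟨B, hBv⟩ : ∃ B, B = (n + r - 1).choose (r - 1) := ⟨_, rfl⟩
  rw [← hBv] at hB ⊢
  split_ifs with hrn
  · rw [if_pos hrn, mul_one] at hB
    have hnr : r ≤ n := Nat.le_of_dvd (by have := H.hn; omega) hrn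
    have hBge : n + r - 1 ≤ B := by
      rw [hBv]
      exact le_choose _ _ (by omega) (by omega)
    have hN2 : 2 ≤ N := by
      by_contra hlt
      have hN1 : N ≤ 1 := by omega
      have : N * r ≤ 1 * r := Nat.mul_le_mul_right r hN1
      omega
    obtain ⟨M, rfl⟩ : ∃ M, N = M + 2 := ⟨N - 2, by omega⟩
    have hexp : (M + 2) * r = r * M + 2 * r := by ring
    have h1 : B - r - 1 = r * M := by omega
    rw [h1, Nat.mul_div_cancel_left _ H.hr.pos]
    omega
  · rw [if_neg hrn, mul_zero, add_zero] at hB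
    have hBpos : 0 < B := by
      rw [hBv]
      exact Nat.choose_pos (by omega)
    have hN1 : 1 ≤ N := by
      rcases N with _ | N
      · rw [zero_mul] at hB; omega
      · omega
    obtain ⟨M, rfl⟩ : ∃ M, N = M + 1 := ⟨N - 1, by omega⟩
    have hexp : (M + 1) * r = r * M + r := by ring
    have h1 : B - r - 0 = r * M := by omega
    rw [h1, Nat.mul_div_cancel_left _ H.hr.pos]
    omega

end Cfsg.Agent.Lib.Helper14.ProjOrd
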