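import Mathlib
import Cfsg.Prelude.Def_PLocal
import Cfsg.Agent.Lib.Helper14.TIp
import Cfsg.Agent.Lib.Helper17.Basic

set_option autoImplicit false
set_option linter.unusedSectionVars false
set_option linter.unusedVariables false
set_option linter.style.haveILetI false
set_option linter.deprecated false

/-!
# `Qd(p)` does not have the trivial intersection property (helper14)
-/

namespace Cfsg.Agent.Lib.Helper14.QdTI

open Matrix Cfsg Cfsg.Agent.Lib.Helper14.TI

section matrices

variable {R : Type*} [CommRing R]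

lemma tv_pow (i j : Fin 3) (hij : i ≠ j) (c : R) (k : ℕ) :
    transvection i j c ^ k = transvection i j (k • c) := by
  induction k with
  | zero => simp
  | succ k ih => rw [pow_succ, ih, transvection_mul_transvection_same _ _ hij, succ_nsmul]

lemma tv_comm_row (i j j' : Fin 3) (hj : j ≠ i) (hj' : j' ≠ i) (c d : R) :
    transvection i j c * transvection i j' d = transvection i j' d * transvection i j c := by
  simp only [transvection, Matrix.add_mul, Matrix.mul_add, Matrix.one_mul, Matrix.mul_one,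
    single_mul_single_of_ne (c := c) i j i hj d, single_mul_single_of_ne (c := d) i j' i hj' c]
  abel

lemma tv_comm_col (i i' j : Fin 3) (hi : j ≠ i) (hi' : j ≠ i') (c d : R) :
    transvection i j c * transvection i' j d = transvection i' j d * transvection i j c := by
  simp only [transvection, Matrix.add_mul, Matrix.mul_add, Matrix.one_mul, Matrix.mul_one,
    single_mul_single_of_ne (c := c) i j i' hi' d, single_mul_single_of_ne (c := d) i' j i hi c]
  abel

end matrices

variable (p : ℕ) [Fact p.Prime]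

lemma trace_pow_pow (M : Matrix (Fin 3) (Fin 3) (ZMod p)) (k : ℕ) :
    trace (M ^ p ^ k) = trace M := by
  induction k with
  | zero => simp
  | succ k ih => rw [pow_succ, pow_mul, ZMod.trace_pow_card, ih, ZMod.pow_card]

/-- the transvection `1 + E_ij` as an element of `Qd(p)` (for `i ≠ 2`) -/
def tv (i j : Fin 3) (hij : i ≠ j) (hi : i ≠ 2) : ↥(qd p) :=
  ⟨⟨transvection i j (1 : ZMod p), det_transvection_of_ne i j hij 1⟩, Subgroup.subset_closure (by
    refine ⟨?_, ?_, ?_⟩ <;>
    simp [transvection, Matrix.add_apply, hi])⟩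

/-- the underlying matrix of an element of `Qd(p)` -/
def qmat (g : ↥(qd p)) : Matrix (Fin 3) (Fin 3) (ZMod p) :=
  ((g : Matrix.SpecialLinearGroup (Fin 3) (ZMod p)) : Matrix (Fin 3) (Fin 3) (ZMod p))

lemma qmat_mul (g h : ↥(qd p)) : qmat p (g * h) = qmat p g * qmat p h := rfl

lemma qmat_one : qmat p (1 : ↥(qd p)) = 1 := rfl

lemma qmat_pow (g : ↥(qd p)) (k : ℕ) : qmat p (g ^ k) = qmat p g ^ k := by
  induction k with
  | zero => simp [qmat_one]
  | succ k ih => rw [pow_succ, pow_succ, qmat_mul, ih]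

lemma qmat_injective : Function.Injective (qmat p) := by
  intro g h e
  apply Subtype.ext
  apply Subtype.ext
  exact e

lemma qmat_tv (i j : Fin 3) (hij : i ≠ j) (hi : i ≠ 2) :
    qmat p (tv p i j hij hi) = transvection i j 1 := rfl

lemma tv_pow_p (i j : Fin 3) (hij : i ≠ j) (hi : i ≠ 2) : tv p i j hij hi ^ p ^ 1 = 1 := by
  apply qmat_injective
  rw [pow_one, qmat_pow, qmat_tv, tv_pow _ _ hij, qmat_one]
  have : p • (1 : ZMod p) = 0 := by
    rw [nsmul_eq_mul, CharP.cast_eq_zero, zero_mul]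
  rw [this, transvection_zero]

lemma tv_ne_one (i j : Fin 3) (hij : i ≠ j) (hi : i ≠ 2) : tv p i j hij hi ≠ 1 := by
  intro h
  have h1 := congrArg (qmat p) h
  rw [qmat_tv, qmat_one] at h1
  have h2 := congrFun (congrFun h1 i) j
  simp [transvection, Matrix.add_apply, hij] at h2

/-- a subgroup generated by two commuting elements of order `p` is a `p`-group -/
lemma isPGroup_pair {G : Type*} [Group G] (y z : G) (hyz : y * z = z * y) (hy : y ^ p ^ 1 = 1)
    (hz : z ^ p ^ 1 = 1) : IsPGroup p ↥(Subgroup.closure ({y, z} : Set G)) := by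
  have hcomm : ∀ x ∈ ({y, z} : Set G), ∀ x' ∈ ({y, z} : Set G), x * x' = x' * x := by
    intro x hx x' hx'
    rcases hx with rfl | rfl <;> rcases hx' with rfl | rfl
    · rfl
    · exact hyz
    · exact hyz.symm
    · rfl
  apply Cfsg.Agent.Lib.Helper17.isPGroup_closure_of_comm
  · intro a ha b hb
    letI := Subgroup.closureCommGroupOfComm hcomm
    have := mul_comm (⟨a, ha⟩ : Subgroup.closure ({y, z} : Set G)) ⟨b, hb⟩
    exact congrArg Subtype.val this
  · intro s hs
    rcases hs with rfl | rfl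
    · exact ⟨1, hy⟩
    · exact ⟨1, hz⟩

theorem not_tip_qd : ¬ TIp p ↥(qd p) := by
  intro hT
  set t1 := tv p 0 2 (by decide) (by decide) with ht1
  set t2 := tv p 1 2 (by decide) (by decide) with ht2
  set a := tv p 0 1 (by decide) (by decide) with ha
  set b := tv p 1 0 (by decide) (by decide) with hb
  have c1 : t1 * a = a * t1 := by
    apply qmat_injective
    rw [qmat_mul, qmat_mul]
    exact tv_comm_row 0 2 1 (by decide) (by decide) 1 1
  have c2 : t1 * t2 = t2 * t1 := by
    apply qmat_injective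
    rw [qmat_mul, qmat_mul]
    exact tv_comm_col 0 1 2 (by decide) (by decide) 1 1
  have c3 : t2 * b = b * t2 := by
    apply qmat_injective
    rw [qmat_mul, qmat_mul]
    exact tv_comm_row 1 2 0 (by decide) (by decide) 1 1
  set A := Subgroup.closure ({t1, a} : Set ↥(qd p)) with hA
  set B := Subgroup.closure ({t1, t2} : Set ↥(qd p)) with hB
  set C := Subgroup.closure ({t2, b} : Set ↥(qd p)) with hC
  have pA : IsPGroup p A := isPGroup_pair p t1 a c1 (tv_pow_p p _ _ _ _) (tv_pow_p p _ _ _ _)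
  have pB : IsPGroup p B := isPGroup_pair p t1 t2 c2 (tv_pow_p p _ _ _ _) (tv_pow_p p _ _ _ _)
  have pC : IsPGroup p C := isPGroup_pair p t2 b c3 (tv_pow_p p _ _ _ _) (tv_pow_p p _ _ _ _)
  have t1A : t1 ∈ A := Subgroup.subset_closure (by simp)
  have aA : a ∈ A := Subgroup.subset_closure (by simp)
  have t1B : t1 ∈ B := Subgroup.subset_closure (by simp)
  have t2B : t2 ∈ B := Subgroup.subset_closure (by simp)
  have t2C : t2 ∈ C := Subgroup.subset_closure (by simp)
  have bC : b ∈ C := Subgroup.subset_closure (by simp)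
  have hAB : A ⊓ B ≠ ⊥ := by
    intro h0
    have : t1 ∈ A ⊓ B := ⟨t1A, t1B⟩
    rw [h0, Subgroup.mem_bot] at this
    exact tv_ne_one p _ _ _ _ this
  have hBC : B ⊓ C ≠ ⊥ := by
    intro h0
    have : t2 ∈ B ⊓ C := ⟨t2B, t2C⟩
    rw [h0, Subgroup.mem_bot] at this
    exact tv_ne_one p _ _ _ _ this
  have p1 := hT A B pA pB hAB
  have p2 := hT B C pB pC hBC
  have h12 : (A ⊔ B) ⊓ (B ⊔ C) ≠ ⊥ := by
    intro h0
    have : t1 ∈ (A ⊔ B) ⊓ (B ⊔ C) :=
      ⟨(le_sup_right : B ≤ A ⊔ B) t1B, (le_sup_left : B ≤ B ⊔ C) t1B⟩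
    rw [h0, Subgroup.mem_bot] at this
    exact tv_ne_one p _ _ _ _ this
  have p3 := hT _ _ p1 p2 h12
  have hab : a * b ∈ (A ⊔ B) ⊔ (B ⊔ C) :=
    mul_mem ((le_sup_left : A ⊔ B ≤ _) ((le_sup_left : A ≤ A ⊔ B) aA))
      ((le_sup_right : B ⊔ C ≤ _) ((le_sup_right : C ≤ B ⊔ C) bC))
  obtain ⟨k, hk⟩ := p3 ⟨a * b, hab⟩
  have hk' : (a * b) ^ p ^ k = 1 := by
    have := congrArg Subtype.val hk
    simpa using this
  have h1 := congrArg (qmat p) hk'
  rw [qmat_pow, qmat_one, qmat_mul] at h1
  have h2 := congrArg trace h1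
  rw [trace_pow_pow] at h2
  have ea : qmat p a = transvection 0 1 1 := rfl
  have eb : qmat p b = transvection 1 0 1 := rfl
  rw [ea, eb] at h2
  simp [transvection, Matrix.add_mul, Matrix.mul_add, Matrix.trace_add] at h2

end Cfsg.Agent.Lib.Helper14.QdTI
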