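import Mathlib
import Cfsg.Agent.Lib.Helper14.RU0
import Cfsg.Agent.Lib.Helper14.RU1

/-!
# Regular unipotent elements of the symplectic group: the scalar-torus conjugate
-/

set_option autoImplicit false

namespace Cfsg.Agent.Lib.Helper14.RU

open Matrix Cfsg.Agent.Lib.Helper6 Cfsg.Agent.Lib.Helper9.SpGen Cfsg.Agent.Lib.Helper14

section scal
variable {k : ℕ} {F : Type*} [Field F]

local notation "ff" => Cfsg.sympForm (k + 2) F
local notation "VV" => (Fin (k + 2) ⊕ Fin (k + 2) → F)
local notation "GG" => Matrix.symplecticGroup (Fin (k + 2)) F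

variable (k) in
/-- the scalar matrix `l • 1` as an element of the general linear group -/
noncomputable def sgl (l : Fˣ) : GL (Fin (k + 2)) F :=
  Units.map (algebraMap F (Matrix (Fin (k + 2)) (Fin (k + 2)) F)).toMonoidHom l

theorem sgl_val (l : Fˣ) :
    ((sgl k l : GL (Fin (k + 2)) F) : Matrix (Fin (k + 2)) (Fin (k + 2)) F) =
      algebraMap F (Matrix (Fin (k + 2)) (Fin (k + 2)) F) (l : F) := rfl

theorem sgl_comm (l : Fˣ) (g : GL (Fin (k + 2)) F) : sgl k l * g = g * sgl k l := by
  apply Units.ext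
  rw [Units.val_mul, Units.val_mul, sgl_val]
  exact Algebra.commutes _ _

variable (k) in
/-- the central torus element `diag(l, l⁻¹)` -/
noncomputable def tsc (l : Fˣ) : GG := glToSp (sgl k l)

theorem tsc_comm_dA (l : Fˣ) : tsc k l * dA k F = dA k F * tsc k l := by
  unfold tsc dA
  rw [← map_mul, ← map_mul, sgl_comm]

theorem act_tsc_e (l : Fˣ) (i : Fin (k + 2)) : act (tsc k l) (e i : VV) = (l : F) • (e i : VV) := by
  funext c
  rcases c with j | j
  · unfold tsc
    rw [act_glToSp_inl, sgl_val, Matrix.algebraMap_eq_diagonal, Matrix.mulVec_diagonal]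
    simp
  · unfold tsc
    rw [act_glToSp_inr]
    simp [Matrix.vecMul, dotProduct, e_inr]

theorem tsc_conj_uh (l : Fˣ) (s : F) :
    tsc k l * uh k s * (tsc k l)⁻¹ = uh k ((l : F) ^ 2 * s) := by
  have h1 : tsc k l * uh k s * (tsc k l)⁻¹ =
      (tsc k l * dA k F * (tsc k l)⁻¹) * (tsc k l * T (e 0 : VV) s * (tsc k l)⁻¹) := by
    unfold uh
    group
  rw [h1, conj_T, act_tsc_e, T_smul, tsc_comm_dA]
  unfold uh
  group

theorem uh_mul_T (s t : F) : uh k s * T (e 0 : VV) t = uh k (s + t) := by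
  unfold uh
  rw [mul_assoc, T_add]

end scal

end Cfsg.Agent.Lib.Helper14.RU
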