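import Mathlib
import Cfsg.Agent.Lib.Helper14.RU0
import Cfsg.Agent.Lib.Helper14.RU1

/-!
# Regular unipotent elements of the symplectic group: the Levi element

The element `M` acting on `⟨e₀, e₁⟩` by `e₀ ↦ (1-l) e₀ - l e₁`, `e₁ ↦ e₀`, dually on `⟨f₀, f₁⟩` and trivially
on the other basis vectors.
-/

set_option autoImplicit false
set_option linter.unusedSimpArgs false

namespace Cfsg.Agent.Lib.Helper14.RU

open Matrix Cfsg.Agent.Lib.Helper6 Cfsg.Agent.Lib.Helper9.SpGen Cfsg.Agent.Lib.Helper14

section levi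
variable {k : ℕ} {F : Type*} [Field F]

local notation "ff" => Cfsg.sympForm (k + 2) F
local notation "VV" => (Fin (k + 2) ⊕ Fin (k + 2) → F)
local notation "GG" => Matrix.symplecticGroup (Fin (k + 2)) F

/-- the Levi map in coordinates -/
def leviFun (l : F) (x : VV) : VV := fun c =>
  match c with
  | Sum.inl i =>
    if i = 0 then (1 - l) * x (Sum.inl 0) + x (Sum.inl 1)
    else if i = 1 then -l * x (Sum.inl 0) else x (Sum.inl i)
  | Sum.inr i =>
    if i = 0 then x (Sum.inr 1)
    else if i = 1 then -l⁻¹ * x (Sum.inr 0) + ((1 - l) / l) * x (Sum.inr 1) else x (Sum.inr i)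

theorem leviFun_inl (l : F) (x : VV) (i : Fin (k + 2)) :
    leviFun l x (Sum.inl i) = if i = 0 then (1 - l) * x (Sum.inl 0) + x (Sum.inl 1)
      else if i = 1 then -l * x (Sum.inl 0) else x (Sum.inl i) := rfl

theorem leviFun_inr (l : F) (x : VV) (i : Fin (k + 2)) :
    leviFun l x (Sum.inr i) = if i = 0 then x (Sum.inr 1)
      else if i = 1 then -l⁻¹ * x (Sum.inr 0) + ((1 - l) / l) * x (Sum.inr 1) else x (Sum.inr i) := rfl

/-- the Levi map as a linear map -/
def leviLin (l : F) : VV →ₗ[F] VV where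
  toFun := leviFun l
  map_add' x y := by
    funext c
    rcases c with i | i
    · simp only [leviFun_inl, Pi.add_apply]
      split_ifs <;> ring
    · simp only [leviFun_inr, Pi.add_apply]
      split_ifs <;> ring
  map_smul' a x := by
    funext c
    rcases c with i | i
    · simp only [leviFun_inl, Pi.smul_apply, smul_eq_mul, RingHom.id_apply]
      split_ifs <;> ring
    · simp only [leviFun_inr, Pi.smul_apply, smul_eq_mul, RingHom.id_apply]
      split_ifs <;> ring

theorem leviLin_apply (l : F) (x : VV) : leviLin l x = leviFun l x := rfl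

theorem form_levi (l : F) (hl : l ≠ 0) (u v : VV) : ff (leviFun l u) (leviFun l v) = ff u v := by
  rw [sympForm_eq_sum, sympForm_eq_sum, Fin.sum_univ_succ, Fin.sum_univ_succ, Fin.sum_univ_succ,
    Fin.sum_univ_succ]
  have e1 : (Fin.succ (0 : Fin (k + 1))) = (1 : Fin (k + 2)) := rfl
  simp only [leviFun_inl, leviFun_inr, e1, if_true, Fin.succ_ne_zero, if_false,
    Fin.succ_succ_ne_one, one_ne_zero]
  field_simp
  ring

/-- the Levi element of the symplectic group -/
noncomputable def leviM (l : F) (hl : l ≠ 0) : GG :=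
  ⟨LinearMap.toMatrix' (leviLin (k := k) l), by
    rw [mem_symplecticGroup_iff_preserves]
    intro u v
    rw [LinearMap.toMatrix'_mulVec, LinearMap.toMatrix'_mulVec, leviLin_apply, leviLin_apply]
    exact form_levi l hl u v⟩

theorem act_leviM (l : F) (hl : l ≠ 0) (x : VV) : act (leviM (k := k) l hl) x = leviFun l x := by
  show LinearMap.toMatrix' (leviLin (k := k) l) *ᵥ x = _
  rw [LinearMap.toMatrix'_mulVec, leviLin_apply]

theorem one_ne_zero_fin : ¬ ((1 : Fin (k + 2)) = 0) := by
  intro h
  have := congrArg Fin.val h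
  simp at this

theorem act_leviM_e0 (l : F) (hl : l ≠ 0) :
    act (leviM (k := k) l hl) (e 0 : VV) = (1 - l) • (e 0 : VV) - l • (e 1 : VV) := by
  rw [act_leviM]
  funext c
  rcases c with i | i
  · simp only [leviFun_inl, Pi.sub_apply, Pi.smul_apply, smul_eq_mul, e_inl]
    by_cases h0 : i = 0
    · subst h0
      simp [one_ne_zero_fin, Ne.symm one_ne_zero_fin]
    · by_cases h1 : i = 1
      · subst h1
        simp [one_ne_zero_fin, Ne.symm one_ne_zero_fin]
      · simp [h0, h1, one_ne_zero_fin, Ne.symm one_ne_zero_fin]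
  · simp only [leviFun_inr, Pi.sub_apply, Pi.smul_apply, smul_eq_mul, e_inr]
    split_ifs <;> simp

theorem act_leviM_e1 (l : F) (hl : l ≠ 0) :
    act (leviM (k := k) l hl) (e 1 : VV) = (e 0 : VV) := by
  rw [act_leviM]
  funext c
  rcases c with i | i
  · simp only [leviFun_inl, e_inl]
    by_cases h0 : i = 0
    · subst h0
      simp [one_ne_zero_fin, Ne.symm one_ne_zero_fin]
    · by_cases h1 : i = 1
      · subst h1
        simp [one_ne_zero_fin, Ne.symm one_ne_zero_fin]
      · simp [h0, h1, one_ne_zero_fin, Ne.symm one_ne_zero_fin]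
  · simp only [leviFun_inr, e_inr]
    split_ifs <;> simp

theorem act_leviM_f0 (l : F) (hl : l ≠ 0) :
    act (leviM (k := k) l hl) (f 0 : VV) = (-l⁻¹) • (f 1 : VV) := by
  rw [act_leviM]
  funext c
  rcases c with i | i
  · simp only [leviFun_inl, Pi.smul_apply, smul_eq_mul, f_inl]
    split_ifs <;> simp
  · simp only [leviFun_inr, Pi.smul_apply, smul_eq_mul, f_inr]
    by_cases h0 : i = 0
    · subst h0
      simp [one_ne_zero_fin, Ne.symm one_ne_zero_fin]
    · by_cases h1 : i = 1
      · subst h1
        simp [one_ne_zero_fin, Ne.symm one_ne_zero_fin]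
      · simp [h0, h1, one_ne_zero_fin, Ne.symm one_ne_zero_fin]

theorem act_leviM_f1 (l : F) (hl : l ≠ 0) :
    act (leviM (k := k) l hl) (f 1 : VV) = (f 0 : VV) + ((1 - l) / l) • (f 1 : VV) := by
  rw [act_leviM]
  funext c
  rcases c with i | i
  · simp only [leviFun_inl, Pi.add_apply, Pi.smul_apply, smul_eq_mul, f_inl]
    split_ifs <;> simp
  · simp only [leviFun_inr, Pi.add_apply, Pi.smul_apply, smul_eq_mul, f_inr]
    by_cases h0 : i = 0
    · subst h0
      simp [one_ne_zero_fin, Ne.symm one_ne_zero_fin]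
    · by_cases h1 : i = 1
      · subst h1
        simp [one_ne_zero_fin, Ne.symm one_ne_zero_fin]
      · simp [h0, h1, one_ne_zero_fin, Ne.symm one_ne_zero_fin]

theorem act_leviM_fix (l : F) (hl : l ≠ 0) (i : Fin (k + 2)) (hi : 2 ≤ i.val) :
    act (leviM (k := k) l hl) (e i : VV) = (e i : VV) ∧
      act (leviM (k := k) l hl) (f i : VV) = (f i : VV) := by
  have hi0 : ¬ ((0 : Fin (k + 2)) = i) := by
    intro h
    rw [← h] at hi
    simp at hi
  have hi1 : ¬ ((1 : Fin (k + 2)) = i) := by
    intro h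
    rw [← h] at hi
    simp at hi
  constructor
  · rw [act_leviM]
    funext c
    rcases c with j | j
    · simp only [leviFun_inl, e_inl, if_neg hi0, if_neg hi1]
      by_cases h0 : j = 0
      · subst h0
        simp [hi0]
      · by_cases h1 : j = 1
        · subst h1
          simp [one_ne_zero_fin, hi1]
        · simp [h0, h1]
    · simp only [leviFun_inr, e_inr]
      split_ifs <;> simp
  · rw [act_leviM]
    funext c
    rcases c with j | j
    · simp only [leviFun_inl, f_inl]
      split_ifs <;> simp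
    · simp only [leviFun_inr, f_inr, if_neg hi0, if_neg hi1]
      by_cases h0 : j = 0
      · subst h0
        simp [hi0]
      · by_cases h1 : j = 1
        · subst h1
          simp [one_ne_zero_fin, hi1]
        · simp [h0, h1]

/-- B5a.  the Levi element -/
theorem exists_levi (l : F) (hl : l ≠ 0) :
    ∃ M : GG,
      act M (e 0 : VV) = (1 - l) • (e 0 : VV) - l • (e 1 : VV) ∧
      act M (e 1 : VV) = (e 0 : VV) ∧
      act M (f 0 : VV) = (-l⁻¹) • (f 1 : VV) ∧
      act M (f 1 : VV) = (f 0 : VV) + ((1 - l) / l) • (f 1 : VV) ∧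
      (∀ i : Fin (k + 2), 2 ≤ i.val → act M (e i : VV) = (e i : VV) ∧ act M (f i : VV) = (f i : VV)) :=
  ⟨leviM l hl, act_leviM_e0 l hl, act_leviM_e1 l hl, act_leviM_f0 l hl, act_leviM_f1 l hl,
    act_leviM_fix l hl⟩

end levi

end Cfsg.Agent.Lib.Helper14.RU
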