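import Mathlib
import Cfsg.Agent.Lib.Helper14.RU0
import Cfsg.Agent.Lib.Helper14.RU1

/-!
# Regular unipotent elements of the symplectic group: the third conjugate

For a Levi element `M` (see `RU4`), the conjugate `u'' = (M * Jg) * uh k s * (M * Jg)⁻¹ = M * ulow k s * M⁻¹`
and its local action formulas.
-/

set_option autoImplicit false

namespace Cfsg.Agent.Lib.Helper14.RU

open Matrix Cfsg.Agent.Lib.Helper6 Cfsg.Agent.Lib.Helper9.SpGen Cfsg.Agent.Lib.Helper14

section upp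
variable {k : ℕ} {F : Type*} [Field F]

local notation "ff" => Cfsg.sympForm (k + 2) F
local notation "VV" => (Fin (k + 2) ⊕ Fin (k + 2) → F)
local notation "GG" => Matrix.symplecticGroup (Fin (k + 2)) F

theorem act_Dlow_e_zero : act (Dlow k F) (e 0 : VV) = (e 0 : VV) := by
  have h := act_Dlow_inv_e_zero (k := k) (F := F)
  have h2 := congrArg (act (Dlow k F)) h
  rw [act_act_inv] at h2
  exact h2.symm

theorem act_Dlow_e_one : act (Dlow k F) (e 1 : VV) = (e 1 : VV) - (e 0 : VV) := by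
  have h := act_Dlow_inv_e_succ (k := k) (F := F) 0
  have e0 : (Fin.castSucc (0 : Fin (k + 1))) = (0 : Fin (k + 2)) := rfl
  have e1 : (Fin.succ (0 : Fin (k + 1))) = (1 : Fin (k + 2)) := rfl
  rw [e0, e1] at h
  have h2 := congrArg (act (Dlow k F)) h
  rw [act_act_inv, act_add, act_Dlow_e_zero] at h2
  rw [eq_sub_iff_add_eq]
  exact h2.symm

theorem act_ulow (s : F) (x : VV) :
    act (ulow k s) x = act (Dlow k F) (x + (s * ff x (f 0 : VV)) • (f 0 : VV)) := by
  rw [ulow_eq, act_mul, act_T]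

theorem act_ulow_inv (s : F) (x : VV) :
    act (ulow k s)⁻¹ x =
      act (Dlow k F)⁻¹ x + (-s * ff (act (Dlow k F)⁻¹ x) (f 0 : VV)) • (f 0 : VV) := by
  rw [ulow_eq, _root_.mul_inv_rev, act_mul, T_inv, act_T]

theorem one_ne_zero_fin' : ¬ ((1 : Fin (k + 2)) = 0) := by
  intro h
  have := congrArg Fin.val h
  simp at this

theorem act_ulow_e_one (s : F) : act (ulow k s) (e 1 : VV) = (e 1 : VV) - (e 0 : VV) := by
  rw [act_ulow, form_f_right, e_inl, if_neg (Ne.symm one_ne_zero_fin'), neg_zero, mul_zero, zero_smul,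
    add_zero, act_Dlow_e_one]

theorem act_Dlow_f_zero : act (Dlow k F) (f 0 : VV) = (f 0 : VV) + (f 1 : VV) :=
  act_Dlow_f_castSucc (k := k) (F := F) 0

theorem act_ulow_e_zero (s : F) :
    act (ulow k s) (e 0 : VV) = (e 0 : VV) - s • ((f 0 : VV) + (f 1 : VV)) := by
  rw [act_ulow, form_f_right, e_inl, if_pos rfl, mul_neg, mul_one, act_add, act_smul,
    act_Dlow_e_zero, act_Dlow_f_zero, neg_smul, sub_eq_add_neg]

theorem act_ulow_f (s : F) (i : Fin (k + 2)) : act (ulow k s) (f i : VV) = act (Dlow k F) (f i : VV) := by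
  rw [act_ulow, form_f_right, f_inl, neg_zero, mul_zero, zero_smul, add_zero]

theorem act_ulow_inv_e_one (s : F) :
    act (ulow k s)⁻¹ (e 1 : VV) = (e 0 : VV) + (e 1 : VV) + s • (f 0 : VV) := by
  have h := act_Dlow_inv_e_succ (k := k) (F := F) 0
  have e0 : (Fin.castSucc (0 : Fin (k + 1))) = (0 : Fin (k + 2)) := rfl
  have e1 : (Fin.succ (0 : Fin (k + 1))) = (1 : Fin (k + 2)) := rfl
  rw [e0, e1] at h
  rw [act_ulow_inv, h, form_f_right, Pi.add_apply, e_inl, e_inl, if_neg (Ne.symm one_ne_zero_fin'),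
    if_pos rfl, zero_add, mul_neg, mul_one, neg_neg]
  abel

theorem act_sub' {m : ℕ} (g : Matrix.symplecticGroup (Fin m) F) (x y : Fin m ⊕ Fin m → F) :
    act g (x - y) = act g x - act g y := by
  rw [sub_eq_add_neg, act_add, act_neg, sub_eq_add_neg]

/-- B5b.  the third conjugate `u'' = g * uh k s * g⁻¹`, `g = M * Jg`, and its local formulas. -/
theorem upp_props (l s : F) (hl : l ≠ 0) (M : GG)
    (hM0 : act M (e 0 : VV) = (1 - l) • (e 0 : VV) - l • (e 1 : VV))
    (hM1 : act M (e 1 : VV) = (e 0 : VV))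
    (hM2 : act M (f 0 : VV) = (-l⁻¹) • (f 1 : VV))
    (hM3 : act M (f 1 : VV) = (f 0 : VV) + ((1 - l) / l) • (f 1 : VV))
    (hM4 : ∀ i : Fin (k + 2), 2 ≤ i.val →
      act M (e i : VV) = (e i : VV) ∧ act M (f i : VV) = (f i : VV)) :
    act ((M * Jg k F) * uh k s * (M * Jg k F)⁻¹) (e 0 : VV) = l • ((e 0 : VV) + (e 1 : VV)) ∧
    act ((M * Jg k F) * uh k s * (M * Jg k F)⁻¹) ((e 0 : VV) + (e 1 : VV)) =
      (2 - l⁻¹) • (e 0 : VV) + (2 : F) • (e 1 : VV) + (s / l) • ((f 0 : VV) - (f 1 : VV)) ∧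
    act ((M * Jg k F) * uh k s * (M * Jg k F)⁻¹)⁻¹ (e 0 : VV) =
      (2 - l) • (e 0 : VV) - l • (e 1 : VV) - (s / l) • (f 1 : VV) ∧
    act ((M * Jg k F) * uh k s * (M * Jg k F)⁻¹) (f 1 : VV) = (-l) • ((f 0 : VV) - (f 1 : VV)) ∧
    (∀ h2 : 2 < k + 2, act ((M * Jg k F) * uh k s * (M * Jg k F)⁻¹) (f 0 : VV) =
      (2 - l) • (f 0 : VV) + ((1 - l) ^ 2 / l) • (f 1 : VV) + (f ⟨2, h2⟩ : VV)) ∧
    (∀ i : Fin (k + 1), 2 ≤ i.val → act ((M * Jg k F) * uh k s * (M * Jg k F)⁻¹) (f i.castSucc : VV) =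
      (f i.castSucc : VV) + (f i.succ : VV)) := by
  have hg : (M * Jg k F) * uh k s * (M * Jg k F)⁻¹ = M * ulow k s * M⁻¹ := by
    unfold ulow
    group
  have hact : ∀ v : VV, act ((M * Jg k F) * uh k s * (M * Jg k F)⁻¹) v =
      act M (act (ulow k s) (act M⁻¹ v)) := by
    intro v
    rw [hg, act_mul, act_mul]
  have hacti : ∀ v : VV, act ((M * Jg k F) * uh k s * (M * Jg k F)⁻¹)⁻¹ v =
      act M (act (ulow k s)⁻¹ (act M⁻¹ v)) := by
    intro v
    rw [hg, _root_.mul_inv_rev, _root_.mul_inv_rev, inv_inv, act_mul, act_mul]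
  have inv_of : ∀ x y : VV, act M x = y → act M⁻¹ y = x := by
    intro x y h
    rw [← h, act_inv_act]
  -- inverse actions of `M`
  have Mi_e0 : act M⁻¹ (e 0 : VV) = (e 1 : VV) := inv_of _ _ hM1
  have Mi_e1 : act M⁻¹ (e 1 : VV) = (-l⁻¹) • (e 0 : VV) + ((1 - l) / l) • (e 1 : VV) := by
    apply inv_of
    simp only [act_add, act_smul, hM0, hM1]
    match_scalars <;> field_simp <;> ring
  have Mi_f0 : act M⁻¹ (f 0 : VV) = (1 - l) • (f 0 : VV) + (f 1 : VV) := by
    apply inv_of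
    simp only [act_add, act_smul, hM2, hM3]
    match_scalars <;> field_simp <;> ring
  have Mi_f1 : act M⁻¹ (f 1 : VV) = (-l) • (f 0 : VV) := by
    apply inv_of
    simp only [act_smul, hM2]
    match_scalars <;> field_simp
  have Mi_f : ∀ i : Fin (k + 2), 2 ≤ i.val → act M⁻¹ (f i : VV) = (f i : VV) := by
    intro i hi
    exact inv_of _ _ (hM4 i hi).2
  refine ⟨?_, ?_, ?_, ?_, ?_, ?_⟩
  · -- P1
    rw [hact, Mi_e0, act_ulow_e_one]
    simp only [act_sub', hM0, hM1]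
    match_scalars <;> ring
  · -- P2
    rw [hact]
    simp only [act_add, act_smul, act_sub', Mi_e0, Mi_e1, act_ulow_e_one, act_ulow_e_zero, hM0, hM1,
      hM2, hM3]
    match_scalars <;> field_simp <;> ring
  · -- P3
    rw [hacti, Mi_e0, act_ulow_inv_e_one]
    simp only [act_add, act_smul, hM0, hM1, hM2]
    match_scalars <;> field_simp <;> ring
  · -- P6
    rw [hact, Mi_f1]
    simp only [act_add, act_smul, act_ulow_f, act_Dlow_f_zero, hM2, hM3]
    match_scalars <;> field_simp <;> ring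
  · -- P5
    intro h2
    have hk : 1 ≤ k := by omega
    have e1 : (1 : Fin (k + 2)) = Fin.castSucc (⟨1, by omega⟩ : Fin (k + 1)) := by
      apply Fin.ext
      simp
    have e2 : (⟨2, h2⟩ : Fin (k + 2)) = Fin.succ (⟨1, by omega⟩ : Fin (k + 1)) := by
      apply Fin.ext
      simp
    have hD1 : act (Dlow k F) (f 1 : VV) = (f 1 : VV) + (f ⟨2, h2⟩ : VV) := by
      rw [e1, e2]
      exact act_Dlow_f_castSucc _
    rw [hact, Mi_f0]
    simp only [act_add, act_smul, act_ulow_f, act_Dlow_f_zero, hD1, hM2, hM3,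
      (hM4 ⟨2, h2⟩ (le_refl _)).2]
    match_scalars <;> field_simp <;> ring
  · -- P7
    intro i hi
    rw [hact, Mi_f _ (by simpa using hi), act_ulow_f, act_Dlow_f_castSucc, act_add,
      (hM4 i.castSucc (by simpa using hi)).2, (hM4 i.succ (by simp; omega)).2]

end upp

end Cfsg.Agent.Lib.Helper14.RU
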