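import Mathlib
import Cfsg.Agent.Lib.Helper14.RU0
import Cfsg.Agent.Lib.Helper14.RU1
import Cfsg.Agent.Lib.Helper14.RU2
import Cfsg.Agent.Lib.Helper14.RU4
import Cfsg.Agent.Lib.Helper14.RU5
import Cfsg.Agent.Lib.Helper1.RUB11
import Cfsg.Agent.Lib.Helper24.RUFO3
import Cfsg.Agent.Lib.Helper1.RUB6
import Cfsg.Agent.Lib.Helper22.RUB34
import Cfsg.Agent.Lib.Helper25.RUB7

/-!
# Three conjugate regular unipotent elements generate the symplectic group: assembly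
-/

set_option autoImplicit false

namespace Cfsg.Agent.Lib.Helper14.RU

open Matrix Cfsg.Agent.Lib.Helper6 Cfsg.Agent.Lib.Helper9.SpGen Cfsg.Agent.Lib.Helper14

section cases
variable {k : ℕ} {F : Type*} [Field F]

local notation "ff" => Cfsg.sympForm (k + 2) F
local notation "VV" => (Fin (k + 2) ⊕ Fin (k + 2) → F)
local notation "GG" => Matrix.symplecticGroup (Fin (k + 2)) F

/-- the conjugator putting `T (e last) c` in front of `uh`, all cases -/
theorem conj_last (hk : (2 : F) ≠ 0 ∨ 1 ≤ k) (s c : F) :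
    ∃ g : GG, g * uh k s * g⁻¹ = T (e (Fin.last (k + 1)) : VV) c * uh k s := by
  by_cases h2 : (2 : F) = 0
  · have hk1 : 1 ≤ k := by
      rcases hk with h | h
      · exact absurd h2 h
      · exact h
    obtain ⟨k', rfl⟩ : ∃ k', k = k' + 1 := ⟨k - 1, by omega⟩
    exact Cfsg.Agent.Lib.Helper22.RU.conj_last_even h2 s c
  · exact Cfsg.Agent.Lib.Helper22.RU.conj_last_odd h2 s c

/-- the small field case -/
theorem caseP [Fintype F] (hq : Fintype.card F ≤ 3) (hk : (2 : F) ≠ 0 ∨ 1 ≤ k) :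
    ∃ g h : GG, Subgroup.closure ({uh k 1, g * uh k 1 * g⁻¹, h * uh k 1 * h⁻¹} : Set GG) = ⊤ := by
  obtain ⟨g, hg⟩ := conj_last hk (1 : F) (1 : F)
  refine ⟨g, Jg k F, ?_⟩
  set H : Subgroup GG :=
    Subgroup.closure ({uh k 1, g * uh k 1 * g⁻¹, Jg k F * uh k 1 * (Jg k F)⁻¹} : Set GG) with hH
  have h1 : uh k (1 : F) ∈ H := Subgroup.subset_closure (by simp)
  have h2 : g * uh k 1 * g⁻¹ ∈ H := Subgroup.subset_closure (by simp)
  have h3 : ulow k (1 : F) ∈ H := Subgroup.subset_closure (by simp [ulow])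
  have h4 : T (e (Fin.last (k + 1)) : VV) 1 ∈ H := by
    have : T (e (Fin.last (k + 1)) : VV) 1 = (g * uh k 1 * g⁻¹) * (uh k 1)⁻¹ := by
      rw [hg]
      group
    rw [this]
    exact H.mul_mem h2 (H.inv_mem h1)
  have h5 : (e (Fin.last (k + 1)) : VV) ∈ Xs H := by
    apply mem_Xs_of_natCast H _ 1 h4
    intro t
    obtain ⟨j, hj⟩ := Cfsg.Agent.Lib.Helper25.RU.natCast_surjective_of_card_le_three hq t
    exact ⟨j, by rw [mul_one]; exact hj⟩
  exact Cfsg.Agent.Lib.Helper1.RU.closure_P H 1 one_ne_zero h1 h3 h5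

/-- the large field case -/
theorem caseNP [Fintype F] (hq : 4 ≤ Fintype.card F) (hk : (2 : F) ≠ 0 ∨ 1 ≤ k) :
    ∃ g h : GG, Subgroup.closure ({uh k 1, g * uh k 1 * g⁻¹, h * uh k 1 * h⁻¹} : Set GG) = ⊤ := by
  obtain ⟨l, hl0, hl1, hl2, hgen⟩ := Cfsg.Agent.Lib.Helper24.RU.exists_gen_scalar (F := F) hq
  obtain ⟨M, hM0, hM1, hM2, hM3, hM4⟩ := exists_levi (k := k) l hl0
  obtain ⟨P1, P2, P3, P6, P5, P7⟩ := upp_props l (1 : F) hl0 M hM0 hM1 hM2 hM3 hM4
  refine ⟨tsc k (Units.mk0 l hl0), M * Jg k F, ?_⟩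
  set H : Subgroup GG :=
    Subgroup.closure ({uh k 1, tsc k (Units.mk0 l hl0) * uh k 1 * (tsc k (Units.mk0 l hl0))⁻¹,
      (M * Jg k F) * uh k 1 * (M * Jg k F)⁻¹} : Set GG) with hH
  have h1 : uh k (1 : F) ∈ H := Subgroup.subset_closure (by simp)
  have h2 : uh k (l ^ 2 * 1) ∈ H := by
    have := tsc_conj_uh (k := k) (Units.mk0 l hl0) (1 : F)
    rw [Units.val_mk0] at this
    rw [← this]
    exact Subgroup.subset_closure (by simp)
  have h3 : (M * Jg k F) * uh k 1 * (M * Jg k F)⁻¹ ∈ H := Subgroup.subset_closure (by simp)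
  exact Cfsg.Agent.Lib.Helper1.RU.closure_NP ⟨l, 1, hl0, one_ne_zero, hl1⟩ hk H l 1 hl0 hl2 one_ne_zero hgen _ h1 h2 h3
    P1 P2 P3 P6 P5 P7

end cases

end Cfsg.Agent.Lib.Helper14.RU
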