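import Cfsg.Agent.Lib.Helper8.S1572Defs
import Cfsg.Agent.Lib.Helper28.M24Multi

/-!
# S1572, piece [E1]: many images of a vector of the first shape

A vector `±4 e_i ± 4 e_j` orthogonal to `v0 = 4 e_a + 4 e_b` and different from `±u0` has its two
nonzero coordinates away from `a` and `b`; the coordinate permutations from `M24` fixing `a` and `b`
move its support to every 2-subset of the other 22 points.
-/

set_option autoImplicit false

namespace Cfsg.Agent.Lib.Helper8.S1572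

open Cfsg Cfsg.Agent.Lib.Helper4 Cfsg.Agent.Lib.Helper28 Cfsg.Agent.Helper4.CO Cfsg.Agent.Helper4.LC
  Cfsg.Agent.S0398

namespace Helper14

/-- the coordinate permutation, as an element of the automorphism group -/
def prm (σ : Equiv.Perm GolayPt) (hσ : σ ∈ M24) : ↥Co0 :=
  ⟨permPerm σ hσ, permPerm_mem σ hσ⟩

theorem prm_smul_coe (σ : Equiv.Perm GolayPt) (hσ : σ ∈ M24) (v : ↥leechLattice) :
    ((prm σ hσ • v : ↥leechLattice) : GolayPt → ℤ) = permFun σ v := rfl

theorem permFun_single (σ : Equiv.Perm GolayPt) (i : GolayPt) (s : ℤ) :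
    permFun σ (Pi.single i s) = Pi.single (σ.symm i) s := by
  funext k
  unfold permFun
  by_cases hk : k = σ.symm i
  · subst hk
    rw [Equiv.apply_symm_apply, Pi.single_eq_same, Pi.single_eq_same]
  · have : σ k ≠ i := fun h => hk (by rw [← h, Equiv.symm_apply_apply])
    rw [Pi.single_eq_of_ne hk, Pi.single_eq_of_ne this]

theorem prm_mem_Nstd (σ : Equiv.Perm GolayPt) (hσ : σ ∈ M24) : prm σ hσ ∈ Nstd := by
  intro v hv
  obtain ⟨i, s, hs, hvi⟩ := hv
  rw [prm_smul_coe, hvi, permFun_single]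
  exact ⟨_, s, hs, rfl⟩

theorem prm_smul_v0 (σ : Equiv.Perm GolayPt) (hσ : σ ∈ M24) (ha : σ pa = pa) (hb : σ pb = pb) :
    prm σ hσ • v0 = v0 := by
  apply Subtype.ext
  rw [prm_smul_coe, v0_coe]
  funext k
  unfold permFun
  have h1 : σ k = pa ↔ k = pa := by
    constructor
    · intro h; exact σ.injective (h.trans ha.symm)
    · intro h; rw [h, ha]
  have h2 : σ k = pb ↔ k = pb := by
    constructor
    · intro h; exact σ.injective (h.trans hb.symm)
    · intro h; rw [h, hb]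
  simp only [Pi.add_apply, E, Pi.single_apply, h1, h2]

theorem dot_v0 (x : GolayPt → ℤ) :
    dotInt ((v0 : ↥leechLattice) : GolayPt → ℤ) x = 4 * x pa + 4 * x pb := by
  rw [v0_coe]
  unfold dotInt E
  simp only [Pi.add_apply, Pi.single_apply, add_mul, Finset.sum_add_distrib, ite_mul, zero_mul,
    Finset.sum_ite_eq', Finset.mem_univ, if_true]

theorem eq_u0_of (x : ↥leechLattice) (ha : (x : GolayPt → ℤ) pa = 4) (hb : (x : GolayPt → ℤ) pb = -4)
    (h0 : ∀ k, k ≠ pa → k ≠ pb → (x : GolayPt → ℤ) k = 0) : x = u0 := by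
  apply Subtype.ext
  rw [u0_coe]
  funext k
  by_cases h1 : k = pa
  · subst h1
    simp only [Pi.sub_apply, E, Pi.single_eq_same, Pi.single_eq_of_ne pa_ne_pb, sub_zero, ha]
  · by_cases h2 : k = pb
    · subst h2
      simp only [Pi.sub_apply, E, Pi.single_eq_same, Pi.single_eq_of_ne h1, zero_sub, hb]
    · simp only [Pi.sub_apply, E, Pi.single_eq_of_ne h1, Pi.single_eq_of_ne h2, sub_zero, h0 k h1 h2]

theorem eq_neg_u0_of (x : ↥leechLattice) (ha : (x : GolayPt → ℤ) pa = -4)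
    (hb : (x : GolayPt → ℤ) pb = 4)
    (h0 : ∀ k, k ≠ pa → k ≠ pb → (x : GolayPt → ℤ) k = 0) : x = -u0 := by
  apply Subtype.ext
  rw [AddSubgroup.coe_neg, u0_coe]
  funext k
  by_cases h1 : k = pa
  · subst h1
    simp only [Pi.neg_apply, Pi.sub_apply, E, Pi.single_eq_same, Pi.single_eq_of_ne pa_ne_pb,
      sub_zero, ha]
  · by_cases h2 : k = pb
    · subst h2
      simp only [Pi.neg_apply, Pi.sub_apply, E, Pi.single_eq_same, Pi.single_eq_of_ne h1, zero_sub,
        hb, neg_neg]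
    · simp only [Pi.neg_apply, Pi.sub_apply, E, Pi.single_eq_of_ne h1, Pi.single_eq_of_ne h2,
        sub_zero, h0 k h1 h2, neg_zero]

/-- the support of the vector avoids the two base points -/
theorem support_away (x : ↥leechLattice) (i j : GolayPt) (hij : i ≠ j)
    (hi : (x : GolayPt → ℤ) i = 4 ∨ (x : GolayPt → ℤ) i = -4)
    (hj : (x : GolayPt → ℤ) j = 4 ∨ (x : GolayPt → ℤ) j = -4)
    (h0 : ∀ k, k ≠ i → k ≠ j → (x : GolayPt → ℤ) k = 0)
    (hd : dotInt ((v0 : ↥leechLattice) : GolayPt → ℤ) (x : GolayPt → ℤ) = 0)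
    (h1 : x ≠ u0) (h2 : x ≠ -u0) : i ≠ pa ∧ i ≠ pb ∧ j ≠ pa ∧ j ≠ pb := by
  rw [dot_v0] at hd
  have hab := pa_ne_pb
  -- the two exceptional configurations
  have key : ∀ p q : GolayPt, p ≠ q → ((p = pa ∧ q = pb) ∨ (p = pb ∧ q = pa)) →
      ((x : GolayPt → ℤ) p = 4 ∨ (x : GolayPt → ℤ) p = -4) →
      ((x : GolayPt → ℤ) q = 4 ∨ (x : GolayPt → ℤ) q = -4) →
      (∀ k, k ≠ p → k ≠ q → (x : GolayPt → ℤ) k = 0) → False := by
    intro p q _ hcase hp hq hz
    have hz' : ∀ k, k ≠ pa → k ≠ pb → (x : GolayPt → ℤ) k = 0 := by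
      intro k k1 k2
      rcases hcase with ⟨rfl, rfl⟩ | ⟨rfl, rfl⟩
      · exact hz k k1 k2
      · exact hz k k2 k1
    have hpa : (x : GolayPt → ℤ) pa = 4 ∨ (x : GolayPt → ℤ) pa = -4 := by
      rcases hcase with ⟨rfl, rfl⟩ | ⟨rfl, rfl⟩
      · exact hp
      · exact hq
    have hpb : (x : GolayPt → ℤ) pb = 4 ∨ (x : GolayPt → ℤ) pb = -4 := by
      rcases hcase with ⟨rfl, rfl⟩ | ⟨rfl, rfl⟩
      · exact hq
      · exact hp
    rcases hpa with e1 | e1 <;> rcases hpb with e2 | e2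
    · rw [e1, e2] at hd; norm_num at hd
    · exact h1 (eq_u0_of x e1 e2 hz')
    · exact h2 (eq_neg_u0_of x e1 e2 hz')
    · rw [e1, e2] at hd; norm_num at hd
  have hxi : (x : GolayPt → ℤ) i ≠ 0 := by rcases hi with h | h <;> rw [h] <;> norm_num
  have hxj : (x : GolayPt → ℤ) j ≠ 0 := by rcases hj with h | h <;> rw [h] <;> norm_num
  -- value at a point outside the support
  have out : ∀ k, k ≠ i → k ≠ j → (x : GolayPt → ℤ) k = 0 := h0
  refine ⟨?_, ?_, ?_, ?_⟩
  · intro e
    by_cases hjb : j = pb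
    · exact key i j hij (Or.inl ⟨e, hjb⟩) hi hj h0
    · have : (x : GolayPt → ℤ) pb = 0 :=
        out pb (fun h => hab (e.symm.trans h.symm)) (fun h => hjb h.symm)
      rw [this, ← e] at hd
      rcases hi with h | h <;> rw [h] at hd <;> norm_num at hd
  · intro e
    by_cases hja : j = pa
    · exact key i j hij (Or.inr ⟨e, hja⟩) hi hj h0
    · have : (x : GolayPt → ℤ) pa = 0 := out pa (fun h => hab (h.trans e)) (fun h => hja h.symm)
      rw [this, ← e] at hd
      rcases hi with h | h <;> rw [h] at hd <;> norm_num at hd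
  · intro e
    by_cases hib : i = pb
    · exact key i j hij (Or.inr ⟨hib, e⟩) hi hj h0
    · have : (x : GolayPt → ℤ) pb = 0 :=
        out pb (fun h => hib h.symm) (fun h => hab (e.symm.trans h.symm))
      rw [this, ← e] at hd
      rcases hj with h | h <;> rw [h] at hd <;> norm_num at hd
  · intro e
    by_cases hia : i = pa
    · exact key i j hij (Or.inl ⟨hia, e⟩) hi hj h0
    · have : (x : GolayPt → ℤ) pa = 0 := out pa (fun h => hia h.symm) (fun h => hab (h.trans e))
      rw [this, ← e] at hd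
      rcases hj with h | h <;> rw [h] at hd <;> norm_num at hd

/-- the 22 points other than the two base points -/
def P22 : Finset GolayPt := Finset.univ.filter fun k => k ≠ pa ∧ k ≠ pb

theorem card_P22 : P22.card = 22 := by decide

theorem exists_image (x : ↥leechLattice) (i j : GolayPt) (hij : i ≠ j) (hia : i ≠ pa)
    (hib : i ≠ pb) (hja : j ≠ pa) (hjb : j ≠ pb) (hxi : (x : GolayPt → ℤ) i ≠ 0)
    (hxj : (x : GolayPt → ℤ) j ≠ 0) (h0 : ∀ k, k ≠ i → k ≠ j → (x : GolayPt → ℤ) k = 0)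
    (t : Finset GolayPt) (ht : t ∈ P22.powersetCard 2) :
    ∃ g : ↥Co0, g ∈ Nstd ∧ g • v0 = v0 ∧
      ∀ k, ((g • x : ↥leechLattice) : GolayPt → ℤ) k ≠ 0 ↔ k ∈ t := by
  rw [Finset.mem_powersetCard] at ht
  obtain ⟨hsub, hcard⟩ := ht
  obtain ⟨i', j', hij', rfl⟩ := Finset.card_eq_two.mp hcard
  have hi' : i' ∈ P22 := hsub (Finset.mem_insert_self _ _)
  have hj' : j' ∈ P22 := hsub (Finset.mem_insert_of_mem (Finset.mem_singleton_self _))
  simp only [P22, Finset.mem_filter, Finset.mem_univ, true_and] at hi' hj'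
  have hab := pa_ne_pb
  obtain ⟨σ, hσ, hmap⟩ := M24_exists_map_list [pa, pb, i', j'] [pa, pb, i, j]
    (by
      simp only [List.nodup_cons, List.mem_cons, List.not_mem_nil, or_false, not_or, List.nodup_nil,
        and_true, not_false_eq_true]
      exact ⟨⟨hab, Ne.symm hi'.1, Ne.symm hj'.1⟩, ⟨Ne.symm hi'.2, Ne.symm hj'.2⟩, hij'⟩)
    (by
      simp only [List.nodup_cons, List.mem_cons, List.not_mem_nil, or_false, not_or, List.nodup_nil,
        and_true, not_false_eq_true]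
      exact ⟨⟨hab, Ne.symm hia, Ne.symm hja⟩, ⟨Ne.symm hib, Ne.symm hjb⟩, hij⟩)
    rfl (by norm_num)
  simp only [List.map_cons, List.map_nil, List.cons.injEq, and_true] at hmap
  obtain ⟨ea, eb, ei, ej⟩ := hmap
  refine ⟨prm σ hσ, prm_mem_Nstd σ hσ, prm_smul_v0 σ hσ ea eb, ?_⟩
  intro k
  rw [prm_smul_coe]
  unfold permFun
  rw [Finset.mem_insert, Finset.mem_singleton]
  constructor
  · intro h
    by_cases h1 : σ k = i
    · exact Or.inl (σ.injective (h1.trans ei.symm))
    · by_cases h2 : σ k = j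
      · exact Or.inr (σ.injective (h2.trans ej.symm))
      · exact absurd (h0 _ h1 h2) h
  · rintro (rfl | rfl)
    · rw [ei]; exact hxi
    · rw [ej]; exact hxj

end Helper14

/-- [E1] -/
theorem orbit_ge_S1 (H : Subgroup ↥Co0) (hH : (H : Set ↥Co0) = Nstd) (x : ↥leechLattice)
    (hx : x ∈ S1set)
    (hd : dotInt ((v0 : ↥leechLattice) : GolayPt → ℤ) (x : GolayPt → ℤ) = 0)
    (h1 : x ≠ u0) (h2 : x ≠ -u0) :
    ∃ s : Finset ↥leechLattice, 45 ≤ s.card ∧ ∀ y ∈ s, ∃ g ∈ H, g • v0 = v0 ∧ g • x = y := by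
  classical
  obtain ⟨i, j, hij, hi, hj, h0⟩ := hx
  obtain ⟨hia, hib, hja, hjb⟩ := Helper14.support_away x i j hij hi hj h0 hd h1 h2
  have hxi : (x : GolayPt → ℤ) i ≠ 0 := by rcases hi with h | h <;> rw [h] <;> norm_num
  have hxj : (x : GolayPt → ℤ) j ≠ 0 := by rcases hj with h | h <;> rw [h] <;> norm_num
  have ex := Helper14.exists_image x i j hij hia hib hja hjb hxi hxj h0
  choose! f hf using ex
  refine ⟨(Helper14.P22.powersetCard 2).image (fun t => f t • x), ?_, ?_⟩
  · rw [Finset.card_image_of_injOn, Finset.card_powersetCard, Helper14.card_P22]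
    · decide
    · intro t ht t' ht' h
      have h' : f t • x = f t' • x := h
      ext k
      rw [← (hf t ht).2.2 k, ← (hf t' ht').2.2 k, h']
  · intro y hy
    obtain ⟨t, ht, rfl⟩ := Finset.mem_image.mp hy
    refine ⟨f t, ?_, (hf t ht).2.1, rfl⟩
    have : f t ∈ (H : Set ↥Co0) := by rw [hH]; exact (hf t ht).1
    exact this

end Cfsg.Agent.Lib.Helper8.S1572
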