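import Cfsg.Agent.Lib.Helper8.S1572Defs

/-!
# S1572, piece [E3]: many images of a vector of the third shape

A vector of shape `(∓3, ±1^23)` has all coordinates nonzero, so the sign changes on the code words
avoiding the two base points (at least `1024` of them) move it to pairwise different vectors; they
fix `v0` and stabilise the standard cross.
-/

set_option autoImplicit false
set_option linter.style.haveILetI false

namespace Cfsg.Agent.Lib.Helper8.S1572

open Cfsg Cfsg.Agent.Lib.Helper4 Cfsg.Agent.Lib.Helper28 Cfsg.Agent.Helper4.CO Cfsg.Agent.Helper4.LC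
  Cfsg.Agent.S0398

namespace Helper14

theorem signFun_single (c : Finset GolayPt) (i : GolayPt) (s : ℤ) :
    signFun c (Pi.single i s) = Pi.single i (if i ∈ c then -s else s) := by
  funext k
  unfold signFun
  by_cases hk : k = i
  · subst hk
    by_cases hc : k ∈ c
    · simp only [if_pos hc, Pi.single_eq_same]
    · simp only [if_neg hc, Pi.single_eq_same]
  · rw [Pi.single_eq_of_ne hk, Pi.single_eq_of_ne hk, neg_zero, ite_self]

/-- the sign change on a code word, as an element of the automorphism group -/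
def sgn (c : Finset GolayPt) (hc : c ∈ supports (golayCode : Set (GolayPt → ZMod 2))) : ↥Co0 :=
  ⟨signPerm c hc, signPerm_mem c hc⟩

theorem sgn_smul_coe (c : Finset GolayPt) (hc : c ∈ supports (golayCode : Set (GolayPt → ZMod 2)))
    (v : ↥leechLattice) : ((sgn c hc • v : ↥leechLattice) : GolayPt → ℤ) = signFun c v := rfl

theorem sgn_mem_Nstd (c : Finset GolayPt)
    (hc : c ∈ supports (golayCode : Set (GolayPt → ZMod 2))) : sgn c hc ∈ Nstd := by
  intro v hv
  obtain ⟨i, s, hs, hvi⟩ := hv
  rw [sgn_smul_coe, hvi, signFun_single]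
  refine ⟨i, _, ?_, rfl⟩
  by_cases hic : i ∈ c
  · rw [if_pos hic]
    rcases hs with rfl | rfl
    · exact Or.inr rfl
    · exact Or.inl (by norm_num)
  · rw [if_neg hic]
    exact hs

theorem sgn_smul_v0 (c : Finset GolayPt)
    (hc : c ∈ supports (golayCode : Set (GolayPt → ZMod 2))) (ha : pa ∉ c) (hb : pb ∉ c) :
    sgn c hc • v0 = v0 := by
  apply Subtype.ext
  rw [sgn_smul_coe, v0_coe]
  funext k
  unfold signFun
  by_cases hk : k ∈ c
  · rw [if_pos hk]
    have h1 : k ≠ pa := fun h => ha (h ▸ hk)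
    have h2 : k ≠ pb := fun h => hb (h ▸ hk)
    simp only [Pi.add_apply, E, Pi.single_eq_of_ne h1, Pi.single_eq_of_ne h2, add_zero, neg_zero]
  · rw [if_neg hk]

/-- the values of a code word at the two base points -/
def ev2 : ↥golayCode →+ ZMod 2 × ZMod 2 where
  toFun w := ((w : GolayPt → ZMod 2) pa, (w : GolayPt → ZMod 2) pb)
  map_zero' := rfl
  map_add' _ _ := rfl

theorem card_ker_ev2 : 1024 ≤ Nat.card ↥ev2.ker := by
  have h1 := ev2.ker.card_mul_index
  rw [AddSubgroup.index_ker] at h1
  have h2 : Nat.card ↥golayCode = 2 ^ 12 := golayCode_isGolayLike.card_code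
  have h3 : Nat.card ↥ev2.range ≤ 4 := by
    have := Nat.card_le_card_of_injective (fun z : ↥ev2.range => (z : ZMod 2 × ZMod 2))
      Subtype.val_injective
    have h4 : Nat.card (ZMod 2 × ZMod 2) = 4 := by
      rw [Nat.card_prod, Nat.card_zmod]
    rw [h4] at this
    exact this
  rw [h2] at h1
  by_contra hlt
  have : Nat.card ↥ev2.ker * Nat.card ↥ev2.range ≤ 1023 * 4 := Nat.mul_le_mul (by omega) h3
  rw [h1] at this
  norm_num at this

theorem mem_ker_ev2 (w : ↥ev2.ker) :
    ((w : ↥golayCode) : GolayPt → ZMod 2) pa = 0 ∧ ((w : ↥golayCode) : GolayPt → ZMod 2) pb = 0 := by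
  have h := w.2
  rw [AddMonoidHom.mem_ker] at h
  exact ⟨congrArg Prod.fst h, congrArg Prod.snd h⟩

/-- the sign change on the code word `w` -/
def sgnW (w : ↥ev2.ker) : ↥Co0 :=
  sgn (support₂ ((w : ↥golayCode) : GolayPt → ZMod 2)) (mem_supports_of_mem (w : ↥golayCode).2)

theorem zmod2_eq_of_ne_zero_iff : ∀ a b : ZMod 2, (a ≠ 0 ↔ b ≠ 0) → a = b := by decide

theorem sgnW_injective (x : ↥leechLattice) (hx : ∀ i, (x : GolayPt → ℤ) i ≠ 0) :
    Function.Injective fun w : ↥ev2.ker => sgnW w • x := by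
  intro w w' h
  have h' : ∀ i, signFun (support₂ ((w : ↥golayCode) : GolayPt → ZMod 2)) x i =
      signFun (support₂ ((w' : ↥golayCode) : GolayPt → ZMod 2)) x i := by
    intro i
    have := congrArg (fun v : ↥leechLattice => (v : GolayPt → ℤ) i) h
    exact this
  apply Subtype.ext
  apply Subtype.ext
  funext i
  apply zmod2_eq_of_ne_zero_iff
  rw [← mem_support₂_iff, ← mem_support₂_iff]
  have hi := h' i
  unfold signFun at hi
  have hxi := hx i
  constructor
  · intro h1
    by_contra h2
    rw [if_pos h1, if_neg h2] at hi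
    omega
  · intro h1
    by_contra h2
    rw [if_neg h2, if_pos h1] at hi
    omega

theorem ne_zero_of_S3 (x : ↥leechLattice) (hx : x ∈ S3set) (i : GolayPt) :
    (x : GolayPt → ℤ) i ≠ 0 := by
  obtain ⟨k, hk, hoff⟩ := hx
  by_cases hik : i = k
  · subst hik
    rcases hk with h | h <;> rw [h] <;> norm_num
  · rcases hoff i hik with h | h <;> rw [h] <;> norm_num

end Helper14

/-- [E3] -/
theorem orbit_ge_S3 (H : Subgroup ↥Co0) (hH : (H : Set ↥Co0) = Nstd) (x : ↥leechLattice)
    (hx : x ∈ S3set) :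
    ∃ s : Finset ↥leechLattice, 45 ≤ s.card ∧ ∀ y ∈ s, ∃ g ∈ H, g • v0 = v0 ∧ g • x = y := by
  classical
  letI : Fintype ↥Helper14.ev2.ker := Fintype.ofFinite _
  refine ⟨Finset.univ.image fun w : ↥Helper14.ev2.ker => Helper14.sgnW w • x, ?_, ?_⟩
  · rw [Finset.card_image_of_injective _
      (Helper14.sgnW_injective x (Helper14.ne_zero_of_S3 x hx)), Finset.card_univ,
      ← Nat.card_eq_fintype_card]
    exact le_trans (by norm_num) Helper14.card_ker_ev2
  · intro y hy
    obtain ⟨w, _, rfl⟩ := Finset.mem_image.mp hy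
    obtain ⟨h1, h2⟩ := Helper14.mem_ker_ev2 w
    refine ⟨Helper14.sgnW w, ?_, ?_, rfl⟩
    · have : Helper14.sgnW w ∈ (H : Set ↥Co0) := by
        rw [hH]
        exact Helper14.sgn_mem_Nstd _ _
      exact this
    · apply Helper14.sgn_smul_v0
      · rw [mem_support₂_iff, not_not]; exact h1
      · rw [mem_support₂_iff, not_not]; exact h2

end Cfsg.Agent.Lib.Helper8.S1572
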