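import Mathlib
import Cfsg.Agent.Lib.Helper24.S4427Defs
import Cfsg.Agent.Lib.Helper11.S4427D1
import Cfsg.Agent.Lib.Helper11.S4427D2

/-!
# S4427 piece [D3] (helper14, for architect helper24)

`selfTr_le`: for subgroups `Q`, `R` of coprime orders and an idempotent `ε = t y = y t` of `ℂ[G]`
with `t = s_Q s_R s_Q`, the trace `selfTr ε` is a natural number `d` with `d |Q| |R| ≤ |G|`.
-/

set_option autoImplicit false

namespace Cfsg.Agent.Lib.Helper24.S4427

variable {G : Type*} [Group G] [Fintype G]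

namespace Helper14

theorem coeff_mul_eq_sum' (x y : MonoidAlgebra ℂ G) (g : G) :
    (x * y).coeff g = ∑ h : G, x.coeff h * y.coeff (h⁻¹ * g) := by
  rw [MonoidAlgebra.coeff_mul_apply_left, Finsupp.sum_fintype _ _ (by simp)]

theorem card_eq_sum_ite (H : Subgroup G) [DecidablePred (· ∈ H)] :
    (Nat.card H : ℂ) = ∑ h : G, if h ∈ H then (1 : ℂ) else 0 := by
  classical
  rw [Finset.sum_boole, Nat.card_eq_fintype_card, Fintype.card_subtype]

theorem sSub_mul_self (H : Subgroup G) :
    sSub ℂ H * sSub ℂ H = (Nat.card H : ℂ) • sSub ℂ H := by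
  classical
  refine MonoidAlgebra.coeff_injective (Finsupp.ext fun g => ?_)
  rw [coeff_mul_eq_sum', MonoidAlgebra.coeff_smul, Finsupp.smul_apply]
  simp only [coeff_sSub, smul_eq_mul]
  by_cases hg : g ∈ H
  · rw [if_pos hg, mul_one, card_eq_sum_ite]
    refine Finset.sum_congr rfl fun h _ => ?_
    by_cases hh : h ∈ H
    · rw [if_pos hh, if_pos (H.mul_mem (H.inv_mem hh) hg), mul_one]
    · rw [if_neg hh, zero_mul]
  · rw [if_neg hg, mul_zero]
    refine Finset.sum_eq_zero fun h _ => ?_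
    by_cases hh : h ∈ H
    · have hmem : ¬ h⁻¹ * g ∈ H := by
        intro hmem
        apply hg
        have := H.mul_mem hh hmem
        rwa [mul_inv_cancel_left] at this
      rw [if_neg hmem, mul_zero]
    · rw [if_neg hh, zero_mul]

theorem card_ne_zero (H : Subgroup G) : (Nat.card H : ℂ) ≠ 0 := by
  have : 0 < Nat.card H := Nat.card_pos
  exact_mod_cast this.ne'

/-- the idempotent attached to a subgroup -/
noncomputable def eSub (H : Subgroup G) : MonoidAlgebra ℂ G := (Nat.card H : ℂ)⁻¹ • sSub ℂ H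

theorem eSub_mul_sSub (H : Subgroup G) : eSub H * sSub ℂ H = sSub ℂ H := by
  unfold eSub
  rw [smul_mul_assoc, sSub_mul_self, smul_smul, inv_mul_cancel₀ (card_ne_zero H), one_smul]

theorem sSub_mul_eSub (H : Subgroup G) : sSub ℂ H * eSub H = sSub ℂ H := by
  unfold eSub
  rw [mul_smul_comm, sSub_mul_self, smul_smul, inv_mul_cancel₀ (card_ne_zero H), one_smul]

theorem eSub_idem (H : Subgroup G) : IsIdempotentElem (eSub H) := by
  have h : eSub H * eSub H = (Nat.card H : ℂ)⁻¹ • (sSub ℂ H * eSub H) := by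
    rw [← smul_mul_assoc]; rfl
  unfold IsIdempotentElem
  rw [h, sSub_mul_eSub]; rfl

theorem coeff_eSub (H : Subgroup G) (g : G) :
    (eSub H).coeff g = (Nat.card H : ℂ)⁻¹ * (sSub ℂ H).coeff g := by
  unfold eSub
  rw [MonoidAlgebra.coeff_smul, Finsupp.smul_apply, smul_eq_mul]

/-- the dimension of `e_Q ℂ[G] e_R` for subgroups of coprime orders -/
theorem finrank_eSub (Q R : Subgroup G) (hcop : (Nat.card Q).Coprime (Nat.card R)) :
    (Module.finrank ℂ (LinearMap.range
        (LinearMap.mulLeft ℂ (eSub Q) ∘ₗ LinearMap.mulRight ℂ (eSub R))) : ℂ)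
      * ((Nat.card Q : ℂ) * (Nat.card R : ℂ)) = (Nat.card G : ℂ) := by
  rw [finrank_range_mulLeft_mulRight _ _ (eSub_idem Q) (eSub_idem R)]
  simp only [coeff_eSub]
  have h : ∀ h w : G, (Nat.card Q : ℂ)⁻¹ * (sSub ℂ Q).coeff w *
      ((Nat.card R : ℂ)⁻¹ * (sSub ℂ R).coeff (h⁻¹ * w⁻¹ * h))
      = ((Nat.card Q : ℂ)⁻¹ * (Nat.card R : ℂ)⁻¹) *
        ((sSub ℂ Q).coeff w * (sSub ℂ R).coeff (h⁻¹ * w⁻¹ * h)) := by
    intro h w; ring
  simp only [h, ← Finset.mul_sum]
  rw [sum_coeff_sSub_sSub Q R hcop]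
  have hQ := card_ne_zero Q
  have hR := card_ne_zero R
  field_simp

end Helper14

open Helper14 in
/-- [D3] the bound `dim ε ℂ[G] ε ≤ |G| / (|Q| |R|)` -/
theorem selfTr_le (Q R : Subgroup G) (hcop : (Nat.card Q).Coprime (Nat.card R))
    (ε y : MonoidAlgebra ℂ G) (hε : IsIdempotentElem ε)
    (h1 : ε = sSub ℂ Q * sSub ℂ R * sSub ℂ Q * y)
    (h2 : y * (sSub ℂ Q * sSub ℂ R * sSub ℂ Q) = sSub ℂ Q * sSub ℂ R * sSub ℂ Q * y) :
    ∃ d : ℕ, selfTr ε = (d : ℂ) ∧ d * (Nat.card Q * Nat.card R) ≤ Nat.card G := by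
  classical
  set sQ := sSub ℂ Q with hsQ
  set sR := sSub ℂ R with hsR
  set V := LinearMap.range (LinearMap.mulLeft ℂ ε ∘ₗ LinearMap.mulRight ℂ ε) with hV
  set W := LinearMap.range
    (LinearMap.mulLeft ℂ (eSub Q) ∘ₗ LinearMap.mulRight ℂ (eSub R)) with hW
  refine ⟨Module.finrank ℂ V, ?_, ?_⟩
  · rw [selfTr_def, hV, finrank_range_mulLeft_mulRight ε ε hε hε]
  · -- `eQ * ε = ε`
    have hQε : eSub Q * ε = ε := by
      conv_lhs => rw [h1]
      conv_rhs => rw [h1]
      rw [← mul_assoc, ← mul_assoc, ← mul_assoc, eSub_mul_sSub]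
    -- `ε = y * t`
    have h1' : ε = y * (sQ * sR * sQ) := by rw [h2]; exact h1
    have hV_left : ∀ x ∈ V, ε * x = x := by
      rintro x ⟨z, rfl⟩
      simp only [LinearMap.comp_apply, LinearMap.mulLeft_apply, LinearMap.mulRight_apply]
      rw [← mul_assoc, hε.eq]
    have hV_right : ∀ x ∈ V, x * ε = x := by
      rintro x ⟨z, rfl⟩
      simp only [LinearMap.comp_apply, LinearMap.mulLeft_apply, LinearMap.mulRight_apply]
      rw [mul_assoc, mul_assoc, hε.eq]
    -- the map `x ↦ x * (y * sQ * sR)` from `V` to `W`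
    have hmem : ∀ x ∈ V, x * (y * sQ * sR) ∈ W := by
      intro x hx
      refine ⟨x * (y * sQ * sR), ?_⟩
      simp only [LinearMap.comp_apply, LinearMap.mulLeft_apply, LinearMap.mulRight_apply]
      have e1 : x * (y * sQ * sR) * eSub R = x * (y * sQ * sR) := by
        rw [mul_assoc x, mul_assoc (y * sQ), sSub_mul_eSub]
      have e2 : eSub Q * x = x := by
        conv_lhs => rw [← hV_left x hx, ← mul_assoc, hQε]
        exact hV_left x hx
      rw [e1, ← mul_assoc, e2]
    let φ : V →ₗ[ℂ] W :=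
      LinearMap.codRestrict W ((LinearMap.mulRight ℂ (y * sQ * sR)).domRestrict V)
        (fun x => hmem x.1 x.2)
    have hφ : Function.Injective φ := by
      intro a b hab
      have hab' : (a : MonoidAlgebra ℂ G) * (y * sQ * sR)
          = (b : MonoidAlgebra ℂ G) * (y * sQ * sR) := congrArg Subtype.val hab
      have key : ∀ x ∈ V, x * (y * sQ * sR) * sQ = x := by
        intro x hx
        have : y * sQ * sR * sQ = ε := by
          rw [h1']; simp only [mul_assoc]
        rw [mul_assoc, this, hV_right x hx]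
      apply Subtype.ext
      rw [← key a a.2, ← key b b.2, hab']
    have hle : Module.finrank ℂ V ≤ Module.finrank ℂ W :=
      LinearMap.finrank_le_finrank_of_injective hφ
    have hW' := finrank_eSub Q R hcop
    have hWn : Module.finrank ℂ W * (Nat.card Q * Nat.card R) = Nat.card G := by
      exact_mod_cast hW'
    calc Module.finrank ℂ V * (Nat.card Q * Nat.card R)
        ≤ Module.finrank ℂ W * (Nat.card Q * Nat.card R) := Nat.mul_le_mul_right _ hle
      _ = Nat.card G := hWn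

end Cfsg.Agent.Lib.Helper24.S4427
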