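import Mathlib
import Cfsg.Prelude.Def_GeometricClasses
import Cfsg.Agent.Lib.Helper7.AschDefs

/-!
# S5630 CORE-F1 / CORE-F2 (helper14): an invariant (sesqui)bilinear form of an absolutely irreducible group is unique up
to scalars, hence the normaliser consists of similarities.
-/

set_option autoImplicit false

namespace Cfsg.Agent.Lib.Helper14.S5630Core

open Matrix Cfsg.Geo Cfsg.Agent.Lib.Helper7.Asch

variable {F : Type*} [Field F] {n : ℕ}

/-- the `σ`-twisted form with Gram matrix `G` -/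
def tw (σ : F ≃+* F) (G : Matrix (Fin n) (Fin n) F) (u v : Fin n → F) : F :=
  u ⬝ᵥ G *ᵥ (fun i => σ (v i))

theorem tw_mulVec (σ : F ≃+* F) (G A : Matrix (Fin n) (Fin n) F) (u v : Fin n → F) :
    tw σ G (A *ᵥ u) (A *ᵥ v) = tw σ (Aᵀ * G * A.map σ) u v := by
  unfold tw
  have h1 : (fun i => σ ((A *ᵥ v) i)) = A.map σ *ᵥ (fun i => σ (v i)) := by
    funext i
    exact RingHom.map_mulVec (σ : F →+* F) A v i
  rw [h1, ← Matrix.mulVec_mulVec, ← Matrix.mulVec_mulVec, Matrix.dotProduct_mulVec u Aᵀ, Matrix.vecMul_transpose]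

theorem tw_single (σ : F ≃+* F) (G : Matrix (Fin n) (Fin n) F) (i j : Fin n) :
    tw σ G (Pi.single i 1) (Pi.single j 1) = G i j := by
  unfold tw
  have h1 : (fun k => σ ((Pi.single j (1 : F) : Fin n → F) k)) = Pi.single j 1 := by
    funext k
    by_cases hk : k = j
    · subst hk; simp
    · simp [Pi.single_apply, hk]
  rw [h1]
  simp

theorem tw_ext (σ : F ≃+* F) (G G' : Matrix (Fin n) (Fin n) F) (h : ∀ u v, tw σ G u v = tw σ G' u v) : G = G' := by
  ext i j
  rw [← tw_single σ G, ← tw_single σ G', h]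

theorem tw_smul (σ : F ≃+* F) (c : F) (G : Matrix (Fin n) (Fin n) F) (u v : Fin n → F) :
    tw σ (c • G) u v = c * tw σ G u v := by
  unfold tw
  rw [Matrix.smul_mulVec, dotProduct_smul, smul_eq_mul]

theorem map_mul_map_inv (σ : F ≃+* F) (x : GL (Fin n) F) :
    ((x⁻¹ : GL (Fin n) F) : Matrix (Fin n) (Fin n) F).map σ * (x : Matrix (Fin n) (Fin n) F).map σ = 1 := by
  have : ((x⁻¹ : GL (Fin n) F) : Matrix (Fin n) (Fin n) F).map σ * (x : Matrix (Fin n) (Fin n) F).map σ
      = (((x⁻¹ : GL (Fin n) F) : Matrix (Fin n) (Fin n) F) * (x : Matrix (Fin n) (Fin n) F)).map (σ : F →+* F) := by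
    rw [Matrix.map_mul]; rfl
  rw [this, ← Units.val_mul, inv_mul_cancel, Units.val_one, Matrix.map_one _ (map_zero _) (map_one _)]

/-- matrix core: the Gram matrix of the transported form is a multiple of `G` -/
theorem gram_smul_of_normalizes (R : Subgroup (GL (Fin n) F)) (hR : AbsIrr R) (σ : F ≃+* F)
    (G : Matrix (Fin n) (Fin n) F) (hG : IsUnit G)
    (hfix : ∀ x ∈ R, (x : Matrix (Fin n) (Fin n) F)ᵀ * G * (x : Matrix (Fin n) (Fin n) F).map σ = G)
    (h : GL (Fin n) F) (hh : ∀ x ∈ R, h * x * h⁻¹ ∈ R) :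
    ∃ c : F, (h : Matrix (Fin n) (Fin n) F)ᵀ * G * (h : Matrix (Fin n) (Fin n) F).map σ = c • G := by
  obtain ⟨Gu, rfl⟩ := hG
  set H : Matrix (Fin n) (Fin n) F := (h : Matrix (Fin n) (Fin n) F) with hH
  set G' : Matrix (Fin n) (Fin n) F := Hᵀ * (Gu : Matrix (Fin n) (Fin n) F) * H.map σ with hG'
  -- `G'` is invariant too
  have hfix' : ∀ x ∈ R, (x : Matrix (Fin n) (Fin n) F)ᵀ * G' * (x : Matrix (Fin n) (Fin n) F).map σ = G' := by
    intro x hx
    have hy := hfix _ (hh x hx)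
    have hYH : ((h * x * h⁻¹ : GL (Fin n) F) : Matrix (Fin n) (Fin n) F) * H = H * (x : Matrix (Fin n) (Fin n) F) := by
      rw [hH, ← Units.val_mul, ← Units.val_mul]
      congr 1
      group
    set Y : Matrix (Fin n) (Fin n) F := ((h * x * h⁻¹ : GL (Fin n) F) : Matrix (Fin n) (Fin n) F) with hY
    set X : Matrix (Fin n) (Fin n) F := (x : Matrix (Fin n) (Fin n) F) with hX
    have hmap : H.map σ * X.map σ = Y.map σ * H.map σ := by
      have e1 : H.map σ * X.map σ = (H * X).map (σ : F →+* F) := by rw [Matrix.map_mul]; rfl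
      have e2 : Y.map σ * H.map σ = (Y * H).map (σ : F →+* F) := by rw [Matrix.map_mul]; rfl
      rw [e1, e2, hYH]
    calc Xᵀ * G' * X.map σ = (H * X)ᵀ * (Gu : Matrix (Fin n) (Fin n) F) * (H.map σ * X.map σ) := by
          rw [hG', Matrix.transpose_mul]; simp only [mul_assoc]
      _ = (Y * H)ᵀ * (Gu : Matrix (Fin n) (Fin n) F) * (Y.map σ * H.map σ) := by rw [hYH, hmap]
      _ = Hᵀ * (Yᵀ * (Gu : Matrix (Fin n) (Fin n) F) * Y.map σ) * H.map σ := by
          rw [Matrix.transpose_mul]; simp only [mul_assoc]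
      _ = G' := by rw [hy]
  -- for an invariant `K`: `(X⁻¹)ᵀ K = K σ(X)`
  have key : ∀ K : Matrix (Fin n) (Fin n) F,
      (∀ x ∈ R, (x : Matrix (Fin n) (Fin n) F)ᵀ * K * (x : Matrix (Fin n) (Fin n) F).map σ = K) →
      ∀ x ∈ R, ((x⁻¹ : GL (Fin n) F) : Matrix (Fin n) (Fin n) F)ᵀ * K = K * (x : Matrix (Fin n) (Fin n) F).map σ := by
    intro K hK x hx
    have h1 := hK x⁻¹ (R.inv_mem hx)
    calc ((x⁻¹ : GL (Fin n) F) : Matrix (Fin n) (Fin n) F)ᵀ * K
        = ((x⁻¹ : GL (Fin n) F) : Matrix (Fin n) (Fin n) F)ᵀ * K *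
            (((x⁻¹ : GL (Fin n) F) : Matrix (Fin n) (Fin n) F).map σ * (x : Matrix (Fin n) (Fin n) F).map σ) := by
          rw [map_mul_map_inv, mul_one]
      _ = (((x⁻¹ : GL (Fin n) F) : Matrix (Fin n) (Fin n) F)ᵀ * K *
            ((x⁻¹ : GL (Fin n) F) : Matrix (Fin n) (Fin n) F).map σ) * (x : Matrix (Fin n) (Fin n) F).map σ := by
          simp only [mul_assoc]
      _ = K * (x : Matrix (Fin n) (Fin n) F).map σ := by rw [h1]
  set M : Matrix (Fin n) (Fin n) F := ((Gu⁻¹ : (Matrix (Fin n) (Fin n) F)ˣ) : Matrix (Fin n) (Fin n) F) * G' with hM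
  have hGM : (Gu : Matrix (Fin n) (Fin n) F) * M = G' := by
    rw [hM, ← mul_assoc, Units.mul_inv, one_mul]
  -- `M` commutes with `σ(X)`
  have hcomm : ∀ x ∈ R, M * (x : Matrix (Fin n) (Fin n) F).map σ = (x : Matrix (Fin n) (Fin n) F).map σ * M := by
    intro x hx
    have k1 := key _ hfix x hx
    have k2 := key _ hfix' x hx
    have : (Gu : Matrix (Fin n) (Fin n) F) * (M * (x : Matrix (Fin n) (Fin n) F).map σ)
        = (Gu : Matrix (Fin n) (Fin n) F) * ((x : Matrix (Fin n) (Fin n) F).map σ * M) := by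
      rw [← mul_assoc, hGM, ← k2, ← hGM, ← mul_assoc, k1, mul_assoc]
    have h2 := congrArg (fun Z => ((Gu⁻¹ : (Matrix (Fin n) (Fin n) F)ˣ) : Matrix (Fin n) (Fin n) F) * Z) this
    simpa [← mul_assoc] using h2
  -- untwist
  have hcomm' : ∀ s ∈ matrixSet R, M.map σ.symm * s = s * M.map σ.symm := by
    rintro s ⟨x, hx, rfl⟩
    have h1 := congrArg (fun Z : Matrix (Fin n) (Fin n) F => Z.map (σ.symm : F →+* F)) (hcomm x hx)
    simp only [Matrix.map_mul] at h1
    have h3 : ((x : Matrix (Fin n) (Fin n) F).map σ).map (σ.symm : F →+* F) = (x : Matrix (Fin n) (Fin n) F) := by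
      ext i j; simp
    rw [h3] at h1
    exact h1
  obtain ⟨c, hc⟩ := hR.2 _ hcomm'
  refine ⟨σ c, ?_⟩
  have hMc : M = σ c • (1 : Matrix (Fin n) (Fin n) F) := by
    have h1 : (M.map σ.symm).map (σ : F →+* F)
        = (c • (1 : Matrix (Fin n) (Fin n) F)).map (σ : F →+* F) := by rw [hc]
    have h3 : (M.map σ.symm).map (σ : F →+* F) = M := by
      ext i j; simp
    rw [h3] at h1
    rw [h1]
    ext i j
    by_cases hij : i = j
    · subst hij; simp
    · simp [hij]
  show G' = σ c • (Gu : Matrix (Fin n) (Fin n) F)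
  rw [← hGM, hMc, Matrix.mul_smul, mul_one]

/-- general form: a twisted Gram form fixed by an absolutely irreducible `R` is scaled by the normaliser of `R` -/
theorem tw_similarity (R : Subgroup (GL (Fin n) F)) (hR : AbsIrr R) (σ : F ≃+* F)
    (G : Matrix (Fin n) (Fin n) F) (hnd : ∀ v : Fin n → F, v ≠ 0 → ∃ x, tw σ G x v ≠ 0)
    (hfix : ∀ s ∈ matrixSet R, ∀ u v, tw σ G (s *ᵥ u) (s *ᵥ v) = tw σ G u v)
    (h : GL (Fin n) F) (hh : ∀ x ∈ R, h * x * h⁻¹ ∈ R) :
    ∃ c : Fˣ, ∀ u v, tw σ G ((h : Matrix (Fin n) (Fin n) F) *ᵥ u) ((h : Matrix (Fin n) (Fin n) F) *ᵥ v)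
      = (c : F) * tw σ G u v := by
  have hG : IsUnit G := by
    rw [Matrix.isUnit_iff_isUnit_det, isUnit_iff_ne_zero]
    intro hdet
    obtain ⟨w, hw0, hw⟩ := Matrix.exists_mulVec_eq_zero_iff.mpr hdet
    have hv0 : (fun i => σ.symm (w i)) ≠ 0 := by
      intro h0
      apply hw0
      funext i
      have := congrFun h0 i
      simpa using this
    obtain ⟨x, hx⟩ := hnd _ hv0
    apply hx
    unfold tw
    have : (fun i => σ (σ.symm (w i))) = w := by funext i; simp
    rw [this, hw, dotProduct_zero]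
  have hfixM : ∀ x ∈ R, (x : Matrix (Fin n) (Fin n) F)ᵀ * G * (x : Matrix (Fin n) (Fin n) F).map σ = G := by
    intro x hx
    apply tw_ext σ
    intro u v
    rw [← tw_mulVec]
    exact hfix _ ⟨x, hx, rfl⟩ u v
  obtain ⟨c, hc⟩ := gram_smul_of_normalizes R hR σ G hG hfixM h hh
  by_cases hc0 : c = 0
  · -- then `G = 0` and everything vanishes
    refine ⟨1, fun u v => ?_⟩
    rw [tw_mulVec, hc, hc0, zero_smul]
    have hG0 : G = 0 := by
      have h1 : (h : Matrix (Fin n) (Fin n) F)ᵀ * G * (h : Matrix (Fin n) (Fin n) F).map σ = 0 := by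
        rw [hc, hc0, zero_smul]
      have h2 : ((h⁻¹ : GL (Fin n) F) : Matrix (Fin n) (Fin n) F)ᵀ * (h : Matrix (Fin n) (Fin n) F)ᵀ = 1 := by
        rw [← Matrix.transpose_mul, ← Units.val_mul, mul_inv_cancel, Units.val_one, Matrix.transpose_one]
      have h3 : (h : Matrix (Fin n) (Fin n) F).map σ * ((h⁻¹ : GL (Fin n) F) : Matrix (Fin n) (Fin n) F).map σ = 1 := by
        have := map_mul_map_inv σ h⁻¹
        rwa [inv_inv] at this
      calc G = (((h⁻¹ : GL (Fin n) F) : Matrix (Fin n) (Fin n) F)ᵀ * (h : Matrix (Fin n) (Fin n) F)ᵀ) * G *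
            ((h : Matrix (Fin n) (Fin n) F).map σ * ((h⁻¹ : GL (Fin n) F) : Matrix (Fin n) (Fin n) F).map σ) := by
            rw [h2, h3, one_mul, mul_one]
        _ = ((h⁻¹ : GL (Fin n) F) : Matrix (Fin n) (Fin n) F)ᵀ *
            ((h : Matrix (Fin n) (Fin n) F)ᵀ * G * (h : Matrix (Fin n) (Fin n) F).map σ) *
            ((h⁻¹ : GL (Fin n) F) : Matrix (Fin n) (Fin n) F).map σ := by simp only [mul_assoc]
        _ = 0 := by rw [h1, mul_zero, zero_mul]
    rw [hG0]
    simp [tw]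
  · refine ⟨Units.mk0 c hc0, fun u v => ?_⟩
    rw [tw_mulVec, hc, tw_smul, Units.val_mk0]

/-- **CORE-F1** a bilinear non-degenerate form fixed by an absolutely irreducible `R` is unique up to scalars: every
`h` normalising `R` is a similarity -/
theorem mem_similarityGroup_of_normalizes (R : Subgroup (GL (Fin n) F)) (hR : AbsIrr R)
    (f : (Fin n → F) → (Fin n → F) → F) (hf : IsBilinearForm f) (hnd : IsNondegenerateForm f)
    (hfix : FixesForm (matrixSet R) f) (h : GL (Fin n) F) (hh : ∀ x ∈ R, h * x * h⁻¹ ∈ R) :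
    h ∈ similarityGroup f := by
  let B : LinearMap.BilinForm F (Fin n → F) :=
    LinearMap.mk₂ F f hf.add_left hf.smul_left hf.add_right hf.smul_right
  let G : Matrix (Fin n) (Fin n) F := LinearMap.BilinForm.toMatrix' B
  have hfG : ∀ u v, f u v = tw (RingEquiv.refl F) G u v := by
    intro u v
    have h1 : B = Matrix.toBilin' G := (Matrix.toBilin'_toMatrix' B).symm
    have h2 : f u v = B u v := rfl
    rw [h2, h1, Matrix.toBilin'_apply']
    rfl
  obtain ⟨c, hc⟩ := tw_similarity R hR (RingEquiv.refl F) G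
    (fun v hv => by
      obtain ⟨⟨x, hx⟩, -⟩ := hnd v hv
      exact ⟨x, by rwa [← hfG]⟩)
    (fun s hs u v => by rw [← hfG, ← hfG]; exact hfix s hs u v) h hh
  exact ⟨c, fun u v => by rw [hfG, hfG]; exact hc u v⟩

/-- **CORE-F2** the same for unitary forms -/
theorem mem_similarityGroup_of_normalizes_unitary (R : Subgroup (GL (Fin n) F)) (hR : AbsIrr R)
    (σ : F ≃+* F) (f : (Fin n → F) → (Fin n → F) → F) (hf : IsUnitaryForm σ f)
    (hfix : FixesForm (matrixSet R) f) (h : GL (Fin n) F) (hh : ∀ x ∈ R, h * x * h⁻¹ ∈ R) :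
    h ∈ similarityGroup f := by
  let G : Matrix (Fin n) (Fin n) F := Matrix.of fun i j => f (Pi.single i 1) (Pi.single j 1)
  -- expansion in the first argument
  have hleft : ∀ u v, f u v = ∑ i, u i * f (Pi.single i 1) v := by
    intro u v
    let L : (Fin n → F) →ₗ[F] F :=
      { toFun := fun u => f u v
        map_add' := fun x y => hf.add_left x y v
        map_smul' := fun c x => by simpa using hf.smul_left c x v }
    have := LinearMap.pi_apply_eq_sum_univ L u
    have hs : ∀ i : Fin n, (fun j => if i = j then (1 : F) else 0) = Pi.single i 1 := by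
      intro i; funext j; simp [Pi.single_apply, eq_comm]
    simp only [hs] at this
    simpa [L, smul_eq_mul] using this
  have hfG : ∀ u v, f u v = tw σ G u v := by
    intro u v
    rw [hleft u v]
    unfold tw
    rw [dotProduct]
    refine Finset.sum_congr rfl fun i _ => ?_
    congr 1
    rw [hf.herm, hleft v (Pi.single i 1), map_sum, Matrix.mulVec, dotProduct]
    refine Finset.sum_congr rfl fun j _ => ?_
    rw [map_mul, ← hf.herm, mul_comm]
    rfl
  obtain ⟨c, hc⟩ := tw_similarity R hR σ G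
    (fun v hv => by
      obtain ⟨⟨x, hx⟩, -⟩ := hf.nondegenerate v hv
      exact ⟨x, by rwa [← hfG]⟩)
    (fun s hs u v => by rw [← hfG, ← hfG]; exact hfix s hs u v) h hh
  exact ⟨c, fun u v => by rw [hfG, hfG]; exact hc u v⟩

end Cfsg.Agent.Lib.Helper14.S5630Core
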