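import Mathlib
import Cfsg.Prelude.Def_GeometricClasses
import Cfsg.Agent.Lib.Helper7.AschDefs

/-!
# S5630 CORE-SCH (helper14): Schur's lemma and Wedderburn's little theorem for centralisers of irreducible sets
-/

set_option autoImplicit false

namespace Cfsg.Agent.Lib.Helper14.S5630Core

open Matrix Cfsg.Geo

variable {F : Type*} [Field F] {n : ℕ}

section general

variable {κ : Type} [Fintype κ] [DecidableEq κ]

/-- **CORE-SCHa** (Schur) non-zero elements of the centraliser of an irreducible set are invertible, with inverse in the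
centraliser -/
theorem exists_inv_of_mem_centralizer (S : Set (Matrix κ κ F)) (h : ActsIrreducibly S) (x : Matrix κ κ F)
    (hx : ∀ s ∈ S, x * s = s * x) (h0 : x ≠ 0) :
    ∃ y : Matrix κ κ F, (∀ s ∈ S, y * s = s * y) ∧ x * y = 1 ∧ y * x = 1 := by
  have hker := h (LinearMap.ker (Matrix.toLin' x)) (by
    intro s hs w hw
    obtain ⟨u, hu, rfl⟩ := hw
    have hu' : x *ᵥ u = 0 := by simpa using hu
    show Matrix.toLin' x (Matrix.toLin' s u) = 0
    rw [Matrix.toLin'_apply, Matrix.toLin'_apply, Matrix.mulVec_mulVec, hx s hs, ← Matrix.mulVec_mulVec, hu',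
      Matrix.mulVec_zero])
  have hinj : Function.Injective x.mulVec := by
    rcases hker with hb | ht
    · intro u v huv
      have : u - v ∈ LinearMap.ker (Matrix.toLin' x) := by
        show Matrix.toLin' x (u - v) = 0
        rw [Matrix.toLin'_apply, Matrix.mulVec_sub, huv, sub_self]
      rw [hb] at this
      exact sub_eq_zero.mp ((Submodule.mem_bot F).mp this)
    · exfalso
      apply h0
      have h1 : Matrix.toLin' x = 0 := LinearMap.ker_eq_top.mp ht
      have := congrArg LinearMap.toMatrix' h1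
      simpa using this
  have hu : IsUnit x := Matrix.mulVec_injective_iff_isUnit.mp hinj
  obtain ⟨u, rfl⟩ := hu
  refine ⟨((u⁻¹ : (Matrix κ κ F)ˣ) : Matrix κ κ F), ?_, by simp, by simp⟩
  intro s hs
  have := hx s hs
  calc ((u⁻¹ : (Matrix κ κ F)ˣ) : Matrix κ κ F) * s
      = ((u⁻¹ : (Matrix κ κ F)ˣ) : Matrix κ κ F) * (s * (u : Matrix κ κ F)) * ((u⁻¹ : (Matrix κ κ F)ˣ) : Matrix κ κ F) := by
        rw [mul_assoc, mul_assoc, Units.mul_inv, mul_one]
    _ = ((u⁻¹ : (Matrix κ κ F)ˣ) : Matrix κ κ F) * ((u : Matrix κ κ F) * s) * ((u⁻¹ : (Matrix κ κ F)ˣ) : Matrix κ κ F) := by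
        rw [this]
    _ = s * ((u⁻¹ : (Matrix κ κ F)ˣ) : Matrix κ κ F) := by
        rw [← mul_assoc, Units.inv_mul, one_mul]

/-- **CORE-SCHb** (Schur + Wedderburn's little theorem) over a finite field the centraliser of an irreducible set is
commutative -/
theorem centralizer_comm [Fintype F] (S : Set (Matrix κ κ F)) (h : ActsIrreducibly S) (x y : Matrix κ κ F)
    (hx : ∀ s ∈ S, x * s = s * x) (hy : ∀ s ∈ S, y * s = s * y) : x * y = y * x := by
  rcases isEmpty_or_nonempty κ with hκ | hκ
  · exact Subsingleton.elim _ _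
  let E : Subalgebra F (Matrix κ κ F) := Subalgebra.centralizer F S
  have hmem : ∀ z : Matrix κ κ F, z ∈ E ↔ ∀ s ∈ S, z * s = s * z := by
    intro z
    rw [Subalgebra.mem_centralizer_iff]
    constructor
    · intro hz s hs; exact (hz s hs).symm
    · intro hz s hs; exact (hz s hs).symm
  have : Nontrivial E := inferInstance
  have : NoZeroDivisors E := by
    refine ⟨fun {a b} hab => ?_⟩
    by_contra hne
    rw [not_or] at hne
    obtain ⟨ha, hb⟩ := hne
    have ha' : (a : Matrix κ κ F) ≠ 0 := fun h0 => ha (Subtype.ext h0)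
    obtain ⟨z, -, -, hz⟩ := exists_inv_of_mem_centralizer S h a ((hmem a).mp a.2) ha'
    apply hb
    apply Subtype.ext
    have hab' : (a : Matrix κ κ F) * (b : Matrix κ κ F) = 0 := by
      have := congrArg Subtype.val hab
      simpa using this
    calc (b : Matrix κ κ F) = (z * a) * b := by rw [hz, one_mul]
      _ = 0 := by rw [mul_assoc, hab', mul_zero]
  have : IsDomain E := NoZeroDivisors.to_isDomain E
  have hfield : IsField E := Finite.isDomain_to_isField E
  have := hfield.mul_comm ⟨x, (hmem x).mpr hx⟩ ⟨y, (hmem y).mpr hy⟩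
  exact congrArg Subtype.val this

end general

end Cfsg.Agent.Lib.Helper14.S5630Core
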