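import Mathlib
import Cfsg.Prelude.Def_GeometricClasses
import Cfsg.Agent.Lib.Helper7.AschDefs
import Cfsg.Agent.Lib.Helper16.AschC6ADefs
import Cfsg.Agent.Lib.Helper14.S5630CoreAB

/-!
# S5630 block I6, half A (helper16's sub-skeleton): pieces A1, A2, A3, A4, A7, A10  (helper14)
-/

set_option autoImplicit false

namespace Cfsg.Agent.Lib.Helper14.S5630I6A

open Matrix Cfsg.Geo Cfsg.Agent.Lib.Helper7.Asch Cfsg.Agent.Lib.Helper16.AschC6A
open scoped commutatorElement

variable {F : Type*} [Field F] {n : ℕ} {H N G R : Subgroup (GL (Fin n) F)} {r : ℕ}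

/-- scalars are central -/
theorem scalar_central {s : GL (Fin n) F} (hs : s ∈ scalars (Fin n) F) (g : GL (Fin n) F) : s * g = g * s := by
  obtain ⟨c, hc⟩ := (mem_scalars_iff s).mp hs
  apply Units.ext
  rw [Units.val_mul, Units.val_mul, hc, Matrix.smul_mul, Matrix.mul_smul, one_mul, mul_one]

section grp

variable {G0 : Type*} [Group G0]

theorem central_pow {c : G0} (hc : ∀ g, c * g = g * c) (m : ℕ) (g : G0) : c ^ m * g = g * c ^ m :=
  ((Commute.pow_left (show Commute c g from hc g) m)).eq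

theorem pow_mul_of_comm {x y c : G0} (hc : ∀ g, c * g = g * c) (h : y * x = c * x * y) (m : ℕ) :
    y ^ m * x = c ^ m * x * y ^ m := by
  induction m with
  | zero => simp
  | succ m ih =>
    calc y ^ (m + 1) * x = y * (y ^ m * x) := by rw [pow_succ', mul_assoc]
      _ = y * (c ^ m * x * y ^ m) := by rw [ih]
      _ = c ^ m * (y * x) * y ^ m := by
          rw [← mul_assoc, ← mul_assoc, ← central_pow hc m y, mul_assoc (c ^ m) y x]
      _ = c ^ m * (c * x * y) * y ^ m := by rw [h]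
      _ = c ^ (m + 1) * x * y ^ (m + 1) := by rw [pow_succ, pow_succ']; simp only [mul_assoc]

theorem mul_pow_of_comm {x y c : G0} (hc : ∀ g, c * g = g * c) (h : y * x = c * x * y) (m : ℕ) :
    (x * y) ^ m = c ^ (m.choose 2) * x ^ m * y ^ m := by
  induction m with
  | zero => simp
  | succ m ih =>
    have hch : (m + 1).choose 2 = m.choose 2 + m := by
      show (m + 1).choose (1 + 1) = _
      rw [Nat.choose_succ_succ' m 1, Nat.choose_one_right]; ring
    calc (x * y) ^ (m + 1) = (x * y) ^ m * (x * y) := pow_succ _ _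
      _ = c ^ (m.choose 2) * x ^ m * y ^ m * (x * y) := by rw [ih]
      _ = c ^ (m.choose 2) * x ^ m * (y ^ m * x) * y := by simp only [mul_assoc]
      _ = c ^ (m.choose 2) * x ^ m * (c ^ m * x * y ^ m) * y := by rw [pow_mul_of_comm hc h m]
      _ = c ^ (m.choose 2) * (x ^ m * c ^ m) * x * y ^ m * y := by simp only [mul_assoc]
      _ = c ^ (m.choose 2) * (c ^ m * x ^ m) * x * y ^ m * y := by rw [← central_pow hc m (x ^ m)]
      _ = c ^ ((m + 1).choose 2) * x ^ (m + 1) * y ^ (m + 1) := by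
          rw [hch, pow_add, pow_succ, pow_succ]; simp only [mul_assoc]

end grp

/-- `r ∣ (kk r).choose 2` -/
theorem dvd_choose_kk (hr : r.Prime) : r ∣ (kk r).choose 2 := by
  by_cases h2 : r = 2
  · subst h2
    have : kk 2 = 4 := by unfold kk; norm_num
    rw [this]
    decide
  · have hcop : Nat.gcd 2 r = 1 := (Nat.coprime_primes Nat.prime_two hr).mpr (Ne.symm h2)
    have hk : kk r = r := by unfold kk; rw [hcop, mul_one]
    rw [hk]
    have h3 : 2 < r := lt_of_le_of_ne hr.two_le (Ne.symm h2)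
    exact hr.dvd_choose_self (by norm_num) h3

/-- `kk r ∣ r ^ 2` -/
theorem kk_dvd_sq (r : ℕ) : kk r ∣ r ^ 2 := by
  unfold kk
  rw [sq]
  apply Nat.mul_dvd_mul_left
  exact Nat.gcd_dvd_right 2 r

/-- the commutator relation in `G` and `c ^ r = 1` -/
theorem comm_data (hG : SG H G r) (x y : GL (Fin n) F) (hx : x ∈ G) (hy : y ∈ G) :
    (∀ g, ⁅y, x⁆ * g = g * ⁅y, x⁆) ∧ y * x = ⁅y, x⁆ * x * y ∧ ⁅y, x⁆ ^ r = 1 := by
  have hc : ∀ g, ⁅y, x⁆ * g = g * ⁅y, x⁆ := fun g => scalar_central (hG.comm y hy x hx) g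
  have h : y * x = ⁅y, x⁆ * x * y := by
    rw [commutatorElement_def]; group
  refine ⟨hc, h, ?_⟩
  have h1 := pow_mul_of_comm hc h r
  have h2 : y ^ r * x = x * y ^ r := scalar_central (hG.pow y hy) x
  rw [h2, mul_assoc] at h1
  have h3 : (1 : GL (Fin n) F) * (x * y ^ r) = ⁅y, x⁆ ^ r * (x * y ^ r) := by rw [one_mul]; exact h1
  exact (mul_right_cancel h3).symm

/-- **A1** `G` is not commutative -/
theorem sg_not_comm (hn : 2 ≤ n) (hG : SG H G r) : ∃ x ∈ G, ∃ y ∈ G, x * y ≠ y * x := by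
  by_contra hcon
  push Not at hcon
  exact Cfsg.Agent.Lib.Helper14.S5630Core.not_absIrr_of_comm hn G hcon hG.absIrr

/-- **A2** `x ↦ x ^ k` is multiplicative on `G` -/
theorem sg_mul_pow_kk (hG : SG H G r) (x y : GL (Fin n) F) (hx : x ∈ G) (hy : y ∈ G) :
    (x * y) ^ kk r = x ^ kk r * y ^ kk r := by
  obtain ⟨hc, h, hcr⟩ := comm_data hG x y hx hy
  rw [mul_pow_of_comm hc h (kk r)]
  obtain ⟨t, ht⟩ := dvd_choose_kk hG.prime
  rw [ht, pow_mul, hcr, one_pow, one_mul]

/-- **A3** `Ω` exists -/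
theorem sg_exists_omega (hG : SG H G r) : ∃ R : Subgroup (GL (Fin n) F), IsOmega G R r := by
  refine ⟨{ carrier := {x | x ∈ G ∧ x ^ kk r = 1}
            mul_mem' := ?_
            one_mem' := ⟨G.one_mem, one_pow _⟩
            inv_mem' := ?_ }, fun x => Iff.rfl⟩
  · rintro a b ⟨ha, ha1⟩ ⟨hb, hb1⟩
    exact ⟨G.mul_mem ha hb, by rw [sg_mul_pow_kk hG a b ha hb, ha1, hb1, one_mul]⟩
  · rintro a ⟨ha, ha1⟩
    exact ⟨G.inv_mem ha, by rw [inv_pow, ha1, inv_one]⟩

/-- **A4** `Ω` is normalised by `H` -/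
theorem omega_norm (hG : SG H G r) (hR : IsOmega G R r) : NormBy H R := by
  intro h hh x hx
  obtain ⟨hxG, hx1⟩ := (hR x).1 hx
  refine (hR _).2 ⟨hG.norm h hh x hxG, ?_⟩
  rw [conj_pow, hx1, mul_one, mul_inv_cancel]

/-- **A7** `R` is an `r`-group -/
theorem isPGroup_omega (_hG : SG H G r) (hR : IsOmega G R r) : IsPGroup r R := by
  intro g
  refine ⟨2, ?_⟩
  obtain ⟨-, hg1⟩ := (hR g.1).1 g.2
  obtain ⟨t, ht⟩ := kk_dvd_sq r
  apply Subtype.ext
  rw [Subgroup.coe_pow, Subgroup.coe_one, ht, pow_mul, hg1, one_pow]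

/-- **A10** `r ∣ q - 1` -/
theorem sg_dvd [Fintype F] (hn : 2 ≤ n) (hG : SG H G r) : r ∣ Fintype.card F - 1 := by
  classical
  obtain ⟨x, hx, y, hy, hxy⟩ := sg_not_comm hn hG
  obtain ⟨-, h, hcr⟩ := comm_data hG x y hx hy
  have hsc : ⁅y, x⁆ ∈ scalars (Fin n) F := hG.comm y hy x hx
  obtain ⟨u, hu⟩ := hsc
  have : Nonempty (Fin n) := ⟨⟨0, by omega⟩⟩
  have hinj : Function.Injective (Units.map (Matrix.scalar (Fin n) : F →+* Matrix (Fin n) (Fin n) F).toMonoidHom) := by
    apply Units.map_injective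
    intro a b hab
    exact Matrix.scalar_inj.mp hab
  have hur : u ^ r = 1 := by
    apply hinj
    rw [map_pow, hu, hcr, map_one]
  have hu1 : u ≠ 1 := by
    intro h1
    apply hxy
    rw [h1, map_one] at hu
    rw [h, ← hu, one_mul]
  have hord : orderOf u = r := by
    have hd : orderOf u ∣ r := orderOf_dvd_of_pow_eq_one hur
    rcases (Nat.dvd_prime hG.prime).mp hd with h1 | h1
    · exact absurd (orderOf_eq_one_iff.mp h1) hu1
    · exact h1
  have hcard : Fintype.card Fˣ = Fintype.card F - 1 := Fintype.card_units (α := F)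
  rw [← hord, ← hcard]
  exact orderOf_dvd_card

end Cfsg.Agent.Lib.Helper14.S5630I6A
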