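import Mathlib
import Cfsg.Prelude.Def_GeometricClasses
import Cfsg.Agent.Lib.Helper7.AschDefs
import Cfsg.Agent.Lib.Helper3.AschC6Defs
import Cfsg.Agent.Lib.Helper3.AschC6Basic

/-!
# S5630 block I6, half B (helper3's sub-skeleton): R-CARDZ  (helper14)
-/

set_option autoImplicit false

namespace Cfsg.Agent.Lib.Helper14.S5630I6B

open Matrix Cfsg.Geo Cfsg.Agent.Lib.Helper7.Asch Cfsg.Agent.Lib.Helper3.AschC6
open scoped commutatorElement

variable {F : Type*} [Field F] {n : ℕ}

/-- the scalar embedding `Fˣ →* GL_n(F)` -/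
noncomputable def scalHom (n : ℕ) (F : Type*) [Field F] : Fˣ →* GL (Fin n) F :=
  Units.map (Matrix.scalar (Fin n) : F →+* Matrix (Fin n) (Fin n) F).toMonoidHom

theorem scalHom_injective (hn : 0 < n) : Function.Injective (scalHom n F) := by
  have : Nonempty (Fin n) := ⟨⟨0, hn⟩⟩
  apply Units.map_injective
  intro a b hab
  exact Matrix.scalar_inj.mp hab

theorem mem_scalars_iff_range (x : GL (Fin n) F) : x ∈ scalars (Fin n) F ↔ ∃ u, scalHom n F u = x := Iff.rfl

variable [Fintype F] {H R : Subgroup (GL (Fin n) F)} {r : ℕ}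

/-- **R-CARDZ** the centre of `R` is the group of scalars of order dividing `r·gcd(2,r)` -/
theorem card_center (hn : 2 ≤ n) (hR : SympCore H R r) :
    Nat.card (Subgroup.center R) = Nat.gcd (r * Nat.gcd 2 r) (Fintype.card F - 1) := by
  classical
  have hinj := scalHom_injective (F := F) (n := n) (by omega)
  set z := r * Nat.gcd 2 r with hz
  have hmemR : ∀ u : (powMonoidHom z : Fˣ →* Fˣ).ker, scalHom n F (u : Fˣ) ∈ R := by
    intro u
    apply hR.scal _ ⟨(u : Fˣ), rfl⟩
    have hu : (u : Fˣ) ^ z = 1 := u.2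
    rw [← map_pow, hu, map_one]
  let f : (powMonoidHom z : Fˣ →* Fˣ).ker → Subgroup.center R := fun u =>
    ⟨⟨scalHom n F (u : Fˣ), hmemR u⟩, (mem_center_iff hR _).2 ⟨(u : Fˣ), rfl⟩⟩
  have hf : Function.Bijective f := by
    constructor
    · intro u v huv
      have h1 : scalHom n F (u : Fˣ) = scalHom n F (v : Fˣ) := by
        have := congrArg (fun y : Subgroup.center R => ((y : R) : GL (Fin n) F)) huv
        exact this
      exact Subtype.ext (hinj h1)
    · intro x
      obtain ⟨u, hu⟩ := (mem_center_iff hR (x : R)).1 x.2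
      have hu' : scalHom n F u = ((x : R) : GL (Fin n) F) := hu
      have huz : u ^ z = 1 := by
        apply hinj
        rw [map_pow, hu', hR.exp _ (x : R).2, map_one]
      refine ⟨⟨u, huz⟩, ?_⟩
      apply Subtype.ext
      apply Subtype.ext
      exact hu'
  rw [← Nat.card_congr (Equiv.ofBijective f hf), IsCyclic.card_powMonoidHom_ker, Nat.card_eq_fintype_card,
    Fintype.card_units, Nat.gcd_comm]

end Cfsg.Agent.Lib.Helper14.S5630I6B
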