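import Mathlib
import Cfsg.Prelude.Def_GeometricClasses
import Cfsg.Agent.Lib.Helper7.AschDefs
import Cfsg.Agent.Lib.Helper12.AschG1
import Cfsg.Agent.Lib.Helper10.S5630CoreSN
import Cfsg.Agent.Lib.Helper3.AschC6Defs
import Cfsg.Agent.Lib.Helper14.S5630I6APow

/-!
# S5630 block I6, half B (helper3's sub-skeleton): FORM-B1 .. FORM-B5 and R-DVD  (helper14)
-/

set_option autoImplicit false

namespace Cfsg.Agent.Lib.Helper14.S5630I6B

open Matrix Cfsg.Geo Cfsg.Agent.Lib.Helper7.Asch Cfsg.Agent.Lib.Helper3.AschC6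
open scoped commutatorElement

variable {F : Type*} [Field F] {n : ℕ}

/-! ### Gram forms -/

theorem gramForm_mulVec_eq (G g : Matrix (Fin n) (Fin n) F) (u v : Fin n → F) :
    gramForm G (g *ᵥ u) (g *ᵥ v) = gramForm (gᵀ * G * g) u v := by
  unfold gramForm
  rw [← Matrix.mulVec_mulVec, ← Matrix.mulVec_mulVec, Matrix.dotProduct_mulVec u gᵀ, Matrix.vecMul_transpose]

/-- **FORM-B4** `gᵀ G g = G` means that `g` fixes the form with Gram matrix `G` -/
theorem gramForm_mulVec (G g : Matrix (Fin n) (Fin n) F) (hg : gᵀ * G * g = G) (u v : Fin n → F) :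
    gramForm G (g *ᵥ u) (g *ᵥ v) = gramForm G u v := by
  rw [gramForm_mulVec_eq, hg]

theorem gramForm_flip (G : Matrix (Fin n) (Fin n) F) (u v : Fin n → F) :
    gramForm G u v = gramForm Gᵀ v u := by
  unfold gramForm
  rw [Matrix.dotProduct_mulVec, dotProduct_comm, Matrix.mulVec_transpose]

theorem gramForm_bilinear (G : Matrix (Fin n) (Fin n) F) : IsBilinearForm (gramForm G) where
  add_left x y v := by unfold gramForm; rw [add_dotProduct]
  smul_left c x v := by unfold gramForm; rw [smul_dotProduct, smul_eq_mul]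
  add_right v x y := by unfold gramForm; rw [Matrix.mulVec_add, dotProduct_add]
  smul_right c v x := by unfold gramForm; rw [Matrix.mulVec_smul, dotProduct_smul, smul_eq_mul]

theorem gramForm_left_ne (G : GL (Fin n) F) (v : Fin n → F) (hv : v ≠ 0) :
    ∃ x, gramForm (G : Matrix (Fin n) (Fin n) F) x v ≠ 0 := by
  have hGv : (G : Matrix (Fin n) (Fin n) F) *ᵥ v ≠ 0 := by
    intro h0
    apply hv
    have := congrArg (fun w => ((G⁻¹ : GL (Fin n) F) : Matrix (Fin n) (Fin n) F) *ᵥ w) h0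
    simpa [Matrix.mulVec_mulVec] using this
  obtain ⟨i, hi⟩ : ∃ i, ((G : Matrix (Fin n) (Fin n) F) *ᵥ v) i ≠ 0 := by
    by_contra hcon
    push Not at hcon
    exact hGv (funext hcon)
  refine ⟨Pi.single i 1, ?_⟩
  unfold gramForm
  rw [single_one_dotProduct]
  exact hi

/-- **FORM-B2** symmetric invertible Gram matrix, `2 ≠ 0`: `v ↦ vᵀ G v` is a non-degenerate quadratic form -/
theorem isNondegenerateQuadraticForm_gram (h2 : (2 : F) ≠ 0) (G : GL (Fin n) F)
    (hs : (G : Matrix (Fin n) (Fin n) F)ᵀ = (G : Matrix (Fin n) (Fin n) F)) :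
    IsNondegenerateQuadraticForm (fun v : Fin n → F => gramForm (G : Matrix (Fin n) (Fin n) F) v v) := by
  have hb := gramForm_bilinear (G : Matrix (Fin n) (Fin n) F)
  have hsym : ∀ u v, gramForm (G : Matrix (Fin n) (Fin n) F) u v = gramForm (G : Matrix (Fin n) (Fin n) F) v u := by
    intro u v
    rw [gramForm_flip, hs]
  have hpolar : ∀ u v, QuadraticMap.polar (fun v : Fin n → F => gramForm (G : Matrix (Fin n) (Fin n) F) v v) u v
      = 2 * gramForm (G : Matrix (Fin n) (Fin n) F) u v := by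
    intro u v
    show gramForm (G : Matrix (Fin n) (Fin n) F) (u + v) (u + v) - gramForm (G : Matrix (Fin n) (Fin n) F) u u
      - gramForm (G : Matrix (Fin n) (Fin n) F) v v = 2 * gramForm (G : Matrix (Fin n) (Fin n) F) u v
    rw [hb.add_left, hb.add_right, hb.add_right, hsym v u]
    ring
  refine ⟨?_, ?_, ?_⟩
  · intro c v
    show gramForm (G : Matrix (Fin n) (Fin n) F) (c • v) (c • v) = c ^ 2 * gramForm (G : Matrix (Fin n) (Fin n) F) v v
    rw [hb.smul_left, hb.smul_right]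
    ring
  · refine ⟨?_, ?_, ?_, ?_⟩
    · intro x y v; rw [hpolar, hpolar, hpolar, hb.add_left]; ring
    · intro c x v; rw [hpolar, hpolar, hb.smul_left]; ring
    · intro v x y; rw [hpolar, hpolar, hpolar, hb.add_right]; ring
    · intro c v x; rw [hpolar, hpolar, hb.smul_right]; ring
  · intro v hv
    obtain ⟨x, hx⟩ := gramForm_left_ne G v hv
    refine ⟨⟨x, ?_⟩, ⟨x, ?_⟩⟩
    · rw [hpolar]; exact mul_ne_zero h2 hx
    · rw [hpolar, hsym]; exact mul_ne_zero h2 hx

/-- **FORM-B3** skew-symmetric invertible Gram matrix, `2 ≠ 0`: `(u,v) ↦ uᵀ G v` is a symplectic form -/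
theorem isSymplecticForm_gram (h2 : (2 : F) ≠ 0) (G : GL (Fin n) F)
    (hs : (G : Matrix (Fin n) (Fin n) F)ᵀ = - (G : Matrix (Fin n) (Fin n) F)) :
    IsSymplecticForm (gramForm (G : Matrix (Fin n) (Fin n) F)) := by
  have hskew : ∀ u v, gramForm (G : Matrix (Fin n) (Fin n) F) u v = - gramForm (G : Matrix (Fin n) (Fin n) F) v u := by
    intro u v
    rw [gramForm_flip, hs]
    unfold gramForm
    rw [Matrix.neg_mulVec, dotProduct_neg]
  refine ⟨gramForm_bilinear _, hskew, ?_, ?_⟩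
  · intro v
    have h := hskew v v
    have h3 : (2 : F) * gramForm (G : Matrix (Fin n) (Fin n) F) v v = 0 := by
      rw [two_mul]
      nth_rewrite 1 [h]
      exact neg_add_cancel _
    exact (mul_eq_zero.mp h3).resolve_left h2
  · intro v hv
    obtain ⟨x, hx⟩ := gramForm_left_ne G v hv
    refine ⟨⟨x, hx⟩, ⟨x, ?_⟩⟩
    rw [hskew]
    exact neg_ne_zero.mpr hx

/-- if `G` (invertible) and `G'` are both invariant under `R`, then `G⁻¹ G'` commutes with `R` -/
theorem comm_of_invariant (R : Subgroup (GL (Fin n) F)) (G : GL (Fin n) F) (G' : Matrix (Fin n) (Fin n) F)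
    (hG : ∀ g ∈ R, (g : Matrix (Fin n) (Fin n) F)ᵀ * (G : Matrix (Fin n) (Fin n) F) * (g : Matrix (Fin n) (Fin n) F)
      = (G : Matrix (Fin n) (Fin n) F))
    (hG' : ∀ g ∈ R, (g : Matrix (Fin n) (Fin n) F)ᵀ * G' * (g : Matrix (Fin n) (Fin n) F) = G') :
    ∀ g ∈ R, (((G⁻¹ : GL (Fin n) F) : Matrix (Fin n) (Fin n) F) * G') * (g : Matrix (Fin n) (Fin n) F)
      = (g : Matrix (Fin n) (Fin n) F) * (((G⁻¹ : GL (Fin n) F) : Matrix (Fin n) (Fin n) F) * G') := by
  have key : ∀ K : Matrix (Fin n) (Fin n) F,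
      (∀ x ∈ R, (x : Matrix (Fin n) (Fin n) F)ᵀ * K * (x : Matrix (Fin n) (Fin n) F) = K) →
      ∀ x ∈ R, ((x⁻¹ : GL (Fin n) F) : Matrix (Fin n) (Fin n) F)ᵀ * K = K * (x : Matrix (Fin n) (Fin n) F) := by
    intro K hK x hx
    have h1 := hK x⁻¹ (R.inv_mem hx)
    calc ((x⁻¹ : GL (Fin n) F) : Matrix (Fin n) (Fin n) F)ᵀ * K
        = ((x⁻¹ : GL (Fin n) F) : Matrix (Fin n) (Fin n) F)ᵀ * K *
            (((x⁻¹ : GL (Fin n) F) : Matrix (Fin n) (Fin n) F) * (x : Matrix (Fin n) (Fin n) F)) := by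
          rw [← Units.val_mul, inv_mul_cancel, Units.val_one, mul_one]
      _ = (((x⁻¹ : GL (Fin n) F) : Matrix (Fin n) (Fin n) F)ᵀ * K *
            ((x⁻¹ : GL (Fin n) F) : Matrix (Fin n) (Fin n) F)) * (x : Matrix (Fin n) (Fin n) F) := by
          simp only [mul_assoc]
      _ = K * (x : Matrix (Fin n) (Fin n) F) := by rw [h1]
  intro g hg
  set M : Matrix (Fin n) (Fin n) F := ((G⁻¹ : GL (Fin n) F) : Matrix (Fin n) (Fin n) F) * G' with hM
  have hGM : (G : Matrix (Fin n) (Fin n) F) * M = G' := by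
    rw [hM, ← mul_assoc, ← Units.val_mul, mul_inv_cancel, Units.val_one, one_mul]
  have k1 := key _ hG g hg
  have k2 := key _ hG' g hg
  have : (G : Matrix (Fin n) (Fin n) F) * (M * (g : Matrix (Fin n) (Fin n) F))
      = (G : Matrix (Fin n) (Fin n) F) * ((g : Matrix (Fin n) (Fin n) F) * M) := by
    rw [← mul_assoc, hGM, ← k2, ← hGM, ← mul_assoc, k1, mul_assoc]
  have h2 : ((G⁻¹ : GL (Fin n) F) : Matrix (Fin n) (Fin n) F) *
      ((G : Matrix (Fin n) (Fin n) F) * (M * (g : Matrix (Fin n) (Fin n) F)))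
      = ((G⁻¹ : GL (Fin n) F) : Matrix (Fin n) (Fin n) F) *
      ((G : Matrix (Fin n) (Fin n) F) * ((g : Matrix (Fin n) (Fin n) F) * M)) := by rw [this]
  rw [← mul_assoc, ← mul_assoc _ _ ((g : Matrix (Fin n) (Fin n) F) * M), Units.inv_mul, one_mul, one_mul] at h2
  exact h2

/-- **FORM-B1** an invertible Gram matrix fixed by an absolutely irreducible group is symmetric or skew-symmetric -/
theorem transpose_eq_or_eq_neg (R : Subgroup (GL (Fin n) F)) (hR : AbsIrr R) (G : GL (Fin n) F)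
    (hG : ∀ g ∈ R, (g : Matrix (Fin n) (Fin n) F)ᵀ * (G : Matrix (Fin n) (Fin n) F) * (g : Matrix (Fin n) (Fin n) F)
      = (G : Matrix (Fin n) (Fin n) F)) :
    (G : Matrix (Fin n) (Fin n) F)ᵀ = (G : Matrix (Fin n) (Fin n) F) ∨
      (G : Matrix (Fin n) (Fin n) F)ᵀ = - (G : Matrix (Fin n) (Fin n) F) := by
  have hG' : ∀ g ∈ R, (g : Matrix (Fin n) (Fin n) F)ᵀ * (G : Matrix (Fin n) (Fin n) F)ᵀ *
      (g : Matrix (Fin n) (Fin n) F) = (G : Matrix (Fin n) (Fin n) F)ᵀ := by
    intro g hg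
    have := congrArg Matrix.transpose (hG g hg)
    rw [Matrix.transpose_mul, Matrix.transpose_mul, Matrix.transpose_transpose, ← mul_assoc] at this
    exact this
  have hcomm := comm_of_invariant R G _ hG hG'
  obtain ⟨c, hc⟩ := hR.2 _ (by
    rintro s ⟨g, hg, rfl⟩
    exact hcomm g hg)
  have hT : (G : Matrix (Fin n) (Fin n) F)ᵀ = c • (G : Matrix (Fin n) (Fin n) F) := by
    have h1 : (G : Matrix (Fin n) (Fin n) F) * (((G⁻¹ : GL (Fin n) F) : Matrix (Fin n) (Fin n) F) *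
        (G : Matrix (Fin n) (Fin n) F)ᵀ) = (G : Matrix (Fin n) (Fin n) F)ᵀ := by
      rw [← mul_assoc, ← Units.val_mul, mul_inv_cancel, Units.val_one, one_mul]
    rw [hc, Matrix.mul_smul, mul_one] at h1
    exact h1.symm
  have hcc : (c * c) • (G : Matrix (Fin n) (Fin n) F) = (G : Matrix (Fin n) (Fin n) F) := by
    have h1 := congrArg Matrix.transpose hT
    rw [Matrix.transpose_transpose, Matrix.transpose_smul, hT, smul_smul] at h1
    exact h1.symm
  by_cases h0 : (G : Matrix (Fin n) (Fin n) F) = 0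
  · left
    rw [h0, Matrix.transpose_zero]
  · have h1 : (c * c - 1) • (G : Matrix (Fin n) (Fin n) F) = 0 := by
      rw [sub_smul, hcc, one_smul, sub_self]
    have h2 : c * c - 1 = 0 := (smul_eq_zero.mp h1).resolve_right h0
    have h3 : (c - 1) * (c + 1) = 0 := by ring_nf; ring_nf at h2; exact h2
    rcases mul_eq_zero.mp h3 with h | h
    · left
      rw [hT, sub_eq_zero.mp h, one_smul]
    · right
      rw [hT, eq_neg_of_add_eq_zero_left h, neg_smul, one_smul]

/-- **FORM-B5** (Skolem-Noether) a linear extension `τ` of `g ↦ g⁻¹` from an absolutely irreducible group gives an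
invariant invertible Gram matrix -/
theorem exists_gram_of_tau (R : Subgroup (GL (Fin n) F)) (hR : AbsIrr R)
    (τ : Matrix (Fin n) (Fin n) F →ₗ[F] Matrix (Fin n) (Fin n) F)
    (hτ : ∀ g ∈ R, τ (g : Matrix (Fin n) (Fin n) F) = ((g⁻¹ : GL (Fin n) F) : Matrix (Fin n) (Fin n) F)) :
    ∃ G : GL (Fin n) F, ∀ g ∈ R, (g : Matrix (Fin n) (Fin n) F)ᵀ * (G : Matrix (Fin n) (Fin n) F) *
      (g : Matrix (Fin n) (Fin n) F) = (G : Matrix (Fin n) (Fin n) F) := by
  -- step 1: `τ (X g) = τ g * τ X` for `g ∈ R`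
  have h1 : ∀ g ∈ R, ∀ X, τ (X * (g : Matrix (Fin n) (Fin n) F)) = τ (g : Matrix (Fin n) (Fin n) F) * τ X := by
    intro g hg
    have := Cfsg.Agent.Lib.Helper12.AschG1.linearMap_ext_of_absIrred R hR
      (τ.comp (LinearMap.mulRight F (g : Matrix (Fin n) (Fin n) F)))
      ((LinearMap.mulLeft F (τ (g : Matrix (Fin n) (Fin n) F))).comp τ) (by
        intro x hx
        simp only [LinearMap.comp_apply, LinearMap.mulRight_apply, LinearMap.mulLeft_apply]
        rw [← Units.val_mul, hτ _ (R.mul_mem hx hg), hτ g hg, hτ x hx, _root_.mul_inv_rev, Units.val_mul])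
    intro X
    have h := congrArg (fun f => f X) this
    simpa using h
  -- step 2: `τ (X Y) = τ Y * τ X`
  have h2 : ∀ X Y, τ (X * Y) = τ Y * τ X := by
    intro X
    have := Cfsg.Agent.Lib.Helper12.AschG1.linearMap_ext_of_absIrred R hR
      (τ.comp (LinearMap.mulLeft F X))
      ((LinearMap.mulRight F (τ X)).comp τ) (by
        intro g hg
        simp only [LinearMap.comp_apply, LinearMap.mulRight_apply, LinearMap.mulLeft_apply]
        exact h1 g hg X)
    intro Y
    have h := congrArg (fun f => f Y) this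
    simpa using h
  have hone : τ 1 = 1 := by
    have := hτ 1 R.one_mem
    simpa using this
  let L : Matrix (Fin n) (Fin n) F →ₗ[F] Matrix (Fin n) (Fin n) F :=
    (Matrix.transposeLinearEquiv (Fin n) (Fin n) F F).toLinearMap.comp τ
  have hL : ∀ X, L X = (τ X)ᵀ := fun X => rfl
  let φ : Matrix (Fin n) (Fin n) F →ₐ[F] Matrix (Fin n) (Fin n) F :=
    AlgHom.ofLinearMap L (by rw [hL, hone, Matrix.transpose_one]) (by
      intro X Y
      rw [hL, hL, hL, h2, Matrix.transpose_mul])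
  obtain ⟨P, hP⟩ := Cfsg.Agent.Lib.Helper10.S5630CoreSN.inner_of_algHom φ
  refine ⟨P, fun g hg => ?_⟩
  have h3 : ((g⁻¹ : GL (Fin n) F) : Matrix (Fin n) (Fin n) F)ᵀ
      = (P : Matrix (Fin n) (Fin n) F) * (g : Matrix (Fin n) (Fin n) F) *
        ((P⁻¹ : GL (Fin n) F) : Matrix (Fin n) (Fin n) F) := by
    rw [← hP, ← hτ g hg]
    rfl
  have h4 : ((g⁻¹ : GL (Fin n) F) : Matrix (Fin n) (Fin n) F)ᵀ * (P : Matrix (Fin n) (Fin n) F)
      = (P : Matrix (Fin n) (Fin n) F) * (g : Matrix (Fin n) (Fin n) F) := by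
    rw [h3, mul_assoc, Units.inv_mul, mul_one]
  have h5 : (g : Matrix (Fin n) (Fin n) F)ᵀ * ((g⁻¹ : GL (Fin n) F) : Matrix (Fin n) (Fin n) F)ᵀ = 1 := by
    rw [← Matrix.transpose_mul, ← Units.val_mul, inv_mul_cancel, Units.val_one, Matrix.transpose_one]
  calc (g : Matrix (Fin n) (Fin n) F)ᵀ * (P : Matrix (Fin n) (Fin n) F) * (g : Matrix (Fin n) (Fin n) F)
      = (g : Matrix (Fin n) (Fin n) F)ᵀ * ((P : Matrix (Fin n) (Fin n) F) * (g : Matrix (Fin n) (Fin n) F)) := by
        rw [mul_assoc]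
    _ = (g : Matrix (Fin n) (Fin n) F)ᵀ * (((g⁻¹ : GL (Fin n) F) : Matrix (Fin n) (Fin n) F)ᵀ *
          (P : Matrix (Fin n) (Fin n) F)) := by rw [h4]
    _ = (P : Matrix (Fin n) (Fin n) F) := by rw [← mul_assoc, h5, one_mul]

/-! ### R-DVD -/

/-- general form of R-DVD / A10 -/
theorem dvd_of_class_two [Fintype F] (hn : 2 ≤ n) (R : Subgroup (GL (Fin n) F)) {r : ℕ} (hr : r.Prime)
    (habs : AbsIrr R) (hpow : ∀ x ∈ R, x ^ r ∈ scalars (Fin n) F)
    (hcomm : ∀ x ∈ R, ∀ y ∈ R, ⁅x, y⁆ ∈ scalars (Fin n) F) : r ∣ Fintype.card F - 1 := by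
  classical
  obtain ⟨x, hx, y, hy, hxy⟩ : ∃ x ∈ R, ∃ y ∈ R, x * y ≠ y * x := by
    by_contra hcon
    push Not at hcon
    exact Cfsg.Agent.Lib.Helper14.S5630Core.not_absIrr_of_comm hn R hcon habs
  have hc : ∀ g, ⁅y, x⁆ * g = g * ⁅y, x⁆ := fun g =>
    Cfsg.Agent.Lib.Helper14.S5630I6A.scalar_central (hcomm y hy x hx) g
  have h : y * x = ⁅y, x⁆ * x * y := by
    rw [commutatorElement_def]; group
  have hcr : ⁅y, x⁆ ^ r = 1 := by
    have h1 := Cfsg.Agent.Lib.Helper14.S5630I6A.pow_mul_of_comm hc h r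
    have h2 : y ^ r * x = x * y ^ r := Cfsg.Agent.Lib.Helper14.S5630I6A.scalar_central (hpow y hy) x
    rw [h2, mul_assoc] at h1
    have h3 : (1 : GL (Fin n) F) * (x * y ^ r) = ⁅y, x⁆ ^ r * (x * y ^ r) := by rw [one_mul]; exact h1
    exact (mul_right_cancel h3).symm
  obtain ⟨u, hu⟩ := hcomm y hy x hx
  have : Nonempty (Fin n) := ⟨⟨0, by omega⟩⟩
  have hinj : Function.Injective (Units.map (Matrix.scalar (Fin n) : F →+* Matrix (Fin n) (Fin n) F).toMonoidHom) := by
    apply Units.map_injective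
    intro a b hab
    exact Matrix.scalar_inj.mp hab
  have hur : u ^ r = 1 := by
    apply hinj
    rw [map_pow, hu, hcr, map_one]
  have hu1 : u ≠ 1 := by
    intro h1
    apply hxy
    rw [h1, map_one] at hu
    rw [h, ← hu, one_mul]
  have hord : orderOf u = r := by
    have hd : orderOf u ∣ r := orderOf_dvd_of_pow_eq_one hur
    rcases (Nat.dvd_prime hr).mp hd with h1 | h1
    · exact absurd (orderOf_eq_one_iff.mp h1) hu1
    · exact h1
  have hcard : Fintype.card Fˣ = Fintype.card F - 1 := Fintype.card_units (α := F)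
  rw [← hord, ← hcard]
  exact orderOf_dvd_card

/-- **R-DVD** `R` is not commutative, so `F` has an element of order `r` -/
theorem r_dvd_card_sub_one [Fintype F] {H R : Subgroup (GL (Fin n) F)} {r : ℕ} (hn : 2 ≤ n)
    (hR : SympCore H R r) : r ∣ Fintype.card F - 1 :=
  dvd_of_class_two hn R hR.prime hR.absIrr hR.pow hR.comm

end Cfsg.Agent.Lib.Helper14.S5630I6B
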