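import Mathlib
import Cfsg.Prelude.Def_GeometricClasses
import Cfsg.Agent.Lib.Helper7.AschDefs
import Cfsg.Agent.Lib.Helper14.S5630CoreAB
import Cfsg.Agent.Lib.Helper17.AschODefs

/-!
# S5673 block O6 (helper14): the symplectic-type case does not occur for isometry groups in odd dimension
(exact signature of `c6_impossible` of `Lib/Helper17/AschOTop.lean`)
-/

set_option autoImplicit false

namespace Cfsg.Agent.Lib.Helper14.S5673O6

open Matrix Cfsg Cfsg.Geo Cfsg.Agent.Lib.Helper7.Asch Cfsg.Agent.Lib.Helper17.AschO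
open scoped commutatorElement Kronecker

variable {F : Type*} [Field F] {n : ℕ} {Q : (Fin n → F) → F}

/-- a non-degenerate quadratic form in positive dimension takes a non-zero value -/
theorem exists_ne_zero (hn : 0 < n) (hQ : IsNondegenerateQuadraticForm Q) : ∃ v, Q v ≠ 0 := by
  by_contra hcon
  push Not at hcon
  let v : Fin n → F := Pi.single ⟨0, hn⟩ 1
  have hv : v ≠ 0 := by
    intro h
    have := congrFun h ⟨0, hn⟩
    simp [v] at this
  obtain ⟨⟨x, hx⟩, -⟩ := hQ.nondegenerate v hv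
  apply hx
  unfold QuadraticMap.polar
  rw [hcon, hcon, hcon]
  simp

/-- a scalar isometry of a non-degenerate quadratic form has square one -/
theorem sq_eq_one_of_scalar_isometry (hn : 0 < n) (hQ : IsNondegenerateQuadraticForm Q) (g : GL (Fin n) F)
    (hg : g ∈ isometryGroup F Q) (c : F) (hc : (g : Matrix (Fin n) (Fin n) F) = c • (1 : Matrix (Fin n) (Fin n) F)) :
    c ^ 2 = 1 := by
  obtain ⟨v, hv⟩ := exists_ne_zero hn hQ
  have h1 : Q ((g : Matrix (Fin n) (Fin n) F) *ᵥ v) = Q v := hg v v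
  rw [hc, Matrix.smul_mulVec, Matrix.one_mulVec, hQ.smul] at h1
  have h2 : (c ^ 2 - 1) * Q v = 0 := by rw [sub_mul, h1, one_mul, sub_self]
  rcases mul_eq_zero.mp h2 with h | h
  · exact sub_eq_zero.mp h
  · exact absurd h hv

/-- a group of isometries in odd dimension whose commutators are scalar is commutative -/
theorem comm_of_commutator_scalar [Fintype F] (S : OSetup Q) (hn : 3 ≤ n) (N : Subgroup (GL (Fin n) F))
    (hNI : N ≤ isometryGroup F Q) (hcomm : ∀ x ∈ N, ∀ y ∈ N, ⁅x, y⁆ ∈ scalars (Fin n) F) :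
    ∀ x ∈ N, ∀ y ∈ N, x * y = y * x := by
  intro x hx y hy
  obtain ⟨c, hc⟩ := (mem_scalars_iff _).mp (hcomm x hx y hy)
  have hmemN : ⁅x, y⁆ ∈ N := by
    rw [commutatorElement_def]
    exact N.mul_mem (N.mul_mem (N.mul_mem hx hy) (N.inv_mem hx)) (N.inv_mem hy)
  have hI : ⁅x, y⁆ ∈ isometryGroup F Q := hNI hmemN
  have hsq : (c : F) ^ 2 = 1 := sq_eq_one_of_scalar_isometry (by omega) S.quad _ hI c hc
  have hdet : (Matrix.GeneralLinearGroup.det ⁅x, y⁆ : Fˣ) = 1 := by
    rw [commutatorElement_def]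
    simp only [map_mul, map_inv]
    rw [mul_comm (Matrix.GeneralLinearGroup.det x) (Matrix.GeneralLinearGroup.det y)]
    simp [mul_assoc]
  have hdet' : ((⁅x, y⁆ : GL (Fin n) F) : Matrix (Fin n) (Fin n) F).det = 1 := by
    have h3 : ((Matrix.GeneralLinearGroup.det ⁅x, y⁆ : Fˣ) : F) = 1 := by rw [hdet]; rfl
    rwa [Matrix.GeneralLinearGroup.val_det_apply] at h3
  rw [hc, Matrix.det_smul, Matrix.det_one, mul_one, Fintype.card_fin] at hdet'
  have hodd : Odd n := by simpa using S.odd_dim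
  obtain ⟨k, hk⟩ := hodd
  have hc1 : (c : F) = 1 := by
    rw [hk, pow_succ, pow_mul, hsq, one_pow, one_mul] at hdet'
    exact hdet'
  have hone : ⁅x, y⁆ = 1 := by
    apply Units.ext
    rw [hc, hc1, one_smul]
    rfl
  exact commutatorElement_eq_one_iff_mul_comm.mp hone

/-- **O6** the symplectic-type case does not occur in odd dimension -/
theorem c6_impossible [Fintype F] (S : OSetup Q) (hn : 3 ≤ n) (N : Subgroup (GL (Fin n) F))
    (hNI : N ≤ isometryGroup F Q) (hNabs : AbsIrr N)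
    (hcomm : ∀ x ∈ N, ∀ y ∈ N, ⁅x, y⁆ ∈ scalars (Fin n) F) : False :=
  Cfsg.Agent.Lib.Helper14.S5630Core.not_absIrr_of_comm (by omega) N
    (comm_of_commutator_scalar S hn N hNI hcomm) hNabs

end Cfsg.Agent.Lib.Helper14.S5673O6
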