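import Mathlib
import Cfsg.Prelude.Def_GeometricClasses
import Cfsg.Agent.Lib.Helper7.AschDefs
import Cfsg.Agent.Lib.Helper16.GeoTRDefs
import Cfsg.Agent.Lib.Helper19.GeoTRF
import Cfsg.Agent.Lib.Helper19.GeoTRW
import Cfsg.Agent.Lib.Helper19.GeoTRD
import Cfsg.Agent.Lib.Helper19.GeoTRS
import Cfsg.Agent.Lib.Helper19.GeoTRC
import Cfsg.Agent.Lib.Helper14.GeoTRK
import Cfsg.Agent.Lib.Helper14.GeoTRT
import Cfsg.Agent.Lib.Helper17.AschODefs

/-!
# S5673 block TR (helper14): transport of the orthogonal class predicate along a bijection of index types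
(exact signatures of `map_le_isometryGroup`, `OSetup.map`, `InClassO.map`, `residual_map` of `Lib/Helper17/AschOTop.lean`),
on helper16's generic `GeoTR` vocabulary (groups by helper19 and helper14).
-/

set_option autoImplicit false
set_option linter.unusedSectionVars false

namespace Cfsg.Agent.Lib.Helper14.S5673TR

open Matrix Cfsg Cfsg.Geo Cfsg.Agent.Lib.Helper7.Asch Cfsg.Agent.Lib.Helper17.AschO
open Cfsg.Agent.Lib.Helper16.GeoTR

variable {F : Type*} [Field F]

section orth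

variable {κ ι : Type} [Fintype κ] [DecidableEq κ] [Fintype ι] [DecidableEq ι]

/-! ## the orthogonal-only transports (`e : κ ≃ ι`, helper16's conventions) -/

theorem mem_isometryGroup_glReindex (e : κ ≃ ι) {Q : (κ → F) → F} {g : GL κ F} (h : g ∈ isometryGroup F Q) :
    glReindex e g ∈ isometryGroup F (tq e Q) := by
  intro u _
  show tq e Q (((glReindex e g : GL ι F) : Matrix ι ι F) *ᵥ u) = tq e Q u
  rw [tq_apply, tq_apply, glReindex_mulVec_comp]
  exact h (u ∘ e) (u ∘ e)

theorem isTotallySingularQuad_tW (e : κ ≃ ι) {Q : (κ → F) → F} {W : Submodule F (κ → F)}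
    (h : IsTotallySingularQuad Q W) : IsTotallySingularQuad (tq e Q) (tW e W) := by
  intro w hw
  rw [tq_apply]
  exact h _ ((mem_tW e W w).1 hw)

theorem areIsometricFor_tW (e : κ ≃ ι) {Q : (κ → F) → F} {W W' : Submodule F (κ → F)}
    (h : AreIsometricFor Q W W') : AreIsometricFor (tq e Q) (tW e W) (tW e W') := by
  obtain ⟨E, hE⟩ := h
  let A : W ≃ₗ[F] tW e W := LinearEquiv.submoduleMap (rv e) W
  let A' : W' ≃ₗ[F] tW e W' := LinearEquiv.submoduleMap (rv e) W'
  have hA : ∀ x : W, tq e Q ((A x : tW e W) : ι → F) = Q (x : κ → F) := by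
    intro x
    show Q ((rv e (x : κ → F)) ∘ e) = Q (x : κ → F)
    rw [rv_comp']
  have hA' : ∀ x : W', tq e Q ((A' x : tW e W') : ι → F) = Q (x : κ → F) := by
    intro x
    show Q ((rv e (x : κ → F)) ∘ e) = Q (x : κ → F)
    rw [rv_comp']
  refine ⟨A.symm.trans (E.trans A'), fun w => ?_⟩
  have hw : w = A (A.symm w) := (A.apply_symm_apply w).symm
  rw [LinearEquiv.trans_apply, LinearEquiv.trans_apply, hA', hE]
  conv_rhs => rw [hw]
  rw [hA]

theorem polar_tq_eq' (e : κ ≃ ι) (Q : (κ → F) → F) :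
    QuadraticMap.polar (tq e Q) = tf e (QuadraticMap.polar Q) := by
  funext u v
  exact Cfsg.Agent.Lib.Helper19.GeoTR.polar_tq e Q u v

theorem isOrthogonalMDecomposition_tW (e : κ ≃ ι) {Q : (κ → F) → F} {t k : ℕ} {D : Fin t → Submodule F (κ → F)}
    (h : IsOrthogonalMDecomposition Q k D) : IsOrthogonalMDecomposition (tq e Q) k (fun i => tW e (D i)) := by
  refine ⟨?_, fun i j => areIsometricFor_tW e (h.isometric i j)⟩
  rw [polar_tq_eq']
  exact Cfsg.Agent.Lib.Helper19.GeoTR.isNondegenerateMDecomposition_tW e h.decomp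

theorem isQuadFormRationalStructure_tq (e : κ ≃ ι) {Q : (κ → F) → F} (F₀ : Subfield F) (P : GL κ F)
    (h : IsQuadFormRationalStructure Q F₀ P) : IsQuadFormRationalStructure (tq e Q) F₀ (glReindex e P) := by
  intro u hu
  rw [tq_apply, glReindex_mulVec_comp]
  exact h (u ∘ e) (fun i => hu (e i))

theorem single_comp (e : κ ≃ ι) (i : ι) : (Pi.single i (1 : F) : ι → F) ∘ e = Pi.single (e.symm i) 1 := by
  ext x
  simp only [Function.comp_apply, Pi.single_apply]
  by_cases h : e x = i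
  · rw [if_pos h, if_pos (by rw [← h, Equiv.symm_apply_apply])]
  · rw [if_neg h, if_neg (fun h' => h (by rw [h', Equiv.apply_symm_apply]))]

theorem gramMatrix_polar_tq (e : κ ≃ ι) (Q : (κ → F) → F) (i j : ι) :
    gramMatrix (QuadraticMap.polar (tq e Q)) i j = gramMatrix (QuadraticMap.polar Q) (e.symm i) (e.symm j) := by
  unfold gramMatrix
  rw [Cfsg.Agent.Lib.Helper19.GeoTR.polar_tq, single_comp, single_comp]

end orth

/-! ## the four transport theorems of the skeleton (`e : ι ≃ κ`, helper17's conventions) -/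

section transport

variable [Fintype F] {ι κ : Type} [Fintype ι] [DecidableEq ι] [Fintype κ] [DecidableEq κ]

theorem reQ_eq_tq (e : ι ≃ κ) (Q : (ι → F) → F) : reQ e Q = tq e Q := rfl

/-- **TR-ISO** -/
theorem map_le_isometryGroup (e : ι ≃ κ) (Q : (ι → F) → F) (H : Subgroup (GL ι F))
    (hHI : H ≤ isometryGroup F Q) :
    H.map (glReindex e).toMonoidHom ≤ isometryGroup F (reQ e Q) := by
  rintro _ ⟨g, hg, rfl⟩
  exact mem_isometryGroup_glReindex e (hHI hg)

/-- **TR-SETUP** -/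
theorem OSetup.map (e : ι ≃ κ) {Q : (ι → F) → F} (S : OSetup Q) : OSetup (reQ e Q) := by
  refine ⟨S.odd_card, ?_, Cfsg.Agent.Lib.Helper19.GeoTR.isNondegenerateQuadraticForm_tq e S.quad, ?_⟩
  · rw [← Fintype.card_congr e]
    exact S.odd_dim
  · intro i j
    rw [reQ_eq_tq, gramMatrix_polar_tq]
    exact S.gram_prime _ _

theorem map_le_of (e : ι ≃ κ) {H X : Subgroup (GL ι F)} {X' : Subgroup (GL κ F)} (hHX : H ≤ X)
    (h : ∀ g ∈ X, glReindex e g ∈ X') : H.map (glReindex e).toMonoidHom ≤ X' := by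
  rintro _ ⟨g, hg, rfl⟩
  exact h g (hHX hg)

/-- **TR-CLASS** the class predicate is natural in the index type -/
theorem InClassO.map (e : ι ≃ κ) (N : ℕ) {Q : (ι → F) → F} {H : Subgroup (GL ι F)} (h : InClassO N Q H) :
    InClassO N (reQ e Q) (H.map (glReindex e).toMonoidHom) := by
  obtain ⟨M, hM, hHM⟩ := h
  have hpol : QuadraticMap.polar (reQ e Q) = tf e (QuadraticMap.polar Q) := polar_tq_eq' e Q
  unfold InOClass at hM
  rcases hM with ⟨W, hW, hs, rfl⟩ | ⟨W, hW, hW', hnd, rfl⟩ | ⟨t, k, D, hk, hD, rfl⟩ | ⟨t, D, hq, hD, rfl⟩ |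
    ⟨r, K, hr, hNr, hK, hsa, rfl⟩ | ⟨n₁, n₂, e₁, P, f₁, f₂, h1, h2, hf₁, hf₂, hT, rfl⟩ |
    ⟨F₀, r, P, hr, hc, hrat, rfl⟩ | ⟨k, t, e₁, P, f₁, hk, ht, h33, hf₁, hT, rfl⟩
  · exact InClassO.of_singular _ (map_le_isometryGroup e Q H (hHM.trans inf_le_right)) (tW e W)
      (Cfsg.Agent.Lib.Helper19.GeoTR.tW_ne_bot e hW) (isTotallySingularQuad_tW e hs)
      (map_le_of e (hHM.trans inf_le_left) fun g hg => Cfsg.Agent.Lib.Helper19.GeoTR.mem_subspaceStabilizer_tW e hg)
  · refine InClassO.of_nondeg _ (map_le_isometryGroup e Q H (hHM.trans inf_le_right)) (tW e W)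
      (Cfsg.Agent.Lib.Helper19.GeoTR.tW_ne_bot e hW) (Cfsg.Agent.Lib.Helper19.GeoTR.tW_ne_top e hW') ?_
      (map_le_of e (hHM.trans inf_le_left) fun g hg => Cfsg.Agent.Lib.Helper19.GeoTR.mem_subspaceStabilizer_tW e hg)
    rw [hpol]
    exact Cfsg.Agent.Lib.Helper19.GeoTR.isNondegenerateOn_tW e hnd
  · exact InClassO.of_decomposition _ (map_le_isometryGroup e Q H (hHM.trans inf_le_right)) k
      (fun i => tW e (D i)) hk (isOrthogonalMDecomposition_tW e hD)
      (map_le_of e (hHM.trans inf_le_left) fun g hg =>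
        Cfsg.Agent.Lib.Helper19.GeoTR.mem_decompositionStabilizer_tW e hg)
  · exact InClassO.of_frame _ (map_le_isometryGroup e Q H (hHM.trans inf_le_right))
      (fun i => tW e (D i)) hq (isOrthogonalMDecomposition_tW e hD)
      (map_le_of e (hHM.trans inf_le_left) fun g hg =>
        Cfsg.Agent.Lib.Helper19.GeoTR.mem_decompositionStabilizer_tW e hg)
  · refine InClassO.of_field _ (map_le_isometryGroup e Q H (hHM.trans inf_le_right)) r (tK e K) hr hNr
      (Cfsg.Agent.Lib.Helper14.GeoTR.isFieldSubalgebra_tK e r K hK) ?_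
      (map_le_of e (hHM.trans inf_le_left) fun g hg =>
        Cfsg.Agent.Lib.Helper14.GeoTR.mem_subalgebraNormalizer_tK e K hg)
    rw [hpol]
    exact Cfsg.Agent.Lib.Helper14.GeoTR.isSelfAdjointFor_tK e K hsa
  · refine InClassO.of_tensor _ (map_le_isometryGroup e Q H (hHM.trans inf_le_right)) n₁ n₂ (e.symm.trans e₁)
      (glReindex e P) f₁ f₂ h1 h2 hf₁ hf₂ ?_
      (map_le_of e (hHM.trans inf_le_left) fun g hg =>
        Cfsg.Agent.Lib.Helper14.GeoTR.mem_tensorProductSubgroup_glReindex e n₁ n₂ e₁ P hg)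
    rw [hpol]
    exact Cfsg.Agent.Lib.Helper14.GeoTR.isTensorFormStructure_tf e id f₁ f₂ e₁ P hT
  · exact InClassO.of_subfield _ (map_le_isometryGroup e Q H (hHM.trans inf_le_right)) F₀ r (glReindex e P) hr hc
      (isQuadFormRationalStructure_tq e F₀ P hrat)
      (map_le_of e (hHM.trans inf_le_left) fun g hg =>
        Cfsg.Agent.Lib.Helper19.GeoTR.mem_subfieldSubgroup_glReindex e F₀ P hg)
  · refine InClassO.of_tensorWreath _ (map_le_isometryGroup e Q H (hHM.trans inf_le_right)) k t (e.symm.trans e₁)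
      (glReindex e P) f₁ hk ht h33 hf₁ ?_
      (map_le_of e (hHM.trans inf_le_left) fun g hg =>
        Cfsg.Agent.Lib.Helper14.GeoTR.mem_tensorWreathSubgroup_glReindex e k t e₁ P hg)
    rw [hpol]
    exact Cfsg.Agent.Lib.Helper14.GeoTR.isTensorPowerFormStructure_tf e id f₁ e₁ P hT

/-- **TR-RES** the residual class is natural in the index type -/
theorem residual_map (e : ι ≃ κ) {H : Subgroup (GL ι F)} (h : InOrthogonalResidualClass H) :
    InOrthogonalResidualClass (H.map (glReindex e).toMonoidHom) := by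
  obtain ⟨P, hcore, hnu⟩ := h
  refine ⟨P.map (glReindex e).toMonoidHom, Cfsg.Agent.Lib.Helper19.GeoTR.isResidualCore_map e H P hcore, ?_⟩
  rintro ⟨σ, u, hu, hfix⟩
  apply hnu
  refine ⟨σ, tf e.symm u, Cfsg.Agent.Lib.Helper19.GeoTR.isUnitaryForm_tf e.symm σ hu, ?_⟩
  have := Cfsg.Agent.Lib.Helper19.GeoTR.fixesForm_map e.symm (P.map (glReindex (F := F) e).toMonoidHom) hfix
  rwa [map_map_symm] at this

end transport

end Cfsg.Agent.Lib.Helper14.S5673TR
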