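import Mathlib
import Cfsg.Prelude.Def_GeometricClasses
import Cfsg.Agent.Lib.Helper7.AschDefs
import Cfsg.Agent.Lib.Helper17.AschODefs

/-!
# S5673 piece TR-STD (helper14): the standard form `quadFormOdd m F` satisfies the standing hypotheses `OSetup`
(exact signature of `oSetup_quadFormOdd` of `Lib/Helper17/AschOTop.lean`)
-/

set_option autoImplicit false
set_option linter.unusedSimpArgs false

namespace Cfsg.Agent.Lib.Helper14.S5673TRSTD

open Matrix Cfsg Cfsg.Geo Cfsg.Agent.Lib.Helper7.Asch Cfsg.Agent.Lib.Helper17.AschO

variable {F : Type*} [Field F]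

/-- the polar form of the standard odd-dimensional quadratic form -/
theorem polar_quadFormOdd (m : ℕ) (x y : Unit ⊕ (Fin m ⊕ Fin m) → F) :
    QuadraticMap.polar (quadFormOdd m F) x y = 2 * (x (Sum.inl ()) * y (Sum.inl ())) +
      ∑ i : Fin m, (x (Sum.inr (Sum.inl i)) * y (Sum.inr (Sum.inr i)) +
        y (Sum.inr (Sum.inl i)) * x (Sum.inr (Sum.inr i))) := by
  unfold QuadraticMap.polar quadFormOdd
  have h1 : ∀ (A B C a b c : F), A + a - (B + b) - (C + c) = (A - B - C) + (a - b - c) := by
    intro A B C a b c
    ring
  rw [h1, ← Finset.sum_sub_distrib, ← Finset.sum_sub_distrib]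
  congr 1
  · simp only [Pi.add_apply]
    ring
  · apply Finset.sum_congr rfl
    intro i _
    simp only [Pi.add_apply]
    ring

theorem polar_quadFormOdd_comm (m : ℕ) (x y : Unit ⊕ (Fin m ⊕ Fin m) → F) :
    QuadraticMap.polar (quadFormOdd m F) x y = QuadraticMap.polar (quadFormOdd m F) y x :=
  QuadraticMap.polar_comm _ x y

theorem isBilinearForm_polar_quadFormOdd (m : ℕ) : IsBilinearForm (QuadraticMap.polar (quadFormOdd m F)) := by
  have hadd : ∀ x y v : Unit ⊕ (Fin m ⊕ Fin m) → F, QuadraticMap.polar (quadFormOdd m F) (x + y) v =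
      QuadraticMap.polar (quadFormOdd m F) x v + QuadraticMap.polar (quadFormOdd m F) y v := by
    intro x y v
    rw [polar_quadFormOdd, polar_quadFormOdd, polar_quadFormOdd, add_add_add_comm, ← Finset.sum_add_distrib]
    congr 1
    · simp only [Pi.add_apply]
      ring
    · apply Finset.sum_congr rfl
      intro i _
      simp only [Pi.add_apply]
      ring
  have hsmul : ∀ (c : F) (x v : Unit ⊕ (Fin m ⊕ Fin m) → F), QuadraticMap.polar (quadFormOdd m F) (c • x) v =
      c * QuadraticMap.polar (quadFormOdd m F) x v := by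
    intro c x v
    rw [polar_quadFormOdd, polar_quadFormOdd, mul_add, Finset.mul_sum]
    congr 1
    · simp only [Pi.smul_apply, smul_eq_mul]
      ring
    · apply Finset.sum_congr rfl
      intro i _
      simp only [Pi.smul_apply, smul_eq_mul]
      ring
  refine ⟨hadd, hsmul, ?_, ?_⟩
  · intro v x y
    rw [polar_quadFormOdd_comm, hadd, polar_quadFormOdd_comm m x v, polar_quadFormOdd_comm m y v]
  · intro c v x
    rw [polar_quadFormOdd_comm, hsmul, polar_quadFormOdd_comm m x v]

theorem eq_zero_of_polar_quadFormOdd (h2 : (2 : F) ≠ 0) (m : ℕ) (x : Unit ⊕ (Fin m ⊕ Fin m) → F)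
    (hx : ∀ y, QuadraticMap.polar (quadFormOdd m F) x y = 0) : x = 0 := by
  classical
  funext j
  rcases j with ⟨⟩ | i | i
  · have := hx (Pi.single (Sum.inl ()) 1)
    rw [polar_quadFormOdd] at this
    simp only [Pi.single_apply, reduceCtorEq, if_false, mul_zero, zero_mul, add_zero,
      Finset.sum_const_zero, if_true, mul_one] at this
    rcases mul_eq_zero.1 this with h | h
    · exact absurd h h2
    · exact h
  · have := hx (Pi.single (Sum.inr (Sum.inr i)) 1)
    rw [polar_quadFormOdd] at this
    simpa [Pi.single_apply] using this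
  · have := hx (Pi.single (Sum.inr (Sum.inl i)) 1)
    rw [polar_quadFormOdd] at this
    simpa [Pi.single_apply] using this

theorem isNondegenerateQuadraticForm_quadFormOdd (h2 : (2 : F) ≠ 0) (m : ℕ) :
    IsNondegenerateQuadraticForm (quadFormOdd m F) := by
  refine ⟨?_, isBilinearForm_polar_quadFormOdd m, ?_⟩
  · intro c v
    unfold quadFormOdd
    rw [mul_add, Finset.mul_sum]
    congr 1
    · simp only [Pi.smul_apply, smul_eq_mul]
      ring
    · apply Finset.sum_congr rfl
      intro i _
      simp only [Pi.smul_apply, smul_eq_mul]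
      ring
  · intro v hv
    have hex : ∃ x, QuadraticMap.polar (quadFormOdd m F) v x ≠ 0 := by
      by_contra hcon
      push Not at hcon
      exact hv (eq_zero_of_polar_quadFormOdd h2 m v hcon)
    obtain ⟨x, hx⟩ := hex
    exact ⟨⟨x, by rwa [polar_quadFormOdd_comm]⟩, ⟨x, hx⟩⟩

/-- the Gram matrix of the standard form has entries `0`, `1`, `2` -/
theorem gram_quadFormOdd (m : ℕ) (i j : Unit ⊕ (Fin m ⊕ Fin m)) :
    gramMatrix (QuadraticMap.polar (quadFormOdd m F)) i j = 2 ∨
      gramMatrix (QuadraticMap.polar (quadFormOdd m F)) i j = 1 ∨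
      gramMatrix (QuadraticMap.polar (quadFormOdd m F)) i j = 0 := by
  classical
  unfold gramMatrix
  rw [polar_quadFormOdd]
  rcases i with ⟨⟩ | a | a <;> rcases j with ⟨⟩ | b | b
  · left
    simp [Pi.single_apply]
  · right; right
    simp [Pi.single_apply]
  · right; right
    simp [Pi.single_apply]
  · right; right
    simp [Pi.single_apply]
  · right; right
    simp [Pi.single_apply]
  · by_cases hab : a = b
    · right; left
      subst hab
      simp [Pi.single_apply]
    · right; right
      have hba : ¬ b = a := fun h => hab h.symm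
      simp [Pi.single_apply, hab, hba]
  · right; right
    simp [Pi.single_apply]
  · by_cases hab : a = b
    · right; left
      subst hab
      simp [Pi.single_apply]
    · right; right
      have hba : ¬ b = a := fun h => hab h.symm
      simp [Pi.single_apply, hab, hba]
  · right; right
    simp [Pi.single_apply]

theorem two_ne_zero_of_odd_card [Fintype F] (hodd : Odd (Fintype.card F)) : (2 : F) ≠ 0 := by
  intro h2
  have hchar : ringChar F = 2 := by
    have hdvd : ringChar F ∣ 2 := by
      have := (ringChar.spec F 2).1 (by exact_mod_cast h2)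
      exact this
    rcases (Nat.dvd_prime Nat.prime_two).1 hdvd with h | h
    · exact absurd h (CharP.ringChar_ne_one)
    · exact h
  have heven : Even (Fintype.card F) := by
    exact Nat.even_iff.2 (FiniteField.even_card_iff_char_two.1 hchar)
  exact (Nat.not_even_iff_odd.2 hodd) heven

/-- **TR-STD** the standard form satisfies the standing hypotheses -/
theorem oSetup_quadFormOdd [Fintype F] (hodd : Odd (Fintype.card F)) (m : ℕ) : OSetup (quadFormOdd m F) := by
  refine ⟨hodd, ?_, isNondegenerateQuadraticForm_quadFormOdd (two_ne_zero_of_odd_card hodd) m, ?_⟩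
  · rw [Fintype.card_sum, Fintype.card_sum, Fintype.card_fin, Fintype.card_unit]
    exact ⟨m, by ring⟩
  · intro i j
    rcases gram_quadFormOdd (F := F) m i j with h | h | h
    · rw [h]
      exact ofNat_mem _ 2
    · rw [h]
      exact one_mem _
    · rw [h]
      exact zero_mem _

end Cfsg.Agent.Lib.Helper14.S5673TRSTD
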