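import Mathlib
import Cfsg.Agent.Lib.Helper9.OExtDefs
import Cfsg.Agent.Lib.Helper7.SpExtBas
import Cfsg.Agent.Lib.Helper21.S5664FOBASb
import Cfsg.Agent.Lib.Helper26.S5701FOBAS
import Cfsg.Agent.Lib.Helper15.S5701FOF0

/-!
Piece FO-E0 of the S5701 farm-out (architect helper9): `configA_symm` and `exists_mixed_sieg`.
-/

set_option autoImplicit false

namespace Cfsg.Agent.Lib.Helper14.S5701E0

open Matrix Module QuadraticMap Cfsg.Agent.Lib.Helper7.SpExt Cfsg.Agent.Lib.Helper9.OExt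
  Cfsg.Agent.Lib.Helper6 Cfsg.Agent.Lib.Helper13 Cfsg.Agent.Lib.Helper26.S5701BAS
  Cfsg.Agent.Lib.Helper21.S5664BASb Cfsg.Agent.Lib.Helper15.S5701F0

variable {F : Type*} [Field F] [Fintype F] {L : Type*} [Field L] [Algebra F L] {ι : Type} [Fintype ι]
  [DecidableEq ι] {ρ : L →ₐ[F] Matrix ι ι F} {Q : QuadraticForm F (ι → F)} {τ : L →ₗ[F] F}
  {B : (ι → F) →ₗ[F] (ι → F) →ₗ[F] L} {r : ℕ}

theorem Img_inv_Img (g : GL ι F) (v : ι → F) :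
    (Img ρ g v).map (actL g⁻¹) = pt ρ v := by
  ext x
  constructor
  · rintro ⟨y, ⟨z, hz, rfl⟩, rfl⟩
    simpa using hz
  · intro hx
    exact ⟨act g x, ⟨x, hx, rfl⟩, by simp⟩

theorem configA_symm (S : OStr ρ Q τ B) (H : Subgroup (GL ι F))
    (hH : H ≤ Cfsg.isometryGroup F ⇑Q) {v₁ v₀ : ι → F} {g₀ : GL ι F}
    (hc : ConfigA ρ Q B H r v₁ v₀ g₀) : ConfigA ρ Q B H r v₀ v₁ g₀⁻¹ := by
  obtain ⟨hg, h1, h0, hfr, hperp⟩ := hc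
  have hginv : g₀⁻¹ ∈ H := H.inv_mem hg
  refine ⟨hginv, h0, h1, ?_, ?_⟩
  · have hmap : (pt ρ v₁ ⊓ Img ρ g₀ v₀).map (actL g₀⁻¹) = pt ρ v₀ ⊓ Img ρ g₀⁻¹ v₁ := by
      rw [Submodule.map_inf _ (actL_injective g₀⁻¹), Img_inv_Img, inf_comm]
      rfl
    rw [← hmap, ← hfr]
    congr 1
    exact (Submodule.equivMapOfInjective (actL g₀⁻¹) (actL_injective g₀⁻¹) _).finrank_eq.symm
  · intro x hx y hy
    obtain ⟨y', hy', rfl⟩ := hy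
    have hgx : act g₀ x ∈ Img ρ g₀ v₀ := ⟨x, hx, rfl⟩
    have := hperp y' hy' (act g₀ x) hgx
    rw [polar_comm] at this
    rw [← this, ← polar_act (hH hginv) (act g₀ x) y']
    simp

theorem exists_mixed_sieg (S : OStr ρ Q τ B) (hr : r.Prime) (hrk : finrank F L = r)
    (H : Subgroup (GL ι F)) (hH : H ≤ Cfsg.isometryGroup F ⇑Q) (v₁ v₀ : ι → F) (g₀ : GL ι F)
    (hc : ConfigA ρ Q B H r v₁ v₀ g₀)
    (hZ0 : ∀ a b : L, SiegIn Q H (ρ a *ᵥ v₀) (ρ b *ᵥ v₀)) :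
    ∃ (d : L) (u : ι → F), d ≠ 0 ∧ B u (ρ d *ᵥ v₁) = 0 ∧ u ∉ pt ρ (ρ d *ᵥ v₁) ∧
      SiegIn Q H (ρ d *ᵥ v₁) u := by
  obtain ⟨hg, h1, h0, hfr, hperp⟩ := hc
  have hrpos : 0 < r := hr.pos
  -- a nonzero vector of the intersection
  have hDne : pt ρ v₁ ⊓ Img ρ g₀ v₀ ≠ ⊥ := by
    intro hbot
    rw [hbot, finrank_bot] at hfr
    have := hr.two_le
    omega
  obtain ⟨z, hzD, hz0⟩ := Submodule.exists_mem_ne_zero_of_ne_bot hDne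
  obtain ⟨hz1, hz2⟩ := hzD
  obtain ⟨d, hd⟩ := (mem_pt ρ v₁ z).mp hz1
  obtain ⟨a, ha⟩ := (mem_Img ρ g₀ v₀ z).mp hz2
  have hd0 : d ≠ 0 := by
    rintro rfl
    apply hz0
    rw [← hd, rho_zero_mulVec]
  -- a vector of `P'` outside `P₁`
  have hex : ∃ u ∈ Img ρ g₀ v₀, u ∉ pt ρ v₁ := by
    by_contra hcon
    push Not at hcon
    have hle : Img ρ g₀ v₀ ≤ pt ρ v₁ := hcon
    have heq : pt ρ v₁ ⊓ Img ρ g₀ v₀ = Img ρ g₀ v₀ := inf_eq_right.mpr hle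
    rw [heq, finrank_Img ρ hrk hrpos g₀ h0.1] at hfr
    omega
  obtain ⟨u, huP, hu1⟩ := hex
  obtain ⟨b, hb⟩ := (mem_Img ρ g₀ v₀ u).mp huP
  refine ⟨d, u, hd0, ?_, ?_, ?_⟩
  · rw [B_lin_right S, S.symm]
    have : B v₁ u = 0 := by
      rw [S.symm, B_eq_zero_iff S u v₁]
      intro y hy
      rw [polar_comm]
      exact hperp y hy u huP
    rw [this, mul_zero]
  · rw [hd, pt_eq_of_mem ρ hz1 hz0]
    exact hu1
  · rw [hd, ← ha, ← hb]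
    apply SiegIn.conj hg (hH hg) (Q_rho_of_sing S h0.2 a) _ (hZ0 a b)
    rw [polar_rho_left S, B_lin_right S, h0.2, mul_zero, mul_zero, map_zero]

end Cfsg.Agent.Lib.Helper14.S5701E0
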