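import Mathlib
import Cfsg.Agent.Lib.Helper14.OEPlusS433

/-!
# `S5778` piece B3, part a: symmetric bilinear forms on a `3`-space over the field with three elements

If three mutually orthogonal anisotropic vectors exist then there are three mutually orthogonal vectors of one and the same
norm `c ≠ 0`, and (when these span) every vector of norm `c` is a multiple of one of them.
-/

set_option autoImplicit false

namespace Cfsg.Agent.Lib.Helper14.S5778B3

open Cfsg.Agent.Lib.Helper14.OEPlusS433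

section abstract

variable {K V : Type*} [Field K] [Fintype K] [AddCommGroup V] [Module K V]

theorem swap_frame (hK : Fintype.card K = 3) (B : LinearMap.BilinForm K V) (hS : ∀ x y, B x y = B y x)
    (x y z : V) (a : K) (ha : a ≠ 0) (hxy : B x y = 0) (hxz : B x z = 0) (hyz : B y z = 0)
    (hx : B x x = a) (hy : B y y = a) (hz : B z z = -a) :
    ∃ (c : K) (w : Fin 3 → V), c ≠ 0 ∧ (∀ i j, i ≠ j → B (w i) (w j) = 0) ∧ ∀ i, B (w i) (w i) = c := by
  have h3 := three_eq_zero hK
  have hyx : B y x = 0 := by rw [hS, hxy]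
  have hzx : B z x = 0 := by rw [hS, hxz]
  have hzy : B z y = 0 := by rw [hS, hyz]
  have hpm : B (x + y) (x - y) = 0 := by
    simp only [map_add, map_sub, LinearMap.add_apply, hx, hy, hxy, hyx]
    ring
  have hmp : B (x - y) (x + y) = 0 := by rw [hS, hpm]
  have hpz : B (x + y) z = 0 := by
    simp only [map_add, LinearMap.add_apply, hxz, hyz]; ring
  have hmz : B (x - y) z = 0 := by
    simp only [map_sub, LinearMap.sub_apply, hxz, hyz]; ring
  have hzp : B z (x + y) = 0 := by rw [hS, hpz]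
  have hzm : B z (x - y) = 0 := by rw [hS, hmz]
  have hpp : B (x + y) (x + y) = -a := by
    simp only [map_add, LinearMap.add_apply, hx, hy, hxy, hyx]
    linear_combination a * h3
  have hmm : B (x - y) (x - y) = -a := by
    simp only [map_sub, LinearMap.sub_apply, hx, hy, hxy, hyx]
    linear_combination a * h3
  refine ⟨-a, ![x + y, x - y, z], neg_ne_zero.mpr ha, ?_, ?_⟩
  · intro i j hij
    fin_cases i <;> fin_cases j
    · exact absurd rfl hij
    · exact hpm
    · exact hpz
    · exact hmp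
    · exact absurd rfl hij
    · exact hmz
    · exact hzp
    · exact hzm
    · exact absurd rfl hij
  · intro i
    fin_cases i
    · exact hpp
    · exact hmm
    · exact hz

theorem exists_const_of_orth (hK : Fintype.card K = 3) (B : LinearMap.BilinForm K V) (hS : ∀ x y, B x y = B y x)
    (u : Fin 3 → V) (ho : ∀ i j, i ≠ j → B (u i) (u j) = 0) (hn : ∀ i, B (u i) (u i) ≠ 0) :
    ∃ (c : K) (w : Fin 3 → V), c ≠ 0 ∧ (∀ i j, i ≠ j → B (w i) (w j) = 0) ∧ ∀ i, B (w i) (w i) = c := by
  have h1 : (1 : K) ≠ 0 := one_ne_zero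
  have hm1 : (-1 : K) ≠ 0 := neg_ne_zero.mpr one_ne_zero
  have h01 := ho 0 1 (by decide)
  have h02 := ho 0 2 (by decide)
  have h12 := ho 1 2 (by decide)
  have h10 := ho 1 0 (by decide)
  have h20 := ho 2 0 (by decide)
  have h21 := ho 2 1 (by decide)
  rcases cases_of_card_three hK (B (u 0) (u 0)) with a0 | a0 | a0
  · exact absurd a0 (hn 0)
  all_goals
    rcases cases_of_card_three hK (B (u 1) (u 1)) with a1 | a1 | a1
    · exact absurd a1 (hn 1)
    all_goals
      rcases cases_of_card_three hK (B (u 2) (u 2)) with a2 | a2 | a2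
      · exact absurd a2 (hn 2)
  · -- 1 1 1
    refine ⟨1, u, h1, ho, fun i => ?_⟩
    fin_cases i
    · exact a0
    · exact a1
    · exact a2
  · -- 1 1 -1
    exact swap_frame hK B hS (u 0) (u 1) (u 2) 1 h1 h01 h02 h12 a0 a1 a2
  · -- 1 -1 1
    exact swap_frame hK B hS (u 0) (u 2) (u 1) 1 h1 h02 h01 h21 a0 a2 a1
  · -- 1 -1 -1
    exact swap_frame hK B hS (u 1) (u 2) (u 0) (-1) hm1 h12 h10 h20 a1 a2 (by rw [a0, neg_neg])
  · -- -1 1 1
    exact swap_frame hK B hS (u 1) (u 2) (u 0) 1 h1 h12 h10 h20 a1 a2 a0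
  · -- -1 1 -1
    exact swap_frame hK B hS (u 0) (u 2) (u 1) (-1) hm1 h02 h01 h21 a0 a2 (by rw [a1, neg_neg])
  · -- -1 -1 1
    exact swap_frame hK B hS (u 0) (u 1) (u 2) (-1) hm1 h01 h02 h12 a0 a1 (by rw [a2, neg_neg])
  · -- -1 -1 -1
    refine ⟨-1, u, hm1, ho, fun i => ?_⟩
    fin_cases i
    · exact a0
    · exact a1
    · exact a2

theorem eq_smul_of_norm (hK : Fintype.card K = 3) (B : LinearMap.BilinForm K V)
    (w : Fin 3 → V) (c : K) (hc : c ≠ 0) (ho : ∀ i j, i ≠ j → B (w i) (w j) = 0) (hn : ∀ i, B (w i) (w i) = c)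
    (v : V) (x : Fin 3 → K) (hx : v = ∑ k, x k • w k) (hv : B v v = c) :
    ∃ k, ∃ y : K, y ≠ 0 ∧ v = y • w k := by
  have h01 := ho 0 1 (by decide)
  have h02 := ho 0 2 (by decide)
  have h12 := ho 1 2 (by decide)
  have h10 := ho 1 0 (by decide)
  have h20 := ho 2 0 (by decide)
  have h21 := ho 2 1 (by decide)
  have h1 : B v v = (∑ k, x k ^ 2) * c := by
    rw [hx]
    simp only [Fin.sum_univ_three, map_add, LinearMap.add_apply, map_smul, LinearMap.smul_apply, smul_eq_mul,
      h01, h02, h12, h10, h20, h21, hn]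
    ring
  have h3 : ∑ k, x k ^ 2 = 1 := by
    rw [hv] at h1
    have : (∑ k, x k ^ 2 - 1) * c = 0 := by linear_combination -h1
    rcases mul_eq_zero.mp this with h | h
    · exact sub_eq_zero.mp h
    · exact absurd h hc
  obtain ⟨k, hk, hk'⟩ := unique_nonzero_of_sum_sq hK x h3
  refine ⟨k, x k, hk, ?_⟩
  rw [hx]
  apply Finset.sum_eq_single k
  · intro k' _ hkk
    rw [hk' k' hkk, zero_smul]
  · intro h; exact absurd (Finset.mem_univ k) h

end abstract

end Cfsg.Agent.Lib.Helper14.S5778B3
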