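import Mathlib
import Cfsg.Prelude.Def_GeometricClasses
import Cfsg.Agent.Lib.Helper13.SubfField
import Cfsg.Agent.Lib.Helper14.S5778B3a

/-!
# `S5778` piece B3: in `SU_3(3)` the subfield group `SO_3(3)` lies in a frame stabiliser

Let `F` have nine elements, `F₀` its prime field and `P` an `F₀`-structure carrying the Hermitian form.  The restriction of
the form to the structure is a non-degenerate symmetric bilinear form over the field with three elements; it has an orthogonal
basis `w` of constant norm `c`, the vectors of norm `c` are the `± w k`, and so every isometry of the structure permutes the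
three lines `F (P w k)`.
-/

set_option autoImplicit false

namespace Cfsg.Agent.Lib.Helper14.S5778B3

open Matrix Module Cfsg Cfsg.Geo Cfsg.Agent.S0779 Cfsg.Agent.Lib.Helper6 Cfsg.Agent.Lib.Helper13
  Cfsg.Agent.Lib.Helper14.OEPlusS433

section herm

variable {F : Type*} [Field F] [Fintype F]

/-- the embedding of the rational vectors -/
def emb (F₀ : Subfield F) (P : GL (Fin 3) F) (u : Fin 3 → F₀) : Fin 3 → F :=
  (P : Matrix (Fin 3) (Fin 3) F) *ᵥ rvec F₀ u

theorem emb_add (F₀ : Subfield F) (P : GL (Fin 3) F) (u v : Fin 3 → F₀) :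
    emb F₀ P (u + v) = emb F₀ P u + emb F₀ P v := by
  unfold emb
  rw [rvec_add, Matrix.mulVec_add]

theorem emb_smul (F₀ : Subfield F) (P : GL (Fin 3) F) (k : F₀) (u : Fin 3 → F₀) :
    emb F₀ P (k • u) = (k : F) • emb F₀ P u := by
  unfold emb
  rw [rvec_smul, Matrix.mulVec_smul]

theorem emb_zero (F₀ : Subfield F) (P : GL (Fin 3) F) : emb F₀ P 0 = 0 := by
  unfold emb
  rw [rvec_zero, Matrix.mulVec_zero]

theorem emb_inj (F₀ : Subfield F) (P : GL (Fin 3) F) {u v : Fin 3 → F₀} (h : emb F₀ P u = emb F₀ P v) : u = v := by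
  apply rvec_inj F₀
  have := congrArg (fun z => ((P⁻¹ : GL (Fin 3) F) : Matrix (Fin 3) (Fin 3) F) *ᵥ z) h
  simpa [emb, Matrix.mulVec_mulVec, ← Units.val_mul] using this

/-- the restriction of the Hermitian form to the rational structure, as a bilinear form over the subfield -/
noncomputable def ratForm (hF : Fintype.card F = 3 ^ 2) (F₀ : Subfield F) (P : GL (Fin 3) F)
    (hfix : ∀ k : F₀, (k : F) ^ 3 = k)
    (hmem : ∀ u v : Fin 3 → F₀, hermForm 3 F 3 (emb F₀ P u) (emb F₀ P v) ∈ F₀) :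
    LinearMap.BilinForm F₀ (Fin 3 → F₀) :=
  LinearMap.mk₂ F₀ (fun u v => ⟨hermForm 3 F 3 (emb F₀ P u) (emb F₀ P v), hmem u v⟩)
    (fun u u' v => Subtype.ext (by
      show hermForm 3 F 3 (emb F₀ P (u + u')) (emb F₀ P v) = _
      rw [emb_add, herm_add_left]; rfl))
    (fun k u v => Subtype.ext (by
      show hermForm 3 F 3 (emb F₀ P (k • u)) (emb F₀ P v) = _
      rw [emb_smul, herm_smul_left]; rfl))
    (fun u v v' => Subtype.ext (by
      show hermForm 3 F 3 (emb F₀ P u) (emb F₀ P (v + v')) = _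
      rw [emb_add, herm_add_right hF]; rfl))
    (fun k u v => Subtype.ext (by
      show hermForm 3 F 3 (emb F₀ P u) (emb F₀ P (k • v)) = _
      rw [emb_smul, herm_smul_right, hfix]; rfl))

theorem ratForm_coe (hF : Fintype.card F = 3 ^ 2) (F₀ : Subfield F) (P : GL (Fin 3) F)
    (hfix : ∀ k : F₀, (k : F) ^ 3 = k)
    (hmem : ∀ u v : Fin 3 → F₀, hermForm 3 F 3 (emb F₀ P u) (emb F₀ P v) ∈ F₀) (u v : Fin 3 → F₀) :
    ((ratForm hF F₀ P hfix hmem u v : F₀) : F) = hermForm 3 F 3 (emb F₀ P u) (emb F₀ P v) := rfl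

theorem ratForm_symm (hF : Fintype.card F = 3 ^ 2) (F₀ : Subfield F) (P : GL (Fin 3) F)
    (hfix : ∀ k : F₀, (k : F) ^ 3 = k)
    (hmem : ∀ u v : Fin 3 → F₀, hermForm 3 F 3 (emb F₀ P u) (emb F₀ P v) ∈ F₀) (u v : Fin 3 → F₀) :
    ratForm hF F₀ P hfix hmem u v = ratForm hF F₀ P hfix hmem v u := by
  apply Subtype.ext
  rw [ratForm_coe, ratForm_coe, ← herm_conj hF (emb F₀ P u) (emb F₀ P v), ← ratForm_coe hF F₀ P hfix hmem u v, hfix]

theorem ratForm_nondeg (hF : Fintype.card F = 3 ^ 2) (F₀ : Subfield F) (P : GL (Fin 3) F)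
    (hfix : ∀ k : F₀, (k : F) ^ 3 = k)
    (hmem : ∀ u v : Fin 3 → F₀, hermForm 3 F 3 (emb F₀ P u) (emb F₀ P v) ∈ F₀) (u : Fin 3 → F₀)
    (hu : ∀ v, ratForm hF F₀ P hfix hmem u v = 0) : u = 0 := by
  classical
  have h1 : ∀ j : Fin 3, hermForm 3 F 3 (emb F₀ P u) ((P : Matrix (Fin 3) (Fin 3) F) *ᵥ Pi.single j 1) = 0 := by
    intro j
    have := congrArg (Subtype.val) (hu (Pi.single j 1))
    rw [ratForm_coe] at this
    unfold emb at this
    rw [rvec_single] at this
    exact this
  have h2 : ∀ y : Fin 3 → F, hermForm 3 F 3 (emb F₀ P u) ((P : Matrix (Fin 3) (Fin 3) F) *ᵥ y) = 0 := by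
    intro y
    have hy : y = y 0 • Pi.single 0 1 + y 1 • Pi.single 1 1 + y 2 • Pi.single 2 1 := by
      ext i; fin_cases i <;> simp
    rw [hy, Matrix.mulVec_add, Matrix.mulVec_add, Matrix.mulVec_smul, Matrix.mulVec_smul, Matrix.mulVec_smul,
      herm_add_right hF, herm_add_right hF, herm_smul_right, herm_smul_right, herm_smul_right, h1, h1, h1]
    ring
  have h3 : emb F₀ P u = 0 := by
    apply herm_nondeg hF
    intro z
    have := h2 (((P⁻¹ : GL (Fin 3) F) : Matrix (Fin 3) (Fin 3) F) *ᵥ z)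
    rwa [Matrix.mulVec_mulVec, ← Units.val_mul, mul_inv_cancel, Units.val_one, Matrix.one_mulVec] at this
  apply emb_inj F₀ P
  rw [h3, emb_zero]

/-- **B3** over the field with nine elements the index-two subfield group of `SU_3(3)` stabilises a non-degenerate
`1`-decomposition -/
theorem subfield_le_frame (hF : Fintype.card F = 3 ^ 2) (F₀ : Subfield F) (P : GL (Fin 3) F)
    (hc : Fintype.card F = Nat.card F₀ ^ 2) (hP : IsFormRationalStructure (hermForm 3 F 3) F₀ 1 P) :
    ∃ D : Fin 3 → Submodule F (Fin 3 → F), IsNondegenerateMDecomposition (hermForm 3 F 3) 1 D ∧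
      subfieldSubgroup F₀ P ⊓ (GU 3 F 3 ⊓ specialLinear (Fin 3) F) ≤ decompositionStabilizer D := by
  classical
  letI : Fintype F₀ := Fintype.ofFinite F₀
  have hK : Fintype.card F₀ = 3 := by
    have h1 : Nat.card F₀ ^ 2 = 3 ^ 2 := by rw [← hc, hF]
    have h2 : Nat.card F₀ = 3 := Nat.pow_left_injective (by norm_num : 2 ≠ 0) h1
    rw [← Nat.card_eq_fintype_card]; exact h2
  have hfix : ∀ k : F₀, (k : F) ^ 3 = k := by
    intro k
    have := FiniteField.pow_card k
    rw [hK] at this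
    have h2 := congrArg (Subtype.val) this
    simpa using h2
  have hmem : ∀ u v : Fin 3 → F₀, hermForm 3 F 3 (emb F₀ P u) (emb F₀ P v) ∈ F₀ := by
    intro u v
    have := hP (rvec F₀ u) (rvec F₀ v) (fun i => (u i).2) (fun i => (v i).2)
    rwa [one_mul] at this
  set B := ratForm hF F₀ P hfix hmem with hB
  have hS : ∀ x y, B x y = B y x := ratForm_symm hF F₀ P hfix hmem
  have h2K : (2 : F₀) ≠ 0 := two_ne_zero_of_card_three hK
  letI : Invertible (2 : F₀) := invertibleOfNonzero h2K
  have hsymm : LinearMap.IsSymm B := ⟨fun x y => hS x y⟩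
  have hnd : B.Nondegenerate := by
    have hl : B.SeparatingLeft := fun u hu => ratForm_nondeg hF F₀ P hfix hmem u hu
    exact ⟨hl, fun u hu => ratForm_nondeg hF F₀ P hfix hmem u (fun v => by rw [hS]; exact hu v)⟩
  obtain ⟨b, hb⟩ := LinearMap.BilinForm.exists_orthogonal_basis hsymm
  have hfr : finrank F₀ (Fin 3 → F₀) = 3 := Module.finrank_fin_fun F₀
  obtain ⟨c, w, hc0, hwo, hwn⟩ := exists_const_of_orth hK B hS (fun i => b (finCongr hfr.symm i))
    (fun i j hij => hb (fun h => hij ((finCongr hfr.symm).injective h)))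
    (fun i => LinearMap.BilinForm.iIsOrtho.not_isOrtho_basis_self_of_nondegenerate hb hnd _)
  -- `w` is a basis of the rational structure
  have hwli : LinearIndependent F₀ w :=
    LinearMap.BilinForm.linearIndependent_of_iIsOrtho (B := B) (fun i j hij => hwo i j hij)
      (fun i => by rw [hwn]; exact hc0)
  set bw := basisOfLinearIndependentOfCardEqFinrank hwli (by rw [hfr]; simp) with hbw
  have hbwc : ∀ k, bw k = w k := fun k => by rw [hbw, coe_basisOfLinearIndependentOfCardEqFinrank]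
  have hchar : ∀ v : Fin 3 → F₀, B v v = c → ∃ k, ∃ y : F₀, y ≠ 0 ∧ v = y • w k := by
    intro v hv
    refine eq_smul_of_norm hK B w c hc0 hwo hwn v (fun k => bw.repr v k) ?_ hv
    have := (bw.sum_repr v).symm
    simpa only [hbwc] using this
  -- the frame
  set W : Fin 3 → Fin 3 → F := fun k => emb F₀ P (w k) with hW
  have hcF : (c : F) ≠ 0 := fun h => hc0 (Subtype.ext h)
  have hWo : ∀ i j, i ≠ j → hermForm 3 F 3 (W i) (W j) = 0 := by
    intro i j hij
    rw [hW]; simp only
    rw [← ratForm_coe hF F₀ P hfix hmem, ← hB, hwo i j hij]; rfl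
  have hWn : ∀ i, hermForm 3 F 3 (W i) (W i) = c := by
    intro i
    rw [hW]; simp only
    rw [← ratForm_coe hF F₀ P hfix hmem, ← hB, hwn i]
  have hWne : ∀ i, W i ≠ 0 := by
    intro i h0
    have := hWn i
    rw [h0, herm_zero_left] at this
    exact hcF this.symm
  have hli : LinearIndependent F W := by
    apply LinearMap.linearIndependent_of_isOrthoᵢ (B := hermB 3 hF)
    · rw [LinearMap.isOrthoᵢ_def]
      intro i j hij
      rw [hermB_apply]
      exact hWo j i (Ne.symm hij)
    · intro i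
      rw [hermB_apply, hWn]
      exact hcF
  set D : Fin 3 → Submodule F (Fin 3 → F) := fun k => Submodule.span F {W k} with hD
  have hdec : IsMDecomposition 1 D := by
    refine ⟨by norm_num, one_pos, fun k => finrank_span_singleton (hWne k), hli.iSupIndep_span_singleton, ?_⟩
    have h1 : Submodule.span F (Set.range W) = ⊤ := by
      apply hli.span_eq_top_of_card_eq_finrank'
      simp
    rw [← h1, Submodule.span_range_eq_iSup]
  have hpow : ∀ a : F, a ≠ 0 → a ^ 3 ≠ 0 := fun a ha => pow_ne_zero 3 ha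
  have hDnd : ∀ k, IsNondegenerateOn (hermForm 3 F 3) (D k) := by
    intro k v hv hv0
    obtain ⟨a, rfl⟩ := Submodule.mem_span_singleton.mp hv
    have ha : a ≠ 0 := by
      rintro rfl
      exact hv0 (zero_smul _ _)
    refine ⟨⟨W k, Submodule.mem_span_singleton_self _, ?_⟩, ⟨W k, Submodule.mem_span_singleton_self _, ?_⟩⟩
    · rw [herm_smul_right, hWn]
      exact mul_ne_zero (hpow a ha) hcF
    · rw [herm_smul_left, hWn]
      exact mul_ne_zero ha hcF
  have hDo : ∀ i j, i ≠ j → AreOrthogonalFor (hermForm 3 F 3) (D i) (D j) := by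
    intro i j hij p hp r hr
    obtain ⟨a, rfl⟩ := Submodule.mem_span_singleton.mp hp
    obtain ⟨d, rfl⟩ := Submodule.mem_span_singleton.mp hr
    rw [herm_smul_left, herm_smul_right, hWo i j hij, mul_zero, mul_zero]
  refine ⟨D, ⟨hdec, hDnd, hDo⟩, ?_⟩
  -- the stabiliser
  rintro g ⟨hg1, hgU, hgS⟩
  obtain ⟨l, A, hlA⟩ := exists_eq_of_mem_subfieldSubgroup F₀ P g hg1
  have hgm : ∀ u : Fin 3 → F₀, (g : Matrix (Fin 3) (Fin 3) F) *ᵥ emb F₀ P u = l • emb F₀ P (A *ᵥ u) := by
    intro u
    unfold emb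
    have e1 : (g : Matrix (Fin 3) (Fin 3) F) * (P : Matrix (Fin 3) (Fin 3) F) =
        (P : Matrix (Fin 3) (Fin 3) F) * (l • rmat F₀ A) := by
      rw [← hlA, ← Units.val_mul, ← Units.val_mul]
      congr 1
      group
    rw [Matrix.mulVec_mulVec, e1, ← Matrix.mulVec_mulVec, Matrix.smul_mulVec, rmat_mulVec, Matrix.mulVec_smul]
  -- determinants
  have hdet : l ^ 3 * ((A.det : F₀) : F) = 1 := by
    have h1 : ((P⁻¹ * g * P : GL (Fin 3) F) : Matrix (Fin 3) (Fin 3) F).det = 1 := by
      have h2 : Matrix.GeneralLinearGroup.det (P⁻¹ * g * P) = 1 := by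
        rw [map_mul, map_mul, mul_comm, ← mul_assoc, map_inv, mul_inv_cancel, one_mul]
        exact hgS
      have h3 := congrArg Units.val h2
      rwa [Matrix.GeneralLinearGroup.val_det_apply, Units.val_one] at h3
    rw [hlA, Matrix.det_smul, Fintype.card_fin] at h1
    have h4 : (rmat F₀ A).det = ((A.det : F₀) : F) := by
      unfold rmat
      rw [← RingHom.mapMatrix_apply, ← RingHom.map_det]
      rfl
    rwa [h4] at h1
  have hsq : ∀ k : F₀, k ≠ 0 → ((k : F₀) : F) ^ 2 = 1 := by
    intro k hk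
    rcases sq_cases_of_card_three hK k with ⟨h, _⟩ | ⟨_, h⟩
    · exact absurd h hk
    · have := congrArg (Subtype.val) h
      simpa using this
  have hl6 : l ^ 6 = 1 := by
    have hd0 : A.det ≠ 0 := by
      intro h0
      rw [h0] at hdet
      simp at hdet
    have h1 := hsq A.det hd0
    have h2 : (l ^ 3 * ((A.det : F₀) : F)) ^ 2 = 1 := by rw [hdet, one_pow]
    rw [mul_pow, h1, mul_one] at h2
    rw [← h2]; ring
  -- the multiplier
  have hmul : ∀ u v : Fin 3 → F₀, l ^ 4 * ((B (A *ᵥ u) (A *ᵥ v) : F₀) : F) = ((B u v : F₀) : F) := by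
    intro u v
    have h1 := hgU (emb F₀ P u) (emb F₀ P v)
    simp only [Units.coeHom_apply] at h1
    rw [hgm, hgm, herm_smul_left, herm_smul_right] at h1
    rw [hB, ratForm_coe, ratForm_coe, ← h1]
    ring
  have hl8 : l ^ 8 = 1 := by
    have h1 := hmul (w 0) (w 0)
    rw [hwn] at h1
    have hb0 : B (A *ᵥ w 0) (A *ᵥ w 0) ≠ 0 := by
      intro h0
      rw [h0] at h1
      simp at h1
      exact hcF h1.symm
    have h2 := hsq _ hb0
    have h3 := hsq c hc0
    have h4 : (l ^ 4 * ((B (A *ᵥ w 0) (A *ᵥ w 0) : F₀) : F)) ^ 2 = 1 := by rw [h1, h3]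
    rw [mul_pow, h2, mul_one] at h4
    rw [← h4]; ring
  have hl2 : l ^ 2 = 1 := by
    have : l ^ 8 = l ^ 6 * l ^ 2 := by ring
    rw [hl8, hl6, one_mul] at this
    exact this.symm
  have hl0 : l ≠ 0 := by
    rintro rfl
    simp at hl2
  have hiso : ∀ u v : Fin 3 → F₀, B (A *ᵥ u) (A *ᵥ v) = B u v := by
    intro u v
    apply Subtype.ext
    have h1 := hmul u v
    have : l ^ 4 = 1 := by
      have : l ^ 4 = (l ^ 2) ^ 2 := by ring
      rw [this, hl2, one_pow]
    rwa [this, one_mul] at h1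
  apply mem_decompositionStabilizer_of_forall_exists D (hdec.indep.injective (fun k => by
    intro h0
    have := finrank_span_singleton (K := F) (hWne k)
    rw [show Submodule.span F {W k} = D k from rfl, h0, finrank_bot] at this
    omega)) g
  intro k
  obtain ⟨j, y, hy, hAy⟩ := hchar (A *ᵥ w k) (by rw [hiso, hwn])
  refine ⟨j, ?_⟩
  show (Submodule.span F {W k}).map _ = Submodule.span F {W j}
  rw [Submodule.map_span, Set.image_singleton, Matrix.toLin'_apply]
  have : (g : Matrix (Fin 3) (Fin 3) F) *ᵥ W k = (l * (y : F)) • W j := by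
    rw [hW]; simp only
    rw [hgm, hAy, emb_smul, smul_smul]
  rw [this]
  exact Submodule.span_singleton_smul_eq
    (IsUnit.mk0 _ (mul_ne_zero hl0 (fun h => hy (Subtype.ext h)))) _

/-- the same with the cardinality written `9` -/
theorem subfield_le_frame_nine (hF : Fintype.card F = 9) (F₀ : Subfield F) (P : GL (Fin 3) F)
    (hc : Fintype.card F = Nat.card F₀ ^ 2) (hP : IsFormRationalStructure (hermForm 3 F 3) F₀ 1 P) :
    ∃ D : Fin 3 → Submodule F (Fin 3 → F), IsNondegenerateMDecomposition (hermForm 3 F 3) 1 D ∧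
      subfieldSubgroup F₀ P ⊓ (GU 3 F 3 ⊓ specialLinear (Fin 3) F) ≤ decompositionStabilizer D :=
  subfield_le_frame (by rw [hF]; norm_num) F₀ P hc hP

end herm

end Cfsg.Agent.Lib.Helper14.S5778B3
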