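import Mathlib
import Cfsg.Prelude.Def_GeometricClasses

/-!
# S5781 FO-CYC (helper14): characteristic abelian subgroups of a group with commutators and squares `±1`
-/

set_option autoImplicit false

namespace Cfsg.Agent.Lib.Helper14.S5781FO

open Cfsg Cfsg.Geo
open scoped MatrixGroups Matrix

section CYC

variable {ι : Type} [Fintype ι] [DecidableEq ι] {F : Type*} [Field F]

/-- the matrix algebra behind FO-CYC (a): `C = 1 + T`, `T² = -1` -/
theorem conj_one_add (h2 : (2 : F) ≠ 0) (T x : Matrix ι ι F) (hT : T * T = -1) (hx : T * x = -(x * T)) :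
    (1 + T) * x * ((2 : F)⁻¹ • (1 - T)) = T * x := by
  have h1 : (1 + T) * x = x * (1 - T) := by
    rw [add_mul, one_mul, hx, mul_sub, mul_one, sub_eq_add_neg]
  have h3 : (1 - T) * (1 - T) = -((2 : F) • T) := by
    have : (1 - T) * (1 - T) = 1 - T - T + T * T := by noncomm_ring
    rw [this, hT, two_smul]
    abel
  rw [h1, Matrix.mul_smul, mul_assoc, h3, mul_neg, Matrix.mul_smul, smul_neg, smul_smul, inv_mul_cancel₀ h2, one_smul,
    hx]

theorem conj_one_sub (h2 : (2 : F) ≠ 0) (T x : Matrix ι ι F) (hT : T * T = -1) (hx : T * x = -(x * T)) :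
    ((2 : F)⁻¹ • (1 - T)) * x * (1 + T) = x * T := by
  have h1 : (1 - T) * x = x * (1 + T) := by
    rw [sub_mul, one_mul, hx, mul_add, mul_one, sub_neg_eq_add]
  have h3 : (1 + T) * (1 + T) = (2 : F) • T := by
    have : (1 + T) * (1 + T) = 1 + T + T + T * T := by noncomm_ring
    rw [this, hT, two_smul]
    abel
  rw [Matrix.smul_mul, Matrix.smul_mul, h1, mul_assoc, h3, Matrix.mul_smul, smul_smul, inv_mul_cancel₀ h2, one_smul]

theorem one_add_mul_inv (h2 : (2 : F) ≠ 0) (T : Matrix ι ι F) (hT : T * T = -1) :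
    (1 + T) * ((2 : F)⁻¹ • (1 - T)) = 1 ∧ ((2 : F)⁻¹ • (1 - T)) * (1 + T) = 1 := by
  have h1 : (1 + T) * (1 - T) = (2 : F) • (1 : Matrix ι ι F) := by
    have : (1 + T) * (1 - T) = 1 - T * T := by noncomm_ring
    rw [this, hT, two_smul]
    abel
  have h1' : (1 - T) * (1 + T) = (2 : F) • (1 : Matrix ι ι F) := by
    have : (1 - T) * (1 + T) = 1 - T * T := by noncomm_ring
    rw [this, hT, two_smul]
    abel
  constructor
  · rw [Matrix.mul_smul, h1, smul_smul, inv_mul_cancel₀ h2, one_smul]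
  · rw [Matrix.smul_mul, h1', smul_smul, inv_mul_cancel₀ h2, one_smul]

/-- FO-CYC (a) -/
theorem characteristic_le_center (R : Subgroup (GL ι F)) (h2 : (2 : F) ≠ 0) (i₀ : F) (hi : i₀ ^ 2 = -1)
    (hs : ∃ z ∈ R, (z : Matrix ι ι F) = i₀ • (1 : Matrix ι ι F))
    (hcomm : ∀ x ∈ R, ∀ y ∈ R, (x : Matrix ι ι F) * (y : Matrix ι ι F) = (y : Matrix ι ι F) * (x : Matrix ι ι F) ∨
      (x : Matrix ι ι F) * (y : Matrix ι ι F) = - ((y : Matrix ι ι F) * (x : Matrix ι ι F)))
    (hsq : ∀ x ∈ R, (x : Matrix ι ι F) * (x : Matrix ι ι F) = 1 ∨ (x : Matrix ι ι F) * (x : Matrix ι ι F) = -1)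
    (A : Subgroup R) (hA : A.Characteristic) (hAc : IsMulCommutative A) : A ≤ Subgroup.center R := by
  classical
  intro a ha
  rw [Subgroup.mem_center_iff]
  intro g
  by_contra hne
  set am : Matrix ι ι F := (((a : R) : GL ι F) : Matrix ι ι F) with ham
  set gm : Matrix ι ι F := (((g : R) : GL ι F) : Matrix ι ι F) with hgm
  have hne' : gm * am ≠ am * gm := by
    intro h
    apply hne
    apply Subtype.ext
    apply Units.ext
    rw [Subgroup.coe_mul, Subgroup.coe_mul, Units.val_mul, Units.val_mul]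
    exact h
  have hga : gm * am = -(am * gm) := (hcomm g g.2 a a.2).resolve_left hne'
  -- the element `t`
  obtain ⟨t, htR, htt, hta⟩ : ∃ t : GL ι F, t ∈ R ∧ (t : Matrix ι ι F) * (t : Matrix ι ι F) = -1 ∧
      (t : Matrix ι ι F) * am = -(am * (t : Matrix ι ι F)) := by
    rcases hsq g g.2 with h1 | h1
    · obtain ⟨z, hzR, hz⟩ := hs
      refine ⟨z * g, R.mul_mem hzR g.2, ?_, ?_⟩
      · rw [Units.val_mul, hz]
        have : i₀ • (1 : Matrix ι ι F) * gm * (i₀ • (1 : Matrix ι ι F) * gm) = (i₀ * i₀) • (gm * gm) := by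
          simp only [Matrix.smul_mul, Matrix.mul_smul, one_mul, smul_smul]
        rw [this, h1, ← sq, hi, neg_smul, one_smul]
      · rw [Units.val_mul, hz]
        rw [Matrix.smul_mul, one_mul, Matrix.smul_mul, hga, Matrix.mul_smul, smul_neg]
    · exact ⟨g, g.2, h1, hga⟩
  set T : Matrix ι ι F := (t : Matrix ι ι F) with hTdef
  obtain ⟨hC1, hC2⟩ := one_add_mul_inv h2 T htt
  -- the unit `C = 1 + T`
  let Cu : GL ι F := ⟨1 + T, (2 : F)⁻¹ • (1 - T), hC1, hC2⟩
  have hCu : (Cu : Matrix ι ι F) = 1 + T := rfl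
  have hCui : ((Cu⁻¹ : GL ι F) : Matrix ι ι F) = (2 : F)⁻¹ • (1 - T) := rfl
  -- `-1 ∈ R`
  have hneg : ∀ x : GL ι F, x ∈ R → ∀ y : GL ι F, (y : Matrix ι ι F) = -(x : Matrix ι ι F) → y ∈ R := by
    intro x hx y hy
    obtain ⟨z, hzR, hz⟩ := hs
    have : y = z * z * x := by
      apply Units.ext
      rw [Units.val_mul, Units.val_mul, hz, hy, Matrix.smul_mul, one_mul, Matrix.smul_mul, Matrix.smul_mul, one_mul,
        smul_smul, ← sq, hi, neg_smul, one_smul]
    rw [this]
    exact R.mul_mem (R.mul_mem hzR hzR) hx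
  -- conjugation by `Cu` preserves `R`
  have hconj : ∀ x : GL ι F, x ∈ R → Cu * x * Cu⁻¹ ∈ R ∧ Cu⁻¹ * x * Cu ∈ R := by
    intro x hx
    rcases hcomm t htR x hx with h1 | h1
    · -- commuting case
      have e1 : Cu * x * Cu⁻¹ = x := by
        apply Units.ext
        rw [Units.val_mul, Units.val_mul, hCu, hCui]
        have : (1 + T) * (x : Matrix ι ι F) = (x : Matrix ι ι F) * (1 + T) := by
          rw [add_mul, mul_add, one_mul, mul_one, h1]
        rw [this, mul_assoc, hC1, mul_one]
      have e2 : Cu⁻¹ * x * Cu = x := by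
        calc Cu⁻¹ * x * Cu = Cu⁻¹ * (Cu * x * Cu⁻¹) * Cu := by rw [e1]
          _ = x := by group
      rw [e1, e2]
      exact ⟨hx, hx⟩
    · constructor
      · have e1 : Cu * x * Cu⁻¹ = t * x := by
          apply Units.ext
          rw [Units.val_mul, Units.val_mul, hCu, hCui, Units.val_mul]
          exact conj_one_add h2 T _ htt h1
        rw [e1]
        exact R.mul_mem htR hx
      · have e2 : Cu⁻¹ * x * Cu = x * t := by
          apply Units.ext
          rw [Units.val_mul, Units.val_mul, hCu, hCui, Units.val_mul]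
          exact conj_one_sub h2 T _ htt h1
        rw [e2]
        exact R.mul_mem hx htR
  -- the automorphism
  let φ : R ≃* R :=
    { toFun := fun x => ⟨Cu * x * Cu⁻¹, (hconj x x.2).1⟩
      invFun := fun x => ⟨Cu⁻¹ * x * Cu, (hconj x x.2).2⟩
      left_inv := fun x => by apply Subtype.ext; simp only []; group
      right_inv := fun x => by apply Subtype.ext; simp only []; group
      map_mul' := fun x y => by
        apply Subtype.ext
        simp only [Subgroup.coe_mul]
        group }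
  have hφa : φ a ∈ A := (Subgroup.characteristic_iff_le_comap.mp hA φ) ha
  have hcomm2 := hAc.is_comm.comm ⟨a, ha⟩ ⟨φ a, hφa⟩
  have h3 : ((a : R) : GL ι F) * (Cu * (a : R) * Cu⁻¹) = (Cu * (a : R) * Cu⁻¹) * ((a : R) : GL ι F) := by
    have := congrArg (fun y : A => ((y : R) : GL ι F)) hcomm2
    exact this
  have h4 : (Cu * ((a : R) : GL ι F) * Cu⁻¹ : GL ι F) = t * (a : R) := by
    apply Units.ext
    rw [Units.val_mul, Units.val_mul, hCu, hCui, Units.val_mul]
    exact conj_one_add h2 T _ htt hta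
  rw [h4] at h3
  -- `a t = t a`
  have h5 : am * T = T * am := by
    have h6 : ((a : R) : GL ι F) * t = t * (a : R) := by
      have h7 : ((a : R) : GL ι F) * t * (a : R) = t * (a : R) * (a : R) := by
        rw [mul_assoc]; exact h3
      exact mul_right_cancel h7
    have := congrArg (fun y : GL ι F => (y : Matrix ι ι F)) h6
    simpa using this
  -- so `2 • (a t) = 0`
  have h8 : (2 : F) • (am * T) = 0 := by
    rw [two_smul]
    nth_rewrite 1 [h5]
    rw [hta, neg_add_cancel]
  have h9 : am * T = 0 := (smul_eq_zero.mp h8).resolve_left h2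
  -- hence `a = 0`, contradiction
  have h10 : am = 0 := by
    have : am = am * T * ((t⁻¹ : GL ι F) : Matrix ι ι F) := by
      rw [mul_assoc, hTdef, Units.mul_inv, mul_one]
    rw [this, h9, zero_mul]
  apply hne'
  rw [h10, mul_zero, zero_mul]

/-- FO-CYC (b) -/
theorem isCyclic_of_le_center [Finite F] (R : Subgroup (GL ι F))
    (habs : ∀ M : Matrix ι ι F, (∀ s ∈ matrixSet R, M * s = s * M) → ∃ c : F, M = c • (1 : Matrix ι ι F))
    (A : Subgroup R) (hA : A ≤ Subgroup.center R) : IsCyclic A := by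
  classical
  rcases isEmpty_or_nonempty ι with hι | ⟨⟨i₀⟩⟩
  · have : Subsingleton (GL ι F) := ⟨fun x y => Units.ext (Subsingleton.elim _ _)⟩
    have : Subsingleton A := ⟨fun x y => Subtype.ext (Subtype.ext (Subsingleton.elim _ _))⟩
    exact isCyclic_of_subsingleton
  have hsc : ∀ a : A, ∃ c : F, (((a : R) : GL ι F) : Matrix ι ι F) = c • (1 : Matrix ι ι F) := by
    intro a
    apply habs
    rintro s ⟨g, hg, rfl⟩
    have hcen := Subgroup.mem_center_iff.mp (hA a.2) ⟨g, hg⟩
    have h1 : g * ((a : R) : GL ι F) = ((a : R) : GL ι F) * g := congrArg (fun y : R => (y : GL ι F)) hcen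
    have h2 := congrArg (fun y : GL ι F => (y : Matrix ι ι F)) h1
    simp only [Units.val_mul] at h2
    exact h2.symm
  have hentry : ∀ a : A, (((a : R) : GL ι F) : Matrix ι ι F)
      = ((((a : R) : GL ι F) : Matrix ι ι F) i₀ i₀) • (1 : Matrix ι ι F) := by
    intro a
    obtain ⟨c, hc⟩ := hsc a
    have : (((a : R) : GL ι F) : Matrix ι ι F) i₀ i₀ = c := by rw [hc]; simp
    rw [this]
    exact hc
  let f : A →* F :=
    { toFun := fun a => (((a : R) : GL ι F) : Matrix ι ι F) i₀ i₀
      map_one' := by simp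
      map_mul' := fun a b => by
        show (((((a * b : A) : A) : R) : GL ι F) : Matrix ι ι F) i₀ i₀ = _
        rw [Subgroup.coe_mul, Subgroup.coe_mul, Units.val_mul, hentry a, hentry b]
        simp [mul_comm] }
  have hf : Function.Injective f := by
    intro a b hab
    apply Subtype.ext
    apply Subtype.ext
    apply Units.ext
    rw [hentry a, hentry b]
    have : (((a : R) : GL ι F) : Matrix ι ι F) i₀ i₀ = (((b : R) : GL ι F) : Matrix ι ι F) i₀ i₀ := hab
    rw [this]
  have : Finite A := by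
    have : Finite (Matrix ι ι F) := inferInstance
    have : Finite (GL ι F) := Finite.of_injective (fun g : GL ι F => (g : Matrix ι ι F)) Units.val_injective
    infer_instance
  exact isCyclic_of_injective_ringHom f hf

end CYC

end Cfsg.Agent.Lib.Helper14.S5781FO
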