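import Mathlib
import Cfsg.Prelude.Def_GeometricClasses
import Cfsg.Agent.Lib.Helper13.DecompCoords

/-!
# S5781 FO-TR (helper14): class-6 data is invariant under a change of coordinates `psi e P`
-/

set_option autoImplicit false

namespace Cfsg.Agent.Lib.Helper14.S5781FO

open Cfsg Cfsg.Geo
open scoped MatrixGroups Matrix

section abstract

variable {G₀ G₁ : Type*} [Group G₀] [Group G₁]

/-- "characteristic abelian subgroups are cyclic" is invariant under isomorphism -/
theorem cyclic_char_transport (E : G₀ ≃* G₁)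
    (h : ∀ A : Subgroup G₀, A.Characteristic → IsMulCommutative A → IsCyclic A) :
    ∀ A : Subgroup G₁, A.Characteristic → IsMulCommutative A → IsCyclic A := by
  intro A hA hAc
  have hchar : (A.comap E.toMonoidHom).Characteristic := by
    rw [Subgroup.characteristic_iff_le_comap]
    intro ϕ x hx
    have hx' : E x ∈ A := hx
    have := (Subgroup.characteristic_iff_le_comap.mp hA (E.symm.trans (ϕ.trans E))) hx'
    show E (ϕ x) ∈ A
    simpa using this
  have hcomm : IsMulCommutative (A.comap E.toMonoidHom) := by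
    refine ⟨⟨fun a b => ?_⟩⟩
    apply Subtype.ext
    apply E.injective
    have := hAc.is_comm.comm ⟨E a, a.2⟩ ⟨E b, b.2⟩
    have h2 : E (a : G₀) * E (b : G₀) = E (b : G₀) * E (a : G₀) := congrArg Subtype.val this
    show E ((a : G₀) * (b : G₀)) = E ((b : G₀) * (a : G₀))
    rw [map_mul, map_mul]
    exact h2
  have hcyc := h _ hchar hcomm
  exact isCyclic_of_surjective (E.toMonoidHom.subgroupComap A) (by
    rintro ⟨y, hy⟩
    refine ⟨⟨E.symm y, ?_⟩, ?_⟩
    · show E (E.symm y) ∈ A
      simpa using hy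
    · apply Subtype.ext
      show E (E.symm y) = y
      simp)

end abstract

section TR

variable {ι κ : Type} [Fintype ι] [DecidableEq ι] [Fintype κ] [DecidableEq κ] {F : Type*} [Field F]

open Cfsg.Agent.Lib.Helper13.TNM

/-- absolute irreducibility is invariant under `psi e P` -/
theorem absIrred_map (e : ι ≃ κ) (P : GL ι F) (R₀ : Subgroup (GL κ F))
    (h : ActsAbsolutelyIrreducibly (matrixSet R₀)) :
    ActsAbsolutelyIrreducibly (matrixSet (R₀.map (psi e P))) := by
  constructor
  · intro W hW
    let L : (κ → F) →ₗ[F] (ι → F) :=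
      { toFun := TT e P
        map_add' := TT_add e P
        map_smul' := fun c x => by simpa using TT_smul e P c x }
    have hL : ∀ x, L x = TT e P x := fun x => rfl
    have h0 := h.1 (W.comap L) (by
      rintro s ⟨M, hM, rfl⟩ w ⟨x, hx, rfl⟩
      have hx' : TT e P x ∈ W := hx
      show L (Matrix.toLin' (M : Matrix κ κ F) x) ∈ W
      rw [hL, Matrix.toLin'_apply, ← psi_mulVec]
      apply hW _ ⟨psi e P M, Subgroup.mem_map_of_mem _ hM, rfl⟩
      exact ⟨TT e P x, hx', by rw [Matrix.toLin'_apply]⟩)
    rcases h0 with hb | ht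
    · left
      rw [Submodule.eq_bot_iff]
      intro v hv
      obtain ⟨x, rfl⟩ := TT_surj e P v
      have hx : x ∈ W.comap L := hv
      rw [hb, Submodule.mem_bot] at hx
      rw [hx, ← hL, map_zero]
    · right
      rw [Submodule.eq_top_iff']
      intro v
      obtain ⟨x, rfl⟩ := TT_surj e P v
      have hx : x ∈ W.comap L := by rw [ht]; trivial
      exact hx
  · intro X hX
    set Pm : Matrix ι ι F := (P : Matrix ι ι F) with hPm
    set Pi : Matrix ι ι F := ((P⁻¹ : GL ι F) : Matrix ι ι F) with hPi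
    have hPiP : Pi * Pm = 1 := by rw [hPi, hPm, ← Units.val_mul, inv_mul_cancel, Units.val_one]
    have hPPi : Pm * Pi = 1 := by rw [hPi, hPm, ← Units.val_mul, mul_inv_cancel, Units.val_one]
    set Q : Matrix ι ι F := Pi * X * Pm with hQ
    have hQM : ∀ M ∈ R₀, Q * (M : Matrix κ κ F).submatrix e e = (M : Matrix κ κ F).submatrix e e * Q := by
      intro M hM
      have h1 : X * ((psi e P M : GL ι F) : Matrix ι ι F) = ((psi e P M : GL ι F) : Matrix ι ι F) * X :=
        hX _ ⟨psi e P M, Subgroup.mem_map_of_mem _ hM, rfl⟩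
      rw [psi_val] at h1
      set M' : Matrix ι ι F := (M : Matrix κ κ F).submatrix e e with hM'
      calc Q * M' = Pi * (X * (Pm * M' * Pi)) * Pm := by
            rw [hQ]
            simp only [mul_assoc]
            rw [hPiP, mul_one]
        _ = Pi * ((Pm * M' * Pi) * X) * Pm := by rw [h1]
        _ = M' * Q := by
            rw [hQ]
            simp only [mul_assoc]
            rw [← mul_assoc Pi Pm, hPiP, one_mul]
    have hcomm : ∀ s ∈ matrixSet R₀, Q.submatrix e.symm e.symm * s = s * Q.submatrix e.symm e.symm := by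
      rintro s ⟨M, hM, rfl⟩
      have hMM : (M : Matrix κ κ F) = ((M : Matrix κ κ F).submatrix e e).submatrix e.symm e.symm := by
        ext i j; simp
      show Q.submatrix e.symm e.symm * (M : Matrix κ κ F) = (M : Matrix κ κ F) * Q.submatrix e.symm e.symm
      rw [hMM, Matrix.submatrix_mul_equiv, Matrix.submatrix_mul_equiv, hQM M hM]
    obtain ⟨c, hc⟩ := h.2 _ hcomm
    refine ⟨c, ?_⟩
    have hQc : Q = c • (1 : Matrix ι ι F) := by
      have h1 : Q = (Q.submatrix e.symm e.symm).submatrix e e := by ext i j; simp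
      rw [h1, hc]
      ext i j
      simp [Matrix.one_apply]
    have hX' : X = Pm * Q * Pi := by
      rw [hQ]
      simp only [mul_assoc]
      rw [hPPi, mul_one, ← mul_assoc, hPPi, one_mul]
    rw [hX', hQc, Matrix.mul_smul, mul_one, Matrix.smul_mul, hPPi]

/-- FO-TR (a) -/
theorem symplecticTypeData_map [Fintype F] (e : ι ≃ κ) (P : GL ι F) (r : ℕ) (R₀ : Subgroup (GL κ F))
    (h : IsLinearSymplecticTypeData r R₀) :
    IsLinearSymplecticTypeData r (R₀.map (Cfsg.Agent.Lib.Helper13.TNM.psi e P)) := by
  have hinj := psi_injective (F := F) e P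
  let E : R₀ ≃* R₀.map (psi e P) := R₀.equivMapOfInjective (psi e P) hinj
  have hcardR : Nat.card (R₀.map (psi e P)) = Nat.card R₀ := (Nat.card_congr E.toEquiv).symm
  have hcardZ : Nat.card (Subgroup.center (R₀.map (psi e P))) = Nat.card (Subgroup.center R₀) :=
    (Nat.card_congr (Subgroup.centerCongr E).toEquiv).symm
  have hcardι : Fintype.card ι = Fintype.card κ := Fintype.card_congr e
  refine ⟨⟨h.symplecticType.prime, ?_, ?_, ?_⟩, ?_, ?_⟩
  · exact h.symplecticType.pGroup.of_equiv E
  · exact cyclic_char_transport E h.symplecticType.cyclic_of_characteristic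
  · rw [← Monoid.exponent_eq_of_mulEquiv E]
    exact h.symplecticType.exponent_eq
  · exact absIrred_map e P R₀ h.absIrred
  · obtain ⟨p, e', hrp, hmin, hcases⟩ := h.field
    refine ⟨p, e', hrp, by rw [hcardZ]; exact hmin, ?_⟩
    rw [hcardZ, hcardR, hcardι]
    rcases hcases with h1 | h2 | h3
    · left; exact h1
    · right; left; exact h2
    · right; right
      obtain ⟨a, b, c, d, f, x, hx, hux⟩ := h3
      refine ⟨a, b, c, d, f, E x, ?_, ?_⟩
      · show orderOf (E x) = 2
        rw [MulEquiv.orderOf_eq]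
        exact hx
      · intro y hy
        have hy' : orderOf (E.symm y) = 2 := by rw [MulEquiv.orderOf_eq]; exact hy
        have := hux (E.symm y) hy'
        rw [← this]
        simp

/-- FO-TR (b) -/
theorem psi_mem_subgroupNormalizer (e : ι ≃ κ) (P : GL ι F) (R₀ : Subgroup (GL κ F)) (M : GL κ F)
    (hM : M ∈ subgroupNormalizer R₀) :
    Cfsg.Agent.Lib.Helper13.TNM.psi e P M ∈
      subgroupNormalizer (R₀.map (Cfsg.Agent.Lib.Helper13.TNM.psi e P)) := by
  unfold subgroupNormalizer at hM ⊢
  rw [Subgroup.mem_normalizer_iff] at hM ⊢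
  intro y
  constructor
  · rintro ⟨y₀, hy₀, rfl⟩
    refine ⟨M * y₀ * M⁻¹, (hM y₀).mp hy₀, ?_⟩
    rw [map_mul, map_mul, map_inv]
  · rintro ⟨z, hz, hzy⟩
    refine ⟨M⁻¹ * z * M, ?_, ?_⟩
    · apply (hM _).mpr
      have : M * (M⁻¹ * z * M) * M⁻¹ = z := by group
      rw [this]
      exact hz
    · rw [map_mul, map_mul, map_inv, hzy]
      group

end TR

end Cfsg.Agent.Lib.Helper14.S5781FO
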