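import Mathlib
import Cfsg.Agent.Lib.Helper14.SL2Cusp

/-!
# Sums over the characters of a non-split torus of `SL₂(F)`

For a cyclic subgroup `C` of order `q + 1` (`q` odd) of `SL₂(F)`:
* `exists_theta0`: the quadratic character `θ₀` of `C`, with `θ₀ c = 1` iff `c ^ ((q+1)/2) = 1`, and
  the only homomorphisms `θ` with `θ² = 1` are `1` and `θ₀`;
* `sum_hom_apply`: `∑_θ θ c = 0` for `c ≠ 1`;
* `sum_hom_sq_ne_one`: `∑_{θ² ≠ 1} (θ c + θ c⁻¹) = -2 - 2 θ₀ c` for `c ≠ 1`.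
-/

set_option autoImplicit false

namespace Cfsg.Agent.Lib.Helper14

open Matrix

variable {F : Type*} [Field F] [Fintype F] (C : Subgroup (SpecialLinearGroup (Fin 2) F))

omit [Fintype F] in
/-- Dual orthogonality for a finite cyclic subgroup. -/
theorem sum_hom_apply (hC : IsCyclic C) [Finite C] [Fintype (C →* ℂˣ)] (c : C) (hc : c ≠ 1) :
    ∑ θ : C →* ℂˣ, ((θ c : ℂˣ) : ℂ) = 0 := by
  let _ : CommGroup C := IsCyclic.commGroup
  have : NeZero (Monoid.exponent C) := ⟨Monoid.exponent_ne_zero_of_finite⟩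
  obtain ⟨ψ, hψ⟩ := CommGroup.exists_apply_ne_one_of_hasEnoughRootsOfUnity C ℂ hc
  have hψ' : ((ψ c : ℂˣ) : ℂ) ≠ 1 := by
    intro h
    apply hψ
    exact Units.ext h
  refine eq_zero_of_mul_eq_self_left hψ' ?_
  rw [Finset.mul_sum]
  have : ∀ θ : C →* ℂˣ, ((ψ c : ℂˣ) : ℂ) * ((θ c : ℂˣ) : ℂ) = (((ψ * θ) c : ℂˣ) : ℂ) := by
    intro θ
    rw [MonoidHom.mul_apply, Units.val_mul]
  simp only [this]
  exact Fintype.sum_equiv (Equiv.mulLeft ψ) _ _ (fun θ => rfl)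

variable (hodd : Odd (Fintype.card F)) (hcard : Nat.card C = Fintype.card F + 1)

include hodd hcard in
/-- The quadratic character of `C`. -/
theorem exists_theta0 (hC : IsCyclic C) :
    ∃ θ₀ : C →* ℂˣ, θ₀ ≠ 1 ∧ θ₀ * θ₀ = 1 ∧
      (∀ θ : C →* ℂˣ, θ * θ = 1 → θ = 1 ∨ θ = θ₀) ∧
      (∀ c : C, c ^ ((Fintype.card F + 1) / 2) = 1 → ((θ₀ c : ℂˣ) : ℂ) = 1) ∧
      (∀ c : C, c ^ ((Fintype.card F + 1) / 2) ≠ 1 → ((θ₀ c : ℂˣ) : ℂ) = -1) := by
  classical
  have h2 := two_ne_zero_of_odd hodd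
  have hneg := neg_one_mem_of_card hodd C hcard
  let _ : CommGroup C := IsCyclic.commGroup
  have : NeZero (Monoid.exponent C) := ⟨Monoid.exponent_ne_zero_of_finite⟩
  obtain ⟨e⟩ := CommGroup.monoidHom_mulEquiv_of_hasEnoughRootsOfUnity C ℂ
  set negC : C := ⟨-1, hneg⟩ with hnegC
  have hnegsq : negC * negC = 1 := by
    apply Subtype.ext
    show (-1 : SpecialLinearGroup (Fin 2) F) * -1 = 1
    simp
  have hnegne : negC ≠ 1 := by
    intro h
    have h1 : (-1 : SpecialLinearGroup (Fin 2) F) = 1 := congrArg Subtype.val h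
    have e1 : ((1 : SpecialLinearGroup (Fin 2) F) : Matrix (Fin 2) (Fin 2) F) 0 0 = 1 := by simp
    have e2 : ((-1 : SpecialLinearGroup (Fin 2) F) : Matrix (Fin 2) (Fin 2) F) 0 0 = -1 := by simp
    have e3 : ((-1 : SpecialLinearGroup (Fin 2) F) : Matrix (Fin 2) (Fin 2) F) 0 0 =
        ((1 : SpecialLinearGroup (Fin 2) F) : Matrix (Fin 2) (Fin 2) F) 0 0 := by rw [h1]
    rw [e1, e2] at e3
    apply h2
    linear_combination -e3
  set θ₀ : C →* ℂˣ := e.symm negC with hθ₀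
  have hθ₀ne : θ₀ ≠ 1 := by
    intro h
    apply hnegne
    have : e θ₀ = e 1 := by rw [h]
    rw [hθ₀, MulEquiv.apply_symm_apply, map_one] at this
    exact this
  have hθ₀sq : θ₀ * θ₀ = 1 := by
    rw [hθ₀, ← map_mul, hnegsq, map_one]
  have hsq : ∀ c : C, ((θ₀ c : ℂˣ) : ℂ) * ((θ₀ c : ℂˣ) : ℂ) = 1 := by
    intro c
    have := DFunLike.congr_fun hθ₀sq c
    rw [MonoidHom.mul_apply, MonoidHom.one_apply] at this
    rw [← Units.val_mul, this, Units.val_one]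
  have hpm : ∀ c : C, ((θ₀ c : ℂˣ) : ℂ) = 1 ∨ ((θ₀ c : ℂˣ) : ℂ) = -1 := by
    intro c
    have : (((θ₀ c : ℂˣ) : ℂ) - 1) * (((θ₀ c : ℂˣ) : ℂ) + 1) = 0 := by
      linear_combination hsq c
    rcases mul_eq_zero.mp this with h | h
    · left; exact sub_eq_zero.mp h
    · right; exact eq_neg_of_add_eq_zero_left h
  -- generator
  obtain ⟨γ, hγ⟩ := IsCyclic.exists_monoid_generator (α := C)
  have hord : orderOf γ = Fintype.card F + 1 := by
    rw [orderOf_eq_card_of_forall_mem_powers hγ, hcard]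
  have hγval : ((θ₀ γ : ℂˣ) : ℂ) = -1 := by
    rcases hpm γ with h | h
    · exfalso
      apply hθ₀ne
      ext c
      obtain ⟨k, rfl⟩ := (Submonoid.mem_powers_iff _ _).mp (hγ c)
      rw [map_pow, MonoidHom.one_apply, Units.val_pow_eq_pow_val, h, one_pow, Units.val_one]
    · exact h
  obtain ⟨m, hm⟩ := hodd
  have hhalf : (Fintype.card F + 1) / 2 = m + 1 := by omega
  have hkey : ∀ k : ℕ, (γ ^ k) ^ ((Fintype.card F + 1) / 2) = 1 ↔ Even k := by
    intro k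
    rw [← pow_mul, orderOf_dvd_iff_pow_eq_one.symm, hord, hhalf]
    have : Fintype.card F + 1 = 2 * (m + 1) := by omega
    rw [this]
    constructor
    · intro h
      have h3 : 2 * (m + 1) ∣ k * (m + 1) := h
      rw [Nat.mul_dvd_mul_iff_right (by omega : 0 < m + 1)] at h3
      exact even_iff_two_dvd.mpr h3
    · intro h
      obtain ⟨j, rfl⟩ := h
      exact ⟨j, by ring⟩
  refine ⟨θ₀, hθ₀ne, hθ₀sq, ?_, ?_, ?_⟩
  · intro θ hθ
    have h1 : e θ * e θ = 1 := by rw [← map_mul, hθ, map_one]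
    have h1' : ((e θ : C) : SpecialLinearGroup (Fin 2) F) * ((e θ : C) : SpecialLinearGroup (Fin 2) F)
        = 1 := congrArg Subtype.val h1
    rcases eq_one_or_neg_one_of_mul_self h2 _ h1' with h | h
    · left
      have : e θ = 1 := Subtype.ext h
      rw [← map_one e] at this
      exact e.injective this
    · right
      have : e θ = negC := Subtype.ext h
      rw [hθ₀, ← this, MulEquiv.symm_apply_apply]
  · intro c hc
    obtain ⟨k, rfl⟩ := (Submonoid.mem_powers_iff _ _).mp (hγ c)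
    rw [map_pow, Units.val_pow_eq_pow_val, hγval, ((hkey k).mp hc).neg_one_pow]
  · intro c hc
    obtain ⟨k, rfl⟩ := (Submonoid.mem_powers_iff _ _).mp (hγ c)
    rw [map_pow, Units.val_pow_eq_pow_val, hγval]
    have : ¬ Even k := fun h => hc ((hkey k).mpr h)
    exact (Nat.not_even_iff_odd.mp this).neg_one_pow

omit [Fintype F] in
/-- The sum of `θ c + θ c⁻¹` over the `θ` with `θ² ≠ 1`. -/
theorem sum_sq_ne_one (hC : IsCyclic C) [Finite C] (θ₀ : C →* ℂˣ) (hθ₀ : θ₀ ≠ 1)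
    (hθ₀sq : θ₀ * θ₀ = 1) (hall : ∀ θ : C →* ℂˣ, θ * θ = 1 → θ = 1 ∨ θ = θ₀)
    [Fintype (C →* ℂˣ)] [DecidableEq (C →* ℂˣ)] (c : C) (hc : c ≠ 1) :
    ∑ θ ∈ Finset.univ.filter (fun θ : C →* ℂˣ => θ * θ ≠ 1),
      (((θ c : ℂˣ) : ℂ) + ((θ c⁻¹ : ℂˣ) : ℂ)) = -2 - 2 * ((θ₀ c : ℂˣ) : ℂ) := by
  have hc' : c⁻¹ ≠ 1 := by
    intro h
    apply hc
    rw [inv_eq_one] at h
    exact h
  have hall0 : ∑ θ : C →* ℂˣ, (((θ c : ℂˣ) : ℂ) + ((θ c⁻¹ : ℂˣ) : ℂ)) = 0 := by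
    rw [Finset.sum_add_distrib, sum_hom_apply C hC c hc, sum_hom_apply C hC c⁻¹ hc', add_zero]
  rw [← Finset.sum_filter_add_sum_filter_not Finset.univ (fun θ : C →* ℂˣ => θ * θ ≠ 1)] at hall0
  have hfilt : Finset.univ.filter (fun θ : C →* ℂˣ => ¬ θ * θ ≠ 1) = {1, θ₀} := by
    ext θ
    simp only [Finset.mem_filter, Finset.mem_univ, true_and, not_not, Finset.mem_insert,
      Finset.mem_singleton]
    constructor
    · exact hall θ
    · rintro (rfl | rfl)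
      · exact one_mul (1 : C →* ℂˣ)
      · exact hθ₀sq
  rw [hfilt, Finset.sum_pair hθ₀.symm] at hall0
  have h1 : ((θ₀ c⁻¹ : ℂˣ) : ℂ) = ((θ₀ c : ℂˣ) : ℂ) := by
    have := DFunLike.congr_fun hθ₀sq c
    rw [MonoidHom.mul_apply, MonoidHom.one_apply] at this
    rw [map_inv, inv_eq_of_mul_eq_one_right this]
  rw [h1] at hall0
  simp only [MonoidHom.one_apply, Units.val_one] at hall0
  linear_combination hall0

end Cfsg.Agent.Lib.Helper14
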