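import Mathlib
import Cfsg.Agent.Lib.Helper14.DegGraph
import Cfsg.Agent.S2299
import Cfsg.Agent.S2300
set_option autoImplicit false
namespace Cfsg.Agent.Lib.Helper14
open Cfsg Matrix

section
variable {F : Type*} [Field F] [Fintype F]

theorem exists_irr_of_card_pos {K : Type*} [Group K] (c : ℂ)
    (h : 0 < Nat.card {χ : Cfsg.IrrCharacter K // (χ : K → ℂ) 1 = c}) :
    ∃ χ : Cfsg.IrrCharacter K, (χ : K → ℂ) 1 = c := by
  have hne : Nonempty {χ : Cfsg.IrrCharacter K // (χ : K → ℂ) 1 = c} := by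
    by_contra hcon
    rw [not_nonempty_iff] at hcon
    rw [Nat.card_of_isEmpty] at h
    exact lt_irrefl _ h
  obtain ⟨χ, hχ⟩ := hne
  exact ⟨χ, hχ⟩

/-- Character degrees of `SL₂(q)`, `q ≥ 4` even. -/
theorem charDegrees_SL2_even [CharP F 2] (h4 : 4 ≤ Fintype.card F) :
    charDegrees (SpecialLinearGroup (Fin 2) F) =
      {1, Fintype.card F - 1, Fintype.card F, Fintype.card F + 1} := by
  obtain ⟨hdeg, hcount⟩ := Cfsg.Agent.S2300.result (F := F)
  obtain ⟨c1, c2, c3, c4⟩ := hcount h4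
  ext d
  simp only [Set.mem_insert_iff, Set.mem_singleton_iff]
  constructor
  · rintro ⟨χ, rfl⟩
    rcases hdeg χ.1 χ.2 with h | h | h | h
    · left
      exact charDegree_of_natCast _ 1 (by rw [h]; simp)
    · right; left
      exact charDegree_of_natCast _ _ (by rw [h, Nat.cast_sub (by omega)]; simp)
    · right; right; left
      exact charDegree_of_natCast _ _ h
    · right; right; right
      exact charDegree_of_natCast _ _ (by rw [h]; simp)
  · rintro (rfl | rfl | rfl | rfl)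
    · obtain ⟨χ, hχ⟩ := exists_irr_of_card_pos (K := SpecialLinearGroup (Fin 2) F) 1 (by omega)
      exact ⟨χ, charDegree_of_natCast _ 1 (by rw [hχ]; simp)⟩
    · obtain ⟨χ, hχ⟩ := exists_irr_of_card_pos (K := SpecialLinearGroup (Fin 2) F)
        ((Fintype.card F : ℂ) - 1) (by omega)
      exact ⟨χ, charDegree_of_natCast _ _ (by rw [hχ, Nat.cast_sub (by omega)]; simp)⟩
    · obtain ⟨χ, hχ⟩ := exists_irr_of_card_pos (K := SpecialLinearGroup (Fin 2) F)
        (Fintype.card F : ℂ) (by omega)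
      exact ⟨χ, charDegree_of_natCast _ _ hχ⟩
    · obtain ⟨χ, hχ⟩ := exists_irr_of_card_pos (K := SpecialLinearGroup (Fin 2) F)
        ((Fintype.card F : ℂ) + 1) (by omega)
      exact ⟨χ, charDegree_of_natCast _ _ (by rw [hχ]; simp)⟩

/-- In characteristic 2 the centre of `SL₂` is trivial. -/
theorem center_SL2_eq_bot [CharP F 2] :
    Subgroup.center (SpecialLinearGroup (Fin 2) F) = ⊥ := by
  rw [eq_bot_iff]
  intro A hA
  rw [Matrix.SpecialLinearGroup.mem_center_iff] at hA
  obtain ⟨r, hr, hA⟩ := hA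
  rw [Fintype.card_fin] at hr
  have h1 : (r - 1) ^ 2 = 0 := by
    have h2 : (2 : F) = 0 := CharTwo.two_eq_zero
    linear_combination hr + (1 - r) * h2
  have h3 : r = 1 := by
    have := pow_eq_zero_iff (two_ne_zero) |>.mp h1
    exact sub_eq_zero.mp this
  rw [Subgroup.mem_bot]
  apply Subtype.ext
  rw [← hA, h3, map_one]
  rfl

/-- Character degrees of `PSL₂(q)`, `q ≥ 4` even. -/
theorem charDegrees_PSL2_even [CharP F 2] (h4 : 4 ≤ Fintype.card F) :
    charDegrees (ProjectiveSpecialLinearGroup (Fin 2) F) =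
      {1, Fintype.card F - 1, Fintype.card F, Fintype.card F + 1} := by
  rw [← charDegrees_SL2_even h4]
  show charDegrees (SpecialLinearGroup (Fin 2) F ⧸ Subgroup.center (SpecialLinearGroup (Fin 2) F))
    = _
  rw [charDegrees_quotient]
  ext d
  constructor
  · rintro ⟨χ, -, hχ⟩
    exact ⟨χ, hχ⟩
  · rintro ⟨χ, hχ⟩
    refine ⟨χ, ?_, hχ⟩
    intro n hn
    rw [center_SL2_eq_bot, Subgroup.mem_bot] at hn
    rw [hn]

end

end Cfsg.Agent.Lib.Helper14
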