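import Mathlib
import Cfsg.Agent.Lib.Helper14.SL2Conj
import Cfsg.Agent.S2325

/-!
# Pairs of `GL₂`-conjugate irreducible characters of `SL₂(F)`: values at the transvections
-/

set_option autoImplicit false

namespace Cfsg.Agent.Lib.Helper14

open Matrix Cfsg.Agent.Lib.Helper2
open scoped ComplexConjugate

section general

variable {K : Type*} [Group K] [Fintype K]

/-- Summing a class function over a group using a system of class representatives. -/
theorem sum_classFun_eq_sum_reps {ι : Type*} [Fintype ι] (r : ι → K)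
    (hinj : ∀ i j, IsConj (r i) (r j) → i = j) (hsurj : ∀ g : K, ∃ i, IsConj (r i) g)
    {E : Type*} [AddCommMonoid E] (φ : K → E) (hφ : ∀ g h : K, IsConj g h → φ g = φ h) :
    ∑ g : K, φ g = ∑ i, Nat.card (ConjClasses.mk (r i)).carrier • φ (r i) := by
  classical
  have h1 : ∀ g : K, φ g = ∑ i, if IsConj (r i) g then φ (r i) else 0 := by
    intro g
    obtain ⟨i, hi⟩ := hsurj g
    rw [Finset.sum_eq_single i]
    · rw [if_pos hi, hφ _ _ hi]
    · intro j _ hj
      rw [if_neg]
      intro hc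
      exact hj (hinj _ _ (hc.trans hi.symm))
    · intro h; exact absurd (Finset.mem_univ _) h
  rw [Finset.sum_congr rfl (fun g _ => h1 g), Finset.sum_comm]
  apply Finset.sum_congr rfl
  intro i _
  rw [← Finset.sum_filter, Finset.sum_const]
  congr 1
  rw [Nat.card_eq_fintype_card, ← Fintype.card_subtype]
  apply Fintype.card_congr
  refine Equiv.subtypeEquivRight ?_
  intro g
  rw [ConjClasses.mem_carrier_iff_mk_eq, ConjClasses.mk_eq_mk_iff_isConj]
  exact ⟨fun h => h.symm, fun h => h.symm⟩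

end general

variable {F : Type*} [Field F] [Fintype F]

/-- The size of the class of a non-central element `[[ε, b], [0, ε]]` of `SL₂`, `q` odd. -/
theorem two_mul_card_class_upperSL (h2 : (2 : F) ≠ 0) (ε b : F) (hε : ε * ε = 1) (hb : b ≠ 0) :
    2 * Nat.card (ConjClasses.mk (upperSL ε b hε)).carrier = Fintype.card F ^ 2 - 1 := by
  classical
  have h1 := card_class_mul_card_centralizer (upperSL ε b hε)
  rw [card_centralizer_upperSL ε b hε hb, card_sq_eq_one_odd h2, card_SL2] at h1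
  have hq : 0 < Fintype.card F := Fintype.card_pos
  have h3 : Fintype.card F * (2 * Nat.card (ConjClasses.mk (upperSL ε b hε)).carrier) =
      Fintype.card F * (Fintype.card F ^ 2 - 1) := by
    rw [← h1]; ring
  exact Nat.eq_of_mul_eq_mul_left hq h3

omit [Fintype F] in
theorem conjSL_neg (x : GL (Fin 2) F) (s : SpecialLinearGroup (Fin 2) F) :
    conjSL x (-s) = -conjSL x s := by
  apply Subtype.ext
  show (x : Matrix (Fin 2) (Fin 2) F) * (-(s : Matrix (Fin 2) (Fin 2) F)) *
    ((x⁻¹ : GL (Fin 2) F) : Matrix (Fin 2) (Fin 2) F) =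
    -((x : Matrix (Fin 2) (Fin 2) F) * (s : Matrix (Fin 2) (Fin 2) F) *
      ((x⁻¹ : GL (Fin 2) F) : Matrix (Fin 2) (Fin 2) F))
  rw [Matrix.mul_neg, Matrix.neg_mul]

/-- The central character of an irreducible character of `SL₂`. -/
theorem exists_central_sign [DecidableEq F] {θ : SpecialLinearGroup (Fin 2) F → ℂ}
    (hθ : Cfsg.IsIrrCharacter (SpecialLinearGroup (Fin 2) F) θ) :
    ∃ ω : ℂ, ω * ω = 1 ∧ ∀ s : SpecialLinearGroup (Fin 2) F, θ (-s) = ω * θ s := by
  obtain ⟨n, ρ, hρ, rfl⟩ := hθ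
  have := hρ
  have hz : (-1 : SpecialLinearGroup (Fin 2) F) ∈ Subgroup.center (SpecialLinearGroup (Fin 2) F) := by
    rw [Subgroup.mem_center_iff]
    intro h
    rw [mul_neg, neg_mul, mul_one, one_mul]
  obtain ⟨ω, hω⟩ := exists_smul_id_of_mem_center ρ hz
  have hpos := finrank_pos_of_isIrreducible ρ
  refine ⟨ω, ?_, ?_⟩
  · have h1 : ρ (-1) * ρ (-1) = 1 := by
      rw [← map_mul, neg_mul_neg, one_mul, map_one]
    rw [hω] at h1
    have h2 := congrArg (LinearMap.trace ℂ (Fin n → ℂ)) h1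
    rw [smul_mul_smul_comm, map_smul, smul_eq_mul] at h2
    have h3 : (LinearMap.id : (Fin n → ℂ) →ₗ[ℂ] (Fin n → ℂ)) * LinearMap.id = 1 := rfl
    rw [h3, LinearMap.trace_one] at h2
    have h4 : (Module.finrank ℂ (Fin n → ℂ) : ℂ) ≠ 0 := by exact_mod_cast hpos.ne'
    exact mul_right_cancel₀ h4 (h2.trans (one_mul _).symm)
  · intro s
    show LinearMap.trace ℂ _ (ρ (-s)) = ω * LinearMap.trace ℂ _ (ρ s)
    have h1 : -s = (-1) * s := by rw [neg_mul, one_mul]
    rw [h1, map_mul, hω, ← smul_eq_mul ω, ← map_smul]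
    congr 1

omit [Fintype F] in
theorem upperSL_neg_one (c : F) (h : (-1 : F) * (-1) = 1) :
    upperSL (-1) c h = -upperSL 1 (-c) (one_mul 1) := by
  apply Subtype.ext
  show (!![-1, c; 0, -1] : Matrix (Fin 2) (Fin 2) F) = -!![1, -c; 0, 1]
  simp only [Matrix.neg_of, Matrix.neg_cons, Matrix.neg_empty, neg_zero, neg_neg]

section pair

variable [DecidableEq F] {θ θ' : SpecialLinearGroup (Fin 2) F → ℂ}
  (hθ : Cfsg.IsIrrCharacter (SpecialLinearGroup (Fin 2) F) θ)
  (hθ' : Cfsg.IsIrrCharacter (SpecialLinearGroup (Fin 2) F) θ') (hne : θ' ≠ θ)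
  (x : GL (Fin 2) F) (hx : θ' ∘ conjSL x = θ)

include hθ' hne hx

/-- Conjugation by `diag(ν, 1)` with `ν` a non-square swaps the two characters. -/
theorem pair_swap (ν : Fˣ) (hν : ¬ IsSquare (ν : F)) (ε c : F) (hε : ε * ε = 1) :
    θ (upperSL ε c hε) = θ' (upperSL ε ((ν : F) * c) hε) := by
  have hcf' := IsCharacter.isClassFunction (IsIrrCharacter.isCharacter hθ')
  have h1 := comp_conjSL_of_not_isSquare hcf' hne x hx (bmk ν 1 0)
    (by rw [det_bmk, Units.val_one, mul_one]; exact hν)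
  rw [← h1, Function.comp_apply, conjSL_bmk_upperSL]

theorem pair_neg : ∃ ω : ℂ, ω * ω = 1 ∧ ∀ s : SpecialLinearGroup (Fin 2) F,
    θ (-s) - θ' (-s) = ω * (θ s - θ' s) := by
  obtain ⟨ω, hω1, hω⟩ := exists_central_sign hθ'
  refine ⟨ω, hω1, ?_⟩
  intro s
  have h1 : θ (-s) = ω * θ s := by
    rw [← hx, Function.comp_apply, Function.comp_apply, conjSL_neg, hω]
  rw [h1, hω, mul_sub]

/-- The difference of the two characters has constant absolute value on the non-central elements
with `tr² = 4`. -/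
theorem pair_diff_normSq (h2 : (2 : F) ≠ 0) (ε c : F) (hε : ε * ε = 1) (hc : c ≠ 0) :
    Complex.normSq (θ (upperSL ε c hε) - θ' (upperSL ε c hε)) =
      Complex.normSq (θ (upperSL 1 1 (one_mul 1)) - θ' (upperSL 1 1 (one_mul 1))) := by
  have hcf' := IsCharacter.isClassFunction (IsIrrCharacter.isCharacter hθ')
  have hcf : Cfsg.IsClassFunction (SpecialLinearGroup (Fin 2) F) θ := by
    rw [← hx]; exact isClassFunction_comp_conjSL hcf' x
  have hchar : ringChar F ≠ 2 := by
    intro h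
    apply h2
    have := ringChar.spec F (2 : ℕ)
    have h3 : ((2 : ℕ) : F) = 0 := this.mpr (by rw [h])
    exact_mod_cast h3
  obtain ⟨ν0, hν0⟩ := FiniteField.exists_nonsquare hchar
  have hν00 : ν0 ≠ 0 := by rintro rfl; exact hν0 IsSquare.zero
  set ν : Fˣ := Units.mk0 ν0 hν00 with hνdef
  have hν : ¬ IsSquare (ν : F) := hν0
  -- the case `ε = 1`
  have key : ∀ c : F, c ≠ 0 →
      Complex.normSq (θ (upperSL 1 c (one_mul 1)) - θ' (upperSL 1 c (one_mul 1))) =
      Complex.normSq (θ (upperSL 1 1 (one_mul 1)) - θ' (upperSL 1 1 (one_mul 1))) := by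
    intro c hc
    obtain ⟨σ, d, hd0, hd⟩ := exists_nuOf_mul_sq ν0 hν0 c hc
    have hconj := isConj_upperSL_mul_sq 1 (nuOf ν0 σ) d (one_mul 1) hd0
    rw [← hd] at hconj
    obtain ⟨y, hy⟩ := isConj_iff.mp hconj
    rw [← hy, hcf, hcf']
    cases σ
    · -- `nuOf = ν`
      have e0 : nuOf ν0 false = ν0 := by simp [nuOf]
      rw [e0]
      have e1 : θ (upperSL 1 ν0 (one_mul 1)) = θ' (upperSL 1 1 (one_mul 1)) := by
        rw [pair_swap hθ' hne x hx ν hν 1 ν0 (one_mul 1)]
        have hc2 := isConj_upperSL_mul_sq 1 1 ν0 (one_mul 1) hν00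
        obtain ⟨y', hy'⟩ := isConj_iff.mp hc2
        have e3 : (ν : F) * ν0 = 1 * ν0 ^ 2 := by rw [hνdef, Units.val_mk0]; ring
        rw [e3, ← hy', hcf']
      have e2 : θ' (upperSL 1 ν0 (one_mul 1)) = θ (upperSL 1 1 (one_mul 1)) := by
        rw [pair_swap hθ' hne x hx ν hν 1 1 (one_mul 1), mul_one]
        rfl
      rw [e1, e2, ← Complex.normSq_neg, neg_sub]
    · have e0 : nuOf ν0 true = 1 := by simp [nuOf]
      rw [e0]
  have hε' : (ε - 1) * (ε + 1) = 0 := by linear_combination hε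
  rcases mul_eq_zero.mp hε' with h | h
  · obtain rfl : ε = 1 := by linear_combination h
    exact key c hc
  · obtain rfl : ε = -1 := by linear_combination h
    obtain ⟨ω, hω1, hω⟩ := pair_neg hθ' hne x hx
    rw [upperSL_neg_one, hω, Complex.normSq_mul, key (-c) (neg_ne_zero.mpr hc)]
    have h1 : Complex.normSq ω * Complex.normSq ω = 1 := by
      rw [← Complex.normSq_mul, hω1, Complex.normSq_one]
    have h3 : Complex.normSq ω = 1 := by
      rcases mul_self_eq_one_iff.mp h1 with h | h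
      · exact h
      · have := Complex.normSq_nonneg ω; linarith
    rw [h3, one_mul]

include hθ in
/-- The absolute value of the difference of the values at a transvection. -/
theorem pair_normSq (hodd : Odd (Fintype.card F)) :
    Complex.normSq (θ (upperSL 1 1 (one_mul 1)) - θ' (upperSL 1 1 (one_mul 1))) =
      (Fintype.card F : ℝ) := by
  classical
  have h2 : (2 : F) ≠ 0 := two_ne_zero_of_odd hodd
  have hcf' := IsCharacter.isClassFunction (IsIrrCharacter.isCharacter hθ')
  have hcf := IsCharacter.isClassFunction (IsIrrCharacter.isCharacter hθ)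
  obtain ⟨ν0, hν0⟩ := FiniteField.exists_nonsquare (ringChar_ne_two_of_odd hodd)
  have hν00 : ν0 ≠ 0 := by rintro rfl; exact hν0 IsSquare.zero
  set N : ℝ := Complex.normSq (θ (upperSL 1 1 (one_mul 1)) - θ' (upperSL 1 1 (one_mul 1)))
    with hN
  -- the norm of the difference
  have hinner : Cfsg.classInner (θ - θ') (θ - θ') = 2 := by
    have h11 : Cfsg.classInner θ θ = 1 := classInner_irrCharacter_self ⟨θ, hθ⟩
    have h22 : Cfsg.classInner θ' θ' = 1 := classInner_irrCharacter_self ⟨θ', hθ'⟩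
    have h12 : Cfsg.classInner θ θ' = 0 :=
      classInner_irrCharacter_ne (χ := ⟨θ, hθ⟩) (ψ := ⟨θ', hθ'⟩)
        (fun h => hne (congrArg Subtype.val h).symm)
    have h21 : Cfsg.classInner θ' θ = 0 :=
      classInner_irrCharacter_ne (χ := ⟨θ', hθ'⟩) (ψ := ⟨θ, hθ⟩)
        (fun h => hne (congrArg Subtype.val h))
    rw [classInner_sub_left, classInner_sub_right, classInner_sub_right, h11, h12, h21, h22]
    norm_num
  have hsum : ∑ s : SpecialLinearGroup (Fin 2) F, Complex.normSq (θ s - θ' s) =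
      2 * (Nat.card (SpecialLinearGroup (Fin 2) F) : ℝ) := by
    rw [classInner_def] at hinner
    have h1 : ∀ s : SpecialLinearGroup (Fin 2) F, (θ - θ') s * conj ((θ - θ') s) =
        ((Complex.normSq (θ s - θ' s) : ℝ) : ℂ) := by
      intro s
      rw [Complex.mul_conj]; rfl
    simp only [h1] at hinner
    have hS : (Nat.card (SpecialLinearGroup (Fin 2) F) : ℂ) ≠ 0 := by
      exact_mod_cast Nat.card_pos.ne'
    have h3 : ∑ s : SpecialLinearGroup (Fin 2) F, ((Complex.normSq (θ s - θ' s) : ℝ) : ℂ) =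
        2 * (Nat.card (SpecialLinearGroup (Fin 2) F) : ℂ) := by
      field_simp at hinner
      linear_combination hinner
    exact_mod_cast h3
  -- sum over the class representatives
  have hφ : ∀ g h : SpecialLinearGroup (Fin 2) F, IsConj g h →
      Complex.normSq (θ g - θ' g) = Complex.normSq (θ h - θ' h) := by
    intro g h hgh
    obtain ⟨y, hy⟩ := isConj_iff.mp hgh
    rw [← hy, hcf, hcf']
  rw [sum_classFun_eq_sum_reps (Cfsg.Agent.S2325.rep ν0)
    (Cfsg.Agent.S2325.rep_injective h2 ν0 hν0) (Cfsg.Agent.S2325.rep_surjective h2 ν0 hν0) _ hφ,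
    Fintype.sum_sum_type, Fintype.sum_sum_type] at hsum
  have z1 : ∀ s : Bool, Complex.normSq
      (θ (Cfsg.Agent.S2325.rep ν0 (Sum.inl s)) - θ' (Cfsg.Agent.S2325.rep ν0 (Sum.inl s))) = 0 := by
    intro s
    have : θ (Cfsg.Agent.S2325.rep ν0 (Sum.inl s)) = θ' (Cfsg.Agent.S2325.rep ν0 (Sum.inl s)) := by
      show θ (upperSL (sgn F s) 0 (sgn_mul_self s)) = θ' (upperSL (sgn F s) 0 (sgn_mul_self s))
      have := pair_swap hθ' hne x hx (Units.mk0 ν0 hν00) hν0 (sgn F s) 0 (sgn_mul_self s)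
      rw [mul_zero] at this
      exact this
    rw [this, sub_self, Complex.normSq_zero]
  have z2 : ∀ t : {t : F // t ^ 2 ≠ 4}, Complex.normSq
      (θ (Cfsg.Agent.S2325.rep ν0 (Sum.inr (Sum.inl t))) -
        θ' (Cfsg.Agent.S2325.rep ν0 (Sum.inr (Sum.inl t)))) = 0 := by
    intro t
    have : θ (Cfsg.Agent.S2325.rep ν0 (Sum.inr (Sum.inl t))) =
        θ' (Cfsg.Agent.S2325.rep ν0 (Sum.inr (Sum.inl t))) := by
      show θ (comp2SL t.1) = θ' (comp2SL t.1)
      rw [← hx, Function.comp_apply]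
      have htr : ((comp2SL t.1 : SpecialLinearGroup (Fin 2) F) :
          Matrix (Fin 2) (Fin 2) F).trace = t.1 := by
        rw [comp2SL_coe, comp2, Matrix.trace_fin_two]
        simp
      obtain ⟨y, hy⟩ := isConj_iff.mp (isConj_conjSL x (comp2SL t.1)
        (by rw [comp2SL_coe]; exact comp2_not_isScalar2 _ _) (by rw [htr]; exact t.2))
      calc θ' (conjSL x (comp2SL t.1)) = θ' (y * conjSL x (comp2SL t.1) * y⁻¹) := (hcf' _ _).symm
        _ = θ' (comp2SL t.1) := by rw [hy]
    rw [this, sub_self, Complex.normSq_zero]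
  have z3 : ∀ p : Bool × Bool, Complex.normSq
      (θ (Cfsg.Agent.S2325.rep ν0 (Sum.inr (Sum.inr p))) -
        θ' (Cfsg.Agent.S2325.rep ν0 (Sum.inr (Sum.inr p)))) = N := by
    rintro ⟨s, s'⟩
    exact pair_diff_normSq hθ' hne x hx h2 (sgn F s) (nuOf ν0 s') (sgn_mul_self s)
      (Cfsg.Agent.S2325.nuOf_ne_zero ν0 hν0 s')
  have c3 : ∀ p : Bool × Bool,
      2 * Nat.card (ConjClasses.mk (Cfsg.Agent.S2325.rep ν0 (Sum.inr (Sum.inr p)))).carrier =
        Fintype.card F ^ 2 - 1 := by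
    rintro ⟨s, s'⟩
    exact two_mul_card_class_upperSL h2 (sgn F s) (nuOf ν0 s') (sgn_mul_self s)
      (Cfsg.Agent.S2325.nuOf_ne_zero ν0 hν0 s')
  simp only [z1, z2, z3, smul_zero, Finset.sum_const_zero, zero_add] at hsum
  rw [← Finset.sum_smul, card_SL2] at hsum
  have hc4 : 2 * ∑ p : Bool × Bool,
      Nat.card (ConjClasses.mk (Cfsg.Agent.S2325.rep ν0 (Sum.inr (Sum.inr p)))).carrier =
        4 * (Fintype.card F ^ 2 - 1) := by
    rw [Finset.mul_sum]
    simp only [c3]
    rw [Finset.sum_const, Finset.card_univ, smul_eq_mul]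
    rfl
  set C := ∑ p : Bool × Bool,
      Nat.card (ConjClasses.mk (Cfsg.Agent.S2325.rep ν0 (Sum.inr (Sum.inr p)))).carrier with hC
  have hq : 2 ≤ Fintype.card F := Fintype.one_lt_card
  have hq1 : 0 < Fintype.card F ^ 2 - 1 := by
    have : 4 ≤ Fintype.card F ^ 2 := by nlinarith
    omega
  have hCeq : C = 2 * (Fintype.card F ^ 2 - 1) := by omega
  rw [hCeq, nsmul_eq_mul] at hsum
  have hq1' : ((Fintype.card F ^ 2 - 1 : ℕ) : ℝ) ≠ 0 := by exact_mod_cast hq1.ne'
  push_cast at hsum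
  have : ((Fintype.card F ^ 2 - 1 : ℕ) : ℝ) * (2 * N) =
      ((Fintype.card F ^ 2 - 1 : ℕ) : ℝ) * (2 * (Fintype.card F : ℝ)) := by
    linear_combination hsum
  have := mul_left_cancel₀ hq1' this
  linarith

omit hθ' hne hx in
omit [Fintype F] [DecidableEq F] in
theorem upperSL_one_neg_one :
    upperSL 1 (-1 : F) (one_mul 1) = (upperSL 1 1 (one_mul 1))⁻¹ := by
  apply eq_inv_of_mul_eq_one_right
  rw [upperSL_one_mul]
  apply Subtype.ext
  show (!![1, 1 + -1; 0, 1] : Matrix (Fin 2) (Fin 2) F) = 1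
  rw [Matrix.one_fin_two]
  apply mat2_mk_eq' <;> ring

omit hθ' hne hx in
theorem irr_inv_eq_conj {θ : SpecialLinearGroup (Fin 2) F → ℂ}
    (hθ : Cfsg.IsIrrCharacter (SpecialLinearGroup (Fin 2) F) θ)
    (s : SpecialLinearGroup (Fin 2) F) : θ s⁻¹ = conj (θ s) := by
  obtain ⟨n, ρ, _, rfl⟩ := hθ
  exact char_inv ρ s

include hθ in
/-- The square of the difference of the values at a transvection. -/
theorem pair_sq (hodd : Odd (Fintype.card F)) :
    (θ (upperSL 1 1 (one_mul 1)) - θ' (upperSL 1 1 (one_mul 1))) ^ 2 =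
      (-1 : ℂ) ^ ((Fintype.card F - 1) / 2) * (Fintype.card F : ℂ) := by
  have hcf' := IsCharacter.isClassFunction (IsIrrCharacter.isCharacter hθ')
  have hcf := IsCharacter.isClassFunction (IsIrrCharacter.isCharacter hθ)
  have hN := pair_normSq hθ hθ' hne x hx hodd
  have hN' : (θ (upperSL 1 1 (one_mul 1)) - θ' (upperSL 1 1 (one_mul 1))) *
      conj (θ (upperSL 1 1 (one_mul 1)) - θ' (upperSL 1 1 (one_mul 1))) = (Fintype.card F : ℂ) := by
    rw [Complex.mul_conj, hN]
    norm_cast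
  obtain ⟨k, hk⟩ := hodd
  by_cases hsq : IsSquare (-1 : F)
  · -- both values are real
    obtain ⟨e, he⟩ := hsq
    have he0 : e ≠ 0 := by
      rintro rfl
      rw [mul_zero] at he
      exact neg_ne_zero.mpr one_ne_zero he
    have hconj := isConj_upperSL_mul_sq 1 1 e (one_mul 1) he0
    have e1 : (1 : F) * e ^ 2 = -1 := by rw [he]; ring
    rw [e1, upperSL_one_neg_one] at hconj
    obtain ⟨y, hy⟩ := isConj_iff.mp hconj
    have ha : conj (θ (upperSL 1 1 (one_mul 1))) = θ (upperSL 1 1 (one_mul 1)) := by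
      rw [← irr_inv_eq_conj hθ, ← hy, hcf]
    have hb : conj (θ' (upperSL 1 1 (one_mul 1))) = θ' (upperSL 1 1 (one_mul 1)) := by
      rw [← irr_inv_eq_conj hθ', ← hy, hcf']
    rw [map_sub, ha, hb] at hN'
    have hmod : Fintype.card F % 4 ≠ 3 := FiniteField.isSquare_neg_one_iff.mp ⟨e, he⟩
    have heven : Even ((Fintype.card F - 1) / 2) := by
      rw [Nat.even_iff]; omega
    rw [heven.neg_one_pow, one_mul, pow_two]
    exact hN'
  · -- the two values are complex conjugates
    have hν0 : (-1 : F) ≠ 0 := neg_ne_zero.mpr one_ne_zero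
    have h1 := pair_swap hθ' hne x hx (Units.mk0 (-1) hν0) hsq 1 1 (one_mul 1)
    rw [Units.val_mk0, mul_one, upperSL_one_neg_one, irr_inv_eq_conj hθ'] at h1
    have hb : conj (θ (upperSL 1 1 (one_mul 1))) = θ' (upperSL 1 1 (one_mul 1)) := by
      rw [h1, Complex.conj_conj]
    rw [map_sub, hb, ← h1] at hN'
    have hmod : Fintype.card F % 4 = 3 := by
      by_contra h
      exact hsq (FiniteField.isSquare_neg_one_iff.mpr h)
    have hodd' : Odd ((Fintype.card F - 1) / 2) := by
      rw [Nat.odd_iff]; omega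
    rw [hodd'.neg_one_pow]
    linear_combination -hN'

end pair

end Cfsg.Agent.Lib.Helper14
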