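import Mathlib
import Cfsg.Agent.Lib.Helper14.SL2Count
import Cfsg.Agent.Lib.Helper14.SL2Pair
import Cfsg.Agent.S2299
import Cfsg.Agent.S4765
set_option autoImplicit false
namespace Cfsg.Agent.Lib.Helper14
open Cfsg Matrix Cfsg.Agent.Lib.Helper2

section
variable {F : Type*} [Field F] [Fintype F]

/-- An irreducible character of `SL₂` is even when `-1` lies in its kernel. -/
def IsEvenChar (χ : Cfsg.IrrCharacter (SpecialLinearGroup (Fin 2) F)) : Prop :=
  (χ : SpecialLinearGroup (Fin 2) F → ℂ) (-1) = (χ : SpecialLinearGroup (Fin 2) F → ℂ) 1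

theorem neg_one_apply (χ : Cfsg.IrrCharacter (SpecialLinearGroup (Fin 2) F)) :
    IsEvenChar χ ∨
      (χ : SpecialLinearGroup (Fin 2) F → ℂ) (-1) = -(χ : SpecialLinearGroup (Fin 2) F → ℂ) 1 := by
  classical
  obtain ⟨ω, hω1, hω⟩ := exists_central_sign χ.2
  have h1 := hω 1
  have hω' : ω = 1 ∨ ω = -1 := by
    have : (ω - 1) * (ω + 1) = 0 := by linear_combination hω1
    rcases mul_eq_zero.mp this with h | h
    · left; exact sub_eq_zero.mp h
    · right; exact eq_neg_of_add_eq_zero_left h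
  rcases hω' with rfl | rfl
  · left
    rw [one_mul] at h1
    exact h1
  · right
    rw [h1]; ring

/-- Twice the sum of squared degrees over the even characters is the group order. -/
theorem two_mul_sum_even [Fintype (Cfsg.IrrCharacter (SpecialLinearGroup (Fin 2) F))]
    [DecidablePred (IsEvenChar (F := F))] (hodd : Odd (Fintype.card F)) :
    ∑ χ : Cfsg.IrrCharacter (SpecialLinearGroup (Fin 2) F),
      (if IsEvenChar χ then 2 * irrDeg χ ^ 2 else 0) =
      Fintype.card F * (Fintype.card F ^ 2 - 1) := by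
  classical
  have h2 : (2 : F) ≠ 0 := two_ne_zero_of_odd hodd
  have hne : (-1 : SpecialLinearGroup (Fin 2) F) ≠ 1 := by
    intro h
    have h3 : (-1 : F) = 1 := by
      have := congrArg (fun g : SpecialLinearGroup (Fin 2) F => (g : Matrix (Fin 2) (Fin 2) F) 0 0) h
      simpa using this
    apply h2
    linear_combination -h3
  have e1 := sum_irr_degree_mul (G := SpecialLinearGroup (Fin 2) F) (-1)
  rw [if_neg hne] at e1
  have e2 := sum_irr_degree_sq (G := SpecialLinearGroup (Fin 2) F)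
  have e3 : ∑ χ : Cfsg.IrrCharacter (SpecialLinearGroup (Fin 2) F),
      ((if IsEvenChar χ then 2 * irrDeg χ ^ 2 else 0 : ℕ) : ℂ) =
      (Nat.card (SpecialLinearGroup (Fin 2) F) : ℂ) := by
    rw [← e2, ← add_zero (∑ χ : Cfsg.IrrCharacter (SpecialLinearGroup (Fin 2) F),
      (χ : SpecialLinearGroup (Fin 2) F → ℂ) 1 ^ 2), ← e1, ← Finset.sum_add_distrib]
    apply Finset.sum_congr rfl
    intro χ _
    rcases neg_one_apply χ with h | h
    · rw [if_pos h, h, irrDeg_spec]
      push_cast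
      ring
    · have hnot : ¬ IsEvenChar χ := by
        intro he
        unfold IsEvenChar at he
        rw [h] at he
        have h0 : (χ : SpecialLinearGroup (Fin 2) F → ℂ) 1 = 0 := by linear_combination -he / 2
        exact IsIrrCharacter.apply_one_ne_zero χ.2 h0
      rw [if_neg hnot, h]
      push_cast
      ring
  rw [← card_SL2]
  exact_mod_cast e3

section count
variable [Fintype (Cfsg.IrrCharacter (SpecialLinearGroup (Fin 2) F))]
  [DecidablePred (IsEvenChar (F := F))]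

/-- The number of even irreducible characters of degree `d`. -/
noncomputable def evenCount (F : Type*) [Field F] [Fintype F]
    [Fintype (Cfsg.IrrCharacter (SpecialLinearGroup (Fin 2) F))]
    [DecidablePred (IsEvenChar (F := F))] (d : ℕ) : ℕ :=
  (Finset.univ.filter (fun χ : Cfsg.IrrCharacter (SpecialLinearGroup (Fin 2) F) =>
    irrDeg χ = d ∧ IsEvenChar χ)).card

theorem sum_fiber_even (d : ℕ) :
    ∑ χ ∈ Finset.univ.filter (fun χ : Cfsg.IrrCharacter (SpecialLinearGroup (Fin 2) F) =>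
      irrDeg χ = d), (if IsEvenChar χ then 2 * irrDeg χ ^ 2 else 0) =
      2 * d ^ 2 * evenCount F d := by
  rw [Finset.sum_ite, Finset.sum_const_zero, add_zero, Finset.filter_filter]
  unfold evenCount
  rw [mul_comm, ← smul_eq_mul, ← Finset.sum_const]
  apply Finset.sum_congr rfl
  intro χ hχ
  rw [Finset.mem_filter] at hχ
  rw [hχ.2.1]

theorem evenCount_le (d : ℕ) :
    evenCount F d ≤ Nat.card {χ : Cfsg.IrrCharacter (SpecialLinearGroup (Fin 2) F) //
      (χ : SpecialLinearGroup (Fin 2) F → ℂ) 1 = (d : ℂ)} := by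
  classical
  rw [card_deg_eq d (d : ℂ) rfl]
  unfold evenCount
  apply Finset.card_le_card
  intro χ hχ
  rw [Finset.mem_filter] at hχ ⊢
  exact ⟨hχ.1, hχ.2.1⟩

theorem evenCount_eq_of_forall (d : ℕ)
    (h : ∀ χ : Cfsg.IrrCharacter (SpecialLinearGroup (Fin 2) F), irrDeg χ = d → IsEvenChar χ) :
    evenCount F d = Nat.card {χ : Cfsg.IrrCharacter (SpecialLinearGroup (Fin 2) F) //
      (χ : SpecialLinearGroup (Fin 2) F → ℂ) 1 = (d : ℂ)} := by
  classical
  rw [card_deg_eq d (d : ℂ) rfl]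
  unfold evenCount
  congr 1
  ext χ
  rw [Finset.mem_filter, Finset.mem_filter]
  exact ⟨fun hχ => ⟨hχ.1, hχ.2.1⟩, fun hχ => ⟨hχ.1, hχ.2, h χ hχ.2⟩⟩

theorem exists_of_evenCount_pos (d : ℕ) (h : 0 < evenCount F d) :
    ∃ χ : Cfsg.IrrCharacter (SpecialLinearGroup (Fin 2) F),
      (χ : SpecialLinearGroup (Fin 2) F → ℂ) 1 = (d : ℂ) ∧ IsEvenChar χ := by
  unfold evenCount at h
  obtain ⟨χ, hχ⟩ := Finset.card_pos.mp h
  rw [Finset.mem_filter] at hχ
  exact ⟨χ, by rw [irrDeg_spec, hχ.2.1], hχ.2.2⟩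

/-- The sum of squared degrees of the even characters, sorted by degree. -/
theorem even_equation (k : ℕ) (hk : Fintype.card F = 2 * k + 1) (hk2 : 2 ≤ k) :
    2 * 1 ^ 2 * evenCount F 1 + 2 * (2 * k + 1) ^ 2 * evenCount F (2 * k + 1) +
      2 * (2 * k + 2) ^ 2 * evenCount F (2 * k + 2) + 2 * (2 * k) ^ 2 * evenCount F (2 * k) +
      2 * (k + 1) ^ 2 * evenCount F (k + 1) + 2 * k ^ 2 * evenCount F k =
      (2 * k + 1) * ((2 * k + 1) ^ 2 - 1) := by
  classical
  have hodd : Odd (Fintype.card F) := ⟨k, hk⟩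
  have hsum := two_mul_sum_even (F := F) hodd
  rw [hk] at hsum
  rw [← hsum]
  have hmaps : ∀ χ ∈ (Finset.univ : Finset (Cfsg.IrrCharacter (SpecialLinearGroup (Fin 2) F))),
      irrDeg χ ∈ ({1, 2 * k + 1, 2 * k + 2, 2 * k, k + 1, k} : Finset ℕ) := by
    intro χ _
    simp only [Finset.mem_insert, Finset.mem_singleton]
    have e1 : (Fintype.card F + 1) / 2 = k + 1 := by omega
    have e2 : (Fintype.card F - 1) / 2 = k := by omega
    rcases (Cfsg.Agent.S2299.result hodd).1 χ.1 χ.2 with h | h | h | h | h | h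
    · left; rw [irrDeg_eq_iff, h]; simp
    · right; left; rw [irrDeg_eq_iff, h, hk]
    · right; right; left; rw [irrDeg_eq_iff, h, hk]; push_cast; ring
    · right; right; right; left; rw [irrDeg_eq_iff, h, hk]; push_cast; ring
    · right; right; right; right; left; rw [irrDeg_eq_iff, h, e1]
    · right; right; right; right; right; rw [irrDeg_eq_iff, h, e2]
  rw [← Finset.sum_fiberwise_of_maps_to hmaps]
  rw [Finset.sum_insert (by simp only [Finset.mem_insert, Finset.mem_singleton]; omega),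
    Finset.sum_insert (by simp only [Finset.mem_insert, Finset.mem_singleton]; omega),
    Finset.sum_insert (by simp only [Finset.mem_insert, Finset.mem_singleton]; omega),
    Finset.sum_insert (by simp only [Finset.mem_insert, Finset.mem_singleton]; omega),
    Finset.sum_insert (by simp only [Finset.mem_singleton]; omega),
    Finset.sum_singleton]
  simp only [sum_fiber_even]
  ring

end count

end

theorem dioph_b (k A e : ℤ) (hk : 2 ≤ k) (he0 : 0 ≤ e) (he : e ≤ 2)
    (H : (k + 1) ^ 2 * A + k ^ 2 * e + 2 * k + 2 = 4 * k ^ 3 + 2 * k ^ 2) : False := by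
  have h1 : (k + 1) ^ 2 * (A - (2 * k - 2)) = k ^ 2 * (2 * k - e) := by linear_combination H
  have h2 : (k + 1) ^ 2 ∣ k ^ 2 * (2 * k - e) := Dvd.intro _ h1
  have hco0 : IsCoprime (k + 1) k := ⟨1, -1, by ring⟩
  have hco : IsCoprime ((k + 1) ^ 2) (k ^ 2) := hco0.pow
  have h3 : (k + 1) ^ 2 ∣ 2 * k - e := hco.dvd_of_dvd_mul_left h2
  have h4 := Int.le_of_dvd (by linarith) h3
  nlinarith

theorem dioph_a (k B c : ℤ) (hk : 3 ≤ k) (hc0 : 0 ≤ c) (hc : c ≤ 2)
    (H : (k + 1) ^ 2 * c + k ^ 2 * B + 2 * k + 2 = 4 * k ^ 3 + 2 * k ^ 2) : False := by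
  have h1 : k ^ 2 * (B - 2 * k) = (k + 1) ^ 2 * (2 * k - 2 - c) := by linear_combination H
  have h2 : k ^ 2 ∣ (k + 1) ^ 2 * (2 * k - 2 - c) := Dvd.intro _ h1
  have hco0 : IsCoprime k (k + 1) := ⟨-1, 1, by ring⟩
  have hco : IsCoprime (k ^ 2) ((k + 1) ^ 2) := hco0.pow
  have h3 : k ^ 2 ∣ 2 * k - 2 - c := hco.dvd_of_dvd_mul_left h2
  have h4 := Int.le_of_dvd (by linarith) h3
  nlinarith

section exist
variable {F : Type*} [Field F] [Fintype F]

/-- For `q ≥ 7` odd there are even irreducible characters of `SL₂(q)` of degrees `q + 1` and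
`q - 1`. -/
theorem exists_even_char (hodd : Odd (Fintype.card F)) (h7 : 7 ≤ Fintype.card F) :
    (∃ χ : Cfsg.IrrCharacter (SpecialLinearGroup (Fin 2) F),
      (χ : SpecialLinearGroup (Fin 2) F → ℂ) 1 = ((Fintype.card F + 1 : ℕ) : ℂ) ∧ IsEvenChar χ) ∧
    (∃ χ : Cfsg.IrrCharacter (SpecialLinearGroup (Fin 2) F),
      (χ : SpecialLinearGroup (Fin 2) F → ℂ) 1 = ((Fintype.card F - 1 : ℕ) : ℂ) ∧ IsEvenChar χ) := by
  classical
  have : Fintype (Cfsg.IrrCharacter (SpecialLinearGroup (Fin 2) F)) := Fintype.ofFinite _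
  obtain ⟨k, hk⟩ := hodd
  have hk3 : 3 ≤ k := by omega
  have hodd : Odd (Fintype.card F) := ⟨k, hk⟩
  have hcounts := (Cfsg.Agent.S2299.result hodd).2 (by omega)
  obtain ⟨c1, cq, -, -, cp, cm⟩ := hcounts
  have e1 : (Fintype.card F + 1) / 2 = k + 1 := by omega
  have e2 : (Fintype.card F - 1) / 2 = k := by omega
  rw [e1] at cp
  rw [e2] at cm
  -- the even counts
  have n1 : evenCount F 1 = 1 := by
    rw [evenCount_eq_of_forall 1 ?_]
    · rw [Nat.cast_one]; exact c1
    · intro χ hχ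
      rw [irrDeg_eq_iff] at hχ
      have hss := (Nat.card_eq_one_iff_unique.mp c1).1
      have h2 : (⟨χ, by rw [hχ]; simp⟩ : {χ : Cfsg.IrrCharacter (SpecialLinearGroup (Fin 2) F) //
          (χ : SpecialLinearGroup (Fin 2) F → ℂ) 1 = 1}) =
          ⟨⟨fun _ => 1, one_isIrrCharacter _⟩, rfl⟩ := Subsingleton.elim _ _
      have h3 : χ = ⟨fun _ => 1, one_isIrrCharacter _⟩ := congrArg Subtype.val h2
      unfold IsEvenChar
      rw [h3]
  have nq : evenCount F (2 * k + 1) = 1 := by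
    rw [evenCount_eq_of_forall (2 * k + 1) ?_]
    · rw [← hk]; exact cq
    · intro χ hχ
      rw [irrDeg_eq_iff, ← hk] at hχ
      refine Cfsg.Agent.S4765.center_le_ker (by omega) _ χ.2 hχ (-1) ?_
      rw [Subgroup.mem_center_iff]
      intro h
      rw [mul_neg, neg_mul, mul_one, one_mul]
  have np : evenCount F (k + 1) ≤ 2 := by
    have := evenCount_le (F := F) (k + 1)
    rw [cp] at this
    exact this
  have nm : evenCount F k ≤ 2 := by
    have := evenCount_le (F := F) k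
    rw [cm] at this
    exact this
  have E := even_equation (F := F) k hk (by omega)
  rw [n1, nq] at E
  have hsq : (2 * k + 1) ^ 2 - 1 = 4 * k ^ 2 + 4 * k := by
    have : (2 * k + 1) ^ 2 = 4 * k ^ 2 + 4 * k + 1 := by ring
    omega
  rw [hsq] at E
  have EZ : (2 * 1 ^ 2 * 1 + 2 * (2 * (k : ℤ) + 1) ^ 2 * 1 +
      2 * (2 * (k : ℤ) + 2) ^ 2 * (evenCount F (2 * k + 2) : ℤ) +
      2 * (2 * (k : ℤ)) ^ 2 * (evenCount F (2 * k) : ℤ) +
      2 * ((k : ℤ) + 1) ^ 2 * (evenCount F (k + 1) : ℤ) + 2 * (k : ℤ) ^ 2 * (evenCount F k : ℤ)) =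
      (2 * (k : ℤ) + 1) * (4 * (k : ℤ) ^ 2 + 4 * k) := by
    exact_mod_cast E
  constructor
  · have hpos : 0 < evenCount F (2 * k + 2) := by
      by_contra h0
      have h0' : evenCount F (2 * k + 2) = 0 := by omega
      rw [h0'] at EZ
      refine dioph_a (k : ℤ) (4 * (evenCount F (2 * k) : ℤ) + (evenCount F k : ℤ))
        (evenCount F (k + 1) : ℤ) (by exact_mod_cast hk3) (by positivity) (by exact_mod_cast np) ?_
      have : 2 * (((k : ℤ) + 1) ^ 2 * (evenCount F (k + 1) : ℤ) +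
          (k : ℤ) ^ 2 * (4 * (evenCount F (2 * k) : ℤ) + (evenCount F k : ℤ)) + 2 * (k : ℤ) + 2) =
          2 * (4 * (k : ℤ) ^ 3 + 2 * (k : ℤ) ^ 2) := by
        linear_combination EZ
      exact mul_left_cancel₀ two_ne_zero this
    obtain ⟨χ, hχ1, hχ2⟩ := exists_of_evenCount_pos (F := F) _ hpos
    refine ⟨χ, ?_, hχ2⟩
    rw [hχ1, hk]
  · have hpos : 0 < evenCount F (2 * k) := by
      by_contra h0
      have h0' : evenCount F (2 * k) = 0 := by omega
      rw [h0'] at EZ
      refine dioph_b (k : ℤ) (4 * (evenCount F (2 * k + 2) : ℤ) + (evenCount F (k + 1) : ℤ))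
        (evenCount F k : ℤ) (by exact_mod_cast (by omega : 2 ≤ k)) (by positivity)
        (by exact_mod_cast nm) ?_
      have : 2 * (((k : ℤ) + 1) ^ 2 * (4 * (evenCount F (2 * k + 2) : ℤ) +
          (evenCount F (k + 1) : ℤ)) + (k : ℤ) ^ 2 * (evenCount F k : ℤ) + 2 * (k : ℤ) + 2) =
          2 * (4 * (k : ℤ) ^ 3 + 2 * (k : ℤ) ^ 2) := by
        linear_combination EZ
      exact mul_left_cancel₀ two_ne_zero this
    obtain ⟨χ, hχ1, hχ2⟩ := exists_of_evenCount_pos (F := F) _ hpos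
    refine ⟨χ, ?_, hχ2⟩
    rw [hχ1, hk]
    congr 1

end exist

end Cfsg.Agent.Lib.Helper14
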