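import Mathlib
import Cfsg.Agent.Lib.Helper14.SL2DegSet
import Cfsg.Agent.Lib.Helper14.SL2Even
set_option autoImplicit false
namespace Cfsg.Agent.Lib.Helper14
open Cfsg Matrix

section
variable {F : Type*} [Field F] [Fintype F]

/-- Character degrees of `SL₂(q)`, `q ≥ 5` odd. -/
theorem charDegrees_SL2_odd (hodd : Odd (Fintype.card F)) (h5 : 5 ≤ Fintype.card F) :
    charDegrees (SpecialLinearGroup (Fin 2) F) =
      {1, Fintype.card F, Fintype.card F + 1, Fintype.card F - 1, (Fintype.card F + 1) / 2,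
        (Fintype.card F - 1) / 2} := by
  obtain ⟨hdeg, hcount⟩ := Cfsg.Agent.S2299.result hodd
  obtain ⟨c1, c2, c3, c4, c5, c6⟩ := hcount h5
  have h3 : 0 < (Fintype.card F - 3) / 2 := by omega
  have h4 : 0 < (Fintype.card F - 1) / 2 := by omega
  ext d
  simp only [Set.mem_insert_iff, Set.mem_singleton_iff]
  constructor
  · rintro ⟨χ, rfl⟩
    rcases hdeg χ.1 χ.2 with h | h | h | h | h | h
    · left
      exact charDegree_of_natCast _ 1 (by rw [h]; simp)
    · right; left
      exact charDegree_of_natCast _ _ h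
    · right; right; left
      exact charDegree_of_natCast _ _ (by rw [h]; simp)
    · right; right; right; left
      exact charDegree_of_natCast _ _ (by rw [h, Nat.cast_sub (by omega)]; simp)
    · right; right; right; right; left
      exact charDegree_of_natCast _ _ h
    · right; right; right; right; right
      exact charDegree_of_natCast _ _ h
  · rintro (rfl | rfl | rfl | rfl | rfl | rfl)
    · obtain ⟨χ, hχ⟩ := exists_irr_of_card_pos (K := SpecialLinearGroup (Fin 2) F) 1 (by omega)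
      exact ⟨χ, charDegree_of_natCast _ 1 (by rw [hχ]; simp)⟩
    · obtain ⟨χ, hχ⟩ := exists_irr_of_card_pos (K := SpecialLinearGroup (Fin 2) F)
        (Fintype.card F : ℂ) (by omega)
      exact ⟨χ, charDegree_of_natCast _ _ hχ⟩
    · obtain ⟨χ, hχ⟩ := exists_irr_of_card_pos (K := SpecialLinearGroup (Fin 2) F)
        ((Fintype.card F : ℂ) + 1) (by omega)
      exact ⟨χ, charDegree_of_natCast _ _ (by rw [hχ]; simp)⟩
    · obtain ⟨χ, hχ⟩ := exists_irr_of_card_pos (K := SpecialLinearGroup (Fin 2) F)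
        ((Fintype.card F : ℂ) - 1) (by omega)
      exact ⟨χ, charDegree_of_natCast _ _ (by rw [hχ, Nat.cast_sub (by omega)]; simp)⟩
    · obtain ⟨χ, hχ⟩ := exists_irr_of_card_pos (K := SpecialLinearGroup (Fin 2) F)
        (((Fintype.card F + 1) / 2 : ℕ) : ℂ) (by omega)
      exact ⟨χ, charDegree_of_natCast _ _ hχ⟩
    · obtain ⟨χ, hχ⟩ := exists_irr_of_card_pos (K := SpecialLinearGroup (Fin 2) F)
        (((Fintype.card F - 1) / 2 : ℕ) : ℂ) (by omega)
      exact ⟨χ, charDegree_of_natCast _ _ hχ⟩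

theorem mem_center_SL2 (n : SpecialLinearGroup (Fin 2) F)
    (hn : n ∈ Subgroup.center (SpecialLinearGroup (Fin 2) F)) : n = 1 ∨ n = -1 := by
  rw [Matrix.SpecialLinearGroup.mem_center_iff] at hn
  obtain ⟨r, hr, hn⟩ := hn
  rw [Fintype.card_fin] at hr
  have hr' : r = 1 ∨ r = -1 := by
    have : (r - 1) * (r + 1) = 0 := by linear_combination hr
    rcases mul_eq_zero.mp this with h | h
    · left; exact sub_eq_zero.mp h
    · right; exact eq_neg_of_add_eq_zero_left h
  rcases hr' with rfl | rfl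
  · left
    apply Subtype.ext
    rw [← hn, map_one]
    rfl
  · right
    apply Subtype.ext
    rw [← hn, Matrix.SpecialLinearGroup.coe_neg, Matrix.SpecialLinearGroup.coe_one, map_neg,
      map_one]

/-- Character degrees of `PSL₂(q)`, `q ≥ 7` odd: between `{q, q+1, q-1}` and the degree set of
`SL₂(q)`. -/
theorem charDegrees_PSL2_odd (hodd : Odd (Fintype.card F)) (h7 : 7 ≤ Fintype.card F) :
    charDegrees (ProjectiveSpecialLinearGroup (Fin 2) F) ⊆
      {1, Fintype.card F, Fintype.card F + 1, Fintype.card F - 1, (Fintype.card F + 1) / 2,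
        (Fintype.card F - 1) / 2} ∧
    Fintype.card F ∈ charDegrees (ProjectiveSpecialLinearGroup (Fin 2) F) ∧
    Fintype.card F + 1 ∈ charDegrees (ProjectiveSpecialLinearGroup (Fin 2) F) ∧
    Fintype.card F - 1 ∈ charDegrees (ProjectiveSpecialLinearGroup (Fin 2) F) := by
  have hq : charDegrees (ProjectiveSpecialLinearGroup (Fin 2) F) =
      charDegrees (SpecialLinearGroup (Fin 2) F ⧸ Subgroup.center (SpecialLinearGroup (Fin 2) F)) :=
    rfl
  rw [hq, charDegrees_quotient]
  have hker : ∀ χ : Cfsg.IrrCharacter (SpecialLinearGroup (Fin 2) F), IsEvenChar χ →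
      ∀ n ∈ Subgroup.center (SpecialLinearGroup (Fin 2) F),
        (χ : SpecialLinearGroup (Fin 2) F → ℂ) n = (χ : SpecialLinearGroup (Fin 2) F → ℂ) 1 := by
    intro χ hχ n hn
    rcases mem_center_SL2 n hn with rfl | rfl
    · rfl
    · exact hχ
  obtain ⟨⟨χp, hp1, hp2⟩, ⟨χm, hm1, hm2⟩⟩ := exists_even_char hodd h7
  refine ⟨?_, ?_, ?_, ?_⟩
  · rw [← charDegrees_SL2_odd hodd (by omega)]
    rintro d ⟨χ, -, hχ⟩
    exact ⟨χ, hχ⟩
  · obtain ⟨⟨χ₀, hχ₀⟩⟩ :=
      (Nat.card_eq_one_iff_unique.mp (Cfsg.Agent.S4765.card_degree_q (F := F) (by omega))).2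
    exact ⟨χ₀, fun n hn => Cfsg.Agent.S4765.center_le_ker (by omega) _ χ₀.2 hχ₀ n hn,
      charDegree_of_natCast _ _ hχ₀⟩
  · exact ⟨χp, hker χp hp2, charDegree_of_natCast _ _ hp1⟩
  · exact ⟨χm, hker χm hm2, charDegree_of_natCast _ _ hm1⟩

end

end Cfsg.Agent.Lib.Helper14
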