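import Mathlib
import Cfsg.Agent.Lib.Helper14.SL2Torus

/-!
# The centraliser of an elliptic element of `SL₂(F)` is cyclic

For `g` without eigenvectors the matrices `x + z g` form a commutative subalgebra without zero
divisors of the matrix algebra; the centraliser of `g` in `SL₂(F)` embeds in its group of units,
hence is cyclic (of order `q + 1` for `F` finite of odd order).
-/

set_option autoImplicit false

namespace Cfsg.Agent.Lib.Helper14

open Matrix

variable {F : Type*} [Field F]

/-- The subalgebra `F[g]` of the matrices `x + z g`. -/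
def torusAlg (g : SpecialLinearGroup (Fin 2) F) : Subalgebra F (Matrix (Fin 2) (Fin 2) F) where
  carrier := {M | ∃ x z : F, M = x • (1 : Matrix (Fin 2) (Fin 2) F) +
    z • (g : Matrix (Fin 2) (Fin 2) F)}
  mul_mem' := by
    rintro _ _ ⟨x, z, rfl⟩ ⟨x', z', rfl⟩
    have hch := mat2_cayley_hamilton (g : Matrix (Fin 2) (Fin 2) F)
    rw [g.2] at hch
    refine ⟨x * x' - z * z', x * z' + z * x' + z * z' * (g : Matrix (Fin 2) (Fin 2) F).trace, ?_⟩
    simp only [Matrix.add_mul, Matrix.mul_add, Matrix.smul_mul, Matrix.mul_smul, Matrix.one_mul,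
      Matrix.mul_one, hch, smul_sub, smul_smul, sub_smul, add_smul, one_smul, smul_add]
    simp only [mul_comm, mul_assoc, mul_left_comm]
    abel
  add_mem' := by
    rintro _ _ ⟨x, z, rfl⟩ ⟨x', z', rfl⟩
    refine ⟨x + x', z + z', ?_⟩
    rw [add_smul, add_smul]
    abel
  algebraMap_mem' := by
    intro r
    refine ⟨r, 0, ?_⟩
    rw [zero_smul, add_zero, Algebra.algebraMap_eq_smul_one]

theorem mem_torusAlg (g : SpecialLinearGroup (Fin 2) F) (M : Matrix (Fin 2) (Fin 2) F) :
    M ∈ torusAlg g ↔ ∃ x z : F, M = x • (1 : Matrix (Fin 2) (Fin 2) F) +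
      z • (g : Matrix (Fin 2) (Fin 2) F) := Iff.rfl

theorem torusAlg_comm (g : SpecialLinearGroup (Fin 2) F) (a b : torusAlg g) : a * b = b * a := by
  obtain ⟨a, x, z, rfl⟩ := a
  obtain ⟨b, x', z', rfl⟩ := b
  apply Subtype.ext
  show (x • (1 : Matrix (Fin 2) (Fin 2) F) + z • (g : Matrix (Fin 2) (Fin 2) F)) *
    (x' • (1 : Matrix (Fin 2) (Fin 2) F) + z' • (g : Matrix (Fin 2) (Fin 2) F)) =
    (x' • (1 : Matrix (Fin 2) (Fin 2) F) + z' • (g : Matrix (Fin 2) (Fin 2) F)) *
    (x • (1 : Matrix (Fin 2) (Fin 2) F) + z • (g : Matrix (Fin 2) (Fin 2) F))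
  have hcomm : Commute (x • (1 : Matrix (Fin 2) (Fin 2) F) + z • (g : Matrix (Fin 2) (Fin 2) F))
      (x' • (1 : Matrix (Fin 2) (Fin 2) F) + z' • (g : Matrix (Fin 2) (Fin 2) F)) := by
    apply Commute.add_left
    · apply Commute.add_right
      · exact ((Commute.one_left _).smul_left x).smul_right x'
      · exact ((Commute.one_left _).smul_left x).smul_right z'
    · apply Commute.add_right
      · exact ((Commute.one_right _).smul_left z).smul_right x'
      · exact ((Commute.refl _).smul_left z).smul_right z'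
  exact hcomm.eq

/-- The commutative ring structure on `F[g]`. -/
instance torusAlgCommRing (g : SpecialLinearGroup (Fin 2) F) : CommRing (torusAlg g) :=
  { (inferInstance : Ring (torusAlg g)) with mul_comm := torusAlg_comm g }

theorem torusAlg_isDomain (g : SpecialLinearGroup (Fin 2) F) (hg : IsElliptic g) :
    IsDomain (torusAlg g) := by
  have hnt : Nontrivial (torusAlg g) := by
    refine ⟨⟨0, 1, ?_⟩⟩
    intro h
    have := congrArg (fun a : torusAlg g => (a : Matrix (Fin 2) (Fin 2) F) 0 0) h
    simp at this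
  have hnz : NoZeroDivisors (torusAlg g) := by
    refine ⟨?_⟩
    rintro ⟨a, x, z, rfl⟩ ⟨b, x', z', rfl⟩ h
    have h1 : (x • (1 : Matrix (Fin 2) (Fin 2) F) + z • (g : Matrix (Fin 2) (Fin 2) F)) *
        (x' • (1 : Matrix (Fin 2) (Fin 2) F) + z' • (g : Matrix (Fin 2) (Fin 2) F)) = 0 :=
      congrArg Subtype.val h
    have h2 := congrArg Matrix.det h1
    rw [Matrix.det_mul, Matrix.det_zero] at h2
    rcases mul_eq_zero.mp h2 with h3 | h3
    · left
      obtain ⟨rfl, rfl⟩ := eq_zero_of_det_eq_zero_of_isElliptic g hg x z h3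
      apply Subtype.ext
      simp
    · right
      obtain ⟨rfl, rfl⟩ := eq_zero_of_det_eq_zero_of_isElliptic g hg x' z' h3
      apply Subtype.ext
      simp
  exact NoZeroDivisors.to_isDomain _

/-- The embedding of the centraliser of `g` into `F[g]`. -/
def centralizerToTorusAlg (g : SpecialLinearGroup (Fin 2) F) (hg : IsElliptic g) :
    Subgroup.centralizer ({g} : Set (SpecialLinearGroup (Fin 2) F)) →* torusAlg g where
  toFun c := ⟨((c : SpecialLinearGroup (Fin 2) F) : Matrix (Fin 2) (Fin 2) F), by
    have hc := Subgroup.mem_centralizer_iff.mp c.2 g rfl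
    have hcm : ((c : SpecialLinearGroup (Fin 2) F) : Matrix (Fin 2) (Fin 2) F) *
        (g : Matrix (Fin 2) (Fin 2) F) = (g : Matrix (Fin 2) (Fin 2) F) *
        ((c : SpecialLinearGroup (Fin 2) F) : Matrix (Fin 2) (Fin 2) F) := by
      have := congrArg Subtype.val hc
      exact this.symm
    exact exists_eq_add_smul_of_commute _ _ (isElliptic_not_scalar g hg) hcm⟩
  map_one' := rfl
  map_mul' _ _ := rfl

theorem centralizerToTorusAlg_injective (g : SpecialLinearGroup (Fin 2) F) (hg : IsElliptic g) :
    Function.Injective (centralizerToTorusAlg g hg) := by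
  intro c c' h
  have := congrArg Subtype.val h
  exact Subtype.ext (Subtype.ext this)

/-- The centraliser of an elliptic element of `SL₂` over a finite field is cyclic. -/
theorem isCyclic_centralizer_of_isElliptic [Finite F] (g : SpecialLinearGroup (Fin 2) F)
    (hg : IsElliptic g) :
    IsCyclic (Subgroup.centralizer ({g} : Set (SpecialLinearGroup (Fin 2) F))) := by
  have := torusAlg_isDomain g hg
  have : Fintype F := Fintype.ofFinite F
  exact isCyclic_of_injective_ringHom (centralizerToTorusAlg g hg)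
    (centralizerToTorusAlg_injective g hg)

end Cfsg.Agent.Lib.Helper14
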