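import Cfsg.Agent.Lib.Helper15.SLNormal

/-!
# Generation of `SL_{n+1}(K)` by a root subgroup and the Coxeter monomial matrix

`Wmat K n` is the monomial matrix with entries `1` in positions `(i, i+1)` and `(-1)^n` in position
`(n, 0)`.  A subgroup of `SL_{n+1}(K)` (`n ≥ 1`) containing an element with matrix `Wmat K n` and the
whole root subgroup `{1 + c E₀₁}` is everything.
-/

set_option autoImplicit false

namespace Cfsg.Agent.Lib.Helper14

open Matrix Matrix.SpecialLinearGroup Cfsg.Agent.Lib.Helper15

section main

variable {K : Type*} [Field K] {n : ℕ}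

/-- The sign appearing in row `i` of `w`. -/
def sg (K : Type*) [Field K] (n : ℕ) (i : Fin (n + 1)) : K := if i.val = n then (-1) ^ n else 1

theorem sg_mul_self (i : Fin (n + 1)) : sg K n i * sg K n i = 1 := by
  unfold sg
  split_ifs
  · rw [← mul_pow]; simp
  · simp

/-- The monomial matrix `w`. -/
def Wmat (K : Type*) [Field K] (n : ℕ) : Matrix (Fin (n + 1)) (Fin (n + 1)) K :=
  Matrix.of (fun i j => if j.val = i.val + 1 then 1 else if i.val = n ∧ j.val = 0 then (-1) ^ n else 0)

theorem Wmat_apply (i j : Fin (n + 1)) : Wmat K n i j = if j = i + 1 then sg K n i else 0 := by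
  unfold Wmat sg
  rw [Matrix.of_apply]
  by_cases hi : i.val = n
  · have hi' : i = Fin.last n := Fin.ext hi
    subst hi'
    rw [Fin.last_add_one]
    have h1 : ¬ (j.val = (Fin.last n).val + 1) := by
      have := j.2
      simp only [Fin.val_last]
      omega
    rw [if_neg h1]
    simp only [Fin.val_last, true_and, if_true]
    by_cases hj : j = 0
    · subst hj; simp
    · rw [if_neg hj, if_neg]
      intro h; exact hj (Fin.ext h)
  · have hlt : i < Fin.last n := by
      rw [Fin.lt_def, Fin.val_last]
      have := i.2
      omega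
    have h1 : (i + 1).val = i.val + 1 := Fin.val_add_one_of_lt hlt
    rw [if_neg hi]
    by_cases hj : j = i + 1
    · rw [if_pos hj, if_pos]
      rw [hj, h1]
    · rw [if_neg hj, if_neg, if_neg]
      · rintro ⟨h, -⟩; exact hi h
      · intro h; exact hj (Fin.ext (h.trans h1.symm))

theorem single_mul_W (k : Fin (n + 1)) (a : K) :
    single k (k + 1) a * Wmat K n = single k (k + 1 + 1) (a * sg K n (k + 1)) := by
  ext i j
  by_cases hi : i = k
  · subst hi
    rw [single_mul_apply_same, Wmat_apply, single_apply]
    by_cases hj : j = i + 1 + 1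
    · subst hj; simp
    · rw [if_neg hj, if_neg (fun h => hj h.2.symm), mul_zero]
  · rw [single_mul_apply_of_ne _ _ _ _ _ hi, single_apply, if_neg (fun h => hi h.1.symm)]

theorem W_mul_single (k : Fin (n + 1)) (a : K) :
    Wmat K n * single (k + 1) (k + 1 + 1) a = single k (k + 1 + 1) (sg K n k * a) := by
  ext i j
  by_cases hj : j = k + 1 + 1
  · subst hj
    rw [mul_single_apply_same, Wmat_apply, single_apply]
    by_cases hi : i = k
    · subst hi; simp
    · rw [if_neg (fun h => hi (add_right_cancel h).symm), if_neg (fun h => hi h.1.symm), zero_mul]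
  · rw [mul_single_apply_of_ne _ _ _ _ _ hj, single_apply, if_neg (fun h => hj h.2.symm)]

open scoped commutatorElement in
/-- A subgroup containing `w` and the root subgroup `X₀₁` is everything. -/
theorem eq_top_of_root_of_cycle (hn : 1 ≤ n) (H : Subgroup (SpecialLinearGroup (Fin (n + 1)) K))
    (w : SpecialLinearGroup (Fin (n + 1)) K)
    (hw : (w : Matrix (Fin (n + 1)) (Fin (n + 1)) K) = Wmat K n) (hwH : w ∈ H)
    (h01 : ∀ (h : (0 : Fin (n + 1)) ≠ 1) (c : K), SpecialLinearGroup.transvection h c ∈ H) :
    H = ⊤ := by
  have h1ne : (1 : Fin (n + 1)) ≠ 0 := by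
    intro h
    have := congrArg Fin.val h
    rw [Fin.val_one', Fin.val_zero] at this
    have h2 : 1 % (n + 1) = 1 := Nat.mod_eq_of_lt (by omega)
    omega
  have : Nontrivial (Fin (n + 1)) := ⟨⟨0, 1, h1ne.symm⟩⟩
  have hne : ∀ k : Fin (n + 1), k ≠ k + 1 := fun k h => h1ne (by simpa using h.symm)
  -- the predicate
  let Q : Fin (n + 1) → Fin (n + 1) → Prop := fun i j =>
    ∀ (hij : i ≠ j) (c : K), SpecialLinearGroup.transvection hij c ∈ H
  have hB0 : Q 0 (0 + 1) := by
    rw [zero_add]
    exact h01
  have hB1 : ∀ k : Fin (n + 1), Q k (k + 1) → Q (k + 1) (k + 1 + 1) := by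
    intro k hQ hij c
    have key : SpecialLinearGroup.transvection (hne k) (sg K n k * sg K n (k + 1) * c) * w =
        w * SpecialLinearGroup.transvection hij c := by
      apply Subtype.ext
      show (1 + single k (k + 1) (sg K n k * sg K n (k + 1) * c)) * w.1 =
        w.1 * (1 + single (k + 1) (k + 1 + 1) c)
      have hw1 : w.1 = Wmat K n := hw
      rw [hw1, add_mul, mul_add, one_mul, mul_one, single_mul_W, W_mul_single]
      congr 2
      calc sg K n k * sg K n (k + 1) * c * sg K n (k + 1)
          = sg K n k * c * (sg K n (k + 1) * sg K n (k + 1)) := by ring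
        _ = sg K n k * c := by rw [sg_mul_self, mul_one]
    have : SpecialLinearGroup.transvection hij c =
        w⁻¹ * (SpecialLinearGroup.transvection (hne k) (sg K n k * sg K n (k + 1) * c) * w) := by
      rw [key]; group
    rw [this]
    exact H.mul_mem (H.inv_mem hwH) (H.mul_mem (hQ (hne k) _) hwH)
  have hB : ∀ k : Fin (n + 1), Q k (k + 1) := by
    intro k
    induction k using Fin.induction with
    | zero => exact hB0
    | succ k ih =>
      rw [← Fin.coeSucc_eq_succ]
      exact hB1 _ ih
  have hC : ∀ d : Fin (n + 1), d ≠ 0 → ∀ i : Fin (n + 1), Q i (i + d) := by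
    intro d
    induction d using Fin.induction with
    | zero => intro h; exact absurd rfl h
    | succ e ih =>
      intro _ i
      rw [← Fin.coeSucc_eq_succ]
      by_cases he : e.castSucc = 0
      · rw [he, zero_add]
        exact hB i
      · intro hij c
        have hik : i ≠ i + e.castSucc := fun h => he (by simpa using h.symm)
        have hkj : i + e.castSucc ≠ i + (e.castSucc + 1) := by
          rw [← add_assoc]; exact hne _
        rw [transvection_eq_commutator hij hik hkj c, commutatorElement_def]
        have h1 := ih he i hik c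
        have h2 : SpecialLinearGroup.transvection hkj (1 : K) ∈ H := by
          have := hB (i + e.castSucc)
          rw [add_assoc] at this
          exact this hkj 1
        exact H.mul_mem (H.mul_mem (H.mul_mem h1 h2) (H.inv_mem h1)) (H.inv_mem h2)
  have hall : ∀ (i j : Fin (n + 1)) (hij : i ≠ j) (c : K),
      SpecialLinearGroup.transvection hij c ∈ H := by
    intro i j hij c
    have hd : j - i ≠ 0 := fun h => hij (sub_eq_zero.mp h).symm
    have := hC (j - i) hd i
    rw [add_sub_cancel] at this
    exact this hij c
  rw [eq_top_iff]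
  intro A _
  exact SLn_transvection_induction (fun A => A ∈ H) hall (fun _ _ => H.mul_mem) A

end main

end Cfsg.Agent.Lib.Helper14
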