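import Mathlib
import Cfsg.Agent.Lib.Helper14.SpBN1
import Cfsg.Agent.Lib.Helper14.MatBN1

/-!
# Matrices preserving the antidiagonal Hermitian form, and block embeddings

`Jm n F` is the antidiagonal matrix of ones, `IsU σ A` says that `A` preserves the `σ`-Hermitian
form with Gram matrix `Jm`.  Block embeddings along an injection compatible with the reversal
of indices preserve this property.
-/

set_option autoImplicit false
set_option linter.unusedSectionVars false

namespace Cfsg.Agent.Lib.Helper14.SUBN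

open Matrix Cfsg.Agent.Lib.Helper14.SpBN Cfsg.Agent.Lib.Helper14.TriMono
  Cfsg.Agent.Lib.Helper14.MatBN

variable {F : Type*} [Field F] (σ : F →+* F) {n d : ℕ}

/-- the antidiagonal matrix of ones -/
def Jm (n : ℕ) (F : Type*) [Field F] : Matrix (Fin n) (Fin n) F :=
  Matrix.of fun i j => if j = i.rev then 1 else 0

theorem Jm_apply (i j : Fin n) : Jm n F i j = if j = i.rev then 1 else 0 := rfl

theorem Jm_mulVec (z : Fin n → F) (i : Fin n) : (Jm n F *ᵥ z) i = z i.rev := by
  simp only [Matrix.mulVec, dotProduct, Jm_apply]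
  rw [Finset.sum_eq_single i.rev]
  · simp
  · intro j _ hj
    simp [hj]
  · intro h
    exact absurd (Finset.mem_univ _) h

theorem Jm_map : (Jm n F).map σ = Jm n F := by
  ext i j
  simp only [Matrix.map_apply, Jm_apply]
  split_ifs <;> simp

/-- the Hermitian form with Gram matrix `Jm` -/
def hJ (x y : Fin n → F) : F := ∑ i, x i * σ (y i.rev)

theorem hJ_eq (x y : Fin n → F) : hJ σ x y = x ⬝ᵥ (Jm n F *ᵥ (σ ∘ y)) := by
  unfold hJ dotProduct
  apply Finset.sum_congr rfl
  intro i _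
  rw [Jm_mulVec]
  rfl

/-- `A` preserves the form -/
def IsU (A : Matrix (Fin n) (Fin n) F) : Prop := Aᵀ * Jm n F * A.map σ = Jm n F

theorem isU_one : IsU σ (1 : Matrix (Fin n) (Fin n) F) := by
  unfold IsU
  rw [Matrix.transpose_one, Matrix.one_mul, Matrix.map_one _ (map_zero σ) (map_one σ),
    Matrix.mul_one]

theorem IsU.mul {A B : Matrix (Fin n) (Fin n) F} (hA : IsU σ A) (hB : IsU σ B) :
    IsU σ (A * B) := by
  unfold IsU at *
  rw [Matrix.transpose_mul, Matrix.map_mul]
  calc Bᵀ * Aᵀ * Jm n F * (A.map σ * B.map σ)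
      = Bᵀ * (Aᵀ * Jm n F * A.map σ) * B.map σ := by simp only [Matrix.mul_assoc]
    _ = Jm n F := by rw [hA, hB]

theorem IsU.form {A : Matrix (Fin n) (Fin n) F} (hA : IsU σ A) (x y : Fin n → F) :
    hJ σ (A *ᵥ x) (A *ᵥ y) = hJ σ x y := by
  rw [hJ_eq, hJ_eq]
  have e : σ ∘ (A *ᵥ y) = A.map σ *ᵥ (σ ∘ y) := by
    funext i
    exact RingHom.map_mulVec σ A y i
  rw [e, Matrix.mulVec_mulVec, ← Matrix.vecMul_transpose A x, ← Matrix.dotProduct_mulVec,
    Matrix.mulVec_mulVec]
  rw [show Aᵀ * (Jm n F * A.map σ) = Aᵀ * Jm n F * A.map σ from (Matrix.mul_assoc _ _ _).symm]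
  unfold IsU at hA
  rw [hA]

theorem isU_apply (A : Matrix (Fin n) (Fin n) F) (u v : Fin n) :
    (Aᵀ * Jm n F * A.map σ) u v = ∑ w, A w u * σ (A w.rev v) := by
  rw [Matrix.mul_assoc, Matrix.mul_apply]
  apply Finset.sum_congr rfl
  intro w _
  rw [Matrix.transpose_apply]
  congr 1
  have := Jm_mulVec (fun j => (A.map σ) j v) w
  simp only [Matrix.mulVec, dotProduct, Matrix.map_apply] at this
  rw [Matrix.mul_apply]
  simpa using this

theorem IsU.rel {A : Matrix (Fin n) (Fin n) F} (hA : IsU σ A) (u v : Fin n) :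
    ∑ w, A w u * σ (A w.rev v) = if v = u.rev then 1 else 0 := by
  rw [← isU_apply, hA, Jm_apply]

theorem hJ_single (u v : Fin n) :
    hJ σ (Pi.single u 1) (Pi.single v 1) = if v = u.rev then 1 else 0 := by
  unfold hJ
  rw [Finset.sum_eq_single u]
  · rw [Pi.single_eq_same, one_mul]
    by_cases h : v = u.rev
    · rw [if_pos h, h, Pi.single_eq_same, map_one]
    · rw [if_neg h, Pi.single_eq_of_ne (Ne.symm h), map_zero]
  · intro j _ hj
    rw [Pi.single_eq_of_ne hj, zero_mul]
  · intro h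
    exact absurd (Finset.mem_univ _) h

theorem isU_of_form {A : Matrix (Fin n) (Fin n) F}
    (h : ∀ x y, hJ σ (A *ᵥ x) (A *ᵥ y) = hJ σ x y) : IsU σ A := by
  unfold IsU
  ext u v
  rw [isU_apply, Jm_apply, ← hJ_single σ u v, ← h]
  unfold hJ
  apply Finset.sum_congr rfl
  intro w _
  simp [Matrix.mulVec_single]

section Blk

variable {σ} (c : Fin d → Fin n)

theorem Jm_transpose : (Jm n F)ᵀ = Jm n F := by
  ext i j
  rw [Matrix.transpose_apply, Jm_apply, Jm_apply]
  by_cases h : j = i.rev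
  · rw [if_pos h, if_pos (by rw [h, Fin.rev_rev])]
  · rw [if_neg h, if_neg (fun h' => h (by rw [h', Fin.rev_rev]))]

theorem Jm_mul_incl (hrev : ∀ a, c a.rev = (c a).rev) :
    Jm n F * incl F c = incl F c * Jm d F := by
  ext x a
  have h1 : (Jm n F * incl F c) x a = incl F c x.rev a := by
    have := Jm_mulVec (fun y => incl F c y a) x
    simpa [Matrix.mulVec, dotProduct, Matrix.mul_apply] using this
  rw [h1, Matrix.mul_apply, Finset.sum_eq_single a.rev]
  · simp only [incl, Matrix.of_apply, Jm_apply, Fin.rev_rev, if_true, mul_one, hrev]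
    by_cases h : x.rev = c a
    · rw [if_pos h, if_pos (by rw [← h, Fin.rev_rev])]
    · rw [if_neg h, if_neg (fun h' => h (by rw [h', Fin.rev_rev]))]
  · intro b _ hb
    rw [Jm_apply, if_neg (fun h' => hb (by rw [h', Fin.rev_rev])), mul_zero]
  · intro h
    exact absurd (Finset.mem_univ _) h

theorem incl_transpose_mul_Jm (hrev : ∀ a, c a.rev = (c a).rev) :
    (incl F c)ᵀ * Jm n F = Jm d F * (incl F c)ᵀ := by
  have := congrArg Matrix.transpose (Jm_mul_incl (F := F) c hrev)
  rw [Matrix.transpose_mul, Matrix.transpose_mul, Jm_transpose, Jm_transpose] at this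
  exact this

theorem incl_map : (incl F c).map σ = incl F c := by
  ext x a
  simp only [Matrix.map_apply, incl, Matrix.of_apply]
  split_ifs <;> simp

theorem blk_map (M : Matrix (Fin d) (Fin d) F) : (blk c M).map σ = blk c (M.map σ) := by
  unfold blk
  rw [Matrix.map_add _ (map_add σ), Matrix.map_one _ (map_zero σ) (map_one σ), Matrix.map_mul,
    Matrix.map_mul, incl_map, Matrix.transpose_map, incl_map, Matrix.map_sub _ (map_sub σ),
    Matrix.map_one _ (map_zero σ) (map_one σ)]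

/-- block embeddings preserve unitarity -/
theorem blk_isU (hc : Function.Injective c) (hrev : ∀ a, c a.rev = (c a).rev)
    {M : Matrix (Fin d) (Fin d) F} (hM : IsU σ M) : IsU σ (blk c M) := by
  unfold IsU at *
  rw [blk_map, blk_transpose]
  unfold blk
  have h1 := incl_transpose_mul (F := F) c hc
  have h2 := Jm_mul_incl (F := F) c hrev
  have h3 := incl_transpose_mul_Jm (F := F) c hrev
  set ι := incl F c with hι
  set N := M - 1 with hN
  have hN' : Mᵀ - 1 = Nᵀ := by rw [hN, Matrix.transpose_sub, Matrix.transpose_one]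
  have hN'' : M.map σ - 1 = N.map σ := by
    rw [hN, Matrix.map_sub _ (map_sub σ), Matrix.map_one _ (map_zero σ) (map_one σ)]
  rw [hN', hN'']
  set N' := N.map σ with hNs
  have key : Jm d F * N' + Nᵀ * Jm d F + Nᵀ * Jm d F * N' = 0 := by
    have hM' : (1 + N)ᵀ * Jm d F * (1 + N).map σ = Jm d F := by
      rw [hN, add_sub_cancel]
      exact hM
    rw [Matrix.transpose_add, Matrix.transpose_one, Matrix.map_add _ (map_add σ),
      Matrix.map_one _ (map_zero σ) (map_one σ)] at hM'
    have : (1 + Nᵀ) * Jm d F * (1 + N') =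
        Jm d F + (Jm d F * N' + Nᵀ * Jm d F + Nᵀ * Jm d F * N') := by
      noncomm_ring
    rw [this] at hM'
    exact left_eq_add.mp hM'.symm
  have e1 : Jm n F * (ι * N' * ιᵀ) = ι * (Jm d F * N') * ιᵀ := by
    rw [Matrix.mul_assoc ι, ← Matrix.mul_assoc (Jm n F), h2]
    simp only [Matrix.mul_assoc]
  have e2 : ι * Nᵀ * ιᵀ * Jm n F = ι * (Nᵀ * Jm d F) * ιᵀ := by
    rw [Matrix.mul_assoc (ι * Nᵀ), h3]
    simp only [Matrix.mul_assoc]
  have e3 : ι * Nᵀ * ιᵀ * Jm n F * (ι * N' * ιᵀ) = ι * (Nᵀ * Jm d F * N') * ιᵀ := by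
    rw [e2]
    calc ι * (Nᵀ * Jm d F) * ιᵀ * (ι * N' * ιᵀ)
        = ι * (Nᵀ * Jm d F) * (ιᵀ * ι) * N' * ιᵀ := by simp only [Matrix.mul_assoc]
      _ = ι * (Nᵀ * Jm d F * N') * ιᵀ := by
        rw [h1, Matrix.mul_one]
        simp only [Matrix.mul_assoc]
  calc (1 + ι * Nᵀ * ιᵀ) * Jm n F * (1 + ι * N' * ιᵀ)
      = Jm n F + Jm n F * (ι * N' * ιᵀ) + ι * Nᵀ * ιᵀ * Jm n F +
          ι * Nᵀ * ιᵀ * Jm n F * (ι * N' * ιᵀ) := by
        simp only [Matrix.add_mul, Matrix.one_mul, Matrix.mul_add, Matrix.mul_one]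
        abel
    _ = Jm n F + ι * (Jm d F * N' + Nᵀ * Jm d F + Nᵀ * Jm d F * N') * ιᵀ := by
        rw [e3, e1, e2, Matrix.mul_add, Matrix.mul_add, Matrix.add_mul, Matrix.add_mul]
        abel
    _ = Jm n F := by rw [key, Matrix.mul_zero, Matrix.zero_mul, add_zero]

theorem det_blk (hc : Function.Injective c) (M : Matrix (Fin d) (Fin d) F) :
    (blk c M).det = M.det := by
  unfold blk
  rw [Matrix.mul_assoc, Matrix.det_one_add_mul_comm, Matrix.mul_assoc,
    incl_transpose_mul (F := F) c hc, Matrix.mul_one, add_sub_cancel]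

theorem blk_mul_eq_one (hc : Function.Injective c) {M M' : Matrix (Fin d) (Fin d) F}
    (h : M * M' = 1) : blk c M * blk c M' = 1 := by
  rw [← blk_mul c hc, h, blk_one]

end Blk

end Cfsg.Agent.Lib.Helper14.SUBN
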