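import Mathlib
import Cfsg.Agent.Lib.Helper14.SUBN1

/-!
# Block embeddings: action on vectors, monomial and triangular matrices, permutations
-/

set_option autoImplicit false
set_option linter.unusedSectionVars false

namespace Cfsg.Agent.Lib.Helper14.SUBN

open Matrix Cfsg.Agent.Lib.Helper14.SpBN Cfsg.Agent.Lib.Helper14.TriMono
  Cfsg.Agent.Lib.Helper14.MatBN

variable {F : Type*} [Field F] {n d : ℕ} (c : Fin d → Fin n)

theorem incl_transpose_mulVec (x : Fin n → F) : (incl F c)ᵀ *ᵥ x = x ∘ c := by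
  funext a
  simp only [Matrix.mulVec, dotProduct, Matrix.transpose_apply, incl, Matrix.of_apply,
    Function.comp]
  rw [Finset.sum_eq_single (c a)]
  · simp
  · intro y _ hy
    simp [hy]
  · intro h
    exact absurd (Finset.mem_univ _) h

theorem incl_mulVec_apply (hc : Function.Injective c) (z : Fin d → F) (a : Fin d) :
    (incl F c *ᵥ z) (c a) = z a := by
  simp only [Matrix.mulVec, dotProduct, incl, Matrix.of_apply]
  rw [Finset.sum_eq_single a]
  · simp
  · intro b _ hb
    have : c a ≠ c b := fun h => hb (hc h).symm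
    simp [this]
  · intro h
    exact absurd (Finset.mem_univ _) h

theorem incl_mulVec_apply_of_not (z : Fin d → F) (y : Fin n) (hy : ∀ a, y ≠ c a) :
    (incl F c *ᵥ z) y = 0 := by
  simp only [Matrix.mulVec, dotProduct, incl, Matrix.of_apply]
  apply Finset.sum_eq_zero
  intro b _
  simp [hy b]

theorem blk_mulVec (M : Matrix (Fin d) (Fin d) F) (x : Fin n → F) :
    blk c M *ᵥ x = x + incl F c *ᵥ ((M - 1) *ᵥ (x ∘ c)) := by
  unfold blk
  rw [Matrix.add_mulVec, Matrix.one_mulVec, ← Matrix.mulVec_mulVec, ← Matrix.mulVec_mulVec,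
    incl_transpose_mulVec]

theorem blk_mulVec_apply (hc : Function.Injective c) (M : Matrix (Fin d) (Fin d) F)
    (x : Fin n → F) (a : Fin d) : (blk c M *ᵥ x) (c a) = (M *ᵥ (x ∘ c)) a := by
  rw [blk_mulVec, Pi.add_apply, incl_mulVec_apply c hc, Matrix.sub_mulVec, Matrix.one_mulVec,
    Pi.sub_apply]
  simp

theorem blk_mulVec_apply_of_not (M : Matrix (Fin d) (Fin d) F) (x : Fin n → F) (y : Fin n)
    (hy : ∀ a, y ≠ c a) : (blk c M *ᵥ x) y = x y := by
  rw [blk_mulVec, Pi.add_apply, incl_mulVec_apply_of_not c _ y hy, add_zero]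

theorem mul_blk_apply (hc : Function.Injective c) (b : Matrix (Fin n) (Fin n) F)
    (M : Matrix (Fin d) (Fin d) F) (x : Fin n) (a' : Fin d) :
    (b * blk c M) x (c a') = ∑ a, b x (c a) * M a a' := by
  rw [Matrix.mul_apply]
  symm
  apply Finset.sum_of_injOn c (fun _ _ _ _ h => hc h) (fun _ _ => Finset.mem_coe.mpr (Finset.mem_univ _))
  · intro y _ hy
    have hy' : ∀ a, y ≠ c a := by
      intro a h
      apply hy
      exact ⟨a, Finset.mem_coe.mpr (Finset.mem_univ _), h.symm⟩
    rw [blk_apply_left c M y (c a') hy', Matrix.one_apply_ne (hy' a'), mul_zero]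
  · intro a _
    rw [blk_apply c hc]

theorem blk_eq_one (hc : Function.Injective c) {M : Matrix (Fin d) (Fin d) F}
    (h : blk c M = 1) : M = 1 := by
  ext a a'
  rw [← blk_apply c hc M a a', h]
  by_cases haa : a = a'
  · rw [haa, Matrix.one_apply_eq, Matrix.one_apply_eq]
  · rw [Matrix.one_apply_ne haa, Matrix.one_apply_ne (fun h' => haa (hc h'))]

theorem blk_diag {M : Matrix (Fin d) (Fin d) F} (hc : Function.Injective c)
    (h : ∀ a, M a a = 1) (y : Fin n) : blk c M y y = 1 := by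
  by_cases hy : ∃ a, y = c a
  · obtain ⟨a, rfl⟩ := hy
    rw [blk_apply c hc, h]
  · push Not at hy
    rw [blk_apply_left c M y y hy, Matrix.one_apply_eq]

theorem blk_supp {M : Matrix (Fin d) (Fin d) F} (hc : Function.Injective c) {u v : Fin n}
    (huv : u ≠ v) (h : blk c M u v ≠ 0) :
    ∃ a a', u = c a ∧ v = c a' ∧ a ≠ a' ∧ M a a' ≠ 0 := by
  by_cases hu : ∃ a, u = c a
  · by_cases hv : ∃ a, v = c a
    · obtain ⟨a, rfl⟩ := hu
      obtain ⟨a', rfl⟩ := hv
      rw [blk_apply c hc] at h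
      exact ⟨a, a', rfl, rfl, fun e => huv (by rw [e]), h⟩
    · push Not at hv
      rw [blk_apply_right c M u v hv, Matrix.one_apply_ne huv] at h
      exact absurd rfl h
  · push Not at hu
    rw [blk_apply_left c M u v hu, Matrix.one_apply_ne huv] at h
    exact absurd rfl h

theorem blk_tri {M : Matrix (Fin d) (Fin d) F} (hc : Function.Injective c)
    (h : ∀ a a', a ≠ a' → M a a' ≠ 0 → c a < c a') :
    (blk c M).BlockTriangular (Fin.val : Fin n → ℕ) := by
  intro i j hji
  by_contra hne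
  have hij : i ≠ j := by
    rintro rfl
    exact lt_irrefl _ hji
  obtain ⟨a, a', rfl, rfl, haa, hM⟩ := blk_supp c hc hij hne
  have := h a a' haa hM
  rw [Fin.lt_def] at this
  omega

theorem blk_mono {S : Matrix (Fin d) (Fin d) F} {π₀ : Equiv.Perm (Fin d)}
    (hc : Function.Injective c) (hS : IsMono S π₀) (π : Equiv.Perm (Fin n))
    (hπc : ∀ a, π (c a) = c (π₀ a)) (hπ : ∀ x, (∀ a, x ≠ c a) → π x = x) :
    IsMono (blk c S) π := by
  intro i j hij
  by_contra hne
  have hij' : i ≠ j := by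
    rintro rfl
    by_cases hi : ∃ a, i = c a
    · obtain ⟨a, rfl⟩ := hi
      rw [blk_apply c hc] at hne
      have : a = π₀ a := by
        by_contra h
        exact hne (hS a a h)
      apply hij
      rw [hπc, ← this]
    · push Not at hi
      exact hij (hπ i hi).symm
  obtain ⟨a, a', rfl, rfl, haa, hM⟩ := blk_supp c hc hij' hne
  apply hij
  rw [hπc]
  congr 1
  by_contra h
  exact hM (hS a a' h)

/-- the extension of a permutation along `c` -/
noncomputable def piE (hc : Function.Injective c) (π₀ : Equiv.Perm (Fin d)) : Equiv.Perm (Fin n) :=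
  π₀.viaEmbedding ⟨c, hc⟩

theorem piE_apply (hc : Function.Injective c) (π₀ : Equiv.Perm (Fin d)) (a : Fin d) :
    piE c hc π₀ (c a) = c (π₀ a) :=
  Equiv.Perm.viaEmbedding_apply π₀ ⟨c, hc⟩ a

theorem piE_apply_of_not (hc : Function.Injective c) (π₀ : Equiv.Perm (Fin d)) (x : Fin n)
    (hx : ∀ a, x ≠ c a) : piE c hc π₀ x = x := by
  apply Equiv.Perm.viaEmbedding_apply_of_notMem
  rintro ⟨a, ha⟩
  exact hx a ha.symm

theorem piE_mul_self (hc : Function.Injective c) {π₀ : Equiv.Perm (Fin d)} (h : π₀ * π₀ = 1) :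
    piE c hc π₀ * piE c hc π₀ = 1 := by
  have := map_mul (Equiv.Perm.viaEmbeddingHom ⟨c, hc⟩) π₀ π₀
  rw [h, map_one] at this
  exact this.symm

theorem piE_ne_one (hc : Function.Injective c) {π₀ : Equiv.Perm (Fin d)} (h : π₀ ≠ 1) :
    piE c hc π₀ ≠ 1 := by
  intro h1
  apply h
  apply Equiv.Perm.viaEmbeddingHom_injective ⟨c, hc⟩
  rw [map_one]
  exact h1

theorem piE_rev (hc : Function.Injective c) {π₀ : Equiv.Perm (Fin d)}
    (hrev : ∀ a, c a.rev = (c a).rev) (hπ : ∀ a, π₀ a.rev = (π₀ a).rev) (x : Fin n) :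
    piE c hc π₀ x.rev = (piE c hc π₀ x).rev := by
  by_cases hx : ∃ a, x = c a
  · obtain ⟨a, rfl⟩ := hx
    rw [← hrev, piE_apply, piE_apply, hπ, hrev]
  · push Not at hx
    have hx' : ∀ a, x.rev ≠ c a := by
      intro a h
      apply hx a.rev
      rw [hrev, ← h, Fin.rev_rev]
    rw [piE_apply_of_not c hc π₀ x hx, piE_apply_of_not c hc π₀ x.rev hx']

/-- the pairs inverted by the extended permutation -/
theorem inPi_piE (hc : StrictMono c) {π₀ : Equiv.Perm (Fin d)}
    (hint : ∀ x, (∀ a, x ≠ c a) → ∀ a, (x < c a ↔ x < c (π₀ a))) (u v : Fin n) :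
    InPi (Fin.val : Fin n → ℕ) (piE c hc.injective π₀) u v ↔
      ∃ a a', u = c a ∧ v = c a' ∧ InPi (Fin.val : Fin d → ℕ) π₀ a a' := by
  unfold InPi
  constructor
  · rintro ⟨h1, h2⟩
    by_cases hu : ∃ a, u = c a
    · obtain ⟨a, rfl⟩ := hu
      by_cases hv : ∃ a, v = c a
      · obtain ⟨a', rfl⟩ := hv
        rw [piE_apply, piE_apply] at h2
        refine ⟨a, a', rfl, rfl, ?_, ?_⟩
        · exact hc.lt_iff_lt.mp h1
        · exact hc.lt_iff_lt.mp h2
      · exfalso
        push Not at hv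
        rw [piE_apply, piE_apply_of_not c _ π₀ v hv] at h2
        have h3 := (hint v hv a).not
        have h4 : ¬ v < c a := not_lt.mpr (le_of_lt h1)
        have h5 : v < c (π₀ a) := h2
        exact (h3.mp h4) h5
    · exfalso
      push Not at hu
      by_cases hv : ∃ a, v = c a
      · obtain ⟨a', rfl⟩ := hv
        rw [piE_apply, piE_apply_of_not c _ π₀ u hu] at h2
        have h3 := hint u hu a'
        have h4 : u < c a' := h1
        have h5 : ¬ u < c (π₀ a') := not_lt.mpr (le_of_lt h2)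
        exact h5 (h3.mp h4)
      · push Not at hv
        rw [piE_apply_of_not c _ π₀ u hu, piE_apply_of_not c _ π₀ v hv] at h2
        omega
  · rintro ⟨a, a', rfl, rfl, h1, h2⟩
    rw [piE_apply, piE_apply]
    exact ⟨hc.lt_iff_lt.mpr h1, hc.lt_iff_lt.mpr h2⟩

end Cfsg.Agent.Lib.Helper14.SUBN
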