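import Mathlib
import Cfsg.Agent.Lib.Helper14.SUBN2

/-!
# Rank one data in small unitary groups: the structure, and the cases of size two and three
-/

set_option autoImplicit false
set_option linter.unusedSectionVars false

namespace Cfsg.Agent.Lib.Helper14.SUBN

open Matrix Cfsg.Agent.Lib.Helper14.SpBN Cfsg.Agent.Lib.Helper14.TriMono
  Cfsg.Agent.Lib.Helper14.MatBN

/-- rank one data in a small unitary group -/
structure Sm (d : ℕ) (F : Type*) [Field F] (σ : F →+* F) where
  /-- the reflection -/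
  S : Matrix (Fin d) (Fin d) F
  /-- its inverse -/
  Sinv : Matrix (Fin d) (Fin d) F
  /-- its permutation -/
  π₀ : Equiv.Perm (Fin d)
  /-- the root subgroup -/
  X₀ : Set (Matrix (Fin d) (Fin d) F)
  S_isU : IsU σ S
  S_det : S.det = 1
  S_inv : S * Sinv = 1
  S_mono : IsMono S π₀
  π₀_sq : π₀ * π₀ = 1
  π₀_ne : π₀ ≠ 1
  π₀_rev : ∀ a, π₀ a.rev = (π₀ a).rev
  X_isU : ∀ M ∈ X₀, IsU σ M
  X_det : ∀ M ∈ X₀, M.det = 1
  X_diag : ∀ M ∈ X₀, ∀ a, M a a = 1
  X_supp : ∀ M ∈ X₀, ∀ a a', a ≠ a' → M a a' ≠ 0 → InPi (Fin.val : Fin d → ℕ) π₀ a a'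
  X_inv : ∀ M ∈ X₀, ∃ M' ∈ X₀, M * M' = 1
  X_ne : ∃ M ∈ X₀, M ≠ 1
  hC₀ : ∀ M ∈ X₀, M = 1 ∨ ∃ M₁ ∈ X₀, ∃ M₁', M₁ * M₁' = 1 ∧
    (S * M * Sinv * M₁' * Sinv).BlockTriangular (Fin.val : Fin d → ℕ)
  orient₀ : ∀ (N : ℕ) (f : Fin d → ℕ), Function.Injective f → (∀ a, f a < N) →
    (∀ a, f a.rev = N - (f a + 1)) →
    (∀ a a', InPi (Fin.val : Fin d → ℕ) π₀ a a' → f a < f a') ∨
    (∀ a a', InPi (Fin.val : Fin d → ℕ) π₀ a a' → f a' < f a)

variable {F : Type*} [Field F] (σ : F →+* F)

theorem Jm_two : Jm 2 F = !![0, 1; 1, 0] := by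
  ext i j
  fin_cases i <;> fin_cases j <;> simp [Jm_apply, Fin.rev]

theorem Jm_three : Jm 3 F = !![0, 0, 1; 0, 1, 0; 1, 0, 0] := by
  ext i j
  fin_cases i <;> fin_cases j <;> simp [Jm_apply, Fin.rev]

/-! ### Size two -/

/-- the reflection -/
def s2 (τ : F) : Matrix (Fin 2) (Fin 2) F := !![0, τ; -τ⁻¹, 0]

/-- its inverse -/
def s2i (τ : F) : Matrix (Fin 2) (Fin 2) F := !![0, -τ; τ⁻¹, 0]

/-- the root elements -/
def x2 (t : F) : Matrix (Fin 2) (Fin 2) F := !![1, t; 0, 1]

theorem inPi_two (a a' : Fin 2) :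
    InPi (Fin.val : Fin 2 → ℕ) (Equiv.swap 0 1) a a' ↔ a = 0 ∧ a' = 1 := by
  unfold InPi
  revert a a'
  decide

/-- the data of size two -/
def sm2 (τ : F) (hτ0 : τ ≠ 0) (hτ : τ + σ τ = 0) : Sm 2 F σ where
  S := s2 τ
  Sinv := s2i τ
  π₀ := Equiv.swap 0 1
  X₀ := {M | ∃ t, t + σ t = 0 ∧ M = x2 t}
  S_isU := by
    have h1 : σ τ = -τ := by linear_combination hτ
    unfold IsU s2
    rw [Jm_two]
    ext i j
    fin_cases i <;> fin_cases j <;> simp [Matrix.mul_apply, Fin.sum_univ_two, h1, hτ0]
  S_det := by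
    unfold s2
    rw [Matrix.det_fin_two]
    simp [hτ0]
  S_inv := by
    unfold s2 s2i
    ext i j
    fin_cases i <;> fin_cases j <;> simp [Matrix.mul_apply, Fin.sum_univ_two, hτ0]
  S_mono := by
    intro i j
    unfold s2
    fin_cases i <;> fin_cases j <;> simp
  π₀_sq := Equiv.swap_mul_self _ _
  π₀_ne := by
    intro h
    have := congrArg (fun f : Equiv.Perm (Fin 2) => f 0) h
    simp at this
  π₀_rev := by decide
  X_isU := by
    rintro M ⟨t, ht, rfl⟩
    unfold IsU x2
    rw [Jm_two]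
    ext i j
    fin_cases i <;> fin_cases j <;> simp [Matrix.mul_apply, Fin.sum_univ_two]
    linear_combination ht
  X_det := by
    rintro M ⟨t, ht, rfl⟩
    unfold x2
    rw [Matrix.det_fin_two]
    simp
  X_diag := by
    rintro M ⟨t, ht, rfl⟩ a
    unfold x2
    fin_cases a <;> simp
  X_supp := by
    rintro M ⟨t, ht, rfl⟩ a a' haa hne
    rw [inPi_two]
    unfold x2 at hne
    fin_cases a <;> fin_cases a' <;> simp at haa hne ⊢
  X_inv := by
    rintro M ⟨t, ht, rfl⟩
    refine ⟨x2 (-t), ⟨-t, by rw [map_neg]; linear_combination -ht, rfl⟩, ?_⟩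
    unfold x2
    ext i j
    fin_cases i <;> fin_cases j <;> simp [Matrix.mul_apply, Fin.sum_univ_two]
  X_ne := by
    refine ⟨x2 τ, ⟨τ, hτ, rfl⟩, fun h => ?_⟩
    have := congrFun (congrFun h 0) 1
    simp [x2] at this
    exact hτ0 this
  hC₀ := by
    rintro M ⟨t, ht, rfl⟩
    by_cases ht0 : t = 0
    · left
      rw [ht0]
      unfold x2
      ext i j
      fin_cases i <;> fin_cases j <;> simp
    · right
      have h1 : σ τ = -τ := by linear_combination hτ
      have h2 : σ t = -t := by linear_combination ht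
      refine ⟨x2 (-τ ^ 2 / t), ⟨-τ ^ 2 / t, ?_, rfl⟩, x2 (τ ^ 2 / t), ?_, ?_⟩
      · rw [map_div₀, map_neg, map_pow, h1, h2]
        field_simp
        ring
      · unfold x2
        ext i j
        fin_cases i <;> fin_cases j <;> simp [Matrix.mul_apply, Fin.sum_univ_two]
        ring
      · intro i j hij
        unfold s2 s2i x2
        fin_cases i <;> fin_cases j <;> simp at hij
        simp [Matrix.mul_apply, Fin.sum_univ_two]
        refine Or.inl ?_
        field_simp
        ring
  orient₀ := by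
    intro N f hf hN hrev
    have hne : f 0 ≠ f 1 := fun h => by
      have := hf h
      simp at this
    rcases lt_or_gt_of_ne hne with h | h
    · left
      intro a a' haa
      obtain ⟨rfl, rfl⟩ := (inPi_two a a').mp haa
      exact h
    · right
      intro a a' haa
      obtain ⟨rfl, rfl⟩ := (inPi_two a a').mp haa
      exact h

/-! ### Size three -/

/-- the reflection -/
def s3 (F : Type*) [Field F] : Matrix (Fin 3) (Fin 3) F := !![0, 0, 1; 0, -1, 0; 1, 0, 0]

/-- the root elements -/
def x3 (a c : F) : Matrix (Fin 3) (Fin 3) F := !![1, a, c; 0, 1, -σ a; 0, 0, 1]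

theorem inPi_three (a a' : Fin 3) :
    InPi (Fin.val : Fin 3 → ℕ) (Equiv.swap 0 2) a a' ↔ a < a' := by
  unfold InPi
  revert a a'
  decide

theorem x3_mul (a c a' c' : F) :
    x3 σ a c * x3 σ a' c' = x3 σ (a + a') (c + c' - a * σ a') := by
  unfold x3
  ext i j
  fin_cases i <;> fin_cases j <;> simp [Matrix.mul_apply, Fin.sum_univ_three] <;> ring

theorem x3_zero : x3 σ 0 0 = 1 := by
  unfold x3
  ext i j
  fin_cases i <;> fin_cases j <;> simp

/-- the data of size three -/
def sm3 (hσ2 : ∀ x, σ (σ x) = x) (τ : F) (hτ0 : τ ≠ 0) (hτ : τ + σ τ = 0) : Sm 3 F σ where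
  S := s3 F
  Sinv := s3 F
  π₀ := Equiv.swap 0 2
  X₀ := {M | ∃ a c, c + σ c + a * σ a = 0 ∧ M = x3 σ a c}
  S_isU := by
    unfold IsU s3
    rw [Jm_three]
    ext i j
    fin_cases i <;> fin_cases j <;> simp [Matrix.mul_apply, Fin.sum_univ_three]
  S_det := by
    unfold s3
    rw [Matrix.det_fin_three]
    simp
  S_inv := by
    unfold s3
    ext i j
    fin_cases i <;> fin_cases j <;> simp [Matrix.mul_apply, Fin.sum_univ_three]
  S_mono := by
    intro i j
    unfold s3
    fin_cases i <;> fin_cases j <;> simp <;> decide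
  π₀_sq := Equiv.swap_mul_self _ _
  π₀_ne := by
    intro h
    have := congrArg (fun f : Equiv.Perm (Fin 3) => f 0) h
    simp at this
  π₀_rev := by decide
  X_isU := by
    rintro M ⟨a, c, hac, rfl⟩
    unfold IsU x3
    rw [Jm_three]
    ext i j
    fin_cases i <;> fin_cases j <;> simp [Matrix.mul_apply, Fin.sum_univ_three, hσ2]
    linear_combination hac
  X_det := by
    rintro M ⟨a, c, hac, rfl⟩
    unfold x3
    rw [Matrix.det_fin_three]
    simp
  X_diag := by
    rintro M ⟨a, c, hac, rfl⟩ i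
    unfold x3
    fin_cases i <;> simp
  X_supp := by
    rintro M ⟨a, c, hac, rfl⟩ i j hij hne
    rw [inPi_three]
    unfold x3 at hne
    fin_cases i <;> fin_cases j <;> simp at hij hne ⊢
  X_inv := by
    rintro M ⟨a, c, hac, rfl⟩
    refine ⟨x3 σ (-a) (σ c), ⟨-a, σ c, ?_, rfl⟩, ?_⟩
    · rw [hσ2, map_neg]
      linear_combination hac
    · rw [x3_mul, ← x3_zero σ]
      congr 1
      · ring
      · rw [map_neg]
        linear_combination hac
  X_ne := by
    refine ⟨x3 σ 0 τ, ⟨0, τ, by rw [map_zero]; linear_combination hτ, rfl⟩, fun h => ?_⟩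
    have := congrFun (congrFun h 0) 2
    simp [x3] at this
    exact hτ0 this
  hC₀ := by
    rintro M ⟨a, c, hac, rfl⟩
    by_cases hc0 : c = 0
    · left
      have ha : a = 0 := by
        rw [hc0, map_zero] at hac
        have h1 : a * σ a = 0 := by linear_combination hac
        rcases mul_eq_zero.mp h1 with h | h
        · exact h
        · have := congrArg σ h
          rwa [hσ2, map_zero] at this
      rw [ha, hc0, x3_zero]
    · right
      have hsc : σ c ≠ 0 := by
        intro h
        have := congrArg σ h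
        rw [hσ2, map_zero] at this
        exact hc0 this
      refine ⟨x3 σ (-a / c) (1 / c), ⟨-a / c, 1 / c, ?_, rfl⟩, x3 σ (a / c) (1 / σ c), ?_, ?_⟩
      · rw [map_div₀, map_div₀, map_neg, map_one]
        field_simp
        linear_combination hac
      · rw [x3_mul, ← x3_zero σ]
        congr 1
        · ring
        · rw [map_div₀]
          field_simp
          linear_combination hac
      · intro i j hij
        unfold s3 x3
        fin_cases i <;> fin_cases j <;> simp at hij
        · simp [Matrix.mul_apply, Fin.sum_univ_three, map_div₀]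
          field_simp
          ring
        · simp [Matrix.mul_apply, Fin.sum_univ_three, map_div₀]
          field_simp
          linear_combination hac
        · simp [Matrix.mul_apply, Fin.sum_univ_three, map_div₀]
          field_simp
          ring
  orient₀ := by
    intro N f hf hN hrev
    have hne : f 0 ≠ f 1 := fun h => by
      have := hf h
      simp at this
    have h0 := hrev 0
    have h1 := hrev 1
    have e0 : (0 : Fin 3).rev = 2 := by decide
    have e1 : (1 : Fin 3).rev = 1 := by decide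
    rw [e0] at h0
    rw [e1] at h1
    have hN0 := hN 0
    have hN1 := hN 1
    have hN2 := hN 2
    rcases lt_or_gt_of_ne hne with h | h
    · left
      intro a a' haa
      rw [inPi_three] at haa
      fin_cases a <;> fin_cases a' <;> simp at haa ⊢ <;> omega
    · right
      intro a a' haa
      rw [inPi_three] at haa
      fin_cases a <;> fin_cases a' <;> simp at haa ⊢ <;> omega

end Cfsg.Agent.Lib.Helper14.SUBN
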