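import Mathlib
import Cfsg.Agent.Lib.Helper14.SUBN3

/-!
# Rank one data in small unitary groups: size four
-/

set_option autoImplicit false
set_option linter.unusedSectionVars false
set_option linter.unnecessarySeqFocus false

namespace Cfsg.Agent.Lib.Helper14.SUBN

open Matrix Cfsg.Agent.Lib.Helper14.SpBN Cfsg.Agent.Lib.Helper14.TriMono
  Cfsg.Agent.Lib.Helper14.MatBN

variable {F : Type*} [Field F] (σ : F →+* F)

theorem Jm_four : Jm 4 F = !![0, 0, 0, 1; 0, 0, 1, 0; 0, 1, 0, 0; 1, 0, 0, 0] := by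
  ext i j
  fin_cases i <;> fin_cases j <;> simp [Jm_apply, Fin.rev]

/-- the reflection -/
def s4 (F : Type*) [Field F] : Matrix (Fin 4) (Fin 4) F :=
  !![0, 1, 0, 0; -1, 0, 0, 0; 0, 0, 0, -1; 0, 0, 1, 0]

/-- its inverse -/
def s4i (F : Type*) [Field F] : Matrix (Fin 4) (Fin 4) F :=
  !![0, -1, 0, 0; 1, 0, 0, 0; 0, 0, 0, 1; 0, 0, -1, 0]

/-- the root elements -/
def x4 (t : F) : Matrix (Fin 4) (Fin 4) F :=
  !![1, t, 0, 0; 0, 1, 0, 0; 0, 0, 1, -σ t; 0, 0, 0, 1]

/-- the permutation -/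
def pi4 : Equiv.Perm (Fin 4) := Equiv.swap 0 1 * Equiv.swap 2 3

theorem inPi_four (a a' : Fin 4) :
    InPi (Fin.val : Fin 4 → ℕ) pi4 a a' ↔ (a = 0 ∧ a' = 1) ∨ (a = 2 ∧ a' = 3) := by
  unfold InPi pi4
  revert a a'
  decide

theorem x4_mul (t t' : F) : x4 σ t * x4 σ t' = x4 σ (t + t') := by
  unfold x4
  ext i j
  fin_cases i <;> fin_cases j <;> simp [Matrix.mul_apply, Fin.sum_univ_four] <;> ring

theorem x4_zero : x4 σ 0 = 1 := by
  unfold x4
  ext i j
  fin_cases i <;> fin_cases j <;> simp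

/-- the data of size four -/
def sm4 (hσ2 : ∀ x, σ (σ x) = x) : Sm 4 F σ where
  S := s4 F
  Sinv := s4i F
  π₀ := pi4
  X₀ := {M | ∃ t, M = x4 σ t}
  S_isU := by
    unfold IsU s4
    rw [Jm_four]
    ext i j
    fin_cases i <;> fin_cases j <;> simp [Matrix.mul_apply, Fin.sum_univ_four]
  S_det := by
    unfold s4
    simp [Matrix.det_succ_row_zero, Fin.sum_univ_succ, Fin.succAbove]
  S_inv := by
    unfold s4 s4i
    ext i j
    fin_cases i <;> fin_cases j <;> simp [Matrix.mul_apply, Fin.sum_univ_four]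
  S_mono := by
    intro i j
    unfold s4 pi4
    fin_cases i <;> fin_cases j <;> simp <;> decide
  π₀_sq := by
    unfold pi4
    decide
  π₀_ne := by
    intro h
    have := congrArg (fun f : Equiv.Perm (Fin 4) => f 0) h
    revert this
    unfold pi4
    decide
  π₀_rev := by
    unfold pi4
    decide
  X_isU := by
    rintro M ⟨t, rfl⟩
    unfold IsU x4
    rw [Jm_four]
    ext i j
    fin_cases i <;> fin_cases j <;> simp [Matrix.mul_apply, Fin.sum_univ_four, hσ2]
  X_det := by
    rintro M ⟨t, rfl⟩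
    unfold x4
    simp [Matrix.det_succ_row_zero, Fin.sum_univ_succ, Fin.succAbove]
  X_diag := by
    rintro M ⟨t, rfl⟩ i
    unfold x4
    fin_cases i <;> simp
  X_supp := by
    rintro M ⟨t, rfl⟩ i j hij hne
    rw [inPi_four]
    unfold x4 at hne
    fin_cases i <;> fin_cases j <;> simp at hij hne ⊢
  X_inv := by
    rintro M ⟨t, rfl⟩
    refine ⟨x4 σ (-t), ⟨-t, rfl⟩, ?_⟩
    rw [x4_mul, add_neg_cancel, x4_zero]
  X_ne := by
    refine ⟨x4 σ 1, ⟨1, rfl⟩, fun h => ?_⟩
    have := congrFun (congrFun h 0) 1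
    simp [x4] at this
  hC₀ := by
    rintro M ⟨t, rfl⟩
    by_cases ht0 : t = 0
    · left
      rw [ht0, x4_zero]
    · right
      have hst : σ t ≠ 0 := by
        intro h
        have := congrArg σ h
        rw [hσ2, map_zero] at this
        exact ht0 this
      refine ⟨x4 σ (-1 / t), ⟨-1 / t, rfl⟩, x4 σ (1 / t), ?_, ?_⟩
      · rw [x4_mul, ← x4_zero σ]
        congr 1
        ring
      · intro i j hij
        unfold s4 s4i x4
        fin_cases i <;> fin_cases j <;> simp at hij <;>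
          simp [Matrix.mul_apply, Fin.sum_univ_four, ht0, hst]
  orient₀ := by
    intro N f hf hN hrev
    have hne : f 0 ≠ f 1 := fun h => by
      have := hf h
      simp at this
    have h0 := hrev 0
    have h1 := hrev 1
    have e0 : (0 : Fin 4).rev = 3 := by decide
    have e1 : (1 : Fin 4).rev = 2 := by decide
    rw [e0] at h0
    rw [e1] at h1
    have hN0 := hN 0
    have hN1 := hN 1
    rcases lt_or_gt_of_ne hne with h | h
    · left
      intro a a' haa
      rcases (inPi_four a a').mp haa with ⟨rfl, rfl⟩ | ⟨rfl, rfl⟩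
      · exact h
      · omega
    · right
      intro a a' haa
      rcases (inPi_four a a').mp haa with ⟨rfl, rfl⟩ | ⟨rfl, rfl⟩
      · exact h
      · omega

end Cfsg.Agent.Lib.Helper14.SUBN
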