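import Mathlib
import Cfsg.Agent.Lib.Helper14.SUBN4

/-!
# Rank one subgroups of a unitary group in Witt form
-/

set_option autoImplicit false
set_option linter.unusedSectionVars false

namespace Cfsg.Agent.Lib.Helper14.SUBN

open Matrix Cfsg.Agent.Lib.Helper14.SpBN Cfsg.Agent.Lib.Helper14.TriMono
  Cfsg.Agent.Lib.Helper14.MatBN

/-- a group identified with the matrices of determinant one preserving the form `Jm` -/
structure UModel (G : Type*) [Group G] (n : ℕ) (F : Type*) [Field F] (σ : F →+* F) where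
  /-- the matrices -/
  mat : G →* Matrix (Fin n) (Fin n) F
  mat_inj : Function.Injective mat
  mat_isU : ∀ g, IsU σ (mat g)
  mat_det : ∀ g, (mat g).det = 1
  surj : ∀ A : Matrix (Fin n) (Fin n) F, A.det = 1 → IsU σ A → ∃ g, mat g = A

/-- the permutations commuting with the reversal -/
def Wr (n : ℕ) : Subgroup (Equiv.Perm (Fin n)) where
  carrier := {τ | ∀ x, τ x.rev = (τ x).rev}
  mul_mem' := by
    intro τ τ' h h' x
    simp only [Equiv.Perm.coe_mul, Function.comp]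
    rw [h', h]
  one_mem' := fun x => rfl
  inv_mem' := by
    intro τ h x
    apply τ.injective
    rw [h]
    simp

theorem mem_Wr {n : ℕ} (τ : Equiv.Perm (Fin n)) : τ ∈ Wr n ↔ ∀ x, τ x.rev = (τ x).rev := Iff.rfl

/-- an embedding of the index set of a small unitary group -/
structure Emb (d n : ℕ) (π₀ : Equiv.Perm (Fin d)) where
  /-- the map -/
  c : Fin d → Fin n
  c_mono : StrictMono c
  c_rev : ∀ a, c a.rev = (c a).rev
  c_int : ∀ x, (∀ a, x ≠ c a) → ∀ a, (x < c a ↔ x < c (π₀ a))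

/-- rank one data -/
structure R1 (d n : ℕ) (F : Type*) [Field F] (σ : F →+* F) where
  /-- the small group -/
  D : Sm d F σ
  /-- the embedding -/
  E : Emb d n D.π₀
  hA : ∀ b : Matrix (Fin n) (Fin n) F, IsU σ b → b.BlockTriangular (Fin.val : Fin n → ℕ) →
    ∃ M ∈ D.X₀, ∃ M', M * M' = 1 ∧ ∀ a a', InPi (Fin.val : Fin d → ℕ) D.π₀ a a' →
      (b * blk E.c M') (E.c a) (E.c a') = 0

variable {G : Type*} [Group G] {n d : ℕ} {F : Type*} [Field F] {σ : F →+* F}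

namespace UModel

variable (Mo : UModel G n F σ)

/-- the element with a given matrix -/
noncomputable def mk' (A : Matrix (Fin n) (Fin n) F) (hdet : A.det = 1) (hU : IsU σ A) : G :=
  Classical.choose (Mo.surj A hdet hU)

@[simp] theorem mat_mk' (A : Matrix (Fin n) (Fin n) F) (hdet : A.det = 1) (hU : IsU σ A) :
    Mo.mat (Mo.mk' A hdet hU) = A :=
  Classical.choose_spec (Mo.surj A hdet hU)

theorem mat_inv_of_mul {g : G} {A : Matrix (Fin n) (Fin n) F} (h : Mo.mat g * A = 1) :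
    Mo.mat g⁻¹ = A := by
  have h1 : Mo.mat g⁻¹ * Mo.mat g = 1 := by rw [← map_mul, inv_mul_cancel, map_one]
  calc Mo.mat g⁻¹ = Mo.mat g⁻¹ * (Mo.mat g * A) := by rw [h, Matrix.mul_one]
    _ = A := by rw [← Matrix.mul_assoc, h1, Matrix.one_mul]

end UModel

namespace R1

variable (R : R1 d n F σ) (Mo : UModel G n F σ)

theorem c_inj : Function.Injective R.E.c := R.E.c_mono.injective

/-- the permutation of the reflection -/
noncomputable def π : Equiv.Perm (Fin n) := piE R.E.c R.c_inj R.D.π₀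

/-- the reflection -/
noncomputable def s : G :=
  Mo.mk' (blk R.E.c R.D.S) (by rw [det_blk _ R.c_inj, R.D.S_det])
    (blk_isU _ R.c_inj R.E.c_rev R.D.S_isU)

/-- the root subgroup -/
def X : Set G := {g | ∃ M ∈ R.D.X₀, Mo.mat g = blk R.E.c M}

theorem mat_s : Mo.mat (R.s Mo) = blk R.E.c R.D.S := Mo.mat_mk' _ _ _

theorem mat_s_inv : Mo.mat (R.s Mo)⁻¹ = blk R.E.c R.D.Sinv := by
  apply Mo.mat_inv_of_mul
  rw [mat_s]
  exact blk_mul_eq_one _ R.c_inj R.D.S_inv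

theorem π_mem : R.π ∈ Wr n := fun x => piE_rev _ R.c_inj R.E.c_rev R.D.π₀_rev x

theorem π_sq : R.π * R.π = 1 := piE_mul_self _ R.c_inj R.D.π₀_sq

theorem π_ne : R.π ≠ 1 := piE_ne_one _ R.c_inj R.D.π₀_ne

theorem s_mono : IsMono (Mo.mat (R.s Mo)) R.π := by
  rw [mat_s]
  exact blk_mono _ R.c_inj R.D.S_mono _ (piE_apply _ R.c_inj _) (piE_apply_of_not _ R.c_inj _)

theorem inPi_iff (u v : Fin n) : InPi (Fin.val : Fin n → ℕ) R.π u v ↔
    ∃ a a', u = R.E.c a ∧ v = R.E.c a' ∧ InPi (Fin.val : Fin d → ℕ) R.D.π₀ a a' :=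
  inPi_piE _ R.E.c_mono R.E.c_int u v

/-- elements of the root subgroup from small matrices -/
noncomputable def xOf (M : Matrix (Fin d) (Fin d) F) (hM : M ∈ R.D.X₀) : G :=
  Mo.mk' (blk R.E.c M) (by rw [det_blk _ R.c_inj, R.D.X_det M hM])
    (blk_isU _ R.c_inj R.E.c_rev (R.D.X_isU M hM))

theorem mat_xOf (M : Matrix (Fin d) (Fin d) F) (hM : M ∈ R.D.X₀) :
    Mo.mat (R.xOf Mo M hM) = blk R.E.c M := Mo.mat_mk' _ _ _

theorem xOf_mem (M : Matrix (Fin d) (Fin d) F) (hM : M ∈ R.D.X₀) : R.xOf Mo M hM ∈ R.X Mo :=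
  ⟨M, hM, R.mat_xOf Mo M hM⟩

theorem X_upper : ∀ x ∈ R.X Mo, (Mo.mat x).BlockTriangular (Fin.val : Fin n → ℕ) := by
  rintro x ⟨M, hM, hx⟩
  rw [hx]
  apply blk_tri _ R.c_inj
  intro a a' haa hne
  exact R.E.c_mono (Fin.lt_def.mpr (R.D.X_supp M hM a a' haa hne).1)

theorem X_diag : ∀ x ∈ R.X Mo, ∀ i, Mo.mat x i i = 1 := by
  rintro x ⟨M, hM, hx⟩ i
  rw [hx]
  exact blk_diag _ R.c_inj (R.D.X_diag M hM) i

theorem X_supp : ∀ x ∈ R.X Mo, ∀ u v, u ≠ v → Mo.mat x u v ≠ 0 →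
    InPi (Fin.val : Fin n → ℕ) R.π u v := by
  rintro x ⟨M, hM, hx⟩ u v huv hne
  rw [hx] at hne
  obtain ⟨a, a', rfl, rfl, haa, hM'⟩ := blk_supp _ R.c_inj huv hne
  rw [inPi_iff]
  exact ⟨a, a', rfl, rfl, R.D.X_supp M hM a a' haa hM'⟩

theorem X_ne : ∃ x ∈ R.X Mo, x ≠ 1 := by
  obtain ⟨M, hM, hne⟩ := R.D.X_ne
  refine ⟨R.xOf Mo M hM, R.xOf_mem Mo M hM, fun h => hne ?_⟩
  have := congrArg Mo.mat h
  rw [mat_xOf, map_one] at this
  exact blk_eq_one _ R.c_inj this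

theorem orient : ∀ τ ∈ Wr n, (∀ u v, InPi (Fin.val : Fin n → ℕ) R.π u v → (τ u).val < (τ v).val) ∨
    (∀ u v, InPi (Fin.val : Fin n → ℕ) R.π u v → (τ v).val < (τ u).val) := by
  intro τ hτ
  have h := R.D.orient₀ n (fun a => (τ (R.E.c a)).val)
    (fun a a' h => R.c_inj (τ.injective (Fin.ext h))) (fun a => (τ (R.E.c a)).2)
    (fun a => by
      show (τ (R.E.c a.rev)).val = n - ((τ (R.E.c a)).val + 1)
      rw [R.E.c_rev, hτ, Fin.val_rev])
  rcases h with h | h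
  · left
    intro u v huv
    obtain ⟨a, a', rfl, rfl, haa⟩ := (R.inPi_iff u v).mp huv
    exact h a a' haa
  · right
    intro u v huv
    obtain ⟨a, a', rfl, rfl, haa⟩ := (R.inPi_iff u v).mp huv
    exact h a a' haa

theorem hA' : ∀ b : G, (Mo.mat b).BlockTriangular (Fin.val : Fin n → ℕ) →
    ∃ x ∈ R.X Mo, ∀ u v, InPi (Fin.val : Fin n → ℕ) R.π u v → Mo.mat (b * x⁻¹) u v = 0 := by
  intro b hb
  obtain ⟨M, hM, M', hMM', h⟩ := R.hA (Mo.mat b) (Mo.mat_isU b) hb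
  refine ⟨R.xOf Mo M hM, R.xOf_mem Mo M hM, ?_⟩
  intro u v huv
  obtain ⟨a, a', rfl, rfl, haa⟩ := (R.inPi_iff u v).mp huv
  have e : Mo.mat (R.xOf Mo M hM)⁻¹ = blk R.E.c M' := by
    apply Mo.mat_inv_of_mul
    rw [mat_xOf]
    exact blk_mul_eq_one _ R.c_inj hMM'
  rw [map_mul, e]
  exact h a a' haa

theorem hC' : ∀ x ∈ R.X Mo, x = 1 ∨ ∃ b₁ : G, (Mo.mat b₁).BlockTriangular (Fin.val : Fin n → ℕ) ∧
    ∃ x₁ ∈ R.X Mo, R.s Mo * x * (R.s Mo)⁻¹ = b₁ * R.s Mo * x₁ := by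
  rintro x ⟨M, hM, hx⟩
  rcases R.D.hC₀ M hM with h1 | ⟨M₁, hM₁, M₁', hMM', htri⟩
  · left
    apply Mo.mat_inj
    rw [hx, h1, blk_one, map_one]
  · right
    set x₁ := R.xOf Mo M₁ hM₁ with hx₁
    have e : Mo.mat x₁⁻¹ = blk R.E.c M₁' := by
      apply Mo.mat_inv_of_mul
      rw [hx₁, mat_xOf]
      exact blk_mul_eq_one _ R.c_inj hMM'
    refine ⟨R.s Mo * x * (R.s Mo)⁻¹ * x₁⁻¹ * (R.s Mo)⁻¹, ?_, x₁, R.xOf_mem Mo M₁ hM₁, by group⟩
    rw [map_mul, map_mul, map_mul, map_mul, mat_s, mat_s_inv, hx, e,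
      ← blk_mul _ R.c_inj, ← blk_mul _ R.c_inj, ← blk_mul _ R.c_inj, ← blk_mul _ R.c_inj]
    apply blk_tri _ R.c_inj
    intro a a' haa hne
    apply R.E.c_mono
    by_contra hlt
    have hlt' : a' < a := lt_of_le_of_ne (not_lt.mp hlt) (Ne.symm haa)
    exact hne (htri (Fin.lt_def.mp hlt'))

/-- the smallest index moved -/
theorem π_apply_of_lt (hd : 0 < d) (x : Fin n) (hx : x < R.E.c ⟨0, hd⟩) : R.π x = x := by
  apply piE_apply_of_not
  intro a h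
  rw [h] at hx
  have : (⟨0, hd⟩ : Fin d) ≤ a := Fin.mk_le_of_le_val (Nat.zero_le _)
  exact absurd (R.E.c_mono.monotone this) (not_le.mpr hx)

theorem π_apply_zero (hd : 0 < d) : R.π (R.E.c ⟨0, hd⟩) = R.E.c (R.D.π₀ ⟨0, hd⟩) :=
  piE_apply _ R.c_inj _ _

end R1

/-- the smallest index moved determines the permutation -/
theorem c_zero_eq {d d' : ℕ} (R : R1 d n F σ) (R' : R1 d' n F σ) (hd : 0 < d) (hd' : 0 < d')
    (h0 : R.D.π₀ ⟨0, hd⟩ ≠ ⟨0, hd⟩) (h0' : R'.D.π₀ ⟨0, hd'⟩ ≠ ⟨0, hd'⟩) (h : R.π = R'.π) :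
    R.E.c ⟨0, hd⟩ = R'.E.c ⟨0, hd'⟩ := by
  have key : ∀ {e e' : ℕ} (S : R1 e n F σ) (S' : R1 e' n F σ) (he : 0 < e) (he' : 0 < e'),
      S.D.π₀ ⟨0, he⟩ ≠ ⟨0, he⟩ → S.π = S'.π → ¬ S.E.c ⟨0, he⟩ < S'.E.c ⟨0, he'⟩ := by
    intro e e' S S' he he' hne hπ hlt
    have h1 := S'.π_apply_of_lt he' _ hlt
    rw [← hπ, S.π_apply_zero he] at h1
    exact hne (S.c_inj h1)
  rcases lt_trichotomy (R.E.c ⟨0, hd⟩) (R'.E.c ⟨0, hd'⟩) with h1 | h1 | h1
  · exact absurd h1 (key R R' hd hd' h0 h)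
  · exact h1
  · exact absurd h1 (key R' R hd' hd h0' h.symm)

end Cfsg.Agent.Lib.Helper14.SUBN
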