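import Mathlib
import Cfsg.Agent.Lib.Helper14.SUBN5

/-!
# Relations between the entries of a triangular unitary matrix
-/

set_option autoImplicit false
set_option linter.unusedSectionVars false

namespace Cfsg.Agent.Lib.Helper14.SUBN

open Matrix Cfsg.Agent.Lib.Helper14.SpBN Cfsg.Agent.Lib.Helper14.TriMono
  Cfsg.Agent.Lib.Helper14.MatBN

variable {n : ℕ} {F : Type*} [Field F] {σ : F →+* F}

theorem sum_three_of (f : Fin n → F) (p q r : Fin n) (hpq : p ≠ q) (hpr : p ≠ r) (hqr : q ≠ r)
    (h : ∀ w, w ≠ p → w ≠ q → w ≠ r → f w = 0) : ∑ w, f w = f p + f q + f r := by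
  classical
  have hsub : ({p, q, r} : Finset (Fin n)) ⊆ Finset.univ := Finset.subset_univ _
  rw [← Finset.sum_subset hsub]
  · rw [Finset.sum_insert (by simp [hpq, hpr]), Finset.sum_insert (by simp [hqr]),
      Finset.sum_singleton]
    ring
  · intro w _ hw
    simp only [Finset.mem_insert, Finset.mem_singleton, not_or] at hw
    exact h w hw.1 hw.2.1 hw.2.2

variable {b : Matrix (Fin n) (Fin n) F} (hU : IsU σ b)
  (hb : b.BlockTriangular (Fin.val : Fin n → ℕ))

include hU hb

theorem rel_diag (u : Fin n) : b u u * σ (b u.rev u.rev) = 1 := by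
  have h := IsU.rel σ hU u u.rev
  rw [if_pos rfl, Finset.sum_eq_single u] at h
  · exact h
  · intro w _ hw
    rcases lt_or_gt_of_ne hw with h1 | h1
    · have : b w.rev u.rev = 0 := by
        apply hb
        show u.rev.val < w.rev.val
        rw [Fin.val_rev, Fin.val_rev]
        have := Fin.lt_def.mp h1
        have := u.2
        omega
      rw [this, map_zero, mul_zero]
    · rw [hb (Fin.lt_def.mp h1), zero_mul]
  · intro h
    exact absurd (Finset.mem_univ _) h

theorem rel_adj (i j : Fin n) (hij : j.val = i.val + 1) :
    b i j * σ (b i.rev i.rev) + b j j * σ (b j.rev i.rev) = 0 := by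
  have hne : i ≠ j := fun h => by rw [h] at hij; omega
  have h := IsU.rel σ hU j i.rev
  rw [if_neg (fun h' => hne (Fin.rev_injective h')), Finset.sum_eq_add i j hne] at h
  · exact h
  · intro w _ hw
    by_cases h1 : w.val < i.val
    · have : b w.rev i.rev = 0 := by
        apply hb
        show i.rev.val < w.rev.val
        rw [Fin.val_rev, Fin.val_rev]
        have := i.2
        omega
      rw [this, map_zero, mul_zero]
    · have h2 : j.val < w.val := by
        have h3 : w.val ≠ i.val := fun h => hw.1 (Fin.ext h)
        have h4 : w.val ≠ j.val := fun h => hw.2 (Fin.ext h)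
        omega
      rw [hb h2, zero_mul]
  · intro h
    exact absurd (Finset.mem_univ _) h
  · intro h
    exact absurd (Finset.mem_univ _) h

theorem rel_three (i m l : Fin n) (him : m.val = i.val + 1) (hml : l.val = i.val + 2) :
    b i l * σ (b i.rev i.rev) + b m l * σ (b m.rev i.rev) + b l l * σ (b l.rev i.rev) = 0 := by
  have hne : i ≠ l := fun h => by rw [h] at hml; omega
  have hne1 : i ≠ m := fun h => by rw [h] at him; omega
  have hne2 : m ≠ l := fun h => by rw [h] at him; omega
  have h := IsU.rel σ hU l i.rev
  rw [if_neg (fun h' => hne (Fin.rev_injective h')),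
    sum_three_of _ i m l hne1 hne hne2] at h
  · exact h
  · intro w hw1 hw2 hw3
    by_cases h1 : w.val < i.val
    · have : b w.rev i.rev = 0 := by
        apply hb
        show i.rev.val < w.rev.val
        rw [Fin.val_rev, Fin.val_rev]
        have := i.2
        omega
      rw [this, map_zero, mul_zero]
    · have h2 : l.val < w.val := by
        have h3 : w.val ≠ i.val := fun h => hw1 (Fin.ext h)
        have h4 : w.val ≠ m.val := fun h => hw2 (Fin.ext h)
        have h5 : w.val ≠ l.val := fun h => hw3 (Fin.ext h)
        omega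
      rw [hb h2, zero_mul]

end Cfsg.Agent.Lib.Helper14.SUBN
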