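import Mathlib
import Cfsg.Agent.Lib.Helper14.SUBN6

/-!
# The rank one data of the unitary group: linear type
-/

set_option autoImplicit false
set_option linter.unusedSectionVars false
set_option linter.unnecessarySeqFocus false

namespace Cfsg.Agent.Lib.Helper14.SUBN

open Matrix Cfsg.Agent.Lib.Helper14.SpBN Cfsg.Agent.Lib.Helper14.TriMono
  Cfsg.Agent.Lib.Helper14.MatBN

variable {n : ℕ} {F : Type*} [Field F] {σ : F →+* F}

/-- the simple roots of linear type -/
abbrev K1 (n : ℕ) := {i : Fin n // 2 * i.val + 3 < n}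

/-- the simple root of the type of `SU₂` -/
abbrev K2 (n : ℕ) := {i : Fin n // 2 * i.val + 2 = n}

/-- the simple root of the type of `SU₃` -/
abbrev K3 (n : ℕ) := {i : Fin n // 2 * i.val + 3 = n}

/-- the successor of the index of a simple root -/
def nx {P : Fin n → Prop} (k : {i : Fin n // P i}) (h : k.1.val + 1 < n) : Fin n :=
  ⟨k.1.val + 1, h⟩

/-! ### Linear type -/

/-- the embedding of the indices -/
def c1 (k : K1 n) : Fin 4 → Fin n :=
  ![k.1, nx k (by have := k.2; omega), (nx k (by have := k.2; omega)).rev, k.1.rev]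

theorem c1_val (k : K1 n) (a : Fin 4) :
    (c1 k a).val = ![k.1.val, k.1.val + 1, n - (k.1.val + 2), n - (k.1.val + 1)] a := by
  fin_cases a
  · rfl
  · rfl
  · show (nx k _).rev.val = _
    rw [Fin.val_rev]
    rfl
  · show k.1.rev.val = _
    rw [Fin.val_rev]
    rfl

theorem pi4_apply (a : Fin 4) : pi4 a = ![1, 0, 3, 2] a := by
  revert a
  unfold pi4
  decide

/-- the embedding data -/
def emb1 (k : K1 n) : Emb 4 n pi4 where
  c := c1 k
  c_mono := by
    rw [Fin.strictMono_iff_lt_succ]
    intro a
    rw [Fin.lt_def, c1_val, c1_val]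
    have := k.2
    fin_cases a <;> simp <;> omega
  c_rev := by
    intro a
    apply Fin.ext
    rw [Fin.val_rev, c1_val, c1_val]
    have := k.2
    fin_cases a <;> simp [Fin.rev] <;> omega
  c_int := by
    intro x hx a
    have h0 := Fin.val_ne_of_ne (hx 0)
    have h1 := Fin.val_ne_of_ne (hx 1)
    have h2 := Fin.val_ne_of_ne (hx 2)
    have h3 := Fin.val_ne_of_ne (hx 3)
    rw [c1_val] at h0 h1 h2 h3
    rw [Fin.lt_def, Fin.lt_def, c1_val, c1_val, pi4_apply]
    have := k.2
    fin_cases a <;> simp at h0 h1 h2 h3 ⊢ <;> omega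

/-- the rank one data of linear type -/
def r1 (hσ2 : ∀ x, σ (σ x) = x) (k : K1 n) : R1 4 n F σ where
  D := sm4 σ hσ2
  E := emb1 k
  hA := by
    intro b hU hb
    set i : Fin n := k.1 with hi
    set j : Fin n := nx k (by have := k.2; omega) with hj
    have hij : j.val = i.val + 1 := rfl
    have hd1 := rel_diag hU hb i
    have hd2 := rel_diag hU hb j.rev
    rw [Fin.rev_rev] at hd2
    have hadj := rel_adj hU hb i j hij
    have hadj' := congrArg σ hadj
    rw [map_add, map_mul, map_mul, hσ2, hσ2, map_zero] at hadj'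
    set t : F := b i j * σ (b i.rev i.rev) with ht
    refine ⟨x4 σ t, ⟨t, rfl⟩, x4 σ (-t), ?_, ?_⟩
    · rw [x4_mul, add_neg_cancel, x4_zero]
    · intro a a' haa
      have hc : Function.Injective (c1 k) := (emb1 k).c_mono.injective
      show (b * blk (c1 k) (x4 σ (-t))) (c1 k a) (c1 k a') = 0
      rw [mul_blk_apply _ hc, Fin.sum_univ_four]
      rcases (inPi_four a a').mp haa with ⟨rfl, rfl⟩ | ⟨rfl, rfl⟩
      · have e0 : c1 k 0 = i := rfl
        have e1 : c1 k 1 = j := rfl
        simp only [x4, e0, e1]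
        simp
        rw [ht]
        linear_combination (-b i j) * hd1
      · have e2 : c1 k 2 = j.rev := rfl
        have e3 : c1 k 3 = i.rev := rfl
        simp only [x4, e2, e3]
        simp
        rw [ht, map_mul, hσ2]
        linear_combination b j.rev j.rev * hadj' - b j.rev i.rev * hd2

end Cfsg.Agent.Lib.Helper14.SUBN
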