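import Mathlib
import Cfsg.Agent.Lib.Helper14.SUBN7

/-!
# The rank one data of the unitary group: the types of `SU₂` and `SU₃`
-/

set_option autoImplicit false
set_option linter.unusedSectionVars false
set_option linter.unnecessarySeqFocus false

namespace Cfsg.Agent.Lib.Helper14.SUBN

open Matrix Cfsg.Agent.Lib.Helper14.SpBN Cfsg.Agent.Lib.Helper14.TriMono
  Cfsg.Agent.Lib.Helper14.MatBN

variable {n : ℕ} {F : Type*} [Field F] {σ : F →+* F}

/-! ### The type of `SU₂` -/

/-- the embedding of the indices -/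
def c2 (k : K2 n) : Fin 2 → Fin n := ![k.1, k.1.rev]

theorem c2_val (k : K2 n) (a : Fin 2) : (c2 k a).val = ![k.1.val, k.1.val + 1] a := by
  fin_cases a
  · rfl
  · show k.1.rev.val = _
    rw [Fin.val_rev]
    have := k.2
    simp
    omega

theorem swap01_apply (a : Fin 2) : (Equiv.swap (0 : Fin 2) 1) a = ![1, 0] a := by
  revert a
  decide

/-- the embedding data -/
def emb2 (k : K2 n) : Emb 2 n (Equiv.swap 0 1) where
  c := c2 k
  c_mono := by
    rw [Fin.strictMono_iff_lt_succ]
    intro a
    rw [Fin.lt_def, c2_val, c2_val]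
    fin_cases a
    simp
  c_rev := by
    intro a
    apply Fin.ext
    rw [Fin.val_rev, c2_val, c2_val]
    have := k.2
    fin_cases a <;> simp [Fin.rev] <;> omega
  c_int := by
    intro x hx a
    have h0 := Fin.val_ne_of_ne (hx 0)
    have h1 := Fin.val_ne_of_ne (hx 1)
    rw [c2_val] at h0 h1
    rw [Fin.lt_def, Fin.lt_def, c2_val, c2_val, swap01_apply]
    fin_cases a <;> simp at h0 h1 ⊢ <;> omega

/-- the rank one data of the type of `SU₂` -/
def r2 (hσ2 : ∀ x, σ (σ x) = x) (τ : F) (hτ0 : τ ≠ 0) (hτ : τ + σ τ = 0) (k : K2 n) :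
    R1 2 n F σ where
  D := sm2 σ τ hτ0 hτ
  E := emb2 k
  hA := by
    intro b hU hb
    set i : Fin n := k.1 with hi
    have hij : i.rev.val = i.val + 1 := by
      rw [Fin.val_rev]
      have := k.2
      omega
    have hd1 := rel_diag hU hb i
    have hadj := rel_adj hU hb i i.rev hij
    rw [Fin.rev_rev] at hadj
    set t : F := b i i.rev * σ (b i.rev i.rev) with ht
    have htt : t + σ t = 0 := by
      rw [ht, map_mul, hσ2]
      linear_combination hadj
    refine ⟨x2 t, ⟨t, htt, rfl⟩, x2 (-t), ?_, ?_⟩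
    · unfold x2
      ext u v
      fin_cases u <;> fin_cases v <;> simp [Matrix.mul_apply, Fin.sum_univ_two]
    · intro a a' haa
      have hc : Function.Injective (c2 k) := (emb2 k).c_mono.injective
      show (b * blk (c2 k) (x2 (-t))) (c2 k a) (c2 k a') = 0
      rw [mul_blk_apply _ hc, Fin.sum_univ_two]
      obtain ⟨rfl, rfl⟩ := (inPi_two a a').mp haa
      have e0 : c2 k 0 = i := rfl
      have e1 : c2 k 1 = i.rev := rfl
      simp only [x2, e0, e1]
      simp
      rw [ht]
      linear_combination (-b i i.rev) * hd1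

/-! ### The type of `SU₃` -/

/-- the embedding of the indices -/
def c3 (k : K3 n) : Fin 3 → Fin n := ![k.1, nx k (by have := k.2; omega), k.1.rev]

theorem c3_val (k : K3 n) (a : Fin 3) :
    (c3 k a).val = ![k.1.val, k.1.val + 1, k.1.val + 2] a := by
  fin_cases a
  · rfl
  · rfl
  · show k.1.rev.val = _
    rw [Fin.val_rev]
    have := k.2
    simp
    omega

theorem swap02_apply (a : Fin 3) : (Equiv.swap (0 : Fin 3) 2) a = ![2, 1, 0] a := by
  revert a
  decide

/-- the embedding data -/
def emb3 (k : K3 n) : Emb 3 n (Equiv.swap 0 2) where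
  c := c3 k
  c_mono := by
    rw [Fin.strictMono_iff_lt_succ]
    intro a
    rw [Fin.lt_def, c3_val, c3_val]
    fin_cases a <;> simp
  c_rev := by
    intro a
    apply Fin.ext
    rw [Fin.val_rev, c3_val, c3_val]
    have := k.2
    fin_cases a <;> simp [Fin.rev] <;> omega
  c_int := by
    intro x hx a
    have h0 := Fin.val_ne_of_ne (hx 0)
    have h1 := Fin.val_ne_of_ne (hx 1)
    have h2 := Fin.val_ne_of_ne (hx 2)
    rw [c3_val] at h0 h1 h2
    rw [Fin.lt_def, Fin.lt_def, c3_val, c3_val, swap02_apply]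
    fin_cases a <;> simp at h0 h1 h2 ⊢ <;> omega

/-- the rank one data of the type of `SU₃` -/
def r3 (hσ2 : ∀ x, σ (σ x) = x) (τ : F) (hτ0 : τ ≠ 0) (hτ : τ + σ τ = 0) (k : K3 n) :
    R1 3 n F σ where
  D := sm3 σ hσ2 τ hτ0 hτ
  E := emb3 k
  hA := by
    intro b hU hb
    set i : Fin n := k.1 with hi
    set m : Fin n := nx k (by have := k.2; omega) with hm
    have him : m.val = i.val + 1 := rfl
    have hil : i.rev.val = i.val + 2 := by
      rw [Fin.val_rev]
      have := k.2
      omega
    have hmr : m.rev = m := by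
      apply Fin.ext
      rw [Fin.val_rev, him]
      have := k.2
      omega
    have hD1 := rel_diag hU hb i
    have hD2 := rel_diag hU hb m
    rw [hmr] at hD2
    have hA1 := rel_adj hU hb i m him
    rw [hmr] at hA1
    have hT := rel_three hU hb i m i.rev him hil
    rw [hmr, Fin.rev_rev] at hT
    have hσA1 := congrArg σ hA1
    rw [map_add, map_mul, map_mul, hσ2, hσ2, map_zero] at hσA1
    have hmi : b m i = 0 := hb (by rw [him]; omega)
    set p := b i i with hp
    set r := b m m with hr
    set s := b i.rev i.rev with hs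
    set x := b i m with hx
    set y := b m i.rev with hy
    set z := b i i.rev with hz
    set a : F := x * σ s with ha
    set c : F := -(σ x * x * σ s + σ z) * s with hc
    have hsa : σ a = σ x * s := by rw [ha, map_mul, hσ2]
    have hsc : σ c = -(x * σ x * s + z) * σ s := by
      rw [hc, map_mul, map_neg, map_add, map_mul, map_mul, hσ2, hσ2, hσ2]
    have hmem : c + σ c + a * σ a = 0 := by
      rw [hsc, hsa, ha, hc]
      linear_combination (-1 : F) * hT - y * σ y * hD2 + r * σ y * hσA1 - σ x * s * hA1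
    refine ⟨x3 σ a c, ⟨a, c, hmem, rfl⟩, x3 σ (-a) (σ c), ?_, ?_⟩
    · rw [x3_mul, ← x3_zero σ]
      congr 1
      · ring
      · rw [map_neg]
        linear_combination hmem
    · intro u v huv
      have hcinj : Function.Injective (c3 k) := (emb3 k).c_mono.injective
      show (b * blk (c3 k) (x3 σ (-a) (σ c))) (c3 k u) (c3 k v) = 0
      rw [mul_blk_apply _ hcinj, Fin.sum_univ_three]
      have e0 : c3 k 0 = i := rfl
      have e1 : c3 k 1 = m := rfl
      have e2 : c3 k 2 = i.rev := rfl
      have huv' : InPi (Fin.val : Fin 3 → ℕ) (Equiv.swap 0 2) u v := huv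
      rw [inPi_three] at huv'
      clear huv
      have hcases : ∀ u v : Fin 3, u < v → (u = 0 ∧ v = 1) ∨ (u = 0 ∧ v = 2) ∨ (u = 1 ∧ v = 2) := by
        decide
      rcases hcases u v huv' with ⟨rfl, rfl⟩ | ⟨rfl, rfl⟩ | ⟨rfl, rfl⟩
      · simp only [x3, e0, e1, e2]
        simp
        rw [← hp, ← hx, ha]
        linear_combination (-x) * hD1
      · simp only [x3, e0, e1, e2]
        simp
        rw [← hp, ← hx, ← hz, hsc, hsa]
        linear_combination (-(x * σ x * s + z)) * hD1
      · simp only [x3, e0, e1, e2]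
        simp
        rw [hmi, ← hr, ← hy, hsa]
        linear_combination r * hσA1 - y * hD2

end Cfsg.Agent.Lib.Helper14.SUBN
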