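import Mathlib
import Cfsg.Agent.Lib.Helper14.SUBN8
import Cfsg.Agent.Lib.Helper14.MatBN2

/-!
# The rank one data of the unitary group, assembled
-/

set_option autoImplicit false
set_option linter.unusedSectionVars false
set_option linter.unnecessarySeqFocus false

namespace Cfsg.Agent.Lib.Helper14.SUBN

open Matrix Cfsg.Agent.Lib.Helper14.SpBN Cfsg.Agent.Lib.Helper14.TriMono
  Cfsg.Agent.Lib.Helper14.MatBN

variable {G : Type*} [Group G] {n : ℕ} {F : Type*} [Field F] {σ : F →+* F}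

/-- the simple roots -/
abbrev KK (n : ℕ) := K1 n ⊕ K2 n ⊕ K3 n

variable (Mo : UModel G n F σ) (hσ2 : ∀ x, σ (σ x) = x) (τ : F) (hτ0 : τ ≠ 0)
  (hτ : τ + σ τ = 0)

theorem c1_zero (k : K1 n) : (r1 (σ := σ) hσ2 k).E.c ⟨0, by norm_num⟩ = k.1 := rfl
theorem c2_zero (k : K2 n) : (r2 hσ2 τ hτ0 hτ k).E.c ⟨0, by norm_num⟩ = k.1 := rfl
theorem c3_zero (k : K3 n) : (r3 hσ2 τ hτ0 hτ k).E.c ⟨0, by norm_num⟩ = k.1 := rfl

theorem pi1_zero (k : K1 n) :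
    (r1 (σ := σ) hσ2 k).D.π₀ ⟨0, by norm_num⟩ ≠ ⟨0, by norm_num⟩ := by
  show pi4 0 ≠ 0
  unfold pi4
  decide

theorem pi2_zero (k : K2 n) :
    (r2 hσ2 τ hτ0 hτ k).D.π₀ ⟨0, by norm_num⟩ ≠ ⟨0, by norm_num⟩ := by
  show (Equiv.swap (0 : Fin 2) 1) 0 ≠ 0
  decide

theorem pi3_zero (k : K3 n) :
    (r3 hσ2 τ hτ0 hτ k).D.π₀ ⟨0, by norm_num⟩ ≠ ⟨0, by norm_num⟩ := by
  show (Equiv.swap (0 : Fin 3) 2) 0 ≠ 0
  decide

/-- the data of the `(B, N)`-pair -/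
noncomputable def suSetup : Setup G (Fin n) F (KK n) where
  mat := Mo.mat
  ρ := Fin.val
  W := Wr n
  s := Sum.elim (fun k => (r1 hσ2 k).s Mo)
    (Sum.elim (fun k => (r2 hσ2 τ hτ0 hτ k).s Mo) (fun k => (r3 hσ2 τ hτ0 hτ k).s Mo))
  π := Sum.elim (fun k => (r1 (σ := σ) hσ2 k).π)
    (Sum.elim (fun k => (r2 hσ2 τ hτ0 hτ k).π) (fun k => (r3 hσ2 τ hτ0 hτ k).π))
  X := Sum.elim (fun k => (r1 hσ2 k).X Mo)
    (Sum.elim (fun k => (r2 hσ2 τ hτ0 hτ k).X Mo) (fun k => (r3 hσ2 τ hτ0 hτ k).X Mo))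
  mat_inj := Mo.mat_inj
  ρ_inj := Fin.val_injective
  π_mem := by
    rintro (k | k | k)
    · exact (r1 (σ := σ) hσ2 k).π_mem
    · exact (r2 hσ2 τ hτ0 hτ k).π_mem
    · exact (r3 hσ2 τ hτ0 hτ k).π_mem
  π_sq := by
    rintro (k | k | k)
    · exact (r1 (σ := σ) hσ2 k).π_sq
    · exact (r2 hσ2 τ hτ0 hτ k).π_sq
    · exact (r3 hσ2 τ hτ0 hτ k).π_sq
  π_ne := by
    rintro (k | k | k)
    · exact (r1 (σ := σ) hσ2 k).π_ne
    · exact (r2 hσ2 τ hτ0 hτ k).π_ne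
    · exact (r3 hσ2 τ hτ0 hτ k).π_ne
  π_inj := by
    rintro (k | k | k) (k' | k' | k') h
    · have := c_zero_eq _ _ _ _ (pi1_zero hσ2 k) (pi1_zero hσ2 k') h
      rw [c1_zero, c1_zero] at this
      rw [Subtype.ext this]
    · exfalso
      have := c_zero_eq _ _ _ _ (pi1_zero hσ2 k) (pi2_zero hσ2 τ hτ0 hτ k') h
      rw [c1_zero, c2_zero] at this
      have h1 := k.2
      have h2 := k'.2
      rw [this] at h1
      omega
    · exfalso
      have := c_zero_eq _ _ _ _ (pi1_zero hσ2 k) (pi3_zero hσ2 τ hτ0 hτ k') h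
      rw [c1_zero, c3_zero] at this
      have h1 := k.2
      have h2 := k'.2
      rw [this] at h1
      omega
    · exfalso
      have := c_zero_eq _ _ _ _ (pi2_zero hσ2 τ hτ0 hτ k) (pi1_zero hσ2 k') h
      rw [c1_zero, c2_zero] at this
      have h1 := k.2
      have h2 := k'.2
      rw [this] at h1
      omega
    · have := c_zero_eq _ _ _ _ (pi2_zero hσ2 τ hτ0 hτ k) (pi2_zero hσ2 τ hτ0 hτ k') h
      rw [c2_zero, c2_zero] at this
      rw [Subtype.ext this]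
    · exfalso
      have := c_zero_eq _ _ _ _ (pi2_zero hσ2 τ hτ0 hτ k) (pi3_zero hσ2 τ hτ0 hτ k') h
      rw [c2_zero, c3_zero] at this
      have h1 := k.2
      have h2 := k'.2
      rw [this] at h1
      omega
    · exfalso
      have := c_zero_eq _ _ _ _ (pi3_zero hσ2 τ hτ0 hτ k) (pi1_zero hσ2 k') h
      rw [c1_zero, c3_zero] at this
      have h1 := k.2
      have h2 := k'.2
      rw [this] at h1
      omega
    · exfalso
      have := c_zero_eq _ _ _ _ (pi3_zero hσ2 τ hτ0 hτ k) (pi2_zero hσ2 τ hτ0 hτ k') h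
      rw [c2_zero, c3_zero] at this
      have h1 := k.2
      have h2 := k'.2
      rw [this] at h1
      omega
    · have := c_zero_eq _ _ _ _ (pi3_zero hσ2 τ hτ0 hτ k) (pi3_zero hσ2 τ hτ0 hτ k') h
      rw [c3_zero, c3_zero] at this
      rw [Subtype.ext this]
  s_mono := by
    rintro (k | k | k)
    · exact (r1 hσ2 k).s_mono Mo
    · exact (r2 hσ2 τ hτ0 hτ k).s_mono Mo
    · exact (r3 hσ2 τ hτ0 hτ k).s_mono Mo
  X_upper := by
    rintro (k | k | k)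
    · exact (r1 hσ2 k).X_upper Mo
    · exact (r2 hσ2 τ hτ0 hτ k).X_upper Mo
    · exact (r3 hσ2 τ hτ0 hτ k).X_upper Mo
  X_diag := by
    rintro (k | k | k)
    · exact (r1 hσ2 k).X_diag Mo
    · exact (r2 hσ2 τ hτ0 hτ k).X_diag Mo
    · exact (r3 hσ2 τ hτ0 hτ k).X_diag Mo
  X_supp := by
    rintro (k | k | k)
    · exact (r1 hσ2 k).X_supp Mo
    · exact (r2 hσ2 τ hτ0 hτ k).X_supp Mo
    · exact (r3 hσ2 τ hτ0 hτ k).X_supp Mo
  X_ne := by
    rintro (k | k | k)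
    · exact (r1 hσ2 k).X_ne Mo
    · exact (r2 hσ2 τ hτ0 hτ k).X_ne Mo
    · exact (r3 hσ2 τ hτ0 hτ k).X_ne Mo
  orient := by
    rintro τ' hτ' (k | k | k)
    · exact (r1 (σ := σ) hσ2 k).orient τ' hτ'
    · exact (r2 hσ2 τ hτ0 hτ k).orient τ' hτ'
    · exact (r3 hσ2 τ hτ0 hτ k).orient τ' hτ'
  hA := by
    rintro (k | k | k)
    · exact (r1 hσ2 k).hA' Mo
    · exact (r2 hσ2 τ hτ0 hτ k).hA' Mo
    · exact (r3 hσ2 τ hτ0 hτ k).hA' Mo
  hC := by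
    rintro (k | k | k)
    · exact (r1 hσ2 k).hC' Mo
    · exact (r2 hσ2 τ hτ0 hτ k).hC' Mo
    · exact (r3 hσ2 τ hτ0 hτ k).hC' Mo

end Cfsg.Agent.Lib.Helper14.SUBN
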