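import Mathlib
import Cfsg.Agent.Lib.Helper14.SUBN9

/-!
# The unitary group: adjacency, connectedness and the diagonal part
-/

set_option autoImplicit false
set_option linter.unusedSectionVars false
set_option linter.unnecessarySeqFocus false

namespace Cfsg.Agent.Lib.Helper14.SUBN

open Matrix Cfsg.Agent.Lib.Helper14.SpBN Cfsg.Agent.Lib.Helper14.TriMono
  Cfsg.Agent.Lib.Helper14.MatBN

variable {G : Type*} [Group G] {n : ℕ} {F : Type*} [Field F] {σ : F →+* F}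

variable (Mo : UModel G n F σ) (hσ2 : ∀ x, σ (σ x) = x) (τ : F) (hτ0 : τ ≠ 0)
  (hτ : τ + σ τ = 0)

theorem su_hadj (u v : Fin n) (huv : v.val = u.val + 1) :
    ∃ k, InPi (Fin.val : Fin n → ℕ) ((suSetup Mo hσ2 τ hτ0 hτ).π k) u v := by
  have hv := v.2
  by_cases h1 : 2 * u.val + 3 < n
  · refine ⟨Sum.inl ⟨u, h1⟩, ?_⟩
    show InPi _ (r1 hσ2 ⟨u, h1⟩).π u v
    rw [R1.inPi_iff]
    exact ⟨0, 1, rfl, Fin.ext huv, (inPi_four 0 1).mpr (Or.inl ⟨rfl, rfl⟩)⟩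
  by_cases h2 : 2 * u.val + 3 = n
  · refine ⟨Sum.inr (Sum.inr ⟨u, h2⟩), ?_⟩
    show InPi _ (r3 hσ2 τ hτ0 hτ ⟨u, h2⟩).π u v
    rw [R1.inPi_iff]
    exact ⟨0, 1, rfl, Fin.ext huv, (inPi_three 0 1).mpr (by decide)⟩
  by_cases h3 : 2 * u.val + 2 = n
  · refine ⟨Sum.inr (Sum.inl ⟨u, h3⟩), ?_⟩
    show InPi _ (r2 hσ2 τ hτ0 hτ ⟨u, h3⟩).π u v
    rw [R1.inPi_iff]
    refine ⟨0, 1, rfl, ?_, (inPi_two 0 1).mpr ⟨rfl, rfl⟩⟩
    apply Fin.ext
    show v.val = u.rev.val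
    rw [Fin.val_rev]
    omega
  by_cases h4 : 2 * u.val + 1 = n
  · have hu1 : 1 ≤ u.val := by omega
    set w : Fin n := ⟨u.val - 1, by omega⟩ with hw
    have hw3 : 2 * w.val + 3 = n := by
      show 2 * (u.val - 1) + 3 = n
      omega
    refine ⟨Sum.inr (Sum.inr ⟨w, hw3⟩), ?_⟩
    show InPi _ (r3 hσ2 τ hτ0 hτ ⟨w, hw3⟩).π u v
    rw [R1.inPi_iff]
    refine ⟨1, 2, ?_, ?_, (inPi_three 1 2).mpr (by decide)⟩
    · apply Fin.ext
      show u.val = (u.val - 1) + 1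
      omega
    · apply Fin.ext
      show v.val = w.rev.val
      rw [Fin.val_rev]
      show v.val = n - ((u.val - 1) + 1)
      omega
  · have hw3 : 2 * v.rev.val + 3 < n := by
      rw [Fin.val_rev]
      omega
    refine ⟨Sum.inl ⟨v.rev, hw3⟩, ?_⟩
    show InPi _ (r1 hσ2 ⟨v.rev, hw3⟩).π u v
    rw [R1.inPi_iff]
    refine ⟨2, 3, ?_, ?_, (inPi_four 2 3).mpr (Or.inr ⟨rfl, rfl⟩)⟩
    · apply Fin.ext
      show u.val = (nx (⟨v.rev, hw3⟩ : K1 n) _).rev.val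
      rw [Fin.val_rev]
      show u.val = n - ((v.rev.val + 1) + 1)
      rw [Fin.val_rev]
      omega
    · show v = v.rev.rev
      rw [Fin.rev_rev]

theorem su_hconn (u v : Fin n) (huv : u.val < v.val) : ∃ w : Fin n, w.val = u.val + 1 :=
  ⟨⟨u.val + 1, by have := v.2; omega⟩, rfl⟩

theorem isU_diagonal (d : Fin n → F) (h : ∀ u, d u * σ (d u.rev) = 1) :
    IsU σ (Matrix.diagonal d) := by
  unfold IsU
  ext u v
  rw [isU_apply, Jm_apply, Finset.sum_eq_single u]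
  · rw [Matrix.diagonal_apply_eq]
    by_cases hv : v = u.rev
    · rw [if_pos hv, hv, Matrix.diagonal_apply_eq, h]
    · rw [if_neg hv, Matrix.diagonal_apply_ne _ (Ne.symm hv), map_zero, mul_zero]
  · intro w _ hw
    rw [Matrix.diagonal_apply_ne _ hw, zero_mul]
  · intro h'
    exact absurd (Finset.mem_univ _) h'

theorem su_hdiag (b : G) (hb : (Mo.mat b).BlockTriangular (Fin.val : Fin n → ℕ)) :
    ∃ h : G, Mo.mat h = Matrix.diagonal (fun i => Mo.mat b i i) := by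
  have hdet : (Matrix.diagonal (fun i => Mo.mat b i i)).det = 1 := by
    rw [Matrix.det_diagonal, ← Mo.mat_det b]
    symm
    apply Matrix.det_of_isUpperTriangular
    intro i j hij
    exact hb (Fin.lt_def.mp hij)
  have hU : IsU σ (Matrix.diagonal (fun i => Mo.mat b i i)) :=
    isU_diagonal _ (fun u => rel_diag (Mo.mat_isU b) hb u)
  exact ⟨Mo.mk' _ hdet hU, Mo.mat_mk' _ _ _⟩

end Cfsg.Agent.Lib.Helper14.SUBN
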