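import Mathlib
import Cfsg.Agent.Lib.Helper14.SUBN10

/-!
# Generation of the unitary group: the Weyl group moves basis vectors, transvections
-/

set_option autoImplicit false
set_option linter.unusedSectionVars false
set_option linter.unnecessarySeqFocus false

namespace Cfsg.Agent.Lib.Helper14.SUBN

open Matrix Cfsg.Agent.Lib.Helper14.SpBN Cfsg.Agent.Lib.Helper14.TriMono
  Cfsg.Agent.Lib.Helper14.MatBN

variable {G : Type*} [Group G] {n : ℕ} {F : Type*} [Field F] {σ : F →+* F}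

/-- a monomial matrix maps basis vectors to multiples of basis vectors -/
theorem mono_mulVec_single' {A : Matrix (Fin n) (Fin n) F} {π : Equiv.Perm (Fin n)}
    (hA : IsMono A π) (y : Fin n) :
    A *ᵥ Pi.single y 1 = A (π y) y • Pi.single (π y) 1 := by
  rw [mulVec_single_one]
  funext x
  rw [Matrix.col_apply, Pi.smul_apply, smul_eq_mul]
  by_cases hx : x = π y
  · rw [hx, Pi.single_eq_same, mul_one]
  · rw [hA x y hx, Pi.single_eq_of_ne hx, mul_zero]

variable (Mo : UModel G n F σ) (hσ2 : ∀ x, σ (σ x) = x) (τ : F) (hτ0 : τ ≠ 0)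
  (hτ : τ + σ τ = 0) (hn : 0 < n) (L : Subgroup G)

/-- vectors that can be moved to a multiple of the first basis vector -/
def Reach (w : Fin n → F) : Prop :=
  ∃ h ∈ L, ∃ lam : F, lam ≠ 0 ∧ Mo.mat h *ᵥ w = lam • Pi.single (⟨0, hn⟩ : Fin n) 1

theorem reach_of_mulVec {g : G} (hg : g ∈ L) {w : Fin n → F}
    (h : Reach Mo hn L (Mo.mat g *ᵥ w)) : Reach Mo hn L w := by
  obtain ⟨h, hL, lam, hlam, e⟩ := h
  refine ⟨h * g, L.mul_mem hL hg, lam, hlam, ?_⟩
  rw [map_mul, ← Matrix.mulVec_mulVec, e]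

theorem reach_smul {c : F} (hc : c ≠ 0) {w : Fin n → F} (h : Reach Mo hn L w) :
    Reach Mo hn L (c • w) := by
  obtain ⟨h, hL, lam, hlam, e⟩ := h
  refine ⟨h, hL, c * lam, mul_ne_zero hc hlam, ?_⟩
  rw [Matrix.mulVec_smul, e, smul_smul]

variable (hNL : (suSetup Mo hσ2 τ hτ0 hτ).Nn ≤ L)

include hNL in
theorem reach_of_s (k : KK n) (y : Fin n)
    (h : Reach Mo hn L (Pi.single ((suSetup Mo hσ2 τ hτ0 hτ).π k y) 1)) :
    Reach Mo hn L (Pi.single y 1) := by
  set D := suSetup Mo hσ2 τ hτ0 hτ with hD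
  apply reach_of_mulVec Mo hn L (hNL (D.s_mem_Nn k))
  have e : Mo.mat (D.s k) *ᵥ Pi.single y 1 =
      Mo.mat (D.s k) (D.π k y) y • Pi.single (D.π k y) 1 :=
    mono_mulVec_single' (D.s_mono k) y
  rw [e]
  exact reach_smul Mo hn L ((D.s_mono k).entry_ne_zero (D.mat_inv_mul _) y) h

include hNL in
theorem reach_first : ∀ (m : ℕ) (l : Fin n), l.val = m → 2 * m + 1 < n →
    Reach Mo hn L (Pi.single l 1) := by
  intro m
  induction m with
  | zero =>
    intro l hl _
    have : l = ⟨0, hn⟩ := Fin.ext hl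
    rw [this]
    exact ⟨1, L.one_mem, 1, one_ne_zero, by rw [map_one, Matrix.one_mulVec, one_smul]⟩
  | succ m ih =>
    intro l hl hlt
    set i : Fin n := ⟨m, by omega⟩ with hi
    have hk : 2 * i.val + 3 < n := by
      show 2 * m + 3 < n
      omega
    apply reach_of_s Mo hσ2 τ hτ0 hτ hn L hNL (Sum.inl ⟨i, hk⟩) l
    have e : (suSetup Mo hσ2 τ hτ0 hτ).π (Sum.inl ⟨i, hk⟩) l = i := by
      show (r1 (σ := σ) hσ2 ⟨i, hk⟩).π l = i
      have hl' : l = (r1 (σ := σ) hσ2 ⟨i, hk⟩).E.c 1 := Fin.ext hl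
      rw [hl']
      unfold R1.π
      rw [piE_apply]
      have : (r1 (σ := σ) hσ2 ⟨i, hk⟩).D.π₀ 1 = 0 := by
        show pi4 1 = 0
        unfold pi4
        decide
      rw [this]
      rfl
    rw [e]
    exact ih i rfl (by omega)

include hNL in
theorem reach_second : ∀ (t : ℕ) (k : Fin n), n - 2 * k.val = t → 2 * k.val + 1 < n →
    Reach Mo hn L (Pi.single k.rev 1) := by
  intro t
  induction t using Nat.strong_induction_on with
  | _ t ih =>
    intro k hk hlt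
    by_cases h1 : 2 * k.val + 3 < n
    · apply reach_of_s Mo hσ2 τ hτ0 hτ hn L hNL (Sum.inl ⟨k, h1⟩) k.rev
      set j : Fin n := nx (⟨k, h1⟩ : K1 n) (by show k.val + 1 < n; omega) with hj
      have e : (suSetup Mo hσ2 τ hτ0 hτ).π (Sum.inl ⟨k, h1⟩) k.rev = j.rev := by
        show (r1 (σ := σ) hσ2 ⟨k, h1⟩).π k.rev = j.rev
        have hl' : k.rev = (r1 (σ := σ) hσ2 ⟨k, h1⟩).E.c 3 := rfl
        rw [hl']
        unfold R1.π
        rw [piE_apply]
        have : (r1 (σ := σ) hσ2 ⟨k, h1⟩).D.π₀ 3 = 2 := by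
          show pi4 3 = 2
          unfold pi4
          decide
        rw [this]
        rfl
      rw [e]
      have hjv : j.val = k.val + 1 := rfl
      exact ih (n - 2 * j.val) (by rw [hjv]; omega) j rfl (by rw [hjv]; omega)
    by_cases h2 : 2 * k.val + 3 = n
    · apply reach_of_s Mo hσ2 τ hτ0 hτ hn L hNL (Sum.inr (Sum.inr ⟨k, h2⟩)) k.rev
      have e : (suSetup Mo hσ2 τ hτ0 hτ).π (Sum.inr (Sum.inr ⟨k, h2⟩)) k.rev = k := by
        show (r3 hσ2 τ hτ0 hτ ⟨k, h2⟩).π k.rev = k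
        have hl' : k.rev = (r3 hσ2 τ hτ0 hτ ⟨k, h2⟩).E.c 2 := rfl
        rw [hl']
        unfold R1.π
        rw [piE_apply]
        have : (r3 hσ2 τ hτ0 hτ ⟨k, h2⟩).D.π₀ 2 = 0 := by
          show (Equiv.swap (0 : Fin 3) 2) 2 = 0
          decide
        rw [this]
        rfl
      rw [e]
      exact reach_first Mo hσ2 τ hτ0 hτ hn L hNL k.val k rfl hlt
    · have h3 : 2 * k.val + 2 = n := by omega
      apply reach_of_s Mo hσ2 τ hτ0 hτ hn L hNL (Sum.inr (Sum.inl ⟨k, h3⟩)) k.rev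
      have e : (suSetup Mo hσ2 τ hτ0 hτ).π (Sum.inr (Sum.inl ⟨k, h3⟩)) k.rev = k := by
        show (r2 hσ2 τ hτ0 hτ ⟨k, h3⟩).π k.rev = k
        have hl' : k.rev = (r2 hσ2 τ hτ0 hτ ⟨k, h3⟩).E.c 1 := rfl
        rw [hl']
        unfold R1.π
        rw [piE_apply]
        have : (r2 hσ2 τ hτ0 hτ ⟨k, h3⟩).D.π₀ 1 = 0 := by
          show (Equiv.swap (0 : Fin 2) 1) 1 = 0
          decide
        rw [this]
        rfl
      rw [e]
      exact reach_first Mo hσ2 τ hτ0 hτ hn L hNL k.val k rfl hlt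

include hNL in
theorem reach_single (l : Fin n) (hl : l ≠ l.rev) : Reach Mo hn L (Pi.single l 1) := by
  by_cases h1 : 2 * l.val + 1 < n
  · exact reach_first Mo hσ2 τ hτ0 hτ hn L hNL l.val l rfl h1
  · have h2 : 2 * l.val + 1 ≠ n := by
      intro h
      apply hl
      apply Fin.ext
      rw [Fin.val_rev]
      omega
    have h3 : 2 * l.rev.val + 1 < n := by
      rw [Fin.val_rev]
      have := l.2
      omega
    have := reach_second Mo hσ2 τ hτ0 hτ hn L hNL _ l.rev rfl h3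
    rwa [Fin.rev_rev] at this

end Cfsg.Agent.Lib.Helper14.SUBN
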