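import Mathlib
import Cfsg.Agent.Lib.Helper14.SUBN11

/-!
# Generation of the unitary group: elimination steps with triangular root elements
-/

set_option autoImplicit false
set_option linter.unusedSectionVars false
set_option linter.unnecessarySeqFocus false

namespace Cfsg.Agent.Lib.Helper14.SUBN

open Matrix Cfsg.Agent.Lib.Helper14.SpBN Cfsg.Agent.Lib.Helper14.TriMono
  Cfsg.Agent.Lib.Helper14.MatBN

variable {G : Type*} [Group G] {n : ℕ} {F : Type*} [Field F] {σ : F →+* F}

variable (Mo : UModel G n F σ) (hσ2 : ∀ x, σ (σ x) = x)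

/-- triangular elements -/
def Tri (g : G) : Prop := (Mo.mat g).BlockTriangular (Fin.val : Fin n → ℕ)

theorem Tri.mul {g h : G} (hg : Tri Mo g) (hh : Tri Mo h) : Tri Mo (g * h) := by
  unfold Tri at *
  rw [map_mul]
  exact hg.mul hh

theorem tri_one : Tri Mo (1 : G) := by
  unfold Tri
  rw [map_one]
  exact Matrix.blockTriangular_one

/-- an element from a block embedding -/
noncomputable def gB {d : ℕ} (c : Fin d → Fin n) (hc : Function.Injective c)
    (hrev : ∀ a, c a.rev = (c a).rev) (M : Matrix (Fin d) (Fin d) F) (hdet : M.det = 1)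
    (hU : IsU σ M) : G :=
  Mo.mk' (blk c M) (by rw [det_blk _ hc, hdet]) (blk_isU _ hc hrev hU)

theorem mat_gB {d : ℕ} (c : Fin d → Fin n) (hc : Function.Injective c)
    (hrev : ∀ a, c a.rev = (c a).rev) (M : Matrix (Fin d) (Fin d) F) (hdet : M.det = 1)
    (hU : IsU σ M) : Mo.mat (gB Mo c hc hrev M hdet hU) = blk c M := Mo.mat_mk' _ _ _

/-- four indices -/
def c4 (i j : Fin n) : Fin 4 → Fin n := ![i, j, j.rev, i.rev]

theorem c4_inj {i j : Fin n} (h1 : i ≠ j) (h2 : i ≠ j.rev) (h3 : i ≠ i.rev) (h4 : j ≠ j.rev) :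
    Function.Injective (c4 i j) := by
  have h5 : j ≠ i.rev := fun h => h2 (by rw [h, Fin.rev_rev])
  have h6 : j.rev ≠ i.rev := fun h => h1 (Fin.rev_injective h).symm
  intro a a' h
  fin_cases a <;> fin_cases a' <;>
    first
    | rfl
    | exact absurd h h1 | exact absurd h h2 | exact absurd h h3 | exact absurd h h4
    | exact absurd h h5 | exact absurd h h6
    | exact absurd h.symm h1 | exact absurd h.symm h2 | exact absurd h.symm h3
    | exact absurd h.symm h4 | exact absurd h.symm h5 | exact absurd h.symm h6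

theorem c4_rev (i j : Fin n) (a : Fin 4) : c4 i j a.rev = (c4 i j a).rev := by
  fin_cases a
  · rfl
  · rfl
  · show j = j.rev.rev
    rw [Fin.rev_rev]
  · show i = i.rev.rev
    rw [Fin.rev_rev]

/-- three indices -/
def c3g (l i : Fin n) : Fin 3 → Fin n := ![l.rev, i, l]

theorem c3g_rev (l i : Fin n) (hi : i = i.rev) (a : Fin 3) : c3g l i a.rev = (c3g l i a).rev := by
  fin_cases a
  · show l = l.rev.rev
    rw [Fin.rev_rev]
  · exact hi
  · rfl

/-- two indices -/
def c2g (l : Fin n) : Fin 2 → Fin n := ![l.rev, l]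

theorem c2g_rev (l : Fin n) (a : Fin 2) : c2g l a.rev = (c2g l a).rev := by
  fin_cases a
  · show l = l.rev.rev
    rw [Fin.rev_rev]
  · rfl

theorem rev_lt_rev {i l : Fin n} (h : i < l) : l.rev < i.rev := by
  rw [Fin.lt_def, Fin.val_rev, Fin.val_rev]
  have := Fin.lt_def.mp h
  have := l.2
  omega

include hσ2 in
/-- an elimination step with a root element of linear type -/
theorem step_lin (w : Fin n → F) (l i : Fin n) (hwl : w l ≠ 0) (hmax : ∀ y, l < y → w y = 0)
    (hl : l ≠ l.rev) (hwi : w i ≠ 0) (hil : i ≠ l) (hil' : i ≠ l.rev) (hi : i ≠ i.rev) :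
    ∃ g : G, Tri Mo g ∧ (Mo.mat g *ᵥ w) i = 0 ∧
      (∀ y, y ≠ i → y ≠ l.rev → (Mo.mat g *ᵥ w) y = w y) ∧
      (∀ y, l < y → (Mo.mat g *ᵥ w) y = 0) := by
  have hlt : i < l := by
    rcases lt_trichotomy i l with h | h | h
    · exact h
    · exact absurd h hil
    · exact absurd (hmax i h) hwi
  have hc := c4_inj hil hil' hi hl
  set t : F := -w i / w l with ht
  set M := x4 σ t with hM
  have hMX : M ∈ (sm4 σ hσ2).X₀ := ⟨t, rfl⟩
  set g := gB Mo (c4 i l) hc (c4_rev i l) M ((sm4 σ hσ2).X_det M hMX) ((sm4 σ hσ2).X_isU M hMX)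
    with hg
  have hmat : Mo.mat g = blk (c4 i l) M := mat_gB Mo _ _ _ _ _ _
  have e0 : c4 i l 0 = i := rfl
  have e1 : c4 i l 1 = l := rfl
  have e2 : c4 i l 2 = l.rev := rfl
  have e3 : c4 i l 3 = i.rev := rfl
  have hval : ∀ a, (Mo.mat g *ᵥ w) (c4 i l a) = (M *ᵥ (w ∘ c4 i l)) a := by
    intro a
    rw [hmat, blk_mulVec_apply _ hc]
  have v0 : (Mo.mat g *ᵥ w) i = w i + t * w l := by
    rw [← e0, hval]
    simp [hM, x4, Matrix.mulVec, dotProduct, Fin.sum_univ_four, e0, e1]
  have v1 : (Mo.mat g *ᵥ w) l = w l := by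
    rw [← e1, hval]
    simp [hM, x4, Matrix.mulVec, dotProduct, Fin.sum_univ_four, e1]
  have v2 : (Mo.mat g *ᵥ w) l.rev = w l.rev - σ t * w i.rev := by
    rw [← e2, hval]
    simp [hM, x4, Matrix.mulVec, dotProduct, Fin.sum_univ_four, e2, e3]
    ring
  have v3 : (Mo.mat g *ᵥ w) i.rev = w i.rev := by
    rw [← e3, hval]
    simp [hM, x4, Matrix.mulVec, dotProduct, Fin.sum_univ_four, e3]
  have hother : ∀ y, y ≠ i → y ≠ l.rev → (Mo.mat g *ᵥ w) y = w y := by
    intro y hyi hyl
    by_cases hy1 : y = l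
    · rw [hy1, v1]
    by_cases hy2 : y = i.rev
    · rw [hy2, v3]
    rw [hmat]
    apply blk_mulVec_apply_of_not
    intro a
    fin_cases a
    · exact hyi
    · exact hy1
    · exact hyl
    · exact hy2
  refine ⟨g, ?_, ?_, hother, ?_⟩
  · unfold Tri
    rw [hmat]
    apply blk_tri _ hc
    intro a a' haa hne
    have := (sm4 σ hσ2).X_supp M hMX a a' haa hne
    rcases (inPi_four a a').mp this with ⟨rfl, rfl⟩ | ⟨rfl, rfl⟩
    · exact hlt
    · exact rev_lt_rev hlt
  · rw [v0, ht]
    field_simp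
    ring
  · intro y hy
    by_cases hyl : y = l.rev
    · rw [hyl, v2]
      have h1 : w l.rev = 0 := hmax _ (by rw [← hyl]; exact hy)
      have h2 : w i.rev = 0 := by
        apply hmax
        calc l < y := hy
          _ = l.rev := hyl
          _ < i.rev := rev_lt_rev hlt
      rw [h1, h2, mul_zero, sub_zero]
    · rw [hother y (fun h => by rw [h] at hy; exact lt_asymm hlt hy) hyl]
      exact hmax y hy

include hσ2 in
/-- an elimination step at the middle index -/
theorem step_mid (τ : F) (hτ0 : τ ≠ 0) (hτ : τ + σ τ = 0)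
    (htr : ∀ a, σ a = a → ∃ c, c + σ c = a)
    (w : Fin n → F) (l i : Fin n) (hwl : w l ≠ 0) (hmax : ∀ y, l < y → w y = 0)
    (hl : l ≠ l.rev) (hwi : w i ≠ 0) (hil : i ≠ l) (hil' : i ≠ l.rev) (hi : i = i.rev) :
    ∃ g : G, Tri Mo g ∧ (Mo.mat g *ᵥ w) i = 0 ∧
      (∀ y, y ≠ i → y ≠ l.rev → (Mo.mat g *ᵥ w) y = w y) ∧
      (∀ y, l < y → (Mo.mat g *ᵥ w) y = 0) := by
  have hlt : i < l := by
    rcases lt_trichotomy i l with h | h | h
    · exact h
    · exact absurd h hil
    · exact absurd (hmax i h) hwi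
  have hlt' : l.rev < i := by
    have := rev_lt_rev hlt
    rwa [← hi] at this
  have hc : Function.Injective (c3g l i) := by
    intro a a' h
    fin_cases a <;> fin_cases a' <;>
      first
      | rfl
      | exact absurd h (Ne.symm hil') | exact absurd h (Ne.symm hl) | exact absurd h hil'
      | exact absurd h hil | exact absurd h hl | exact absurd h (Ne.symm hil)
  set a : F := σ (w i / w l) with ha
  have hsa : σ a = w i / w l := by rw [ha, hσ2]
  obtain ⟨c₀, hc₀⟩ := htr (-(a * σ a)) (by rw [map_neg, map_mul, hσ2]; ring)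
  have hmem : c₀ + σ c₀ + a * σ a = 0 := by rw [hc₀]; ring
  set M := x3 σ a c₀ with hM
  have hMX : M ∈ (sm3 σ hσ2 τ hτ0 hτ).X₀ := ⟨a, c₀, hmem, rfl⟩
  set g := gB Mo (c3g l i) hc (c3g_rev l i hi) M ((sm3 σ hσ2 τ hτ0 hτ).X_det M hMX)
    ((sm3 σ hσ2 τ hτ0 hτ).X_isU M hMX) with hg
  have hmat : Mo.mat g = blk (c3g l i) M := mat_gB Mo _ _ _ _ _ _
  have e0 : c3g l i 0 = l.rev := rfl
  have e1 : c3g l i 1 = i := rfl
  have e2 : c3g l i 2 = l := rfl
  have hval : ∀ a, (Mo.mat g *ᵥ w) (c3g l i a) = (M *ᵥ (w ∘ c3g l i)) a := by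
    intro a
    rw [hmat, blk_mulVec_apply _ hc]
  have v1 : (Mo.mat g *ᵥ w) i = w i - σ a * w l := by
    rw [← e1, hval]
    simp [hM, x3, Matrix.mulVec, dotProduct, Fin.sum_univ_three, e1, e2]
    ring
  have v2 : (Mo.mat g *ᵥ w) l = w l := by
    rw [← e2, hval]
    simp [hM, x3, Matrix.mulVec, dotProduct, Fin.sum_univ_three, e2]
  have hother : ∀ y, y ≠ i → y ≠ l.rev → (Mo.mat g *ᵥ w) y = w y := by
    intro y hyi hyl
    by_cases hy1 : y = l
    · rw [hy1, v2]
    rw [hmat]
    apply blk_mulVec_apply_of_not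
    intro a
    fin_cases a
    · exact hyl
    · exact hyi
    · exact hy1
  refine ⟨g, ?_, ?_, hother, ?_⟩
  · unfold Tri
    rw [hmat]
    apply blk_tri _ hc
    intro u v huv hne
    have := (sm3 σ hσ2 τ hτ0 hτ).X_supp M hMX u v huv hne
    have huv' : u < v := (inPi_three u v).mp this
    have hcases : ∀ u v : Fin 3, u < v → (u = 0 ∧ v = 1) ∨ (u = 0 ∧ v = 2) ∨ (u = 1 ∧ v = 2) := by
      decide
    rcases hcases u v huv' with ⟨rfl, rfl⟩ | ⟨rfl, rfl⟩ | ⟨rfl, rfl⟩
    · exact hlt'
    · exact hlt'.trans hlt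
    · exact hlt
  · rw [v1, hsa]
    field_simp
    ring
  · intro y hy
    have hy1 : y ≠ i := fun h => by rw [h] at hy; exact lt_asymm hlt hy
    have hy2 : y ≠ l.rev := fun h => by
      rw [h] at hy
      exact lt_asymm (hlt'.trans hlt) hy
    rw [hother y hy1 hy2]
    exact hmax y hy

/-- the form on a vector supported on two indices -/
theorem hJ_two (w : Fin n → F) (l : Fin n) (hl : l ≠ l.rev)
    (h0 : ∀ y, y ≠ l → y ≠ l.rev → w y = 0) :
    hJ σ w w = w l * σ (w l.rev) + w l.rev * σ (w l) := by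
  unfold hJ
  rw [Finset.sum_eq_add l l.rev hl]
  · rw [Fin.rev_rev]
  · intro y _ hy
    rw [h0 y hy.1 hy.2, zero_mul]
  · intro h
    exact absurd (Finset.mem_univ _) h
  · intro h
    exact absurd (Finset.mem_univ _) h

include hσ2 in
/-- the last elimination step -/
theorem step_last (τ : F) (hτ0 : τ ≠ 0) (hτ : τ + σ τ = 0)
    (w : Fin n → F) (l : Fin n) (hwl : w l ≠ 0) (hl : l ≠ l.rev)
    (h0 : ∀ y, y ≠ l → y ≠ l.rev → w y = 0) (hmax : l < l.rev → w l.rev = 0)
    (hiso : hJ σ w w = 0) :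
    ∃ g : G, Tri Mo g ∧ Mo.mat g *ᵥ w = w l • Pi.single l 1 := by
  by_cases hw' : w l.rev = 0
  · refine ⟨1, tri_one Mo, ?_⟩
    rw [map_one, Matrix.one_mulVec]
    funext y
    rw [Pi.smul_apply, smul_eq_mul]
    by_cases hy : y = l
    · rw [hy, Pi.single_eq_same, mul_one]
    · rw [Pi.single_eq_of_ne hy, mul_zero]
      by_cases hy' : y = l.rev
      · rw [hy', hw']
      · exact h0 y hy hy'
  · have hlt : l.rev < l := by
      rcases lt_trichotomy l.rev l with h | h | h
      · exact h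
      · exact absurd h.symm hl
      · exact absurd (hmax h) hw'
    have hc : Function.Injective (c2g l) := by
      intro a a' h
      fin_cases a <;> fin_cases a' <;>
        first
        | rfl
        | exact absurd h (Ne.symm hl) | exact absurd h hl
    have hswl : σ (w l) ≠ 0 := by
      intro h
      have := congrArg σ h
      rw [hσ2, map_zero] at this
      exact hwl this
    rw [hJ_two w l hl h0] at hiso
    set t : F := -w l.rev / w l with ht
    have htt : t + σ t = 0 := by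
      rw [ht, map_div₀, map_neg]
      field_simp
      linear_combination (-1 : F) * hiso
    set M := x2 t with hM
    have hMX : M ∈ (sm2 σ τ hτ0 hτ).X₀ := ⟨t, htt, rfl⟩
    set g := gB Mo (c2g l) hc (c2g_rev l) M ((sm2 σ τ hτ0 hτ).X_det M hMX)
      ((sm2 σ τ hτ0 hτ).X_isU M hMX) with hg
    have hmat : Mo.mat g = blk (c2g l) M := mat_gB Mo _ _ _ _ _ _
    have e0 : c2g l 0 = l.rev := rfl
    have e1 : c2g l 1 = l := rfl
    have hval : ∀ a, (Mo.mat g *ᵥ w) (c2g l a) = (M *ᵥ (w ∘ c2g l)) a := by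
      intro a
      rw [hmat, blk_mulVec_apply _ hc]
    have v0 : (Mo.mat g *ᵥ w) l.rev = w l.rev + t * w l := by
      rw [← e0, hval]
      simp [hM, x2, Matrix.mulVec, dotProduct, Fin.sum_univ_two, e0, e1]
    have v1 : (Mo.mat g *ᵥ w) l = w l := by
      rw [← e1, hval]
      simp [hM, x2, Matrix.mulVec, dotProduct, Fin.sum_univ_two, e1]
    refine ⟨g, ?_, ?_⟩
    · unfold Tri
      rw [hmat]
      apply blk_tri _ hc
      intro u v huv hne
      have := (sm2 σ τ hτ0 hτ).X_supp M hMX u v huv hne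
      obtain ⟨rfl, rfl⟩ := (inPi_two u v).mp this
      exact hlt
    · funext y
      rw [Pi.smul_apply, smul_eq_mul]
      by_cases hy : y = l
      · rw [hy, Pi.single_eq_same, mul_one, v1]
      · rw [Pi.single_eq_of_ne hy, mul_zero]
        by_cases hy' : y = l.rev
        · rw [hy', v0, ht]
          field_simp
          ring
        · rw [hmat, blk_mulVec_apply_of_not]
          · exact h0 y hy hy'
          · intro a
            fin_cases a
            · exact hy'
            · exact hy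

end Cfsg.Agent.Lib.Helper14.SUBN
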