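import Mathlib
import Cfsg.Agent.Lib.Helper14.SUBN12

/-!
# Generation of the unitary group: transitivity on isotropic vectors
-/

set_option autoImplicit false
set_option linter.unusedSectionVars false
set_option linter.unnecessarySeqFocus false

namespace Cfsg.Agent.Lib.Helper14.SUBN

open Matrix Cfsg.Agent.Lib.Helper14.SpBN Cfsg.Agent.Lib.Helper14.TriMono
  Cfsg.Agent.Lib.Helper14.MatBN

variable {G : Type*} [Group G] {n : ℕ} {F : Type*} [Field F] {σ : F →+* F}

variable (Mo : UModel G n F σ) (hσ2 : ∀ x, σ (σ x) = x) (τ : F) (hτ0 : τ ≠ 0)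
  (hτ : τ + σ τ = 0) (htr : ∀ a, σ a = a → ∃ c, c + σ c = a)

include hσ2 in
/-- the last non-zero coordinate of an isotropic vector is not the middle one -/
theorem ne_rev_of_iso (w : Fin n → F) (l : Fin n) (hwl : w l ≠ 0)
    (hmax : ∀ y, l < y → w y = 0) (hiso : hJ σ w w = 0) : l ≠ l.rev := by
  intro hl
  unfold hJ at hiso
  rw [Finset.sum_eq_single l] at hiso
  · rw [← hl] at hiso
    rcases mul_eq_zero.mp hiso with h | h
    · exact hwl h
    · have := congrArg σ h
      rw [hσ2, map_zero] at this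
      exact hwl this
  · intro y _ hy
    rcases lt_or_gt_of_ne hy with h | h
    · have : w y.rev = 0 := by
        apply hmax
        have := rev_lt_rev h
        rwa [← hl] at this
      rw [this, map_zero, mul_zero]
    · rw [hmax y h, zero_mul]
  · intro h
    exact absurd (Finset.mem_univ _) h

open Classical in
include hσ2 htr hτ0 hτ in
/-- elimination -/
theorem elim : ∀ (N : ℕ) (w : Fin n → F) (l : Fin n), w l ≠ 0 → (∀ y, l < y → w y = 0) →
    hJ σ w w = 0 →
    (Finset.univ.filter (fun i => w i ≠ 0 ∧ i ≠ l ∧ i ≠ l.rev)).card ≤ N →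
    ∃ g : G, Tri Mo g ∧ Mo.mat g *ᵥ w = w l • Pi.single l 1 := by
  intro N
  induction N with
  | zero =>
    intro w l hwl hmax hiso hcard
    have hl := ne_rev_of_iso hσ2 w l hwl hmax hiso
    have hS : Finset.univ.filter (fun i => w i ≠ 0 ∧ i ≠ l ∧ i ≠ l.rev) = ∅ :=
      Finset.card_eq_zero.mp (Nat.le_zero.mp hcard)
    apply step_last Mo hσ2 τ hτ0 hτ w l hwl hl _ (fun h => hmax _ h) hiso
    intro y hy hy'
    by_contra hne
    have : y ∈ Finset.univ.filter (fun i => w i ≠ 0 ∧ i ≠ l ∧ i ≠ l.rev) := by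
      simp [hne, hy, hy']
    rw [hS] at this
    exact absurd this (Finset.notMem_empty _)
  | succ N ih =>
    intro w l hwl hmax hiso hcard
    have hl := ne_rev_of_iso hσ2 w l hwl hmax hiso
    by_cases hS : Finset.univ.filter (fun i => w i ≠ 0 ∧ i ≠ l ∧ i ≠ l.rev) = ∅
    · apply step_last Mo hσ2 τ hτ0 hτ w l hwl hl _ (fun h => hmax _ h) hiso
      intro y hy hy'
      by_contra hne
      have : y ∈ Finset.univ.filter (fun i => w i ≠ 0 ∧ i ≠ l ∧ i ≠ l.rev) := by
        simp [hne, hy, hy']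
      rw [hS] at this
      exact absurd this (Finset.notMem_empty _)
    · obtain ⟨i, hi⟩ := Finset.nonempty_iff_ne_empty.mpr hS
      have hi' := (Finset.mem_filter.mp hi).2
      obtain ⟨hwi, hil, hil'⟩ := hi'
      have hstep : ∃ g : G, Tri Mo g ∧ (Mo.mat g *ᵥ w) i = 0 ∧
          (∀ y, y ≠ i → y ≠ l.rev → (Mo.mat g *ᵥ w) y = w y) ∧
          (∀ y, l < y → (Mo.mat g *ᵥ w) y = 0) := by
        by_cases hirev : i = i.rev
        · exact step_mid Mo hσ2 τ hτ0 hτ htr w l i hwl hmax hl hwi hil hil' hirev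
        · exact step_lin Mo hσ2 w l i hwl hmax hl hwi hil hil' hirev
      obtain ⟨g₁, hg₁, h1, h2, h3⟩ := hstep
      set w' := Mo.mat g₁ *ᵥ w with hw'
      have hwl' : w' l = w l := h2 l (Ne.symm hil) hl
      have hiso' : hJ σ w' w' = 0 := by
        rw [hw', IsU.form σ (Mo.mat_isU g₁), hiso]
      have hsub : Finset.univ.filter (fun j => w' j ≠ 0 ∧ j ≠ l ∧ j ≠ l.rev) ⊆
          (Finset.univ.filter (fun j => w j ≠ 0 ∧ j ≠ l ∧ j ≠ l.rev)).erase i := by
        intro y hy
        obtain ⟨hy1, hy2, hy3⟩ := (Finset.mem_filter.mp hy).2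
        have hyi : y ≠ i := by
          rintro rfl
          exact hy1 h1
        rw [Finset.mem_erase]
        refine ⟨hyi, ?_⟩
        rw [Finset.mem_filter]
        refine ⟨Finset.mem_univ _, ?_, hy2, hy3⟩
        rw [← h2 y hyi hy3]
        exact hy1
      have hcard' : (Finset.univ.filter (fun j => w' j ≠ 0 ∧ j ≠ l ∧ j ≠ l.rev)).card ≤ N := by
        have h4 := Finset.card_le_card hsub
        rw [Finset.card_erase_of_mem hi] at h4
        omega
      obtain ⟨g₂, hg₂, e⟩ := ih w' l (by rw [hwl']; exact hwl) h3 hiso' hcard'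
      refine ⟨g₂ * g₁, hg₂.mul Mo hg₁, ?_⟩
      rw [map_mul, ← Matrix.mulVec_mulVec, ← hw', e, hwl']

include hσ2 htr hτ0 hτ in
/-- isotropic vectors can be moved to multiples of basis vectors by triangular elements -/
theorem exists_tri_single (w : Fin n → F) (hw : w ≠ 0) (hiso : hJ σ w w = 0) :
    ∃ g : G, Tri Mo g ∧ ∃ l : Fin n, l ≠ l.rev ∧ ∃ lam : F, lam ≠ 0 ∧
      Mo.mat g *ᵥ w = lam • Pi.single l 1 := by
  classical
  have hne : (Finset.univ.filter (fun l => w l ≠ 0)).Nonempty := by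
    obtain ⟨l, hl⟩ := Function.ne_iff.mp hw
    exact ⟨l, by simpa using hl⟩
  obtain ⟨l, hwl, hmax⟩ : ∃ l, w l ≠ 0 ∧ ∀ y, l < y → w y = 0 := by
    refine ⟨(Finset.univ.filter (fun l => w l ≠ 0)).max' hne, ?_, ?_⟩
    · have := Finset.max'_mem _ hne
      simpa using this
    · intro y hy
      by_contra hne'
      have : y ≤ (Finset.univ.filter (fun l => w l ≠ 0)).max' hne :=
        Finset.le_max' _ y (by simpa using hne')
      exact absurd hy (not_lt.mpr this)
  obtain ⟨g, hg, e⟩ := elim Mo hσ2 τ hτ0 hτ htr _ w l hwl hmax hiso le_rfl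
  exact ⟨g, hg, l, ne_rev_of_iso hσ2 w l hwl hmax hiso, w l, hwl, e⟩

variable (hn : 0 < n) (L : Subgroup G)
  (hBL : (suSetup Mo hσ2 τ hτ0 hτ).Bor ≤ L) (hNL : (suSetup Mo hσ2 τ hτ0 hτ).Nn ≤ L)

include htr hBL hNL in
/-- isotropic vectors can be moved to multiples of the first basis vector -/
theorem reach_iso (w : Fin n → F) (hw : w ≠ 0) (hiso : hJ σ w w = 0) : Reach Mo hn L w := by
  obtain ⟨g, hg, l, hl, lam, hlam, e⟩ := exists_tri_single Mo hσ2 τ hτ0 hτ htr w hw hiso
  apply reach_of_mulVec Mo hn L (hBL hg)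
  rw [e]
  exact reach_smul Mo hn L hlam (reach_single Mo hσ2 τ hτ0 hτ hn L hNL l hl)

end Cfsg.Agent.Lib.Helper14.SUBN
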