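import Mathlib
import Cfsg.Agent.Lib.Helper14.SUBN13

/-!
# Generation of the unitary group by its triangular and monomial subgroups
-/

set_option autoImplicit false
set_option linter.unusedSectionVars false
set_option linter.unnecessarySeqFocus false

namespace Cfsg.Agent.Lib.Helper14.SUBN

open Matrix Cfsg.Agent.Lib.Helper14.SpBN Cfsg.Agent.Lib.Helper14.TriMono
  Cfsg.Agent.Lib.Helper14.MatBN

variable {G : Type*} [Group G] {n : ℕ} {F : Type*} [Field F] {σ : F →+* F}

variable (Mo : UModel G n F σ)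

/-- `t` is the unitary transvection with centre `w` and parameter `c` -/
def IsTv (t : G) (w : Fin n → F) (c : F) : Prop :=
  ∀ x, Mo.mat t *ᵥ x = x + (c * hJ σ x w) • w

theorem mat_entry_eq (g : G) (u v : Fin n) : Mo.mat g u v = (Mo.mat g *ᵥ Pi.single v 1) u := by
  rw [Matrix.mulVec_single_one]
  rfl

theorem isTv_conj {t : G} {w : Fin n → F} {c : F} (h : IsTv Mo t w c) (g : G) :
    IsTv Mo (g * t * g⁻¹) (Mo.mat g *ᵥ w) c := by
  intro x
  have h1 : Mo.mat g *ᵥ (Mo.mat g⁻¹ *ᵥ x) = x := by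
    rw [Matrix.mulVec_mulVec, ← map_mul, mul_inv_cancel, map_one, Matrix.one_mulVec]
  rw [map_mul, map_mul, ← Matrix.mulVec_mulVec, ← Matrix.mulVec_mulVec, h, Matrix.mulVec_add,
    Matrix.mulVec_smul, h1]
  congr 2
  rw [← IsU.form σ (Mo.mat_isU g) (Mo.mat g⁻¹ *ᵥ x) w, h1]

theorem tri_of_isTv (hn : 0 < n) {t : G} {lam c : F}
    (h : IsTv Mo t (lam • Pi.single (⟨0, hn⟩ : Fin n) 1) c) : Tri Mo t := by
  intro u v hvu
  have hvu' : v.val < u.val := hvu
  rw [mat_entry_eq, h, Pi.add_apply, Pi.smul_apply, Pi.smul_apply]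
  have h1 : u ≠ v := fun e => by rw [e] at hvu'; exact lt_irrefl _ hvu'
  have h2 : u ≠ ⟨0, hn⟩ := fun e => by rw [e] at hvu'; simp at hvu'
  rw [Pi.single_eq_of_ne h1, Pi.single_eq_of_ne h2]
  simp

theorem eq_one_of_isTv_zero {t : G} {c : F} (h : IsTv Mo t 0 c) : t = 1 := by
  apply Mo.mat_inj
  rw [map_one]
  ext u v
  rw [mat_entry_eq, h, smul_zero, add_zero, Matrix.one_apply]
  by_cases huv : u = v
  · rw [huv, Pi.single_eq_same, if_pos rfl]
  · rw [Pi.single_eq_of_ne huv, if_neg huv]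

variable (hσ2 : ∀ x, σ (σ x) = x) (τ : F) (hτ0 : τ ≠ 0)
  (hτ : τ + σ τ = 0) (htr : ∀ a, σ a = a → ∃ c, c + σ c = a) (hn : 0 < n) (L : Subgroup G)
  (hBL : (suSetup Mo hσ2 τ hτ0 hτ).Bor ≤ L) (hNL : (suSetup Mo hσ2 τ hτ0 hτ).Nn ≤ L)

include htr hn hBL hNL in
/-- unitary transvections lie in the subgroup generated by `B` and `N` -/
theorem tv_mem {t : G} {w : Fin n → F} {c : F} (hiso : hJ σ w w = 0) (ht : IsTv Mo t w c) :
    t ∈ L := by
  by_cases hw : w = 0
  · rw [hw] at ht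
    rw [eq_one_of_isTv_zero Mo ht]
    exact L.one_mem
  · obtain ⟨h, hL, lam, hlam, e⟩ := reach_iso Mo hσ2 τ hτ0 hτ htr hn L hBL hNL w hw hiso
    have h1 := isTv_conj Mo ht h
    rw [e] at h1
    have h2 : h * t * h⁻¹ ∈ L := hBL (tri_of_isTv Mo hn h1)
    have h3 : t = h⁻¹ * (h * t * h⁻¹) * h := by group
    rw [h3]
    exact L.mul_mem (L.mul_mem (L.inv_mem hL) h2) hL

include htr hn in
/-- generation, from generation by transvections -/
theorem gen_of_tv (hgen : ∀ L : Subgroup G,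
      (∀ t w c, hJ σ w w = 0 → IsTv Mo t w c → t ∈ L) → L = ⊤) :
    (suSetup Mo hσ2 τ hτ0 hτ).Bor ⊔ (suSetup Mo hσ2 τ hτ0 hτ).Nn = ⊤ :=
  hgen _ (fun _ _ _ hiso ht =>
    tv_mem Mo hσ2 τ hτ0 hτ htr hn _ le_sup_left le_sup_right hiso ht)

include htr hBL hNL in
/-- generation in dimension three -/
theorem mem_of_three (hn3 : n = 3) (g : G) : g ∈ L := by
  subst hn3
  set e0 : Fin 3 → F := Pi.single (0 : Fin 3) 1 with he0
  set w := Mo.mat g *ᵥ e0 with hw
  have hiso : hJ σ w w = 0 := by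
    rw [hw, IsU.form σ (Mo.mat_isU g), he0, hJ_single, if_neg (by decide)]
  have hw0 : w ≠ 0 := by
    intro h
    have h1 : Mo.mat g⁻¹ *ᵥ w = e0 := by
      rw [hw, Matrix.mulVec_mulVec, ← map_mul, inv_mul_cancel, map_one, Matrix.one_mulVec]
    rw [h, Matrix.mulVec_zero] at h1
    have := congrFun h1 0
    rw [he0, Pi.single_eq_same] at this
    exact zero_ne_one this
  obtain ⟨h, hL, lam, hlam, e⟩ :=
    reach_iso Mo hσ2 τ hτ0 hτ htr (by norm_num : 0 < 3) L hBL hNL w hw0 hiso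
  have e : Mo.mat h *ᵥ w = lam • e0 := e
  set g' := h * g with hg'
  have e' : Mo.mat g' *ᵥ e0 = lam • e0 := by
    rw [hg', map_mul, ← Matrix.mulVec_mulVec, ← hw, e]
  have hcol : ∀ u : Fin 3, u ≠ 0 → Mo.mat g' u 0 = 0 := by
    intro u hu
    rw [mat_entry_eq, ← he0, e', Pi.smul_apply, he0, Pi.single_eq_of_ne hu, smul_zero]
  have hrow : ∀ v : Fin 3, v ≠ 2 → Mo.mat g' 2 v = 0 := by
    intro v hv
    have h1 : hJ σ (Mo.mat g' *ᵥ Pi.single v 1) (Mo.mat g' *ᵥ e0) = 0 := by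
      rw [IsU.form σ (Mo.mat_isU g'), he0, hJ_single, if_neg]
      intro h0
      apply hv
      have := congrArg Fin.rev h0
      rw [Fin.rev_rev] at this
      rw [← this]
      decide
    rw [e'] at h1
    unfold hJ at h1
    rw [Finset.sum_eq_single (2 : Fin 3)] at h1
    · have h2 : ((2 : Fin 3).rev) = 0 := by decide
      rw [Pi.smul_apply, h2, he0, Pi.single_eq_same, smul_eq_mul, mul_one, ← mat_entry_eq] at h1
      rcases mul_eq_zero.mp h1 with h3 | h3
      · exact h3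
      · exfalso
        have := congrArg σ h3
        rw [hσ2, map_zero] at this
        exact hlam this
    · intro y _ hy
      have : y.rev ≠ 0 := by
        intro h0
        apply hy
        have := congrArg Fin.rev h0
        rw [Fin.rev_rev] at this
        rw [this]
        decide
      rw [Pi.smul_apply, he0, Pi.single_eq_of_ne this, smul_zero, map_zero, mul_zero]
    · intro h0
      exact absurd (Finset.mem_univ _) h0
  have htri : Tri Mo g' := by
    intro u v hvu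
    have hvu' : v.val < u.val := hvu
    have hcases : ∀ u v : Fin 3, v.val < u.val → (u ≠ 0 ∧ v = 0) ∨ (u = 2 ∧ v ≠ 2) := by decide
    rcases hcases u v hvu' with ⟨h1, rfl⟩ | ⟨rfl, h2⟩
    · exact hcol u h1
    · exact hrow v h2
  have h4 : g = h⁻¹ * g' := by rw [hg']; group
  rw [h4]
  exact L.mul_mem (L.inv_mem hL) (hBL htri)

include htr in
theorem gen_three (hn3 : n = 3) :
    (suSetup Mo hσ2 τ hτ0 hτ).Bor ⊔ (suSetup Mo hσ2 τ hτ0 hτ).Nn = ⊤ := by
  rw [eq_top_iff]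
  intro g _
  exact mem_of_three Mo hσ2 τ hτ0 hτ htr _ le_sup_left le_sup_right hn3 g

end Cfsg.Agent.Lib.Helper14.SUBN
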