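import Mathlib
import Cfsg.Agent.Lib.Helper14.SUBN14
import Cfsg.Agent.Lib.Helper6.SUGen6

/-!
# The special unitary group as a model of the unitary group in Witt form
-/

set_option autoImplicit false
set_option linter.unusedSectionVars false
set_option linter.unnecessarySeqFocus false

namespace Cfsg.Agent.Lib.Helper14.SUBN

open Matrix Cfsg Cfsg.Agent.Lib.Helper14.SpBN Cfsg.Agent.Lib.Helper14.TriMono
  Cfsg.Agent.Lib.Helper14.MatBN Cfsg.Agent.Lib.Helper6

variable {F : Type*} [Field F] [Fintype F] {q : ℕ} (hF : Fintype.card F = q ^ 2) (n : ℕ)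

theorem hJ_add_right (σ : F →+* F) (x y y' : Fin n → F) :
    hJ σ x (y + y') = hJ σ x y + hJ σ x y' := by
  unfold hJ
  rw [← Finset.sum_add_distrib]
  apply Finset.sum_congr rfl
  intro i _
  rw [Pi.add_apply, map_add, mul_add]

theorem hJ_smul_right (σ : F →+* F) (c : F) (x y : Fin n → F) :
    hJ σ x (c • y) = σ c * hJ σ x y := by
  unfold hJ
  rw [Finset.mul_sum]
  apply Finset.sum_congr rfl
  intro i _
  rw [Pi.smul_apply, smul_eq_mul, map_mul]
  ring

theorem hJ_add_left (σ : F →+* F) (x x' y : Fin n → F) :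
    hJ σ (x + x') y = hJ σ x y + hJ σ x' y := by
  unfold hJ
  rw [← Finset.sum_add_distrib]
  apply Finset.sum_congr rfl
  intro i _
  rw [Pi.add_apply, add_mul]

theorem hJ_smul_left (σ : F →+* F) (c : F) (x y : Fin n → F) :
    hJ σ (c • x) y = c * hJ σ x y := by
  unfold hJ
  rw [Finset.mul_sum]
  apply Finset.sum_congr rfl
  intro i _
  rw [Pi.smul_apply, smul_eq_mul, mul_assoc]

theorem hJ_symm (σ : F →+* F) (hσ2 : ∀ x, σ (σ x) = x) (x y : Fin n → F) :
    σ (hJ σ x y) = hJ σ y x := by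
  unfold hJ
  rw [map_sum, ← Equiv.sum_comp Fin.revPerm]
  apply Finset.sum_congr rfl
  intro i _
  rw [map_mul, hσ2, Fin.revPerm_apply, Fin.rev_rev, mul_comm]

/-- the form with Gram matrix `Jm` as a sesquilinear map -/
noncomputable def BJ : (Fin n → F) →ₛₗ[conjQ hF] (Fin n → F) →ₗ[F] F :=
  LinearMap.mk₂'ₛₗ (conjQ hF) (RingHom.id F) (fun y x => hJ (conjQ hF) x y)
    (fun y y' x => hJ_add_right n _ x y y')
    (fun c y x => by rw [hJ_smul_right]; rfl)
    (fun y x x' => hJ_add_left n _ x x' y)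
    (fun c y x => by rw [hJ_smul_left]; rfl)

theorem BJ_apply (y x : Fin n → F) : BJ hF n y x = hJ (conjQ hF) x y := rfl

theorem BJ_isSymm : (BJ hF n).IsSymm :=
  ⟨fun y x => by
    rw [BJ_apply, BJ_apply]
    exact hJ_symm n _ (conjQ_conjQ hF) x y⟩

theorem BJ_nondeg (u : Fin n → F) (h : ∀ v, BJ hF n u v = 0) : u = 0 := by
  funext j
  have h1 := h (Pi.single j.rev 1)
  rw [BJ_apply] at h1
  unfold hJ at h1
  rw [Finset.sum_eq_single j.rev] at h1
  · rw [Pi.single_eq_same, one_mul, Fin.rev_rev] at h1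
    have := congrArg (conjQ hF) h1
    rwa [conjQ_conjQ, map_zero] at this
  · intro i _ hi
    rw [Pi.single_eq_of_ne hi, zero_mul]
  · intro h'
    exact absurd (Finset.mem_univ _) h'

/-- a Witt basis of the standard Hermitian space -/
theorem exists_witt : ∃ P Pi : Matrix (Fin n) (Fin n) F, P * Pi = 1 ∧ Pi * P = 1 ∧
    ∀ x y, hermForm n F q (P *ᵥ x) (P *ᵥ y) = hJ (conjQ hF) x y := by
  obtain ⟨φ, hφ⟩ := exists_std_herm hF (BJ hF n) (BJ_isSymm hF n) (BJ_nondeg hF n) n
    (Module.finrank_fin_fun F)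
  refine ⟨LinearMap.toMatrix' φ.toLinearMap, LinearMap.toMatrix' φ.symm.toLinearMap, ?_, ?_, ?_⟩
  · rw [← LinearMap.toMatrix'_comp]
    simp
  · rw [← LinearMap.toMatrix'_comp]
    simp
  · intro x y
    rw [LinearMap.toMatrix'_mulVec, LinearMap.toMatrix'_mulVec]
    exact hφ x y

variable {n}

/-- the model of the unitary group given by a Witt basis -/
noncomputable def suModel (P Pi : Matrix (Fin n) (Fin n) F) (h1 : P * Pi = 1) (h2 : Pi * P = 1)
    (hP : ∀ x y, hermForm n F q (P *ᵥ x) (P *ᵥ y) = hJ (conjQ hF) x y) :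
    UModel ↥(SU n F q) n F (conjQ hF) where
  mat :=
    { toFun := fun g => Pi * (g : Matrix.SpecialLinearGroup (Fin n) F).1 * P
      map_one' := by
        show Pi * (1 : Matrix (Fin n) (Fin n) F) * P = 1
        rw [Matrix.mul_one, h2]
      map_mul' := by
        intro g g'
        show Pi * ((g : Matrix.SpecialLinearGroup (Fin n) F).1 *
          (g' : Matrix.SpecialLinearGroup (Fin n) F).1) * P = _
        calc Pi * ((g : Matrix.SpecialLinearGroup (Fin n) F).1 *
              (g' : Matrix.SpecialLinearGroup (Fin n) F).1) * P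
            = Pi * (g : Matrix.SpecialLinearGroup (Fin n) F).1 * (P * Pi) *
              (g' : Matrix.SpecialLinearGroup (Fin n) F).1 * P := by
                rw [h1, Matrix.mul_one]
                simp only [Matrix.mul_assoc]
          _ = _ := by simp only [Matrix.mul_assoc] }
  mat_inj := by
    intro g g' h
    have h' : Pi * (g : Matrix.SpecialLinearGroup (Fin n) F).1 * P =
        Pi * (g' : Matrix.SpecialLinearGroup (Fin n) F).1 * P := h
    apply Subtype.ext
    apply Subtype.ext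
    calc (g : Matrix.SpecialLinearGroup (Fin n) F).1
        = (P * Pi) * (g : Matrix.SpecialLinearGroup (Fin n) F).1 * (P * Pi) := by
          rw [h1, Matrix.one_mul, Matrix.mul_one]
      _ = P * (Pi * (g : Matrix.SpecialLinearGroup (Fin n) F).1 * P) * Pi := by
          simp only [Matrix.mul_assoc]
      _ = P * (Pi * (g' : Matrix.SpecialLinearGroup (Fin n) F).1 * P) * Pi := by rw [h']
      _ = (P * Pi) * (g' : Matrix.SpecialLinearGroup (Fin n) F).1 * (P * Pi) := by
          simp only [Matrix.mul_assoc]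
      _ = (g' : Matrix.SpecialLinearGroup (Fin n) F).1 := by
          rw [h1, Matrix.one_mul, Matrix.mul_one]
  mat_isU := by
    intro g
    apply isU_of_form
    intro x y
    show hJ _ ((Pi * (g : Matrix.SpecialLinearGroup (Fin n) F).1 * P) *ᵥ x)
      ((Pi * (g : Matrix.SpecialLinearGroup (Fin n) F).1 * P) *ᵥ y) = _
    rw [← hP, ← hP, Matrix.mulVec_mulVec, Matrix.mulVec_mulVec]
    have e : P * (Pi * (g : Matrix.SpecialLinearGroup (Fin n) F).1 * P) =
        (g : Matrix.SpecialLinearGroup (Fin n) F).1 * P := by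
      rw [← Matrix.mul_assoc, ← Matrix.mul_assoc, h1, Matrix.one_mul]
    rw [e, ← Matrix.mulVec_mulVec, ← Matrix.mulVec_mulVec]
    exact g.2 (P *ᵥ x) (P *ᵥ y)
  mat_det := by
    intro g
    show (Pi * (g : Matrix.SpecialLinearGroup (Fin n) F).1 * P).det = 1
    rw [Matrix.det_mul, Matrix.det_mul, (g : Matrix.SpecialLinearGroup (Fin n) F).2, mul_one,
      ← Matrix.det_mul, h2, Matrix.det_one]
  surj := by
    intro A hdet hU
    have hdet' : (P * A * Pi).det = 1 := by
      rw [Matrix.det_mul, Matrix.det_mul, hdet, mul_one, ← Matrix.det_mul, h1, Matrix.det_one]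
    have hpres : ∀ x y, hermForm n F q ((P * A * Pi) *ᵥ x) ((P * A * Pi) *ᵥ y) =
        hermForm n F q x y := by
      intro x y
      have e : ∀ z, (P * A * Pi) *ᵥ z = P *ᵥ (A *ᵥ (Pi *ᵥ z)) := by
        intro z
        rw [Matrix.mulVec_mulVec, Matrix.mulVec_mulVec, Matrix.mul_assoc]
      rw [e, e, hP, IsU.form _ hU, ← hP, Matrix.mulVec_mulVec, Matrix.mulVec_mulVec, h1,
        Matrix.one_mulVec, Matrix.one_mulVec]
    refine ⟨⟨⟨P * A * Pi, hdet'⟩, hpres⟩, ?_⟩
    show Pi * (P * A * Pi) * P = A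
    calc Pi * (P * A * Pi) * P = (Pi * P) * A * (Pi * P) := by simp only [Matrix.mul_assoc]
      _ = A := by rw [h2, Matrix.one_mul, Matrix.mul_one]

theorem suModel_mat (P Pi : Matrix (Fin n) (Fin n) F) (h1 : P * Pi = 1) (h2 : Pi * P = 1)
    (hP : ∀ x y, hermForm n F q (P *ᵥ x) (P *ᵥ y) = hJ (conjQ hF) x y) (g : ↥(SU n F q)) :
    (suModel hF P Pi h1 h2 hP).mat g = Pi * (g : Matrix.SpecialLinearGroup (Fin n) F).1 * P :=
  rfl

end Cfsg.Agent.Lib.Helper14.SUBN
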