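import Mathlib
import Cfsg.Agent.Lib.Helper14.SUBN15

/-!
# The Steinberg character of the projective special unitary groups
-/

set_option autoImplicit false
set_option linter.unusedSectionVars false
set_option linter.unnecessarySeqFocus false

namespace Cfsg.Agent.Lib.Helper14.SUBN

open Matrix Cfsg Cfsg.Agent.Lib.Helper14.SpBN Cfsg.Agent.Lib.Helper14.TriMono
  Cfsg.Agent.Lib.Helper14.MatBN Cfsg.Agent.Lib.Helper6 Cfsg.Agent.Lib.Helper6.SUG

variable {F : Type*} [Field F] [Fintype F] {q : ℕ} (hF : Fintype.card F = q ^ 2) {n : ℕ}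

/-- generation of the special unitary group by its triangular and monomial subgroups -/
theorem su_gen (hn : 2 ≤ n) (P Pi : Matrix (Fin n) (Fin n) F) (h1 : P * Pi = 1)
    (h2 : Pi * P = 1)
    (hP : ∀ x y, hermForm n F q (P *ᵥ x) (P *ᵥ y) = hJ (conjQ hF) x y)
    (τ : F) (hτ0 : τ ≠ 0) (hτ : τ + conjQ hF τ = 0) :
    (suSetup (suModel hF P Pi h1 h2 hP) (conjQ_conjQ hF) τ hτ0 hτ).Bor ⊔
      (suSetup (suModel hF P Pi h1 h2 hP) (conjQ_conjQ hF) τ hτ0 hτ).Nn = ⊤ := by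
  have htr : ∀ a, conjQ hF a = a → ∃ c, c + conjQ hF c = a :=
    fun a ha => exists_trace (conjQ hF) (conjQ_ne_id hF) (conjQ_conjQ hF) a ha
  by_cases hn3 : n = 3
  · exact gen_three _ (conjQ_conjQ hF) τ hτ0 hτ htr hn3
  · apply gen_of_tv _ (conjQ_conjQ hF) τ hτ0 hτ htr (by omega)
    intro L hL
    rw [eq_top_iff, ← TT_eq_top hF n (by omega) (fun h => hn3 h.1)]
    unfold TT
    rw [Subgroup.closure_le]
    rintro A ⟨v, c, hv, hA⟩
    apply hL A (Pi *ᵥ v) c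
    · rw [← hP, Matrix.mulVec_mulVec, h1, Matrix.one_mulVec]
      exact hv
    · intro x
      rw [suModel_mat, hA, ← Matrix.mulVec_mulVec, ← Matrix.mulVec_mulVec,
        Cfsg.Agent.S0779.transvection_mulVec, Matrix.mulVec_add, Matrix.mulVec_smul,
        Matrix.mulVec_mulVec, h2, Matrix.one_mulVec]
      congr 3
      rw [← hP, Matrix.mulVec_mulVec, h1, Matrix.one_mulVec]

include hF in
/-- **The Steinberg character** of `PSU_n(q)`. -/
theorem exists_steinberg_psu (p : ℕ) [Fact p.Prime] [CharP F p] (hn : 2 ≤ n) :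
    ∃ χ : Cfsg.PSU n F q → ℂ, Cfsg.IsIrrCharacter (Cfsg.PSU n F q) χ ∧
      ∀ Q : Sylow p (Cfsg.PSU n F q), χ 1 = Nat.card Q ∧
        ∀ x : Cfsg.PSU n F q, x ∈ Q → x ≠ 1 → χ x = 0 := by
  classical
  obtain ⟨P, Pi, h1, h2, hP⟩ := exists_witt hF n
  obtain ⟨τ, hτ0, hτq⟩ := exists_trace_zero hF
  have hτ : τ + conjQ hF τ = 0 := by rw [conjQ_apply, hτq]; ring
  have : Fintype ↥(SU n F q) := Fintype.ofFinite _
  exact (suSetup (suModel hF P Pi h1 h2 hP) (conjQ_conjQ hF) τ hτ0 hτ).exists_steinberg p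
    (su_gen hF hn P Pi h1 h2 hP τ hτ0 hτ)
    (fun u v huv => su_hadj _ (conjQ_conjQ hF) τ hτ0 hτ u v huv)
    (fun u v huv => su_hconn u v huv)
    (fun b hb => su_hdiag _ b hb)

end Cfsg.Agent.Lib.Helper14.SUBN
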