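import Mathlib
import Cfsg.Agent.Lib.Helper14.WeightBound

/-!
# Relative weight spaces: extending a commuting family by another one (helper14)
-/

set_option autoImplicit false
set_option linter.unusedSectionVars false
set_option linter.unusedVariables false

namespace Cfsg.Agent.Lib.Helper14.SULS

open Module Cfsg.Agent.Lib.Helper14.Wt Cfsg.Agent.Lib.Helper14.SzRep

section general

variable {G : Type*} [Group G] {L : Type*} [Field L]
  {V : Type*} [AddCommGroup V] [Module L V]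
  (ρ : G →* (V →ₗ[L] V)) {ι ι' : Type*} (a : ι → G) (a' : ι' → G)

lemma E_sum (χ : ι → L) (χ' : ι' → L) :
    E ρ (Sum.elim a a') (Sum.elim χ χ') = E ρ a χ ⊓ E ρ a' χ' := by
  ext v
  rw [Submodule.mem_inf, mem_E, mem_E, mem_E]
  constructor
  · intro h
    exact ⟨fun i => h (Sum.inl i), fun i => h (Sum.inr i)⟩
  · rintro ⟨h1, h2⟩ (i | i)
    · exact h1 i
    · exact h2 i

lemma E_sum_le_left (ψ : ι ⊕ ι' → L) : E ρ (Sum.elim a a') ψ ≤ E ρ a (ψ ∘ Sum.inl) := by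
  intro v hv
  rw [mem_E] at hv ⊢
  intro i
  exact hv (Sum.inl i)

lemma E_sum_le_right (ψ : ι ⊕ ι' → L) : E ρ (Sum.elim a a') ψ ≤ E ρ a' (ψ ∘ Sum.inr) := by
  intro v hv
  rw [mem_E] at hv ⊢
  intro i
  exact hv (Sum.inr i)

/-- restriction to a subfamily -/
lemma E_comp_le {κ : Type*} (f : κ → ι) (χ : ι → L) : E ρ a χ ≤ E ρ (a ∘ f) (χ ∘ f) := by
  intro v hv
  rw [mem_E] at hv ⊢
  intro i
  exact hv (f i)

lemma chi_pt_mul {χ : ι → L} (hχ : E ρ a χ ≠ ⊥) {i j l : ι} (h : a i = a j * a l) :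
    χ i = χ j * χ l := by
  obtain ⟨v, hv, hv0⟩ := Submodule.exists_mem_ne_zero_of_ne_bot hχ
  rw [mem_E] at hv
  have h1 := hv i
  rw [h, map_mul, Module.End.mul_apply, hv l, map_smul, hv j, smul_smul] at h1
  have : (χ l * χ j - χ i) • v = 0 := by rw [sub_smul, h1, sub_self]
  rcases smul_eq_zero.mp this with h2 | h2
  · linear_combination -h2
  · exact absurd h2 hv0

lemma chi_pt_one {χ : ι → L} (hχ : E ρ a χ ≠ ⊥) {i : ι} (h : a i = 1) : χ i = 1 := by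
  obtain ⟨v, hv, hv0⟩ := Submodule.exists_mem_ne_zero_of_ne_bot hχ
  rw [mem_E] at hv
  have h1 := hv i
  rw [h, map_one, Module.End.one_apply] at h1
  have : (1 - χ i) • v = 0 := by rw [sub_smul, one_smul, ← h1, sub_self]
  rcases smul_eq_zero.mp this with h2 | h2
  · linear_combination -h2
  · exact absurd h2 hv0

lemma chi_pt_eq {χ : ι → L} (hχ : E ρ a χ ≠ ⊥) {i j : ι} (h : a i = a j) : χ i = χ j := by
  obtain ⟨v, hv, hv0⟩ := Submodule.exists_mem_ne_zero_of_ne_bot hχ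
  rw [mem_E] at hv
  have h1 := hv i
  rw [h, hv j] at h1
  have : (χ j - χ i) • v = 0 := by rw [sub_smul, h1, sub_self]
  rcases smul_eq_zero.mp this with h2 | h2
  · linear_combination -h2
  · exact absurd h2 hv0

lemma chi_pt_ne_zero {χ : ι → L} (hχ : E ρ a χ ≠ ⊥) (i : ι) : χ i ≠ 0 := by
  obtain ⟨v, hv, hv0⟩ := Submodule.exists_mem_ne_zero_of_ne_bot hχ
  rw [mem_E] at hv
  intro h0
  have h1 := hv i
  rw [h0, zero_smul] at h1
  apply hv0
  apply rho_injective ρ (a i)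
  rw [h1, map_zero]

variable [IsAlgClosed L] [CharZero L] [FiniteDimensional L V] [Finite G]

lemma card_ne_zero' : ((Nat.card G : ℕ) : L) ≠ 0 := by
  exact_mod_cast (Nat.card_pos (α := G)).ne'

lemma pow_card' (g : G) : g ^ Nat.card G = 1 := pow_card_eq_one'

variable (hcomm : ∀ i j : ι ⊕ ι', Sum.elim a a' i * Sum.elim a a' j =
  Sum.elim a a' j * Sum.elim a a' i)

lemma indepE' (hc : ∀ i j : ι, a i * a j = a j * a i) : iSupIndep (E ρ a) :=
  indepE ρ a hc (card_ne_zero' (G := G) (L := L)) (fun i => pow_card' (a i))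

lemma supE' (hc : ∀ i j : ι, a i * a j = a j * a i) : ⨆ χ : ι → L, E ρ a χ = ⊤ :=
  supE ρ a hc (card_ne_zero' (G := G) (L := L)) (fun i => pow_card' (a i))

include hcomm in
/-- a weight space is the sum of the weight spaces of an extended family lying over it -/
lemma rel_sup (χ : ι → L) :
    E ρ a χ ≤ ⨆ χ' : ι' → L, E ρ (Sum.elim a a') (Sum.elim χ χ') := by
  have hca : ∀ i j : ι, a i * a j = a j * a i := fun i j => hcomm (Sum.inl i) (Sum.inl j)
  set P := ⨆ χ' : ι' → L, E ρ (Sum.elim a a') (Sum.elim χ χ') with hP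
  set Q := ⨆ (ψ : ι ⊕ ι' → L) (_ : ψ ∘ Sum.inl ≠ χ), E ρ (Sum.elim a a') ψ with hQ
  have htop : P ⊔ Q = ⊤ := by
    rw [eq_top_iff, ← supE' ρ (Sum.elim a a') hcomm]
    apply iSup_le
    intro ψ
    by_cases h : ψ ∘ Sum.inl = χ
    · apply le_sup_of_le_left
      have h1 : ψ = Sum.elim χ (ψ ∘ Sum.inr) := by
        rw [← h]
        exact (Sum.elim_comp_inl_inr ψ).symm
      rw [h1]
      exact le_iSup (fun χ' : ι' → L => E ρ (Sum.elim a a') (Sum.elim χ χ')) (ψ ∘ Sum.inr)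
    · apply le_sup_of_le_right
      exact le_iSup₂ (f := fun (ψ : ι ⊕ ι' → L) (_ : ψ ∘ Sum.inl ≠ χ) =>
        E ρ (Sum.elim a a') ψ) ψ h
  have hPle : P ≤ E ρ a χ := by
    apply iSup_le
    intro χ'
    rw [E_sum]
    exact inf_le_left
  have hQle : Q ≤ ⨆ (φ : ι → L) (_ : φ ≠ χ), E ρ a φ := by
    apply iSup₂_le
    intro ψ hψ
    exact (E_sum_le_left ρ a a' ψ).trans
      (le_iSup₂ (f := fun (φ : ι → L) (_ : φ ≠ χ) => E ρ a φ) (ψ ∘ Sum.inl) hψ)
  have hdisj : Q ⊓ E ρ a χ = ⊥ := by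
    have h1 := (indepE' ρ a hca) χ
    rw [inf_comm]
    exact le_bot_iff.mp ((inf_le_inf_left _ hQle).trans h1.le_bot)
  calc E ρ a χ = (P ⊔ Q) ⊓ E ρ a χ := by rw [htop, top_inf_eq]
    _ = P ⊔ Q ⊓ E ρ a χ := sup_inf_assoc_of_le Q hPle
    _ = P := by rw [hdisj, sup_bot_eq]
    _ ≤ P := le_rfl

include hcomm in
lemma exists_ext {χ : ι → L} (h : E ρ a χ ≠ ⊥) :
    ∃ χ' : ι' → L, E ρ (Sum.elim a a') (Sum.elim χ χ') ≠ ⊥ := by
  by_contra hcon
  push Not at hcon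
  apply h
  rw [eq_bot_iff]
  refine (rel_sup ρ a a' hcomm χ).trans ?_
  apply iSup_le
  intro χ'
  rw [hcon χ']

include hcomm in
lemma exists_ext_ne {χ : ι → L} (i₀ : ι') {v : V} (hv : v ∈ E ρ a χ) (hne : ρ (a' i₀) v ≠ v) :
    ∃ χ' : ι' → L, E ρ (Sum.elim a a') (Sum.elim χ χ') ≠ ⊥ ∧ χ' i₀ ≠ 1 := by
  by_contra hcon
  push Not at hcon
  apply hne
  have hle : E ρ a χ ≤ Module.End.eigenspace (ρ (a' i₀)) 1 := by
    refine (rel_sup ρ a a' hcomm χ).trans ?_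
    apply iSup_le
    intro χ'
    by_cases hb : E ρ (Sum.elim a a') (Sum.elim χ χ') = ⊥
    · rw [hb]
      exact bot_le
    · have h1 := hcon χ' hb
      have h2 : E ρ (Sum.elim a a') (Sum.elim χ χ') ≤
          Module.End.eigenspace (ρ (Sum.elim a a' (Sum.inr i₀))) (Sum.elim χ χ' (Sum.inr i₀)) :=
        iInf_le _ (Sum.inr i₀)
      simpa [h1] using h2
  have := hle hv
  rw [Module.End.mem_eigenspace_iff, one_smul] at this
  exact this

/-- counting weights inside a subspace -/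
lemma card_mul_le (hc : ∀ i j : ι, a i * a j = a j * a i) (S : Finset (ι → L))
    (W : Submodule L V) (d : ℕ)
    (h : ∀ χ ∈ S, E ρ a χ ≤ W ∧ d ≤ finrank L (E ρ a χ)) : S.card * d ≤ finrank L W := by
  have h1 := finrank_biSup_eq (indepE' ρ a hc) S
  have h2 : (⨆ χ ∈ S, E ρ a χ) ≤ W := iSup₂_le fun χ hχ => (h χ hχ).1
  have h3 := Submodule.finrank_mono h2
  rw [h1] at h3
  have h4 : ∑ χ ∈ S, d ≤ ∑ χ ∈ S, finrank L (E ρ a χ) :=
    Finset.sum_le_sum fun χ hχ => (h χ hχ).2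
  rw [Finset.sum_const, smul_eq_mul] at h4
  exact h4.trans h3

lemma add_card_mul_le (hc : ∀ i j : ι, a i * a j = a j * a i) (S : Finset (ι → L))
    (W : Submodule L V) (d : ℕ) (χ₀ : ι → L) (h0 : χ₀ ∉ S) (h0W : E ρ a χ₀ ≤ W)
    (h : ∀ χ ∈ S, E ρ a χ ≤ W ∧ d ≤ finrank L (E ρ a χ)) :
    finrank L (E ρ a χ₀) + S.card * d ≤ finrank L W := by
  classical
  have h1 := finrank_biSup_eq (indepE' ρ a hc) (insert χ₀ S)
  have h2 : (⨆ χ ∈ insert χ₀ S, E ρ a χ) ≤ W := by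
    apply iSup₂_le
    intro χ hχ
    rcases Finset.mem_insert.mp hχ with rfl | hχ
    · exact h0W
    · exact (h χ hχ).1
  have h3 := Submodule.finrank_mono h2
  rw [h1, Finset.sum_insert h0] at h3
  have h4 : ∑ χ ∈ S, d ≤ ∑ χ ∈ S, finrank L (E ρ a χ) :=
    Finset.sum_le_sum fun χ hχ => (h χ hχ).2
  rw [Finset.sum_const, smul_eq_mul] at h4
  omega

end general

end Cfsg.Agent.Lib.Helper14.SULS
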