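import Mathlib
import Cfsg.Agent.Lib.Helper14.SUBN1

/-!
# Heisenberg type matrices in a unitary group in Witt form (helper14)
-/

set_option autoImplicit false
set_option linter.unusedSectionVars false
set_option linter.unusedVariables false
set_option linter.unusedSimpArgs false

namespace Cfsg.Agent.Lib.Helper14.SULS

open Matrix Cfsg.Agent.Lib.Helper14.SUBN

variable {F : Type*} [Field F] (σ : F →+* F) {n : ℕ}

/-- the conjugate reversed vector -/
def cj (a : Fin n → F) : Fin n → F := fun i => σ (a i.rev)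

theorem cj_apply (a : Fin n → F) (i : Fin n) : cj σ a i = σ (a i.rev) := rfl

theorem cj_zero : cj σ (0 : Fin n → F) = 0 := by
  ext i
  simp [cj]

theorem cj_add (a b : Fin n → F) : cj σ (a + b) = cj σ a + cj σ b := by
  ext i
  simp [cj]

theorem cj_neg (a : Fin n → F) : cj σ (-a) = -cj σ a := by
  ext i
  simp [cj]

theorem dot_cj (a b : Fin n → F) : a ⬝ᵥ cj σ b = hJ σ a b := rfl

/-- Heisenberg matrices: `1 + e_k ⊗ (a + z f_k) - (cj a) ⊗ f_k`, `f_k = e_{rev k}` -/
def Hm (k : Fin n) (a : Fin n → F) (z : F) : Matrix (Fin n) (Fin n) F :=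
  1 + vecMulVec (Pi.single k 1) (a + z • Pi.single k.rev 1) -
    vecMulVec (cj σ a) (Pi.single k.rev 1)

theorem Hm_zero_zero (k : Fin n) : Hm σ k 0 0 = 1 := by
  simp [Hm, cj_zero]

theorem Hm_apply (k : Fin n) (a : Fin n → F) (z : F) (i j : Fin n) :
    Hm σ k a z i j = (1 : Matrix (Fin n) (Fin n) F) i j +
      (Pi.single k 1 : Fin n → F) i * (a j + z * (Pi.single k.rev 1 : Fin n → F) j) -
      σ (a i.rev) * (Pi.single k.rev 1 : Fin n → F) j := by
  simp [Hm, vecMulVec_apply, cj_apply]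

theorem Hm_mul {k : Fin n} (hk : k ≠ k.rev) {a b : Fin n → F} (ha : a k = 0) (hb : b k = 0)
    (z w : F) : Hm σ k a z * Hm σ k b w = Hm σ k (a + b) (z + w - hJ σ a b) := by
  unfold Hm
  set e : Fin n → F := Pi.single k 1 with he
  set f : Fin n → F := Pi.single k.rev 1 with hf
  have fk : f k = 0 := by
    rw [hf]
    exact Pi.single_eq_of_ne hk _
  have d4 : f ⬝ᵥ cj σ b = 0 := by
    rw [hf, single_one_dotProduct, cj_apply, Fin.rev_rev, hb, map_zero]
  have d1 : (a + z • f) ⬝ᵥ e = 0 := by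
    rw [he, dotProduct_single_one]
    simp [ha, fk]
  have d2 : (a + z • f) ⬝ᵥ cj σ b = hJ σ a b := by
    rw [add_dotProduct, smul_dotProduct, dot_cj, d4]
    simp
  have d3 : f ⬝ᵥ e = 0 := by
    rw [he, dotProduct_single_one]
    exact fk
  have expand : ∀ E1 E2 E3 E4 : Matrix (Fin n) (Fin n) F,
      (1 + E1 - E2) * (1 + E3 - E4) =
        1 + E1 - E2 + E3 - E4 + E1 * E3 - E1 * E4 - E2 * E3 + E2 * E4 := by
    intro E1 E2 E3 E4
    noncomm_ring
  rw [expand, vecMulVec_mul_vecMulVec, vecMulVec_mul_vecMulVec, vecMulVec_mul_vecMulVec,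
    vecMulVec_mul_vecMulVec, d1, d2, d3, d4]
  ext i j
  simp only [Matrix.add_apply, Matrix.sub_apply, vecMulVec_apply, Pi.add_apply, Pi.smul_apply,
    smul_eq_mul, cj_apply, map_add, zero_mul, mul_zero, add_zero, sub_zero]
  ring

theorem map_vecMulVec (u v : Fin n → F) : (vecMulVec u v).map σ = vecMulVec (σ ∘ u) (σ ∘ v) := by
  ext i j
  simp [vecMulVec_apply]

theorem sigma_single (k : Fin n) : σ ∘ (Pi.single k 1 : Fin n → F) = Pi.single k 1 := by
  ext i
  by_cases h : i = k
  · subst h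
    simp
  · simp [Pi.single_eq_of_ne h]

theorem Jm_mulVec_single (k : Fin n) :
    Jm n F *ᵥ (Pi.single k 1 : Fin n → F) = Pi.single k.rev 1 := by
  ext i
  rw [Jm_mulVec]
  by_cases h : i = k.rev
  · subst h
    simp
  · rw [Pi.single_eq_of_ne h, Pi.single_eq_of_ne]
    intro h'
    apply h
    rw [← h', Fin.rev_rev]

theorem vecMul_Jm (v : Fin n → F) : v ᵥ* Jm n F = Jm n F *ᵥ v := by
  have := Matrix.vecMul_transpose (Jm n F) v
  rwa [Jm_transpose] at this

theorem Jm_mulVec_cj (a : Fin n → F) : Jm n F *ᵥ cj σ a = σ ∘ a := by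
  ext i
  rw [Jm_mulVec, cj_apply, Fin.rev_rev]
  rfl

theorem Jm_mulVec_sigma_cj (hσ2 : ∀ x, σ (σ x) = x) (a : Fin n → F) :
    Jm n F *ᵥ (σ ∘ cj σ a) = a := by
  ext i
  rw [Jm_mulVec]
  simp [cj_apply, hσ2]

/-- Heisenberg matrices are unitary -/
theorem Hm_isU (hσ2 : ∀ x, σ (σ x) = x) {k : Fin n} (hk : k ≠ k.rev) {a : Fin n → F}
    (ha : a k = 0) {z : F} (hz : z + σ z + hJ σ a a = 0) : IsU σ (Hm σ k a z) := by
  unfold IsU Hm
  set e : Fin n → F := Pi.single k 1 with he
  set f : Fin n → F := Pi.single k.rev 1 with hf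
  have fk : f k = 0 := by
    rw [hf]
    exact Pi.single_eq_of_ne hk _
  have ek : e k.rev = 0 := by
    rw [he]
    exact Pi.single_eq_of_ne hk.symm _
  have hJe : Jm n F *ᵥ e = f := Jm_mulVec_single k
  have hT : (1 + vecMulVec e (a + z • f) - vecMulVec (cj σ a) f)ᵀ =
      1 + vecMulVec (a + z • f) e - vecMulVec f (cj σ a) := by
    rw [Matrix.transpose_sub, Matrix.transpose_add, Matrix.transpose_one, transpose_vecMulVec,
      transpose_vecMulVec]
  have hM : (1 + vecMulVec e (a + z • f) - vecMulVec (cj σ a) f).map σ =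
      1 + vecMulVec e (σ ∘ (a + z • f)) - vecMulVec (σ ∘ cj σ a) f := by
    rw [Matrix.map_sub _ (map_sub σ), Matrix.map_add _ (map_add σ),
      Matrix.map_one _ (map_zero σ) (map_one σ), map_vecMulVec, map_vecMulVec, he, hf,
      sigma_single, sigma_single]
  rw [hT, hM, Matrix.mul_assoc]
  have hJA : Jm n F * (1 + vecMulVec e (σ ∘ (a + z • f)) - vecMulVec (σ ∘ cj σ a) f) =
      Jm n F + vecMulVec f (σ ∘ (a + z • f)) - vecMulVec a f := by
    rw [Matrix.mul_sub, Matrix.mul_add, Matrix.mul_one, mul_vecMulVec, mul_vecMulVec, hJe,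
      Jm_mulVec_sigma_cj σ hσ2]
  rw [hJA]
  have d1 : e ⬝ᵥ f = 0 := by
    rw [hf, dotProduct_single_one]
    exact ek
  have d2 : e ⬝ᵥ a = 0 := by
    rw [he, single_one_dotProduct]
    exact ha
  have d3 : cj σ a ⬝ᵥ f = 0 := by
    rw [hf, dotProduct_single_one, cj_apply, Fin.rev_rev, ha, map_zero]
  have d4 : cj σ a ⬝ᵥ a = hJ σ a a := by
    rw [dotProduct_comm, dot_cj]
  have expand : ∀ E1 E2 J E3 E4 : Matrix (Fin n) (Fin n) F,
      (1 + E1 - E2) * (J + E3 - E4) =
        J + E3 - E4 + E1 * J + E1 * E3 - E1 * E4 - E2 * J - E2 * E3 + E2 * E4 := by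
    intro E1 E2 J E3 E4
    noncomm_ring
  rw [expand, vecMulVec_mul_vecMulVec, vecMulVec_mul_vecMulVec, vecMulVec_mul_vecMulVec,
    vecMulVec_mul_vecMulVec, vecMulVec_mul, vecMulVec_mul, vecMul_Jm, vecMul_Jm, hJe,
    Jm_mulVec_cj, d1, d2, d3, d4]
  ext i j
  simp only [Matrix.add_apply, Matrix.sub_apply, vecMulVec_apply, Pi.add_apply, Pi.smul_apply,
    smul_eq_mul, Function.comp_apply, map_add, map_mul, zero_mul, mul_zero, add_zero, sub_zero]
  have hfj : σ (f j) = f j := by
    have := congrFun (sigma_single σ k.rev) j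
    simpa [hf] using this
  rw [hfj]
  linear_combination (f i * f j) * hz

/-- Heisenberg matrices have determinant one -/
theorem Hm_det {k : Fin n} (hk : k ≠ k.rev) {a : Fin n → F} (ha : a k = 0) (z : F) :
    (Hm σ k a z).det = 1 := by
  set e : Fin n → F := Pi.single k 1 with he
  set f : Fin n → F := Pi.single k.rev 1 with hf
  have fk : f k = 0 := by
    rw [hf]
    exact Pi.single_eq_of_ne hk _
  have d3 : f ⬝ᵥ cj σ a = 0 := by
    rw [hf, single_one_dotProduct, cj_apply, Fin.rev_rev, ha, map_zero]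
  have hfac : Hm σ k a z = (1 + vecMulVec e (a + (z + hJ σ a a) • f)) *
      (1 + vecMulVec (-cj σ a) f) := by
    unfold Hm
    rw [← he, ← hf]
    have expand : ∀ E1 E2 : Matrix (Fin n) (Fin n) F,
        (1 + E1) * (1 + E2) = 1 + E1 + E2 + E1 * E2 := by
      intro E1 E2
      noncomm_ring
    have d : (a + (z + hJ σ a a) • f) ⬝ᵥ (-cj σ a) = -hJ σ a a := by
      rw [dotProduct_neg, add_dotProduct, smul_dotProduct, dot_cj, d3]
      simp
    rw [expand, vecMulVec_mul_vecMulVec, d]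
    ext i j
    simp only [Matrix.add_apply, Matrix.sub_apply, vecMulVec_apply, Pi.add_apply, Pi.smul_apply,
      smul_eq_mul, Pi.neg_apply]
    ring
  rw [hfac, Matrix.det_mul, vecMulVec_eq Unit, vecMulVec_eq Unit,
    det_one_add_replicateCol_mul_replicateRow, det_one_add_replicateCol_mul_replicateRow]
  have e1 : (a + (z + hJ σ a a) • f) ⬝ᵥ e = 0 := by
    rw [he, dotProduct_single_one]
    simp [ha, fk]
  have e2 : f ⬝ᵥ (-cj σ a) = 0 := by
    rw [dotProduct_neg, d3, neg_zero]
  rw [e1, e2]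
  simp

theorem cj_single (j : Fin n) (c : F) : cj σ (Pi.single j c) = Pi.single j.rev (σ c) := by
  ext i
  rw [cj_apply]
  by_cases h : i = j.rev
  · subst h
    simp
  · rw [Pi.single_eq_of_ne h, Pi.single_eq_of_ne, map_zero]
    intro h'
    apply h
    rw [← h', Fin.rev_rev]

theorem vecMulVec_single_single (p r : Fin n) (x y : F) :
    vecMulVec (Pi.single p x) (Pi.single r y) = Matrix.single p r (x * y) := by
  ext i j
  rw [vecMulVec_apply, Matrix.single_apply, Pi.single_apply, Pi.single_apply]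
  by_cases h1 : i = p
  · by_cases h2 : j = r
    · subst h1 h2
      simp
    · have h2' : ¬ r = j := fun h => h2 h.symm
      simp [h1, h2, h2']
  · have h1' : ¬ p = i := fun h => h1 h.symm
    simp [h1, h1']

theorem Hm_single (k j : Fin n) (c z : F) :
    Hm σ k (Pi.single j c) z =
      1 + (Matrix.single k j c + Matrix.single k k.rev z) - Matrix.single j.rev k.rev (σ c) := by
  unfold Hm
  rw [cj_single, vecMulVec_add, vecMulVec_smul, vecMulVec_single_single, vecMulVec_single_single,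
    vecMulVec_single_single, Matrix.smul_single]
  simp

theorem Hm_zero (k : Fin n) (z : F) : Hm σ k 0 z = 1 + Matrix.single k k.rev z := by
  have h := Hm_single σ k k 0 z
  rw [Pi.single_zero] at h
  rw [h]
  simp

/-- commutation with root elements at a different level -/
theorem Hm_comm {k i : Fin n} (hik : i ≠ k.rev) {a : Fin n → F} (hai : a i = 0) (z w : F) :
    Hm σ k a z * Hm σ i 0 w = Hm σ i 0 w * Hm σ k a z := by
  have hki : k ≠ i.rev := by
    intro h
    apply hik
    rw [h, Fin.rev_rev]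
  unfold Hm
  rw [cj_zero, vecMulVec_zero', sub_zero, zero_add]
  set ek : Fin n → F := Pi.single k 1 with hek
  set fk : Fin n → F := Pi.single k.rev 1 with hfk
  set ei : Fin n → F := Pi.single i 1 with hei
  set fi : Fin n → F := Pi.single i.rev 1 with hfi
  have d1 : (a + z • fk) ⬝ᵥ ei = 0 := by
    rw [hei, dotProduct_single_one, hfk]
    simp [hai, Pi.single_eq_of_ne hik]
  have d2 : fk ⬝ᵥ ei = 0 := by
    rw [hei, dotProduct_single_one, hfk]
    exact Pi.single_eq_of_ne hik _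
  have d3 : (w • fi) ⬝ᵥ ek = 0 := by
    rw [hek, dotProduct_single_one, hfi]
    simp [Pi.single_eq_of_ne hki]
  have d4 : (w • fi) ⬝ᵥ cj σ a = 0 := by
    rw [smul_dotProduct, hfi, single_one_dotProduct, cj_apply, Fin.rev_rev, hai, map_zero]
    simp
  have expand : ∀ E1 E2 E3 : Matrix (Fin n) (Fin n) F,
      (1 + E1 - E2) * (1 + E3) - (1 + E3) * (1 + E1 - E2) =
        E1 * E3 - E2 * E3 - E3 * E1 + E3 * E2 := by
    intro E1 E2 E3
    noncomm_ring
  rw [← sub_eq_zero, expand, vecMulVec_mul_vecMulVec, vecMulVec_mul_vecMulVec,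
    vecMulVec_mul_vecMulVec, vecMulVec_mul_vecMulVec, d1, d2, d3, d4]
  simp
where
  vecMulVec_zero' : ∀ (v : Fin n → F), vecMulVec (0 : Fin n → F) v = 0 := fun v => by
    ext i j
    simp [vecMulVec_apply]

/-- the basic commutator relation between root elements of two independent levels -/
theorem Hm_rel {k i : Fin n} (hk : k ≠ k.rev) (hi : i ≠ i.rev) (hik : i ≠ k) (hik' : i ≠ k.rev)
    (c w : F) (hw : σ w = -w) :
    Hm σ i 0 w * Hm σ k (Pi.single i c) 0 =
      Hm σ k (Pi.single i c) 0 *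
        (Hm σ k (Pi.single i.rev (-(c * w))) (c * σ c * w) * Hm σ i 0 w) := by
  have h1 : i.rev ≠ k := by
    intro h
    apply hik'
    rw [← h, Fin.rev_rev]
  have h2 : i.rev ≠ k.rev := fun h => hik (Fin.rev_injective h)
  rw [Hm_zero, Hm_single, Hm_single, Fin.rev_rev]
  simp only [Matrix.single_zero, add_zero, map_neg, map_mul, hw]
  simp only [mul_add, add_mul, mul_sub, sub_mul, mul_one, one_mul, Matrix.single_mul_single_same,
    Matrix.single_mul_single_of_ne _ _ _ _ hk, Matrix.single_mul_single_of_ne _ _ _ _ hk.symm,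
    Matrix.single_mul_single_of_ne _ _ _ _ hi, Matrix.single_mul_single_of_ne _ _ _ _ hi.symm,
    Matrix.single_mul_single_of_ne _ _ _ _ hik, Matrix.single_mul_single_of_ne _ _ _ _ hik.symm,
    Matrix.single_mul_single_of_ne _ _ _ _ hik', Matrix.single_mul_single_of_ne _ _ _ _ hik'.symm,
    Matrix.single_mul_single_of_ne _ _ _ _ h1, Matrix.single_mul_single_of_ne _ _ _ _ h1.symm,
    Matrix.single_mul_single_of_ne _ _ _ _ h2, Matrix.single_mul_single_of_ne _ _ _ _ h2.symm,
    sub_zero, add_zero, zero_add, zero_sub, mul_zero, zero_mul]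
  ext u v
  simp only [Matrix.add_apply, Matrix.sub_apply, Matrix.single_apply, Matrix.neg_apply]
  split_ifs <;> ring

/-! ### diagonal matrices -/

/-- elementary diagonal unitary matrices -/
def dg (k : Fin n) (t : F) : Fin n → F :=
  fun i => (if i = k then t else 1) * (if i = k.rev then (σ t)⁻¹ else 1)

theorem dg_ne_zero (k : Fin n) {t : F} (ht : t ≠ 0) (i : Fin n) : dg σ k t i ≠ 0 := by
  unfold dg
  have : σ t ≠ 0 := (map_ne_zero σ).mpr ht
  split_ifs <;> simp [ht, this]

theorem dg_rel (hσ2 : ∀ x, σ (σ x) = x) (k : Fin n) {t : F} (ht : t ≠ 0) (i : Fin n) :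
    dg σ k t i * σ (dg σ k t i.rev) = 1 := by
  unfold dg
  have h0 : σ t ≠ 0 := (map_ne_zero σ).mpr ht
  have e1 : i.rev = k ↔ i = k.rev := by
    constructor
    · intro h
      rw [← h, Fin.rev_rev]
    · intro h
      rw [h, Fin.rev_rev]
  have e2 : i.rev = k.rev ↔ i = k := Fin.rev_inj
  simp only [e1, e2]
  by_cases h1 : i = k
  · by_cases h2 : i = k.rev
    · simp only [if_pos h1, if_pos h2, map_mul, map_inv₀, hσ2]
      field_simp
    · simp only [if_pos h1, if_neg h2, map_mul, map_inv₀, hσ2, map_one, one_mul, mul_one]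
      field_simp
  · by_cases h2 : i = k.rev
    · simp only [if_neg h1, if_pos h2, map_mul, map_inv₀, hσ2, map_one, one_mul, mul_one]
      field_simp
    · simp only [if_neg h1, if_neg h2, map_one, one_mul]

theorem dg_prod (k : Fin n) {t : F} (ht : t ≠ 0) : ∏ i, dg σ k t i = t * (σ t)⁻¹ := by
  unfold dg
  rw [Finset.prod_mul_distrib, Finset.prod_ite_eq' Finset.univ k (fun _ => t),
    Finset.prod_ite_eq' Finset.univ k.rev (fun _ => (σ t)⁻¹)]
  simp

/-- the torus element: `t` at `k`, `t⁻¹` at `j`, and the conjugate inverses at the reversed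
indices -/
def tor (k j : Fin n) (t : F) : Fin n → F := fun i => dg σ k t i * dg σ j t⁻¹ i

theorem tor_ne_zero (k j : Fin n) {t : F} (ht : t ≠ 0) (i : Fin n) : tor σ k j t i ≠ 0 :=
  mul_ne_zero (dg_ne_zero σ k ht i) (dg_ne_zero σ j (inv_ne_zero ht) i)

theorem tor_rel (hσ2 : ∀ x, σ (σ x) = x) (k j : Fin n) {t : F} (ht : t ≠ 0) (i : Fin n) :
    tor σ k j t i * σ (tor σ k j t i.rev) = 1 := by
  unfold tor
  rw [map_mul]
  have h1 := dg_rel σ hσ2 k ht i
  have h2 := dg_rel σ hσ2 j (inv_ne_zero ht) i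
  calc dg σ k t i * dg σ j t⁻¹ i * (σ (dg σ k t i.rev) * σ (dg σ j t⁻¹ i.rev))
      = (dg σ k t i * σ (dg σ k t i.rev)) * (dg σ j t⁻¹ i * σ (dg σ j t⁻¹ i.rev)) := by ring
    _ = 1 := by rw [h1, h2, one_mul]

theorem tor_det (k j : Fin n) {t : F} (ht : t ≠ 0) :
    (Matrix.diagonal (tor σ k j t)).det = 1 := by
  rw [Matrix.det_diagonal]
  unfold tor
  rw [Finset.prod_mul_distrib, dg_prod σ k ht, dg_prod σ j (inv_ne_zero ht), map_inv₀, inv_inv]
  have h0 : σ t ≠ 0 := (map_ne_zero σ).mpr ht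
  field_simp

theorem tor_isU (hσ2 : ∀ x, σ (σ x) = x) (k j : Fin n) {t : F} (ht : t ≠ 0) :
    IsU σ (Matrix.diagonal (tor σ k j t)) := by
  unfold IsU
  ext u v
  rw [isU_apply, Jm_apply, Finset.sum_eq_single u]
  · rw [Matrix.diagonal_apply_eq]
    by_cases hv : v = u.rev
    · rw [if_pos hv, hv, Matrix.diagonal_apply_eq, tor_rel σ hσ2 k j ht]
    · rw [if_neg hv, Matrix.diagonal_apply_ne _ (Ne.symm hv), map_zero, mul_zero]
  · intro w _ hw
    rw [Matrix.diagonal_apply_ne _ hw, zero_mul]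
  · intro h'
    exact absurd (Finset.mem_univ _) h'

/-- the value of the torus element at `k` -/
theorem tor_apply_self {k j : Fin n} (hk : k ≠ k.rev) (hjk : j ≠ k) (hjk' : j ≠ k.rev) (t : F) :
    tor σ k j t k = t := by
  unfold tor dg
  have h1 : k ≠ j := hjk.symm
  have h2 : k ≠ j.rev := by
    intro h
    apply hjk'
    rw [h, Fin.rev_rev]
  simp [hk, h1, h2]

/-- conjugation of root elements by diagonal matrices -/
theorem Hm_diag (i : Fin n) (hi : i ≠ i.rev) (d : Fin n → F) (hd : d i ≠ 0) (w : F) :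
    Hm σ i 0 w * Matrix.diagonal d = Matrix.diagonal d * Hm σ i 0 (w * d i.rev / d i) := by
  rw [Hm_zero, Hm_zero]
  ext u v
  rw [Matrix.mul_diagonal, Matrix.diagonal_mul, Matrix.add_apply, Matrix.add_apply,
    Matrix.single_apply, Matrix.single_apply, Matrix.one_apply]
  by_cases h1 : i = u ∧ i.rev = v
  · obtain ⟨rfl, rfl⟩ := h1
    rw [if_neg hi]
    simp only [and_self, if_true]
    field_simp
    ring
  · rw [if_neg h1, if_neg h1]
    by_cases h2 : u = v
    · subst h2
      ring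
    · rw [if_neg h2]
      ring

/-! ### permutation matrices -/

theorem Hm_perm (π : Equiv.Perm (Fin n)) (hπ : ∀ x, π x.rev = (π x).rev) (k : Fin n)
    (a : Fin n → F) (z : F) :
    Hm σ k a z * (π.toPEquiv.toMatrix : Matrix (Fin n) (Fin n) F) =
      π.toPEquiv.toMatrix * Hm σ (π k) (a ∘ π.symm) z := by
  rw [PEquiv.mul_toMatrix_toPEquiv, PEquiv.toMatrix_toPEquiv_mul]
  ext i j
  rw [Matrix.submatrix_apply, Matrix.submatrix_apply, id, id, Hm_apply, Hm_apply]
  have e1 : (1 : Matrix (Fin n) (Fin n) F) i (π.symm j) = (1 : Matrix (Fin n) (Fin n) F) (π i) j := by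
    rw [Matrix.one_apply, Matrix.one_apply]
    by_cases h : i = π.symm j
    · rw [if_pos h, if_pos (by rw [h, Equiv.apply_symm_apply])]
    · rw [if_neg h, if_neg (fun h' => h (by rw [← h', Equiv.symm_apply_apply]))]
  have e2 : (Pi.single k 1 : Fin n → F) i = (Pi.single (π k) 1 : Fin n → F) (π i) := by
    rw [Pi.single_apply, Pi.single_apply]
    by_cases h : i = k
    · rw [if_pos h, if_pos (by rw [h])]
    · rw [if_neg h, if_neg (fun h' => h (π.injective h'))]
  have e3 : (Pi.single k.rev 1 : Fin n → F) (π.symm j) =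
      (Pi.single (π k).rev 1 : Fin n → F) j := by
    rw [Pi.single_apply, Pi.single_apply, ← hπ]
    by_cases h : π.symm j = k.rev
    · rw [if_pos h, if_pos (by rw [← h, Equiv.apply_symm_apply])]
    · rw [if_neg h, if_neg (fun h' => h (by rw [h', Equiv.symm_apply_apply]))]
  have e4 : (a ∘ π.symm) (π i).rev = a i.rev := by
    rw [Function.comp_apply, ← hπ, Equiv.symm_apply_apply]
  rw [e1, e2, e3, e4]
  rfl

theorem perm_isU (π : Equiv.Perm (Fin n)) (hπ : ∀ x, π x.rev = (π x).rev) :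
    IsU σ (π.toPEquiv.toMatrix : Matrix (Fin n) (Fin n) F) := by
  apply isU_of_form
  intro x y
  rw [PEquiv.toMatrix_toPEquiv_mulVec, PEquiv.toMatrix_toPEquiv_mulVec]
  unfold hJ
  rw [← Equiv.sum_comp π (fun i => x i * σ (y i.rev))]
  apply Finset.sum_congr rfl
  intro i _
  simp [hπ]

end Cfsg.Agent.Lib.Helper14.SULS
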