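import Mathlib
import Cfsg.Agent.Lib.Helper14.SULS2
import Cfsg.Agent.Lib.Helper14.SUBN5

/-!
# Heisenberg elements in a model of a unitary group in Witt form (helper14)
-/

set_option autoImplicit false
set_option linter.unusedSectionVars false
set_option linter.unusedVariables false
set_option linter.unusedSimpArgs false

namespace Cfsg.Agent.Lib.Helper14.SULS

open Matrix Cfsg.Agent.Lib.Helper14.SUBN

section hJ

variable {F : Type*} [Field F] (σ : F →+* F) {n : ℕ}

theorem hJ_add_r (x y y' : Fin n → F) : hJ σ x (y + y') = hJ σ x y + hJ σ x y' := by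
  unfold hJ
  rw [← Finset.sum_add_distrib]
  apply Finset.sum_congr rfl
  intro i _
  rw [Pi.add_apply, map_add, mul_add]

theorem hJ_add_l (x x' y : Fin n → F) : hJ σ (x + x') y = hJ σ x y + hJ σ x' y := by
  unfold hJ
  rw [← Finset.sum_add_distrib]
  apply Finset.sum_congr rfl
  intro i _
  rw [Pi.add_apply, add_mul]

theorem hJ_zero_l (y : Fin n → F) : hJ σ 0 y = 0 := by
  unfold hJ
  simp

theorem hJ_zero_r (x : Fin n → F) : hJ σ x 0 = 0 := by
  unfold hJ
  simp

theorem hJ_conj (hσ2 : ∀ x, σ (σ x) = x) (x y : Fin n → F) : σ (hJ σ x y) = hJ σ y x := by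
  unfold hJ
  rw [map_sum, ← Equiv.sum_comp Fin.revPerm]
  apply Finset.sum_congr rfl
  intro i _
  rw [map_mul, hσ2, Fin.revPerm_apply, Fin.rev_rev, mul_comm]

theorem hJ_single_l (i : Fin n) (c : F) (y : Fin n → F) :
    hJ σ (Pi.single i c) y = c * σ (y i.rev) := by
  unfold hJ
  rw [Finset.sum_eq_single i]
  · rw [Pi.single_eq_same]
  · intro j _ hj
    rw [Pi.single_eq_of_ne hj, zero_mul]
  · intro h
    exact absurd (Finset.mem_univ _) h

theorem hJ_single_r (x : Fin n → F) (i : Fin n) (c : F) :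
    hJ σ x (Pi.single i c) = x i.rev * σ c := by
  unfold hJ
  rw [Finset.sum_eq_single i.rev]
  · rw [Fin.rev_rev, Pi.single_eq_same]
  · intro j _ hj
    rw [Pi.single_eq_of_ne, map_zero, mul_zero]
    intro h
    apply hj
    rw [← h, Fin.rev_rev]
  · intro h
    exact absurd (Finset.mem_univ _) h

/-- `x - σ x` -/
def dl (x : F) : F := x - σ x

theorem dl_add (x y : F) : dl σ (x + y) = dl σ x + dl σ y := by
  unfold dl
  rw [map_add]
  ring

theorem dl_zero : dl σ 0 = 0 := by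
  unfold dl
  rw [map_zero, sub_zero]

theorem dl_conj (hσ2 : ∀ x, σ (σ x) = x) (x : F) : σ (dl σ x) = -dl σ x := by
  unfold dl
  rw [map_sub, hσ2]
  ring

theorem dl_tr (hσ2 : ∀ x, σ (σ x) = x) (x : F) : dl σ x + σ (dl σ x) = 0 := by
  rw [dl_conj σ hσ2]
  ring

theorem dl_mul_fixed {r : F} (hr : σ r = r) (x : F) : dl σ (r * x) = r * dl σ x := by
  unfold dl
  rw [map_mul, hr]
  ring

theorem dl_fixed {r : F} (hr : σ r = r) : dl σ r = 0 := by
  unfold dl
  rw [hr, sub_self]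

end hJ

variable {G : Type*} [Group G] {n : ℕ} {F : Type*} [Field F] {σ : F →+* F}
  (Mo : UModel G n F σ)

/-- the group element with a given matrix (or `1` if there is none) -/
noncomputable def el (A : Matrix (Fin n) (Fin n) F) : G := by
  classical
  exact if h : A.det = 1 ∧ IsU σ A then Mo.mk' A h.1 h.2 else 1

theorem mat_el {A : Matrix (Fin n) (Fin n) F} (h1 : A.det = 1) (h2 : IsU σ A) :
    Mo.mat (el Mo A) = A := by
  unfold el
  rw [dif_pos ⟨h1, h2⟩]
  exact Mo.mat_mk' _ _ _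

/-- Heisenberg elements -/
noncomputable def H (k : Fin n) (a : Fin n → F) (z : F) : G := el Mo (Hm σ k a z)

variable (hσ2 : ∀ x, σ (σ x) = x)

include hσ2 in
theorem mat_H {k : Fin n} (hk : k ≠ k.rev) {a : Fin n → F} (ha : a k = 0) {z : F}
    (hz : z + σ z + hJ σ a a = 0) : Mo.mat (H Mo k a z) = Hm σ k a z :=
  mat_el Mo (Hm_det σ hk ha z) (Hm_isU σ hσ2 hk ha hz)

include hσ2 in
theorem good_mul {a b : Fin n → F} {z w : F} (hz : z + σ z + hJ σ a a = 0)
    (hw : w + σ w + hJ σ b b = 0) :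
    (z + w - hJ σ a b) + σ (z + w - hJ σ a b) + hJ σ (a + b) (a + b) = 0 := by
  rw [map_sub, map_add, hJ_conj σ hσ2, hJ_add_l, hJ_add_r, hJ_add_r]
  linear_combination hz + hw

include hσ2 in
theorem H_mul {k : Fin n} (hk : k ≠ k.rev) {a b : Fin n → F} (ha : a k = 0) (hb : b k = 0)
    {z w : F} (hz : z + σ z + hJ σ a a = 0) (hw : w + σ w + hJ σ b b = 0) :
    H Mo k a z * H Mo k b w = H Mo k (a + b) (z + w - hJ σ a b) := by
  apply Mo.mat_inj
  have hab : (a + b) k = 0 := by rw [Pi.add_apply, ha, hb, add_zero]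
  rw [map_mul, mat_H Mo hσ2 hk ha hz, mat_H Mo hσ2 hk hb hw,
    mat_H Mo hσ2 hk hab (good_mul hσ2 hz hw), Hm_mul σ hk ha hb]

theorem H_zero (k : Fin n) : H Mo k 0 0 = 1 := by
  apply Mo.mat_inj
  unfold H
  rw [map_one, Hm_zero_zero]
  exact mat_el Mo Matrix.det_one (isU_one σ)

include hσ2 in
theorem mat_Z {i : Fin n} (hi : i ≠ i.rev) {w : F} (hw : w + σ w = 0) :
    Mo.mat (H Mo i 0 w) = Hm σ i 0 w :=
  mat_H Mo hσ2 hi (Pi.zero_apply i) (by rw [hJ_zero_l, add_zero]; exact hw)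

include hσ2 in
/-- commutation with root elements at another level -/
theorem H_comm_Z {k i : Fin n} (hk : k ≠ k.rev) (hi : i ≠ i.rev) (hik : i ≠ k.rev)
    {a : Fin n → F} (ha : a k = 0) {z : F} (hz : z + σ z + hJ σ a a = 0) (hai : a i = 0)
    {w : F} (hw : w + σ w = 0) :
    H Mo k a z * H Mo i 0 w = H Mo i 0 w * H Mo k a z := by
  apply Mo.mat_inj
  rw [map_mul, map_mul, mat_H Mo hσ2 hk ha hz, mat_Z Mo hσ2 hi hw, Hm_comm σ hik hai]

include hσ2 in
/-- the commutator relation -/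
theorem H_rel {k i : Fin n} (hk : k ≠ k.rev) (hi : i ≠ i.rev) (hik : i ≠ k) (hik' : i ≠ k.rev)
    (c : F) {w : F} (hw : w + σ w = 0) :
    H Mo i 0 w * H Mo k (Pi.single i c) 0 =
      H Mo k (Pi.single i c) 0 *
        (H Mo k (Pi.single i.rev (-(c * w))) (c * σ c * w) * H Mo i 0 w) := by
  have hw' : σ w = -w := by linear_combination hw
  have h1 : i.rev ≠ k := by
    intro h
    apply hik'
    rw [← h, Fin.rev_rev]
  have g1 : (Pi.single i c : Fin n → F) k = 0 := Pi.single_eq_of_ne hik.symm _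
  have g2 : (0 : F) + σ 0 + hJ σ (Pi.single i c : Fin n → F) (Pi.single i c) = 0 := by
    rw [hJ_single_l, Pi.single_eq_of_ne hi.symm, map_zero]
    ring
  have g3 : (Pi.single i.rev (-(c * w)) : Fin n → F) k = 0 := Pi.single_eq_of_ne h1.symm _
  have g4 : c * σ c * w + σ (c * σ c * w) +
      hJ σ (Pi.single i.rev (-(c * w)) : Fin n → F) (Pi.single i.rev (-(c * w))) = 0 := by
    rw [hJ_single_l, Fin.rev_rev, Pi.single_eq_of_ne hi, map_zero, mul_zero, add_zero, map_mul,
      map_mul, hσ2, hw']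
    ring
  apply Mo.mat_inj
  rw [map_mul, map_mul, map_mul, mat_Z Mo hσ2 hi hw, mat_H Mo hσ2 hk g1 g2,
    mat_H Mo hσ2 hk g3 g4, Hm_rel σ hk hi hik hik' c w hw']

/-- the torus elements -/
noncomputable def T (k j : Fin n) (t : F) : G := el Mo (Matrix.diagonal (tor σ k j t))

include hσ2 in
theorem mat_T (k j : Fin n) {t : F} (ht : t ≠ 0) :
    Mo.mat (T Mo k j t) = Matrix.diagonal (tor σ k j t) :=
  mat_el Mo (tor_det σ k j ht) (tor_isU σ hσ2 k j ht)

include hσ2 in
theorem tor_norm_fixed (k j : Fin n) {t : F} (ht : t ≠ 0) (i : Fin n) :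
    σ (tor σ k j t i.rev / tor σ k j t i) = tor σ k j t i.rev / tor σ k j t i := by
  have h1 := tor_rel σ hσ2 k j ht i
  have h2 := tor_rel σ hσ2 k j ht i.rev
  rw [Fin.rev_rev] at h2
  have h0 := tor_ne_zero σ k j ht i
  have h0' := tor_ne_zero σ k j ht i.rev
  have e1 : σ (tor σ k j t i.rev) = (tor σ k j t i)⁻¹ := by
    field_simp
    linear_combination h1
  have e2 : σ (tor σ k j t i) = (tor σ k j t i.rev)⁻¹ := by
    field_simp
    linear_combination h2
  rw [map_div₀, e1, e2]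
  field_simp

include hσ2 in
theorem H_tor (k j : Fin n) {t : F} (ht : t ≠ 0) {i : Fin n} (hi : i ≠ i.rev) {w : F}
    (hw : w + σ w = 0) :
    H Mo i 0 w * T Mo k j t =
      T Mo k j t * H Mo i 0 (w * (tor σ k j t i.rev / tor σ k j t i)) := by
  have hw' : σ w = -w := by linear_combination hw
  have hw2 : w * (tor σ k j t i.rev / tor σ k j t i) +
      σ (w * (tor σ k j t i.rev / tor σ k j t i)) = 0 := by
    rw [map_mul, tor_norm_fixed hσ2 k j ht i, hw']
    ring
  apply Mo.mat_inj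
  rw [map_mul, map_mul, mat_Z Mo hσ2 hi hw, mat_Z Mo hσ2 hi hw2, mat_T Mo hσ2 k j ht,
    Hm_diag σ i hi _ (tor_ne_zero σ k j ht i), mul_div_assoc]

/-- the monomial elements -/
noncomputable def Wp (π : Equiv.Perm (Fin n)) : G :=
  el Mo (π.toPEquiv.toMatrix : Matrix (Fin n) (Fin n) F)

include hσ2 in
theorem H_perm (π : Equiv.Perm (Fin n)) (hπ : ∀ x, π x.rev = (π x).rev)
    (hsign : Equiv.Perm.sign π = 1) {k : Fin n} (hk : k ≠ k.rev) {w : F} (hw : w + σ w = 0) :
    H Mo k 0 w * Wp Mo π = Wp Mo π * H Mo (π k) 0 w := by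
  have hdet : (π.toPEquiv.toMatrix : Matrix (Fin n) (Fin n) F).det = 1 := by
    rw [Matrix.det_permutation, hsign]
    simp
  have hk' : π k ≠ (π k).rev := by
    rw [← hπ]
    exact fun h => hk (π.injective h)
  apply Mo.mat_inj
  unfold Wp
  rw [map_mul, map_mul, mat_Z Mo hσ2 hk hw, mat_Z Mo hσ2 hk' hw,
    mat_el Mo hdet (perm_isU σ π hπ), Hm_perm σ π hπ]
  rfl

end Cfsg.Agent.Lib.Helper14.SULS
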