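import Mathlib
import Cfsg.Agent.Lib.Helper14.SULS3
import Cfsg.Agent.Lib.Helper6.Hermitian

/-!
# Additive characters of a finite field with an involution (helper14)
-/

set_option autoImplicit false
set_option linter.unusedSectionVars false
set_option linter.unusedVariables false

namespace Cfsg.Agent.Lib.Helper14.SULS

open Cfsg.Agent.Lib.Helper6

section dual

variable {F : Type*} [Field F] [Finite F]

/-- every additive character of a finite field is a multiplicative shift of a fixed non-trivial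
one -/
theorem char_dual (ψ φ : F → ℂ) (hψ : ∀ x y, ψ (x + y) = ψ x * ψ y) (hψ0 : ψ 0 = 1)
    (hφ : ∀ x y, φ (x + y) = φ x * φ y) (hφ0 : φ 0 = 1) {x₀ : F} (hx₀ : ψ x₀ ≠ 1) :
    ∃ β : F, ∀ x, φ x = ψ (β * x) := by
  classical
  have := Fintype.ofFinite F
  let Ψ : AddChar F ℂ := ⟨ψ, hψ0, hψ⟩
  let Φ : AddChar F ℂ := ⟨φ, hφ0, hφ⟩
  have hΨ : Ψ ≠ 1 := by
    intro h
    apply hx₀
    have := DFunLike.congr_fun h x₀
    simpa [Ψ] using this
  have hprim := AddChar.IsPrimitive.of_ne_one hΨ
  have hinj := AddChar.to_mulShift_inj_of_isPrimitive hprim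
  have hbij : Function.Bijective (AddChar.mulShift Ψ) := by
    rw [Fintype.bijective_iff_injective_and_card]
    exact ⟨hinj, AddChar.card_eq.symm⟩
  obtain ⟨β, hβ⟩ := hbij.2 Φ
  refine ⟨β, fun x => ?_⟩
  have := DFunLike.congr_fun hβ x
  rw [AddChar.mulShift_apply] at this
  exact this.symm

end dual

section inv

variable {F : Type*} [Field F] [Finite F] (σ : F →+* F) (hσ2 : ∀ x, σ (σ x) = x)
  (hσ : σ ≠ RingHom.id F)

include hσ2 hσ in
/-- solving the norm-trace equation -/
theorem exists_norm_trace (α β : F) (hα : σ α = α) :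
    ∃ c : F, c * σ c - (β * c + σ (β * c)) + α = 0 := by
  set γ := β * σ β - α with hγ
  have hγf : σ γ = γ := by
    rw [hγ, map_sub, map_mul, hσ2, hα]
    ring
  by_cases h0 : γ = 0
  · refine ⟨σ β, ?_⟩
    rw [hσ2, map_mul, hσ2]
    have : β * σ β - α = 0 := by rw [← hγ, h0]
    linear_combination -this
  · obtain ⟨d, hd⟩ := exists_norm σ hσ hσ2 γ h0 hγf
    refine ⟨d + σ β, ?_⟩
    rw [map_add, hσ2, map_mul, map_add, hσ2]
    have : d * σ d = β * σ β - α := by rw [hd]
    linear_combination this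

include hσ2 hσ in
theorem exists_dl_ne : ∃ u : F, dl σ u ≠ 0 := by
  by_contra h
  push Not at h
  apply hσ
  ext x
  have := h x
  unfold dl at this
  simp only [RingHom.id_apply]
  linear_combination -this

include hσ2 hσ in
/-- `dl` is onto the elements of trace zero -/
theorem exists_dl (w : F) (hw : w + σ w = 0) : ∃ x : F, dl σ x = w := by
  obtain ⟨u, hu⟩ := exists_dl_ne σ hσ2 hσ
  have hu' : σ (dl σ u) = -dl σ u := dl_conj σ hσ2 u
  have hw' : σ w = -w := by linear_combination hw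
  have hs : σ (w / dl σ u) = w / dl σ u := by
    rw [map_div₀, hu', hw']
    field_simp
  refine ⟨w / dl σ u * u, ?_⟩
  rw [dl_mul_fixed σ hs]
  field_simp

include hσ2 in
/-- a character that is trivial on the fixed field is inverted by `σ` -/
theorem char_conj (ψ : F → ℂ) (hψ : ∀ x y, ψ (x + y) = ψ x * ψ y)
    (hfix : ∀ r, σ r = r → ψ r = 1) (v : F) : ψ (σ v) * ψ v = 1 := by
  rw [← hψ]
  apply hfix
  rw [map_add, hσ2]
  ring

include hσ2 in
/-- the annihilator of the fixed field for a character trivial on the fixed field -/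
theorem fixed_of_char (ψ : F → ℂ) (hψ : ∀ x y, ψ (x + y) = ψ x * ψ y) (hψ0 : ψ 0 = 1)
    (hfix : ∀ r, σ r = r → ψ r = 1) {x₀ : F} (hx₀ : ψ x₀ ≠ 1) (α : F)
    (hα : ∀ r, σ r = r → ψ (α * r) = 1) : σ α = α := by
  by_contra hne
  apply hx₀
  have hd : α - σ α ≠ 0 := fun h => hne (by linear_combination -h)
  obtain ⟨y, hy⟩ : ∃ y : F, y = (x₀ - σ x₀) / (α - σ α) := ⟨_, rfl⟩
  have hy2 : (α - σ α) * y = x₀ - σ x₀ := by
    rw [hy]
    field_simp
  have hyf : σ y = y := by
    have h1 : σ ((α - σ α) * y) = σ (x₀ - σ x₀) := by rw [hy2]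
    rw [map_mul, map_sub, map_sub, hσ2, hσ2] at h1
    have h2 : (α - σ α) * (σ y - y) = 0 := by linear_combination -h1 - hy2
    rcases mul_eq_zero.mp h2 with h | h
    · exact absurd h hd
    · linear_combination h
  obtain ⟨x, hx⟩ : ∃ x : F, x = x₀ - α * y := ⟨_, rfl⟩
  have hxf : σ x = x := by
    rw [hx, map_sub, map_mul, hyf]
    linear_combination hy2
  have : x₀ = x + α * y := by rw [hx]; ring
  rw [this, hψ, hfix x hxf, hα y hyf, one_mul]

end inv

end Cfsg.Agent.Lib.Helper14.SULS
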