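import Mathlib
import Cfsg.Agent.Lib.Helper14.SULS1
import Cfsg.Agent.Lib.Helper14.SULS4

/-!
# Root elements, the families of commuting elements and their normalisers (helper14)
-/

set_option autoImplicit false
set_option linter.unusedSectionVars false
set_option linter.unusedVariables false

namespace Cfsg.Agent.Lib.Helper14.SULS

open Matrix Module Cfsg.Agent.Lib.Helper14.SUBN Cfsg.Agent.Lib.Helper14.Wt

variable {G : Type*} [Group G] {n : ℕ} {F : Type*} [Field F] {σ : F →+* F}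
  (Mo : UModel G n F σ) (hσ2 : ∀ x, σ (σ x) = x)

/-- root elements -/
noncomputable def Z (i : Fin n) (x : F) : G := H Mo i 0 (dl σ x)

theorem up_ne_rev {i k : Fin n} (hi : i < i.rev) (hk : k < k.rev) : i ≠ k.rev := by
  intro h
  rw [h, Fin.rev_rev] at hi
  exact lt_asymm hi hk

theorem up_of_lt {i k : Fin n} (hk : k < k.rev) (h : i < k) : i < i.rev :=
  lt_trans h (lt_trans hk (Fin.rev_lt_rev.mpr h))

include hσ2 in
theorem good0 (x : F) : dl σ x + σ (dl σ x) + hJ σ (0 : Fin n → F) 0 = 0 := by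
  rw [hJ_zero_l, add_zero, dl_tr σ hσ2]

include hσ2 in
theorem Z_add {i : Fin n} (hi : i ≠ i.rev) (x y : F) :
    Z Mo i (x + y) = Z Mo i x * Z Mo i y := by
  unfold Z
  rw [H_mul Mo hσ2 hi (Pi.zero_apply i) (Pi.zero_apply i) (good0 hσ2 x) (good0 hσ2 y), add_zero,
    hJ_zero_l, sub_zero, dl_add]

theorem Z_zero (i : Fin n) : Z Mo i 0 = 1 := by
  unfold Z
  rw [dl_zero, H_zero]

theorem Z_fixed (i : Fin n) {r : F} (hr : σ r = r) : Z Mo i r = 1 := by
  unfold Z
  rw [dl_fixed σ hr, H_zero]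

theorem Z_eq_of_dl (i : Fin n) {x y : F} (h : dl σ x = dl σ y) : Z Mo i x = Z Mo i y := by
  unfold Z
  rw [h]

include hσ2 in
theorem Z_comm_H {i k : Fin n} (hi : i < i.rev) (hk : k < k.rev) {a : Fin n → F}
    (ha : a k = 0) {z : F} (hz : z + σ z + hJ σ a a = 0) (hai : a i = 0) (x : F) :
    Z Mo i x * H Mo k a z = H Mo k a z * Z Mo i x :=
  (H_comm_Z Mo hσ2 (ne_of_lt hk) (ne_of_lt hi) (up_ne_rev hi hk) ha hz hai (dl_tr σ hσ2 x)).symm

include hσ2 in
theorem Zk_comm_H {k : Fin n} (hk : k ≠ k.rev) {a : Fin n → F}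
    (ha : a k = 0) {z : F} (hz : z + σ z + hJ σ a a = 0) (x : F) :
    Z Mo k x * H Mo k a z = H Mo k a z * Z Mo k x := by
  unfold Z
  rw [H_mul Mo hσ2 hk (Pi.zero_apply k) ha (good0 hσ2 x) hz,
    H_mul Mo hσ2 hk ha (Pi.zero_apply k) hz (good0 hσ2 x), hJ_zero_l, hJ_zero_r, zero_add,
    add_zero, add_comm z]

include hσ2 in
theorem Z_comm_Z {i j : Fin n} (hi : i < i.rev) (hj : j < j.rev) (x y : F) :
    Z Mo i x * Z Mo j y = Z Mo j y * Z Mo i x := by
  by_cases h : i = j
  · subst h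
    rw [← Z_add Mo hσ2 (ne_of_lt hi), ← Z_add Mo hσ2 (ne_of_lt hi), add_comm]
  · exact Z_comm_H Mo hσ2 hi hj (Pi.zero_apply j) (good0 hσ2 y) (Pi.zero_apply i) x

/-- the root elements below level `l` -/
noncomputable def zfN (l : ℕ) (p : Fin n × F) : G := if p.1.val < l then Z Mo p.1 p.2 else 1

theorem zfN_comm (l : ℕ) (g : G)
    (hg : ∀ i : Fin n, i.val < l → ∀ x, Z Mo i x * g = g * Z Mo i x) (p : Fin n × F) :
    zfN Mo l p * g = g * zfN Mo l p := by
  unfold zfN
  split_ifs with h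
  · exact hg _ h _
  · rw [one_mul, mul_one]

include hσ2 in
theorem zfN_self_comm (l : ℕ) (hl : ∀ i : Fin n, i.val < l → i < i.rev) (p p' : Fin n × F) :
    zfN Mo l p * zfN Mo l p' = zfN Mo l p' * zfN Mo l p := by
  apply zfN_comm
  intro i hi x
  exact (zfN_comm Mo l (Z Mo i x)
    (fun j hj y => Z_comm_Z Mo hσ2 (hl j hj) (hl i hi) y x) p').symm

/-- commutation for sum families -/
theorem comm_elim {ι ι' : Type*} {a : ι → G} {a' : ι' → G}
    (ha : ∀ i j, a i * a j = a j * a i) (ha' : ∀ i j, a' i * a' j = a' j * a' i)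
    (hx : ∀ i j, a i * a' j = a' j * a i) (i j : ι ⊕ ι') :
    Sum.elim a a' i * Sum.elim a a' j = Sum.elim a a' j * Sum.elim a a' i := by
  rcases i with i | i <;> rcases j with j | j
  · exact ha i j
  · exact hx i j
  · exact (hx j i).symm
  · exact ha' i j

theorem comm_elim_right {ι ι' κ : Type*} {a : ι → G} {a' : ι' → G} {b : κ → G}
    (h1 : ∀ i j, a i * b j = b j * a i) (h2 : ∀ i j, a' i * b j = b j * a' i)
    (i : ι ⊕ ι') (j : κ) : Sum.elim a a' i * b j = b j * Sum.elim a a' i := by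
  rcases i with i | i
  · exact h1 i j
  · exact h2 i j

/-- the data of a level: `h` coordinates in the first half of the middle range -/
structure Lev (n : ℕ) (k : Fin n) (h : ℕ) where
  /-- the coordinates -/
  c : Fin h → Fin n
  c_inj : Function.Injective c
  c_gt : ∀ i, k < c i
  c_lt : ∀ i, c i < k.rev
  c_rev : ∀ i i', c i ≠ (c i').rev

namespace Lev

variable {k : Fin n} {h : ℕ} (L : Lev n k h)

/-- vectors supported on the first half -/
noncomputable def emb (a : Fin h → F) : Fin n → F := Function.extend L.c a 0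

/-- vectors supported on the second half -/
noncomputable def emb' (b : Fin h → F) : Fin n → F := Function.extend (Fin.rev ∘ L.c) b 0

theorem rc_inj : Function.Injective (Fin.rev ∘ L.c) := Fin.rev_injective.comp L.c_inj

theorem emb_c (a : Fin h → F) (i : Fin h) : L.emb a (L.c i) = a i :=
  L.c_inj.extend_apply a 0 i

theorem emb_of_not (a : Fin h → F) {j : Fin n} (hj : ∀ i, L.c i ≠ j) : L.emb a j = 0 := by
  unfold emb
  rw [Function.extend_apply']
  · rfl
  · rintro ⟨i, hi⟩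
    exact hj i hi

theorem emb'_c (b : Fin h → F) (i : Fin h) : L.emb' b (L.c i).rev = b i :=
  L.rc_inj.extend_apply b 0 i

theorem emb'_of_not (b : Fin h → F) {j : Fin n} (hj : ∀ i, (L.c i).rev ≠ j) : L.emb' b j = 0 := by
  unfold emb'
  rw [Function.extend_apply']
  · rfl
  · rintro ⟨i, hi⟩
    exact hj i hi

theorem emb_zero : L.emb (0 : Fin h → F) = 0 := by
  funext j
  by_cases hj : ∃ i, L.c i = j
  · obtain ⟨i, rfl⟩ := hj
    rw [emb_c]
    rfl
  · push Not at hj
    rw [emb_of_not L _ hj]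
    rfl

theorem emb_add (a a' : Fin h → F) : L.emb (a + a') = L.emb a + L.emb a' := by
  funext j
  by_cases hj : ∃ i, L.c i = j
  · obtain ⟨i, rfl⟩ := hj
    rw [Pi.add_apply, emb_c, emb_c, emb_c, Pi.add_apply]
  · push Not at hj
    rw [Pi.add_apply, emb_of_not L _ hj, emb_of_not L _ hj, emb_of_not L _ hj, add_zero]

theorem emb_low (a : Fin h → F) {j : Fin n} (hj : j ≤ k) : L.emb a j = 0 :=
  L.emb_of_not a (fun i hi => absurd (hi ▸ L.c_gt i) (not_lt.mpr hj))

theorem emb'_low (b : Fin h → F) {j : Fin n} (hj : j ≤ k) : L.emb' b j = 0 := by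
  apply L.emb'_of_not b
  intro i hi
  have h1 : k < (L.c i).rev := by
    have := Fin.rev_lt_rev.mpr (L.c_lt i)
    rwa [Fin.rev_rev] at this
  rw [hi] at h1
  exact absurd h1 (not_lt.mpr hj)

theorem hJ_emb_emb (a a' : Fin h → F) : hJ σ (L.emb a) (L.emb a') = 0 := by
  unfold hJ
  apply Finset.sum_eq_zero
  intro j _
  by_cases hj : ∃ i, L.c i = j
  · obtain ⟨i, rfl⟩ := hj
    rw [emb_of_not L a' (fun i' hi' => L.c_rev i' i hi'), map_zero, mul_zero]
  · push Not at hj
    rw [emb_of_not L _ hj, zero_mul]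

theorem hJ_emb'_emb' (b b' : Fin h → F) : hJ σ (L.emb' b) (L.emb' b') = 0 := by
  unfold hJ
  apply Finset.sum_eq_zero
  intro j _
  by_cases hj : ∃ i, (L.c i).rev = j
  · obtain ⟨i, rfl⟩ := hj
    rw [Fin.rev_rev, emb'_of_not L b' (fun i' hi' => L.c_rev i i' hi'.symm), map_zero, mul_zero]
  · push Not at hj
    rw [emb'_of_not L _ hj, zero_mul]

theorem hJ_emb_emb' (a b : Fin h → F) : hJ σ (L.emb a) (L.emb' b) = ∑ i, a i * σ (b i) := by
  unfold hJ
  symm
  apply Finset.sum_of_injOn L.c L.c_inj.injOn (fun _ _ => Finset.mem_coe.mpr (Finset.mem_univ _))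
  · intro j _ hj
    rw [emb_of_not L a (fun i hi => hj ⟨i, Finset.mem_coe.mpr (Finset.mem_univ _), hi⟩), zero_mul]
  · intro i _
    rw [emb_c, emb'_c]

theorem hJ_emb'_emb (b a : Fin h → F) : hJ σ (L.emb' b) (L.emb a) = ∑ i, b i * σ (a i) := by
  unfold hJ
  symm
  apply Finset.sum_of_injOn (Fin.rev ∘ L.c) L.rc_inj.injOn
    (fun _ _ => Finset.mem_coe.mpr (Finset.mem_univ _))
  · intro j _ hj
    rw [emb'_of_not L b (fun i hi => hj ⟨i, Finset.mem_coe.mpr (Finset.mem_univ _), hi⟩),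
      zero_mul]
  · intro i _
    rw [Function.comp_apply, emb'_c, Fin.rev_rev, emb_c]

end Lev

end Cfsg.Agent.Lib.Helper14.SULS
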