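import Mathlib
import Cfsg.Agent.Lib.Helper14.SULS5

/-!
# The Heisenberg part: weights of the first half root groups (helper14)
-/

set_option autoImplicit false
set_option linter.unusedSectionVars false
set_option linter.unusedVariables false

namespace Cfsg.Agent.Lib.Helper14.SULS

open Matrix Module Cfsg.Agent.Lib.Helper14.SUBN Cfsg.Agent.Lib.Helper14.Wt

variable {G : Type*} [Group G] {n : ℕ} {F : Type*} [Field F] {σ : F →+* F}
  (Mo : UModel G n F σ) (hσ2 : ∀ x, σ (σ x) = x) {k : Fin n} (hk : k < k.rev) {h : ℕ}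
  (L : Lev n k h)

/-- the first half family -/
noncomputable def hf (p : (Fin h → F) × F) : G := H Mo k (L.emb p.1) (dl σ p.2)

/-- the second half elements -/
noncomputable def Yt (b : Fin h → F) : G := H Mo k (L.emb' b) 0

include hσ2 in
theorem good_hf (a : Fin h → F) (x : F) :
    dl σ x + σ (dl σ x) + hJ σ (L.emb a) (L.emb a) = 0 := by
  rw [L.hJ_emb_emb, add_zero, dl_tr σ hσ2]

theorem good_Y (b : Fin h → F) : (0 : F) + σ 0 + hJ σ (L.emb' b) (L.emb' b) = 0 := by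
  rw [L.hJ_emb'_emb', map_zero]
  ring

include hσ2 hk in
theorem hf_add (p p' : (Fin h → F) × F) : hf Mo L (p + p') = hf Mo L p * hf Mo L p' := by
  unfold hf
  rw [H_mul Mo hσ2 (ne_of_lt hk) (L.emb_low _ le_rfl) (L.emb_low _ le_rfl) (good_hf hσ2 L _ _)
    (good_hf hσ2 L _ _), L.hJ_emb_emb, sub_zero, Prod.fst_add, Prod.snd_add, L.emb_add, dl_add]

theorem hf_zero_x (x : F) : hf Mo L (0, x) = Z Mo k x := by
  unfold hf Z
  rw [L.emb_zero]

include hσ2 hk in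
theorem hf_comm (p p' : (Fin h → F) × F) : hf Mo L p * hf Mo L p' = hf Mo L p' * hf Mo L p := by
  rw [← hf_add Mo hσ2 hk, ← hf_add Mo hσ2 hk, add_comm]

include hσ2 hk in
theorem Zlow_comm_hf {i : Fin n} (hi : i < k) (x : F) (p : (Fin h → F) × F) :
    Z Mo i x * hf Mo L p = hf Mo L p * Z Mo i x :=
  Z_comm_H Mo hσ2 (up_of_lt hk hi) hk (L.emb_low _ le_rfl) (good_hf hσ2 L _ _)
    (L.emb_low _ hi.le) x

include hσ2 hk in
theorem Zk_comm_hf (x : F) (p : (Fin h → F) × F) :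
    Z Mo k x * hf Mo L p = hf Mo L p * Z Mo k x :=
  Zk_comm_H Mo hσ2 (ne_of_lt hk) (L.emb_low _ le_rfl) (good_hf hσ2 L _ _) x

include hσ2 hk in
theorem Zlow_comm_Yt {i : Fin n} (hi : i < k) (x : F) (b : Fin h → F) :
    Z Mo i x * Yt Mo L b = Yt Mo L b * Z Mo i x :=
  Z_comm_H Mo hσ2 (up_of_lt hk hi) hk (L.emb'_low _ le_rfl) (good_Y L _)
    (L.emb'_low _ hi.le) x

include hσ2 hk in
theorem Zk_comm_Yt (x : F) (b : Fin h → F) :
    Z Mo k x * Yt Mo L b = Yt Mo L b * Z Mo k x :=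
  Zk_comm_H Mo hσ2 (ne_of_lt hk) (L.emb'_low _ le_rfl) (good_Y L _) x

include hσ2 hk in
theorem hf_Yt (p : (Fin h → F) × F) (b : Fin h → F) :
    hf Mo L p * Yt Mo L b = Yt Mo L b * hf Mo L (p.1, p.2 + ∑ i, b i * σ (p.1 i)) := by
  unfold hf Yt
  rw [H_mul Mo hσ2 (ne_of_lt hk) (L.emb_low _ le_rfl) (L.emb'_low _ le_rfl) (good_hf hσ2 L _ _)
    (good_Y L _),
    H_mul Mo hσ2 (ne_of_lt hk) (L.emb'_low _ le_rfl) (L.emb_low _ le_rfl) (good_Y L _)
    (good_hf hσ2 L _ _), L.hJ_emb_emb', L.hJ_emb'_emb, add_comm (L.emb' b)]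
  congr 1
  rw [dl_add]
  unfold dl
  rw [map_sum]
  simp only [map_mul, hσ2]
  have : ∑ i, p.1 i * σ (b i) = ∑ i, σ (b i) * p.1 i :=
    Finset.sum_congr rfl (fun i _ => mul_comm _ _)
  rw [this]
  ring

/-- the root groups up to level `k` -/
noncomputable def zk : (Fin n × F) ⊕ F → G := Sum.elim (zfN Mo k.val) (Z Mo k)

/-- ... together with the first half family -/
noncomputable def dk : ((Fin n × F) ⊕ F) ⊕ ((Fin h → F) × F) → G := Sum.elim (zk Mo (k := k)) (hf Mo L)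

include hσ2 hk in
theorem low_up {i : Fin n} (hi : i.val < k.val) : i < i.rev := up_of_lt hk (Fin.lt_def.mpr hi)

include hσ2 hk in
theorem zk_comm (i j : (Fin n × F) ⊕ F) :
    zk Mo (k := k) i * zk Mo (k := k) j = zk Mo (k := k) j * zk Mo (k := k) i := by
  unfold zk
  apply comm_elim
  · exact zfN_self_comm Mo hσ2 _ (fun i hi => low_up hσ2 hk hi)
  · exact fun x y => Z_comm_Z Mo hσ2 hk hk x y
  · intro p x
    exact zfN_comm Mo _ _ (fun i hi y => Z_comm_Z Mo hσ2 (low_up hσ2 hk hi) hk y x) p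

include hσ2 hk in
theorem dk_comm (i j : ((Fin n × F) ⊕ F) ⊕ ((Fin h → F) × F)) :
    dk Mo L i * dk Mo L j = dk Mo L j * dk Mo L i := by
  unfold dk
  apply comm_elim
  · exact zk_comm Mo hσ2 hk
  · exact hf_comm Mo hσ2 hk L
  · unfold zk
    apply comm_elim_right
    · intro p q
      exact zfN_comm Mo _ _
        (fun i hi y => Zlow_comm_hf Mo hσ2 hk L (Fin.lt_def.mpr hi) y q) p
    · exact fun x q => Zk_comm_hf Mo hσ2 hk L x q

variable [Fintype F] [Finite G] {V : Type*} [AddCommGroup V] [Module ℂ V] [FiniteDimensional ℂ V]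
  (ρ : G →* (V →ₗ[ℂ] V))

include hσ2 hk in
/-- the first half of the Heisenberg group multiplies the dimension of a weight space of the
root groups by `|F| ^ h` -/
theorem stage1 (lam : F → ℂ) {x₀ : F} (hx₀ : lam x₀ ≠ 1) (d : ℕ)
    (hd : ∀ χ₁ : (Fin h → F) × F → ℂ,
      E ρ (dk Mo L) (Sum.elim (Sum.elim 1 lam) χ₁) ≠ ⊥ →
        d ≤ finrank ℂ (E ρ (dk Mo L) (Sum.elim (Sum.elim 1 lam) χ₁)))
    (hne : E ρ (zk Mo (k := k)) (Sum.elim 1 lam) ≠ ⊥) :
    Fintype.card (Fin h → F) * d ≤ finrank ℂ (E ρ (zk Mo (k := k)) (Sum.elim 1 lam)) := by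
  classical
  obtain ⟨χ₁, hχ₁⟩ := exists_ext ρ (zk Mo (k := k)) (hf Mo L) (dk_comm Mo hσ2 hk L) hne
  change E ρ (dk Mo L) (Sum.elim (Sum.elim 1 lam) χ₁) ≠ ⊥ at hχ₁
  let τ : (Fin h → F) → (Fin h → F) × F → (Fin h → F) × F :=
    fun b p => (p.1, p.2 + ∑ i, b i * σ (p.1 i))
  let wt : (Fin h → F) → (((Fin n × F) ⊕ F) ⊕ ((Fin h → F) × F) → ℂ) :=
    fun b => Sum.elim (Sum.elim 1 lam) (χ₁ ∘ τ b)
  have hwt_ne : ∀ b, E ρ (dk Mo L) (wt b) ≠ ⊥ := by
    intro b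
    have h1 := E_comp_ne_bot ρ (dk Mo L) (Yt Mo L b) (Sum.map id (τ b)) ?_ hχ₁
    · rw [Sum.elim_comp_map] at h1
      exact h1
    · rintro ((p | x) | p)
      · exact zfN_comm Mo _ _
          (fun i hi y => Zlow_comm_Yt Mo hσ2 hk L (Fin.lt_def.mpr hi) y b) p
      · exact Zk_comm_Yt Mo hσ2 hk L x b
      · exact hf_Yt Mo hσ2 hk L p b
  have hlam_add : ∀ u s, lam (u + s) = lam u * lam s := by
    intro u s
    have h1 : dk Mo L (Sum.inl (Sum.inr (u + s))) =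
        dk Mo L (Sum.inl (Sum.inr u)) * dk Mo L (Sum.inl (Sum.inr s)) :=
      Z_add Mo hσ2 (ne_of_lt hk) u s
    exact chi_pt_mul ρ (dk Mo L) hχ₁ h1
  have hlam_nz : ∀ u, lam u ≠ 0 := fun u => chi_pt_ne_zero ρ (dk Mo L) hχ₁ (Sum.inl (Sum.inr u))
  have hmul : ∀ a x s, χ₁ (a, x + s) = χ₁ (a, x) * lam s := by
    intro a x s
    have h1 : dk Mo L (Sum.inr (a, x + s)) =
        dk Mo L (Sum.inr (a, x)) * dk Mo L (Sum.inl (Sum.inr s)) := by
      change hf Mo L (a, x + s) = hf Mo L (a, x) * Z Mo k s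
      rw [← hf_zero_x Mo L, ← hf_add Mo hσ2 hk]
      congr 1
      simp
    exact chi_pt_mul ρ (dk Mo L) hχ₁ h1
  have hnz : ∀ p, χ₁ p ≠ 0 := fun p => chi_pt_ne_zero ρ (dk Mo L) hχ₁ (Sum.inr p)
  have hinj : Function.Injective wt := by
    intro b b' hbb
    by_contra hne'
    obtain ⟨i, hi⟩ : ∃ i, b i ≠ b' i := by
      by_contra hh
      push Not at hh
      exact hne' (funext hh)
    have hd0 : b i - b' i ≠ 0 := sub_ne_zero.mpr hi
    have h2 : χ₁ ∘ τ b = χ₁ ∘ τ b' := by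
      have := congrArg (fun f => f ∘ Sum.inr) hbb
      simpa [wt] using this
    obtain ⟨a, ha⟩ : ∃ a : Fin h → F, a = Pi.single i (σ (x₀ / (b i - b' i))) := ⟨_, rfl⟩
    have h3 := congrFun h2 (a, 0)
    simp only [Function.comp, τ] at h3
    rw [hmul, hmul] at h3
    have hs : ∀ b'' : Fin h → F, ∑ j, b'' j * σ (a j) = b'' i * (x₀ / (b i - b' i)) := by
      intro b''
      rw [Finset.sum_eq_single i]
      · rw [ha, Pi.single_eq_same, hσ2]
      · intro j _ hj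
        rw [ha, Pi.single_eq_of_ne hj, map_zero, mul_zero]
      · intro h
        exact absurd (Finset.mem_univ _) h
    rw [hs, hs] at h3
    have h4 := mul_left_cancel₀ (hnz _) h3
    have h5 : b i * (x₀ / (b i - b' i)) = b' i * (x₀ / (b i - b' i)) + x₀ := by
      field_simp
      ring
    rw [h5, hlam_add] at h4
    apply hx₀
    have h6 : lam (b' i * (x₀ / (b i - b' i))) * lam x₀ =
        lam (b' i * (x₀ / (b i - b' i))) * 1 := by rw [h4, mul_one]
    exact mul_left_cancel₀ (hlam_nz _) h6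
  have hcard := card_mul_le ρ (dk Mo L) (dk_comm Mo hσ2 hk L) (Finset.univ.image wt)
    (E ρ (zk Mo (k := k)) (Sum.elim 1 lam)) d ?_
  · rwa [Finset.card_image_of_injective _ hinj, Finset.card_univ] at hcard
  · intro χ hχ
    obtain ⟨b, _, rfl⟩ := Finset.mem_image.mp hχ
    refine ⟨?_, hd _ (hwt_ne b)⟩
    change E ρ (Sum.elim (zk Mo (k := k)) (hf Mo L)) (Sum.elim (Sum.elim 1 lam) (χ₁ ∘ τ b)) ≤ _
    rw [E_sum]
    exact inf_le_left

end Cfsg.Agent.Lib.Helper14.SULS
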