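import Mathlib
import Cfsg.Agent.Lib.Helper14.SULS6

/-!
# The torus step: all non-trivial characters of a root group occur (helper14)
-/

set_option autoImplicit false
set_option linter.unusedSectionVars false
set_option linter.unusedVariables false

namespace Cfsg.Agent.Lib.Helper14.SULS

open Matrix Module Cfsg.Agent.Lib.Helper14.SUBN Cfsg.Agent.Lib.Helper14.Wt

variable {G : Type*} [Group G] {n : ℕ} {F : Type*} [Field F] {σ : F →+* F}
  (Mo : UModel G n F σ) (hσ2 : ∀ x, σ (σ x) = x) {k : Fin n} (hk : k < k.rev)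

include hσ2 in
theorem Z_tor (k j : Fin n) {t : F} (ht : t ≠ 0) {i : Fin n} (hi : i ≠ i.rev) (x : F) :
    Z Mo i x * T Mo k j t =
      T Mo k j t * Z Mo i (x * (tor σ k j t i.rev / tor σ k j t i)) := by
  unfold Z
  rw [H_tor Mo hσ2 k j ht hi (dl_tr σ hσ2 x), mul_comm x,
    dl_mul_fixed σ (tor_norm_fixed hσ2 k j ht i), mul_comm]

include hσ2 hk in
theorem tor_ratio {j : Fin n} (hjk : j ≠ k) (hjk' : j ≠ k.rev) {t : F} (ht : t ≠ 0) :
    tor σ k j t k.rev / tor σ k j t k = (t * σ t)⁻¹ := by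
  have h1 := tor_rel σ hσ2 k j ht k
  rw [tor_apply_self σ (ne_of_lt hk) hjk hjk'] at h1
  have h2 : tor σ k j t k.rev = (σ t)⁻¹ := by
    have h3 : σ (tor σ k j t k.rev) = t⁻¹ := by
      field_simp
      linear_combination h1
    have h4 := congrArg σ h3
    rw [hσ2, map_inv₀] at h4
    exact h4
  rw [h2, tor_apply_self σ (ne_of_lt hk) hjk hjk']
  have h0 : σ t ≠ 0 := (map_ne_zero σ).mpr ht
  field_simp

variable [Fintype F] [DecidableEq F] [Finite G] {V : Type*} [AddCommGroup V] [Module ℂ V]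
  [FiniteDimensional ℂ V] (ρ : G →* (V →ₗ[ℂ] V))

theorem E_zk_one :
    E ρ (zk Mo (k := k)) (Sum.elim 1 1) = E ρ (zfN Mo (k.val + 1)) 1 := by
  ext v
  rw [mem_E, mem_E]
  constructor
  · intro hv p
    by_cases hp : p.1.val < k.val + 1
    · by_cases hp' : p.1.val < k.val
      · have := hv (Sum.inl p)
        simp only [zk, Sum.elim_inl, zfN, if_pos hp'] at this
        simp only [zfN, if_pos hp]
        exact this
      · have hpk : p.1 = k := Fin.ext (by omega)
        have := hv (Sum.inr p.2)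
        simp only [zk, Sum.elim_inr, Pi.one_apply] at this
        simp only [zfN, if_pos hp, Pi.one_apply]
        rw [hpk]
        exact this
    · simp only [zfN, if_neg hp, map_one, Module.End.one_apply, Pi.one_apply, one_smul]
  · rintro hv (p | x)
    · simp only [zk, Sum.elim_inl]
      by_cases hp' : p.1.val < k.val
      · have := hv p
        simp only [zfN, if_pos (show p.1.val < k.val + 1 by omega)] at this
        simp only [zfN, if_pos hp']
        exact this
      · simp only [zfN, if_neg hp', map_one, Module.End.one_apply, Pi.one_apply, one_smul]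
    · have := hv (k, x)
      simp only [zfN, if_pos (show k.val < k.val + 1 by omega)] at this
      simp only [zk, Sum.elim_inr]
      exact this

include hσ2 hk in
/-- the step from one level to the next -/
theorem level_step {q : ℕ} (hF : Fintype.card F = q ^ 2)
    (hnorm : ∀ c : F, (Finset.univ.filter (fun t : F => t * σ t = c)).card ≤ q + 1)
    {j : Fin n} (hjk : j ≠ k) (hjk' : j ≠ k.rev) (D : ℕ)
    (hA1 : ∀ lam : F → ℂ, E ρ (zk Mo (k := k)) (Sum.elim 1 lam) ≠ ⊥ → (∃ x₀, lam x₀ ≠ 1) →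
      D ≤ finrank ℂ (E ρ (zk Mo (k := k)) (Sum.elim 1 lam)))
    (hne : ∃ v ∈ E ρ (zfN Mo k.val) 1, ∃ x, ρ (Z Mo k x) v ≠ v) :
    finrank ℂ (E ρ (zfN Mo (k.val + 1)) 1) + (q - 1) * D ≤ finrank ℂ (E ρ (zfN Mo k.val) 1) := by
  classical
  obtain ⟨v, hv, x₁, hx₁⟩ := hne
  obtain ⟨lam, hlam, hlam1⟩ := exists_ext_ne ρ (zfN Mo k.val) (Z Mo k)
    (zk_comm Mo hσ2 hk) x₁ hv hx₁
  change E ρ (zk Mo (k := k)) (Sum.elim 1 lam) ≠ ⊥ at hlam
  have hlam_add : ∀ u s, lam (u + s) = lam u * lam s := by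
    intro u s
    have h1 : zk Mo (k := k) (Sum.inr (u + s)) =
        zk Mo (k := k) (Sum.inr u) * zk Mo (k := k) (Sum.inr s) :=
      Z_add Mo hσ2 (ne_of_lt hk) u s
    exact chi_pt_mul ρ (zk Mo (k := k)) hlam h1
  have hlam_nz : ∀ u, lam u ≠ 0 := fun u => chi_pt_ne_zero ρ (zk Mo (k := k)) hlam (Sum.inr u)
  let cc : Fˣ → F := fun t => tor σ k j (t : F) k.rev / tor σ k j (t : F) k
  have hcc : ∀ t : Fˣ, cc t = ((t : F) * σ t)⁻¹ := fun t => tor_ratio hσ2 hk hjk hjk' t.ne_zero
  have hcc0 : ∀ t : Fˣ, cc t ≠ 0 := by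
    intro t
    rw [hcc]
    exact inv_ne_zero (mul_ne_zero t.ne_zero ((map_ne_zero σ).mpr t.ne_zero))
  let wt : Fˣ → ((Fin n × F) ⊕ F → ℂ) := fun t => Sum.elim 1 (fun x => lam (x * cc t))
  have hwt_ne : ∀ t, E ρ (zk Mo (k := k)) (wt t) ≠ ⊥ := by
    intro t
    have h1 := E_comp_ne_bot ρ (zk Mo (k := k)) (T Mo k j (t : F))
      (Sum.map (fun p : Fin n × F =>
        (p.1, p.2 * (tor σ k j (t : F) p.1.rev / tor σ k j (t : F) p.1)))
        (fun x => x * cc t)) ?_ hlam
    · rw [Sum.elim_comp_map] at h1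
      exact h1
    · rintro (p | x)
      · simp only [zk, Sum.elim_inl, Sum.map_inl, zfN]
        split_ifs with hp
        · exact Z_tor Mo hσ2 k j t.ne_zero (ne_of_lt (low_up hσ2 hk hp)) p.2
        · rw [one_mul, mul_one]
      · simp only [zk, Sum.elim_inr, Sum.map_inr]
        exact Z_tor Mo hσ2 k j t.ne_zero (ne_of_lt hk) x
  have hwt_nt : ∀ t : Fˣ, (fun x => lam (x * cc t)) (x₁ / cc t) ≠ 1 := by
    intro t
    simp only
    rw [div_mul_cancel₀ _ (hcc0 t)]
    exact hlam1
  have hfiber : ∀ t t' : Fˣ, wt t = wt t' → (t' : F) * σ t' = (t : F) * σ t := by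
    intro t t' htt
    have h2 : ∀ x, lam (x * cc t) = lam (x * cc t') := by
      intro x
      have := congrFun htt (Sum.inr x)
      simpa [wt] using this
    have h3 : cc t = cc t' := by
      by_contra hne'
      have hd : cc t - cc t' ≠ 0 := sub_ne_zero.mpr hne'
      have h4 := h2 (x₁ / (cc t - cc t'))
      have h5 : x₁ / (cc t - cc t') * cc t = x₁ / (cc t - cc t') * cc t' + x₁ := by
        field_simp
        ring
      rw [h5, hlam_add] at h4
      apply hlam1
      have h6 : lam (x₁ / (cc t - cc t') * cc t') * lam x₁ =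
          lam (x₁ / (cc t - cc t') * cc t') * 1 := by rw [h4, mul_one]
      exact mul_left_cancel₀ (hlam_nz _) h6
    rw [hcc, hcc] at h3
    exact (inv_injective h3).symm
  have hq : 0 < q := by
    rcases Nat.eq_zero_or_pos q with h0 | h0
    · rw [h0] at hF
      have : 0 < Fintype.card F := Fintype.card_pos
      omega
    · exact h0
  have hScard : q - 1 ≤ (Finset.univ.image wt).card := by
    have h1 := Finset.card_le_mul_card_image (f := wt) Finset.univ (q + 1) ?_
    · rw [Finset.card_univ, Fintype.card_units, hF] at h1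
      have h2 : (q + 1) * (q - 1) = q ^ 2 - 1 := by
        obtain ⟨m, rfl⟩ : ∃ m, q = m + 1 := ⟨q - 1, by omega⟩
        simp only [Nat.add_sub_cancel]
        have : (m + 1) ^ 2 = (m + 1 + 1) * m + 1 := by ring
        rw [this, Nat.add_sub_cancel]
      rw [← h2] at h1
      exact Nat.le_of_mul_le_mul_left h1 (by omega)
    · intro w hw
      obtain ⟨t₀, _, rfl⟩ := Finset.mem_image.mp hw
      refine le_trans ?_ (hnorm ((t₀ : F) * σ t₀))
      apply Finset.card_le_card_of_injOn (fun u : Fˣ => (u : F))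
      · intro t' ht'
        have ht'2 := (Finset.mem_filter.mp (Finset.mem_coe.mp ht')).2
        rw [Finset.mem_coe, Finset.mem_filter]
        exact ⟨Finset.mem_univ _, hfiber t₀ t' ht'2.symm⟩
      · intro a _ b _ hab
        exact Units.ext hab
  have h0S : (Sum.elim 1 1 : (Fin n × F) ⊕ F → ℂ) ∉ Finset.univ.image wt := by
    intro hmem
    obtain ⟨t, _, ht⟩ := Finset.mem_image.mp hmem
    apply hwt_nt t
    have := congrFun ht (Sum.inr (x₁ / cc t))
    simpa [wt] using this
  have hmain := add_card_mul_le ρ (zk Mo (k := k)) (zk_comm Mo hσ2 hk) (Finset.univ.image wt)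
    (E ρ (zfN Mo k.val) 1) D (Sum.elim 1 1) h0S ?_ ?_
  · rw [E_zk_one] at hmain
    have h3 : (q - 1) * D ≤ (Finset.univ.image wt).card * D := Nat.mul_le_mul_right _ hScard
    omega
  · change E ρ (Sum.elim (zfN Mo k.val) (Z Mo k)) (Sum.elim 1 1) ≤ _
    rw [E_sum]
    exact inf_le_left
  · intro χ hχ
    obtain ⟨t, _, rfl⟩ := Finset.mem_image.mp hχ
    constructor
    · change E ρ (Sum.elim (zfN Mo k.val) (Z Mo k)) (Sum.elim 1 _) ≤ _
      rw [E_sum]
      exact inf_le_left
    · exact hA1 _ (hwt_ne t) ⟨_, hwt_nt t⟩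

end Cfsg.Agent.Lib.Helper14.SULS
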