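import Mathlib
import Cfsg.Agent.Lib.Helper14.SULS8

/-!
# Passing to the next level: the next root group acts non-trivially on the fixed points (helper14)
-/

set_option autoImplicit false
set_option linter.unusedSectionVars false
set_option linter.unusedVariables false

namespace Cfsg.Agent.Lib.Helper14.SULS

open Matrix Module Cfsg.Agent.Lib.Helper14.SUBN Cfsg.Agent.Lib.Helper14.Wt
  Cfsg.Agent.Lib.Helper6

variable {G : Type*} [Group G] {n : ℕ} {F : Type*} [Field F] {σ : F →+* F}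
  (Mo : UModel G n F σ) (hσ2 : ∀ x, σ (σ x) = x) (hσ : σ ≠ RingHom.id F)
  {k i : Fin n} (hk : k < k.rev) (hi : i < i.rev) (hki : k < i)

include hk hi hki in
theorem ne_facts : i ≠ k ∧ i ≠ k.rev ∧ i.rev ≠ k ∧ i.rev ≠ k.rev ∧ i ≠ i.rev ∧ k ≠ k.rev := by
  refine ⟨ne_of_gt hki, up_ne_rev hi hk, ?_, ?_, ne_of_lt hi, ne_of_lt hk⟩
  · intro h
    rw [← h] at hki
    exact lt_asymm hki hi
  · intro h
    exact (ne_of_gt hki) (Fin.rev_injective h)

/-- the abelian group of the `2 × 2` block -/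
noncomputable def af (k i : Fin n) (p : F × F × F) : G :=
  H Mo k (Pi.single i.rev p.2.1) (dl σ p.1) * Z Mo i p.2.2

include hk hi hki in
theorem sr_k (b : F) : (Pi.single i.rev b : Fin n → F) k = 0 :=
  Pi.single_eq_of_ne (ne_facts hk hi hki).2.2.1.symm _

include hk hi hki in
theorem sr_i (b : F) : (Pi.single i.rev b : Fin n → F) i = 0 :=
  Pi.single_eq_of_ne (ne_facts hk hi hki).2.2.2.2.1 _

include hk hi hki in
theorem si_k (c : F) : (Pi.single i c : Fin n → F) k = 0 :=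
  Pi.single_eq_of_ne (ne_facts hk hi hki).1.symm _

include hk hi hki in
theorem hJ_sr_sr (b b' : F) :
    hJ σ (Pi.single i.rev b : Fin n → F) (Pi.single i.rev b') = 0 := by
  rw [hJ_single_l, Fin.rev_rev, sr_i hk hi hki, map_zero, mul_zero]

include hk hi hki in
theorem hJ_si_si (c c' : F) : hJ σ (Pi.single i c : Fin n → F) (Pi.single i c') = 0 := by
  rw [hJ_single_l, Pi.single_eq_of_ne (ne_facts hk hi hki).2.2.2.2.1.symm, map_zero, mul_zero]

theorem hJ_sr_si (b c : F) :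
    hJ σ (Pi.single i.rev b : Fin n → F) (Pi.single i c) = b * σ c := by
  rw [hJ_single_l, Fin.rev_rev, Pi.single_eq_same]

theorem hJ_si_sr (c b : F) :
    hJ σ (Pi.single i c : Fin n → F) (Pi.single i.rev b) = c * σ b := by
  rw [hJ_single_l, Pi.single_eq_same]

include hσ2 hk hi hki in
theorem good_sr (b x : F) :
    dl σ x + σ (dl σ x) + hJ σ (Pi.single i.rev b : Fin n → F) (Pi.single i.rev b) = 0 := by
  rw [hJ_sr_sr hk hi hki, add_zero, dl_tr σ hσ2]

include hk hi hki in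
theorem good_si (c : F) :
    (0 : F) + σ 0 + hJ σ (Pi.single i c : Fin n → F) (Pi.single i c) = 0 := by
  rw [hJ_si_si hk hi hki, map_zero]
  ring

include hσ2 hk hi hki in
theorem Zi_comm_sr (y b x : F) :
    Z Mo i y * H Mo k (Pi.single i.rev b) (dl σ x) =
      H Mo k (Pi.single i.rev b) (dl σ x) * Z Mo i y :=
  Z_comm_H Mo hσ2 hi hk (sr_k hk hi hki b) (good_sr hσ2 hk hi hki b x) (sr_i hk hi hki b) y

include hσ2 hk hi hki in
theorem af_add (p p' : F × F × F) : af Mo k i (p + p') = af Mo k i p * af Mo k i p' := by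
  unfold af
  have h1 : H Mo k (Pi.single i.rev (p + p').2.1) (dl σ (p + p').1) =
      H Mo k (Pi.single i.rev p.2.1) (dl σ p.1) * H Mo k (Pi.single i.rev p'.2.1) (dl σ p'.1) := by
    rw [H_mul Mo hσ2 (ne_of_lt hk) (sr_k hk hi hki _) (sr_k hk hi hki _)
      (good_sr hσ2 hk hi hki _ _) (good_sr hσ2 hk hi hki _ _), hJ_sr_sr hk hi hki, sub_zero,
      ← Pi.single_add, ← dl_add]
    rfl
  have h2 : Z Mo i (p + p').2.2 = Z Mo i p.2.2 * Z Mo i p'.2.2 := by
    rw [← Z_add Mo hσ2 (ne_of_lt hi)]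
    rfl
  rw [h1, h2]
  have h3 := Zi_comm_sr Mo hσ2 hk hi hki p.2.2 p'.2.1 p'.1
  calc H Mo k (Pi.single i.rev p.2.1) (dl σ p.1) * H Mo k (Pi.single i.rev p'.2.1) (dl σ p'.1) *
        (Z Mo i p.2.2 * Z Mo i p'.2.2)
      = H Mo k (Pi.single i.rev p.2.1) (dl σ p.1) *
        (H Mo k (Pi.single i.rev p'.2.1) (dl σ p'.1) * Z Mo i p.2.2) * Z Mo i p'.2.2 := by
        simp only [mul_assoc]
    _ = H Mo k (Pi.single i.rev p.2.1) (dl σ p.1) *
        (Z Mo i p.2.2 * H Mo k (Pi.single i.rev p'.2.1) (dl σ p'.1)) * Z Mo i p'.2.2 := by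
        rw [h3]
    _ = _ := by simp only [mul_assoc]

include hσ2 hk hi hki in
theorem af_comm (p p' : F × F × F) : af Mo k i p * af Mo k i p' = af Mo k i p' * af Mo k i p := by
  rw [← af_add Mo hσ2 hk hi hki, ← af_add Mo hσ2 hk hi hki, add_comm]

theorem af_x (x : F) : af Mo k i (x, 0, 0) = Z Mo k x := by
  unfold af
  simp only
  rw [Pi.single_zero, Z_zero, mul_one]
  rfl

theorem af_y (y : F) : af Mo k i (0, 0, y) = Z Mo i y := by
  unfold af
  simp only
  rw [Pi.single_zero, dl_zero, H_zero, one_mul]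

include hσ2 hk hi hki in
theorem Zlow_comm_af {j : Fin n} (hj : j < k) (x : F) (p : F × F × F) :
    Z Mo j x * af Mo k i p = af Mo k i p * Z Mo j x := by
  unfold af
  have hju := up_of_lt hk hj
  have hne : i.rev ≠ j := by
    intro h
    have h1 : j < i := lt_trans hj hki
    rw [← h] at h1
    exact lt_asymm h1 hi
  have h1 := Z_comm_H Mo hσ2 hju hk (sr_k hk hi hki p.2.1) (good_sr hσ2 hk hi hki p.2.1 p.1)
    (Pi.single_eq_of_ne hne.symm _) x
  have h2 := Z_comm_Z Mo hσ2 hju hi x p.2.2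
  rw [← mul_assoc, h1, mul_assoc, h2, mul_assoc]

/-- the elements moving the second root group into the block -/
noncomputable def gc (k i : Fin n) (c : F) : G := H Mo k (Pi.single i c) 0

include hσ2 hk hi hki in
theorem Zlow_comm_gc {j : Fin n} (hj : j < k) (x c : F) :
    Z Mo j x * gc Mo k i c = gc Mo k i c * Z Mo j x := by
  unfold gc
  have hne : i ≠ j := ne_of_gt (lt_trans hj hki)
  exact Z_comm_H Mo hσ2 (up_of_lt hk hj) hk (si_k hk hi hki c) (good_si hk hi hki c)
    (Pi.single_eq_of_ne hne.symm _) x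

/-- the action of `gc` on the index set -/
def tauC (c : F) (p : F × F × F) : F × F × F :=
  (p.1 + c * σ p.2.1 + c * σ c * p.2.2, p.2.1 - c * dl σ p.2.2, p.2.2)

include hσ2 hk hi hki in
theorem af_gc (c : F) (p : F × F × F) :
    af Mo k i p * gc Mo k i c = gc Mo k i c * af Mo k i (tauC (σ := σ) c p) := by
  obtain ⟨hik, hik', _, _, hii, hkk⟩ := ne_facts hk hi hki
  have hrel := H_rel Mo hσ2 hkk hii hik hik' c (dl_tr σ hσ2 p.2.2)
  have hcf : σ (c * σ c) = c * σ c := by
    rw [map_mul, hσ2, mul_comm]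
  -- moving `gc` past the first factor
  have h1 : H Mo k (Pi.single i.rev p.2.1) (dl σ p.1) * gc Mo k i c =
      gc Mo k i c * H Mo k (Pi.single i.rev p.2.1) (dl σ (p.1 + c * σ p.2.1)) := by
    unfold gc
    rw [H_mul Mo hσ2 hkk (sr_k hk hi hki _) (si_k hk hi hki _) (good_sr hσ2 hk hi hki _ _)
        (good_si hk hi hki _),
      H_mul Mo hσ2 hkk (si_k hk hi hki _) (sr_k hk hi hki _) (good_si hk hi hki _)
        (good_sr hσ2 hk hi hki _ _), hJ_sr_si, hJ_si_sr]
    congr 1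
    · exact add_comm _ _
    · rw [dl_add]
      unfold dl
      rw [map_mul, hσ2]
      ring
  -- combining the two Heisenberg factors
  have h2 : H Mo k (Pi.single i.rev p.2.1) (dl σ (p.1 + c * σ p.2.1)) *
      H Mo k (Pi.single i.rev (-(c * dl σ p.2.2))) (c * σ c * dl σ p.2.2) =
      H Mo k (Pi.single i.rev (p.2.1 - c * dl σ p.2.2))
        (dl σ (p.1 + c * σ p.2.1 + c * σ c * p.2.2)) := by
    have hg : c * σ c * dl σ p.2.2 + σ (c * σ c * dl σ p.2.2) +
        hJ σ (Pi.single i.rev (-(c * dl σ p.2.2)) : Fin n → F)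
          (Pi.single i.rev (-(c * dl σ p.2.2))) = 0 := by
      rw [hJ_sr_sr hk hi hki, add_zero, ← dl_mul_fixed σ hcf, dl_tr σ hσ2]
    rw [H_mul Mo hσ2 hkk (sr_k hk hi hki _) (sr_k hk hi hki _) (good_sr hσ2 hk hi hki _ _) hg,
      hJ_sr_sr hk hi hki, sub_zero, ← Pi.single_add, ← dl_mul_fixed σ hcf, ← dl_add,
      sub_eq_add_neg]
  unfold af
  simp only [tauC]
  calc H Mo k (Pi.single i.rev p.2.1) (dl σ p.1) * Z Mo i p.2.2 * gc Mo k i c
      = H Mo k (Pi.single i.rev p.2.1) (dl σ p.1) * (Z Mo i p.2.2 * gc Mo k i c) := by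
        rw [mul_assoc]
    _ = H Mo k (Pi.single i.rev p.2.1) (dl σ p.1) * (gc Mo k i c *
          (H Mo k (Pi.single i.rev (-(c * dl σ p.2.2))) (c * σ c * dl σ p.2.2) *
            Z Mo i p.2.2)) := by
        unfold Z gc
        rw [hrel]
    _ = (H Mo k (Pi.single i.rev p.2.1) (dl σ p.1) * gc Mo k i c) *
          (H Mo k (Pi.single i.rev (-(c * dl σ p.2.2))) (c * σ c * dl σ p.2.2) *
            Z Mo i p.2.2) := by
        simp only [mul_assoc]
    _ = gc Mo k i c * (H Mo k (Pi.single i.rev p.2.1) (dl σ (p.1 + c * σ p.2.1)) *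
          H Mo k (Pi.single i.rev (-(c * dl σ p.2.2))) (c * σ c * dl σ p.2.2)) *
            Z Mo i p.2.2 := by
        rw [h1]
        simp only [mul_assoc]
    _ = _ := by
        rw [h2]
        simp only [mul_assoc]

end Cfsg.Agent.Lib.Helper14.SULS
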