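import Mathlib
import Cfsg.Agent.Lib.Helper14.SULS9

/-!
# Passing to the next level (continued) (helper14)
-/

set_option autoImplicit false
set_option linter.unusedSectionVars false
set_option linter.unusedVariables false

namespace Cfsg.Agent.Lib.Helper14.SULS

open Matrix Module Cfsg.Agent.Lib.Helper14.SUBN Cfsg.Agent.Lib.Helper14.Wt
  Cfsg.Agent.Lib.Helper6

variable {G : Type*} [Group G] {n : ℕ} {F : Type*} [Field F] {σ : F →+* F}
  (Mo : UModel G n F σ) (hσ2 : ∀ x, σ (σ x) = x) (hσ : σ ≠ RingHom.id F)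
  {k i : Fin n} (hk : k < k.rev) (hi : i < i.rev) (hki : k < i)

/-- the permutation swapping the two levels -/
def piW (k i : Fin n) : Equiv.Perm (Fin n) := Equiv.swap k i * Equiv.swap k.rev i.rev

include hk hi hki in
theorem piW_k : piW k i k = i := by
  obtain ⟨hik, hik', hrk, hrr, hii, hkk⟩ := ne_facts hk hi hki
  unfold piW
  rw [Equiv.Perm.mul_apply, Equiv.swap_apply_of_ne_of_ne hkk hrk.symm, Equiv.swap_apply_left]

include hk hi hki in
theorem piW_i : piW k i i = k := by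
  obtain ⟨hik, hik', hrk, hrr, hii, hkk⟩ := ne_facts hk hi hki
  unfold piW
  rw [Equiv.Perm.mul_apply, Equiv.swap_apply_of_ne_of_ne hik' hii, Equiv.swap_apply_right]

include hk hi hki in
theorem piW_krev : piW k i k.rev = i.rev := by
  obtain ⟨hik, hik', hrk, hrr, hii, hkk⟩ := ne_facts hk hi hki
  unfold piW
  rw [Equiv.Perm.mul_apply, Equiv.swap_apply_left, Equiv.swap_apply_of_ne_of_ne hrk hii.symm]

include hk hi hki in
theorem piW_irev : piW k i i.rev = k.rev := by
  obtain ⟨hik, hik', hrk, hrr, hii, hkk⟩ := ne_facts hk hi hki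
  unfold piW
  rw [Equiv.Perm.mul_apply, Equiv.swap_apply_right, Equiv.swap_apply_of_ne_of_ne hkk.symm hik'.symm]

theorem piW_of_not {x : Fin n} (h1 : x ≠ k) (h2 : x ≠ i) (h3 : x ≠ k.rev) (h4 : x ≠ i.rev) :
    piW k i x = x := by
  unfold piW
  rw [Equiv.Perm.mul_apply, Equiv.swap_apply_of_ne_of_ne h3 h4, Equiv.swap_apply_of_ne_of_ne h1 h2]

include hk hi hki in
theorem piW_rev (x : Fin n) : piW k i x.rev = (piW k i x).rev := by
  by_cases h1 : x = k
  · rw [h1, piW_k hk hi hki, piW_krev hk hi hki]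
  by_cases h2 : x = i
  · rw [h2, piW_i hk hi hki, piW_irev hk hi hki]
  by_cases h3 : x = k.rev
  · rw [h3, Fin.rev_rev, piW_k hk hi hki, piW_krev hk hi hki, Fin.rev_rev]
  by_cases h4 : x = i.rev
  · rw [h4, Fin.rev_rev, piW_i hk hi hki, piW_irev hk hi hki, Fin.rev_rev]
  rw [piW_of_not h1 h2 h3 h4, piW_of_not]
  · exact fun h => h3 (by rw [← h, Fin.rev_rev])
  · exact fun h => h4 (by rw [← h, Fin.rev_rev])
  · exact fun h => h1 (Fin.rev_injective h)
  · exact fun h => h2 (Fin.rev_injective h)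

include hk hi hki in
theorem piW_sign : Equiv.Perm.sign (piW k i) = 1 := by
  obtain ⟨hik, hik', hrk, hrr, hii, hkk⟩ := ne_facts hk hi hki
  unfold piW
  rw [map_mul, Equiv.Perm.sign_swap hik.symm, Equiv.Perm.sign_swap hrr.symm]
  rfl

include hσ2 hk hi hki in
theorem Z_W {j : Fin n} (hj : j < j.rev) (x : F) :
    Z Mo j x * Wp Mo (piW k i) = Wp Mo (piW k i) * Z Mo (piW k i j) x :=
  H_perm Mo hσ2 (piW k i) (piW_rev hk hi hki) (piW_sign hk hi hki) (ne_of_lt hj)
    (dl_tr σ hσ2 x)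

variable [Fintype F] [DecidableEq F] [Finite G] {V : Type*} [AddCommGroup V] [Module ℂ V]
  [FiniteDimensional ℂ V] (ρ : G →* (V →ₗ[ℂ] V))

include hσ2 hσ hk hi hki in
/-- if the root group of level `k` acts non-trivially on the fixed points of the lower root
groups, then the root group of a higher level `i` acts non-trivially on the fixed points of
the root groups up to level `k` -/
theorem partB (hne : ∃ v ∈ E ρ (zfN Mo k.val) 1, ∃ x, ρ (Z Mo k x) v ≠ v) :
    ∃ v ∈ E ρ (zfN Mo (k.val + 1)) 1, ∃ x, ρ (Z Mo i x) v ≠ v := by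
  classical
  obtain ⟨v, hv, x₁, hx₁⟩ := hne
  have hlow : ∀ j : Fin n, j.val < k.val → j < k := fun j hj => Fin.lt_def.mpr hj
  -- the family of the block
  have hcommA : ∀ a b : (Fin n × F) ⊕ (F × F × F),
      Sum.elim (zfN Mo k.val) (af Mo k i) a * Sum.elim (zfN Mo k.val) (af Mo k i) b =
        Sum.elim (zfN Mo k.val) (af Mo k i) b * Sum.elim (zfN Mo k.val) (af Mo k i) a := by
    apply comm_elim
    · exact zfN_self_comm Mo hσ2 _ (fun j hj => low_up hσ2 hk hj)
    · exact af_comm Mo hσ2 hk hi hki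
    · intro p q
      exact zfN_comm Mo _ _ (fun j hj y => Zlow_comm_af Mo hσ2 hk hi hki (hlow j hj) y q) p
  have hx₁' : ρ (af Mo k i (x₁, 0, 0)) v ≠ v := by
    rw [af_x]
    exact hx₁
  obtain ⟨χ', hχ', hχ'1⟩ := exists_ext_ne ρ (zfN Mo k.val) (af Mo k i) hcommA (x₁, 0, 0) hv hx₁'
  have hχ'af : E ρ (af Mo k i) χ' ≠ ⊥ := by
    intro h0
    apply hχ'
    rw [E_sum, h0, inf_bot_eq]
  obtain ⟨hmul, h0⟩ := chi_mul ρ (af Mo k i) (af_add Mo hσ2 hk hi hki) hχ'af
  -- the three components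
  have hlam_add : ∀ x x' : F, χ' (x + x', 0, 0) = χ' (x, 0, 0) * χ' (x', 0, 0) := by
    intro x x'
    rw [← hmul]
    simp
  have hmu_add : ∀ b b' : F, χ' (0, b + b', 0) = χ' (0, b, 0) * χ' (0, b', 0) := by
    intro b b'
    rw [← hmul]
    simp
  have hlam1_add : ∀ y y' : F, χ' (0, 0, y + y') = χ' (0, 0, y) * χ' (0, 0, y') := by
    intro y y'
    rw [← hmul]
    simp
  have hdecomp : ∀ x b y : F, χ' (x, b, y) = χ' (x, 0, 0) * χ' (0, b, 0) * χ' (0, 0, y) := by
    intro x b y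
    rw [← hmul, ← hmul]
    simp
  have hlam_fix : ∀ r, σ r = r → χ' (r, 0, 0) = 1 := by
    intro r hr
    have h1 : Sum.elim (zfN Mo k.val) (af Mo k i) (Sum.inr (r, 0, 0)) = 1 := by
      rw [Sum.elim_inr, af_x]
      exact Z_fixed Mo k hr
    exact chi_pt_one ρ _ hχ' h1
  have hlam1_fix : ∀ r, σ r = r → χ' (0, 0, r) = 1 := by
    intro r hr
    have h1 : Sum.elim (zfN Mo k.val) (af Mo k i) (Sum.inr (0, 0, r)) = 1 := by
      rw [Sum.elim_inr, af_y]
      exact Z_fixed Mo i hr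
    exact chi_pt_one ρ _ hχ' h1
  have h00 : χ' (0, 0, 0) = 1 := h0
  obtain ⟨α, hα⟩ := char_dual (fun x => χ' (x, 0, 0)) (fun y => χ' (0, 0, y)) hlam_add h00
    hlam1_add h00 hχ'1
  obtain ⟨β, hβ⟩ := char_dual (fun x => χ' (x, 0, 0)) (fun b => χ' (0, b, 0)) hlam_add h00
    hmu_add h00 hχ'1
  have hαf : σ α = α := by
    apply fixed_of_char σ hσ2 (fun x => χ' (x, 0, 0)) hlam_add h00 hlam_fix hχ'1 α
    intro r hr
    rw [← hα]
    exact hlam1_fix r hr
  obtain ⟨c, hc⟩ := exists_norm_trace σ hσ2 hσ α β hαf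
  -- conjugating by `gc`
  have hχ'' : E ρ (Sum.elim (zfN Mo k.val) (af Mo k i))
      (Sum.elim 1 (χ' ∘ tauC (σ := σ) c)) ≠ ⊥ := by
    have h1 := E_comp_ne_bot ρ (Sum.elim (zfN Mo k.val) (af Mo k i)) (gc Mo k i c)
      (Sum.map id (tauC (σ := σ) c)) ?_ hχ'
    · rw [Sum.elim_comp_map] at h1
      exact h1
    · rintro (p | p)
      · exact zfN_comm Mo _ _ (fun j hj y => Zlow_comm_gc Mo hσ2 hk hi hki (hlow j hj) y c) p
      · exact af_gc Mo hσ2 hk hi hki c p
  have hv1 : ∀ x, (χ' ∘ tauC (σ := σ) c) (x, 0, 0) = χ' (x, 0, 0) := by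
    intro x
    simp [tauC, dl_zero]
  have hv2 : ∀ y, (χ' ∘ tauC (σ := σ) c) (0, 0, y) = 1 := by
    intro y
    simp only [Function.comp, tauC, map_zero, mul_zero, add_zero, zero_add, zero_sub]
    rw [hdecomp, hα, hβ, ← hlam_add, ← hlam_add]
    apply hlam_fix
    have e : c * σ c * y + β * -(c * dl σ y) + α * y = σ (β * c) * y + β * c * σ y := by
      unfold dl
      linear_combination y * hc
    rw [e]
    simp only [map_add, map_mul, hσ2]
    ring
  -- restricting to the two root groups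
  have hsub : E ρ (Sum.elim (Sum.elim (zfN Mo k.val) (Z Mo k)) (Z Mo i))
      (Sum.elim (Sum.elim 1 (fun x => χ' (x, 0, 0))) 1) ≠ ⊥ := by
    intro hbot
    apply hχ''
    rw [eq_bot_iff, ← hbot]
    intro u hu
    rw [mem_E] at hu ⊢
    rintro ((p | x) | y)
    · exact hu (Sum.inl p)
    · have := hu (Sum.inr (x, 0, 0))
      rw [Sum.elim_inr, Sum.elim_inr, af_x, hv1] at this
      exact this
    · have := hu (Sum.inr (0, 0, y))
      rw [Sum.elim_inr, Sum.elim_inr, af_y, hv2] at this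
      exact this
  -- the monomial element
  have hW := E_comp_ne_bot ρ (Sum.elim (Sum.elim (zfN Mo k.val) (Z Mo k)) (Z Mo i))
    (Wp Mo (piW k i))
    (Sum.elim (Sum.elim (fun p => Sum.inl (Sum.inl p)) (fun x => Sum.inr x))
      (fun y => Sum.inl (Sum.inr y))) ?_ hsub
  · obtain ⟨u, hu, hu0⟩ := Submodule.exists_mem_ne_zero_of_ne_bot hW
    rw [mem_E] at hu
    refine ⟨u, ?_, x₁, ?_⟩
    · rw [← E_zk_one, mem_E]
      rintro (p | x)
      · have := hu (Sum.inl (Sum.inl p))
        simpa [zk] using this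
      · have := hu (Sum.inl (Sum.inr x))
        simpa [zk] using this
    · have h1 := hu (Sum.inr x₁)
      simp only [Sum.elim_inr, Function.comp, Sum.elim_inl] at h1
      rw [h1]
      intro h2
      have h3 : (χ' (x₁, 0, 0) - 1) • u = 0 := by
        rw [sub_smul, one_smul, h2, sub_self]
      rcases smul_eq_zero.mp h3 with h4 | h4
      · exact hχ'1 (by linear_combination h4)
      · exact hu0 h4
  · rintro ((p | x) | y)
    · simp only [Sum.elim_inl]
      apply zfN_comm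
      intro j hj y
      have hjk := hlow j hj
      have h1 := Z_W Mo hσ2 hk hi hki (up_of_lt hk hjk) y
      rw [piW_of_not] at h1
      · exact h1
      · exact ne_of_lt hjk
      · exact ne_of_lt (lt_trans hjk hki)
      · exact up_ne_rev (up_of_lt hk hjk) hk
      · exact up_ne_rev (up_of_lt hk hjk) hi
    · simp only [Sum.elim_inl, Sum.elim_inr]
      have h1 := Z_W Mo hσ2 hk hi hki hk x
      rw [piW_k hk hi hki] at h1
      exact h1
    · simp only [Sum.elim_inl, Sum.elim_inr]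
      have h1 := Z_W Mo hσ2 hk hi hki hi y
      rw [piW_i hk hi hki] at h1
      exact h1

end Cfsg.Agent.Lib.Helper14.SULS
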