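import Mathlib
import Cfsg.Agent.Lib.Helper14.SULS6

/-!
# The Heisenberg part: the middle coordinate in odd dimension (helper14)
-/

set_option autoImplicit false
set_option linter.unusedSectionVars false
set_option linter.unusedVariables false

namespace Cfsg.Agent.Lib.Helper14.SULS

open Matrix Module Cfsg.Agent.Lib.Helper14.SUBN Cfsg.Agent.Lib.Helper14.Wt
  Cfsg.Agent.Lib.Helper6

variable {G : Type*} [Group G] {n : ℕ} {F : Type*} [Field F] {σ : F →+* F}
  (Mo : UModel G n F σ) (hσ2 : ∀ x, σ (σ x) = x) (hσ : σ ≠ RingHom.id F)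
  {k : Fin n} (hk : k < k.rev) {h : ℕ} (L : Lev n k h)

/-- a middle coordinate -/
structure Mid {k : Fin n} {h : ℕ} (L : Lev n k h) where
  /-- the coordinate -/
  j₀ : Fin n
  hj : j₀.rev = j₀
  hc : ∀ i, L.c i ≠ j₀

variable (M : Mid L)

/-- the index set of the middle family -/
abbrev MidIdx (σ : F →+* F) : Type _ := {p : F × F // σ p.1 = p.1 ∧ p.2 + σ p.2 + p.1 * p.1 = 0}

/-- the middle family -/
noncomputable def mf (p : MidIdx σ) : G := H Mo k (Pi.single M.j₀ p.1.1) p.1.2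

include hk in
theorem j₀_ne_of_up {i : Fin n} (hi : i < i.rev) : M.j₀ ≠ i := by
  intro h
  rw [← h, M.hj] at hi
  exact lt_irrefl _ hi

include hk in
theorem single_k (s : F) : (Pi.single M.j₀ s : Fin n → F) k = 0 :=
  Pi.single_eq_of_ne (j₀_ne_of_up hk L M hk).symm _

theorem hJ_mid (s s' : F) :
    hJ σ (Pi.single M.j₀ s : Fin n → F) (Pi.single M.j₀ s') = s * σ s' := by
  rw [hJ_single_l, M.hj, Pi.single_eq_same]

theorem hJ_mid_emb (s : F) (a : Fin h → F) :
    hJ σ (Pi.single M.j₀ s : Fin n → F) (L.emb a) = 0 := by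
  rw [hJ_single_l, M.hj, L.emb_of_not a M.hc, map_zero, mul_zero]

theorem hJ_emb_mid (s : F) (a : Fin h → F) :
    hJ σ (L.emb a) (Pi.single M.j₀ s : Fin n → F) = 0 := by
  rw [hJ_single_r, M.hj, L.emb_of_not a M.hc, zero_mul]

theorem good_mid {s z : F} (hs : σ s = s) (hz : z + σ z + s * s = 0) :
    z + σ z + hJ σ (Pi.single M.j₀ s : Fin n → F) (Pi.single M.j₀ s) = 0 := by
  rw [hJ_mid, hs]
  exact hz

theorem good_mid' {t z : F} (hz : z + σ z = -(t * σ t)) :
    z + σ z + hJ σ (Pi.single M.j₀ t : Fin n → F) (Pi.single M.j₀ t) = 0 := by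
  rw [hJ_mid, hz]
  ring

include hσ2 hσ in
theorem exists_zt (t : F) : ∃ z : F, z + σ z = -(t * σ t) := by
  apply exists_trace σ hσ hσ2
  rw [map_neg, map_mul, hσ2, mul_comm]

/-- the translating elements for the middle coordinate -/
noncomputable def Bt (t : F) : G :=
  H Mo k (Pi.single M.j₀ t) (Classical.choose (exists_zt hσ2 hσ t))

include hσ2 hk in
/-- general commutation of a middle element with the lower root groups -/
theorem Zlow_comm_mid {i : Fin n} (hi : i < k) (x : F) {t z : F}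
    (hz : z + σ z + hJ σ (Pi.single M.j₀ t : Fin n → F) (Pi.single M.j₀ t) = 0) :
    Z Mo i x * H Mo k (Pi.single M.j₀ t) z = H Mo k (Pi.single M.j₀ t) z * Z Mo i x :=
  Z_comm_H Mo hσ2 (up_of_lt hk hi) hk (single_k hk L M t) hz
    (Pi.single_eq_of_ne (j₀_ne_of_up hk L M (up_of_lt hk hi)).symm _) x

include hσ2 hk in
theorem Zk_comm_mid (x : F) {t z : F}
    (hz : z + σ z + hJ σ (Pi.single M.j₀ t : Fin n → F) (Pi.single M.j₀ t) = 0) :
    Z Mo k x * H Mo k (Pi.single M.j₀ t) z = H Mo k (Pi.single M.j₀ t) z * Z Mo k x :=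
  Zk_comm_H Mo hσ2 (ne_of_lt hk) (single_k hk L M t) hz x

include hσ2 hk in
theorem hf_comm_mid (p : (Fin h → F) × F) {t z : F}
    (hz : z + σ z + hJ σ (Pi.single M.j₀ t : Fin n → F) (Pi.single M.j₀ t) = 0) :
    hf Mo L p * H Mo k (Pi.single M.j₀ t) z = H Mo k (Pi.single M.j₀ t) z * hf Mo L p := by
  unfold hf
  rw [H_mul Mo hσ2 (ne_of_lt hk) (L.emb_low _ le_rfl) (single_k hk L M t) (good_hf hσ2 L _ _) hz,
    H_mul Mo hσ2 (ne_of_lt hk) (single_k hk L M t) (L.emb_low _ le_rfl) hz (good_hf hσ2 L _ _),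
    hJ_emb_mid, hJ_mid_emb, add_comm (L.emb p.1), add_comm (dl σ p.2)]

include hσ2 hk in
theorem mf_comm (p p' : MidIdx σ) : mf Mo L M p * mf Mo L M p' = mf Mo L M p' * mf Mo L M p := by
  unfold mf
  rw [H_mul Mo hσ2 (ne_of_lt hk) (single_k hk L M _) (single_k hk L M _)
      (good_mid L M p.2.1 p.2.2) (good_mid L M p'.2.1 p'.2.2),
    H_mul Mo hσ2 (ne_of_lt hk) (single_k hk L M _) (single_k hk L M _)
      (good_mid L M p'.2.1 p'.2.2) (good_mid L M p.2.1 p.2.2),
    hJ_mid, hJ_mid, p.2.1, p'.2.1]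
  congr 1
  · exact add_comm _ _
  · ring

/-- the full family -/
noncomputable def ek : (((Fin n × F) ⊕ F) ⊕ ((Fin h → F) × F)) ⊕ MidIdx σ → G :=
  Sum.elim (dk Mo L) (mf Mo L M)

include hσ2 hk in
theorem ek_comm (i j : (((Fin n × F) ⊕ F) ⊕ ((Fin h → F) × F)) ⊕ MidIdx σ) :
    ek Mo L M i * ek Mo L M j = ek Mo L M j * ek Mo L M i := by
  unfold ek
  apply comm_elim
  · exact dk_comm Mo hσ2 hk L
  · exact mf_comm Mo hσ2 hk L M
  · unfold dk
    apply comm_elim_right
    · unfold zk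
      apply comm_elim_right
      · intro p q
        exact zfN_comm Mo _ _ (fun i hi y => Zlow_comm_mid Mo hσ2 hk L M (Fin.lt_def.mpr hi) y
          (good_mid L M q.2.1 q.2.2)) p
      · exact fun x q => Zk_comm_mid Mo hσ2 hk L M x (good_mid L M q.2.1 q.2.2)
    · exact fun p q => hf_comm_mid Mo hσ2 hk L M p (good_mid L M q.2.1 q.2.2)

/-- the action of the translating elements on the index set -/
def tauM (t : F) (p : MidIdx σ) : MidIdx σ :=
  ⟨(p.1.1, p.1.2 + p.1.1 * dl σ t), p.2.1, by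
    have h1 := p.2.2
    have h2 := p.2.1
    have h3 := dl_tr σ hσ2 t
    simp only [map_add, map_mul, h2]
    linear_combination h1 + p.1.1 * h3⟩

include hσ2 hk in
theorem mf_Bt (t : F) (p : MidIdx σ) :
    mf Mo L M p * Bt Mo hσ2 hσ L M t = Bt Mo hσ2 hσ L M t * mf Mo L M (tauM hσ2 t p) := by
  have hz := Classical.choose_spec (exists_zt hσ2 hσ t)
  unfold mf Bt
  rw [H_mul Mo hσ2 (ne_of_lt hk) (single_k hk L M _) (single_k hk L M _)
      (good_mid L M p.2.1 p.2.2) (good_mid' L M hz),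
    H_mul Mo hσ2 (ne_of_lt hk) (single_k hk L M _) (single_k hk L M _)
      (good_mid' L M hz) (good_mid L M (tauM hσ2 t p).2.1 (tauM hσ2 t p).2.2),
    hJ_mid, hJ_mid]
  congr 1
  · exact add_comm _ _
  · simp only [tauM, p.2.1]
    unfold dl
    ring

include hσ2 hk in
theorem mf_mul_Z (t : F) (p : MidIdx σ) :
    mf Mo L M (tauM hσ2 t p) = mf Mo L M p * Z Mo k (p.1.1 * t) := by
  unfold mf Z
  rw [H_mul Mo hσ2 (ne_of_lt hk) (single_k hk L M _) (Pi.zero_apply k)
      (good_mid L M p.2.1 p.2.2) (good0 hσ2 _), hJ_zero_r, sub_zero, add_zero,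
      dl_mul_fixed σ p.2.1]
  rfl

variable [Fintype F] [DecidableEq F] [Finite G] {V : Type*} [AddCommGroup V] [Module ℂ V]
  [FiniteDimensional ℂ V] (ρ : G →* (V →ₗ[ℂ] V))

include hσ2 hσ hk M in
/-- the middle coordinate multiplies the dimension of a weight space by `q` -/
theorem stage2 {q : ℕ} (hF : Fintype.card F = q ^ 2)
    (hfix : ∀ t : F, (Finset.univ.filter (fun t' : F => σ (t - t') = t - t')).card ≤ q)
    (lam : F → ℂ) {x₀ : F} (hx₀ : lam x₀ ≠ 1) (χ₁ : (Fin h → F) × F → ℂ)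
    (hne : E ρ (dk Mo L) (Sum.elim (Sum.elim 1 lam) χ₁) ≠ ⊥) :
    q ≤ finrank ℂ (E ρ (dk Mo L) (Sum.elim (Sum.elim 1 lam) χ₁)) := by
  classical
  obtain ⟨χ₂, hχ₂⟩ := exists_ext ρ (dk Mo L) (mf Mo L M) (ek_comm Mo hσ2 hk L M) hne
  change E ρ (ek Mo L M) (Sum.elim (Sum.elim (Sum.elim 1 lam) χ₁) χ₂) ≠ ⊥ at hχ₂
  let wt : F → ((((Fin n × F) ⊕ F) ⊕ ((Fin h → F) × F)) ⊕ MidIdx σ → ℂ) :=
    fun t => Sum.elim (Sum.elim (Sum.elim 1 lam) χ₁) (χ₂ ∘ tauM hσ2 t)
  have hBz := fun t => Classical.choose_spec (exists_zt hσ2 hσ t)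
  have hwt_ne : ∀ t, E ρ (ek Mo L M) (wt t) ≠ ⊥ := by
    intro t
    have h1 := E_comp_ne_bot ρ (ek Mo L M) (Bt Mo hσ2 hσ L M t) (Sum.map id (tauM hσ2 t)) ?_ hχ₂
    · rw [Sum.elim_comp_map] at h1
      exact h1
    · rintro (((p | x) | p) | p)
      · exact zfN_comm Mo _ _ (fun i hi y => Zlow_comm_mid Mo hσ2 hk L M (Fin.lt_def.mpr hi) y
          (good_mid' L M (hBz t))) p
      · exact Zk_comm_mid Mo hσ2 hk L M x (good_mid' L M (hBz t))
      · exact hf_comm_mid Mo hσ2 hk L M p (good_mid' L M (hBz t))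
      · exact mf_Bt Mo hσ2 hσ hk L M t p
  have hlam_add : ∀ u s, lam (u + s) = lam u * lam s := by
    intro u s
    have h1 : ek Mo L M (Sum.inl (Sum.inl (Sum.inr (u + s)))) =
        ek Mo L M (Sum.inl (Sum.inl (Sum.inr u))) * ek Mo L M (Sum.inl (Sum.inl (Sum.inr s))) :=
      Z_add Mo hσ2 (ne_of_lt hk) u s
    exact chi_pt_mul ρ (ek Mo L M) hχ₂ h1
  have hlam_nz : ∀ u, lam u ≠ 0 :=
    fun u => chi_pt_ne_zero ρ (ek Mo L M) hχ₂ (Sum.inl (Sum.inl (Sum.inr u)))
  have hlam_fix : ∀ r, σ r = r → lam r = 1 := by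
    intro r hr
    have h1 : ek Mo L M (Sum.inl (Sum.inl (Sum.inr r))) = 1 := Z_fixed Mo k hr
    exact chi_pt_one ρ (ek Mo L M) hχ₂ h1
  have hmul : ∀ t p, χ₂ (tauM hσ2 t p) = χ₂ p * lam (p.1.1 * t) := by
    intro t p
    have h1 : ek Mo L M (Sum.inr (tauM hσ2 t p)) =
        ek Mo L M (Sum.inr p) * ek Mo L M (Sum.inl (Sum.inl (Sum.inr (p.1.1 * t)))) :=
      mf_mul_Z Mo hσ2 hk L M t p
    exact chi_pt_mul ρ (ek Mo L M) hχ₂ h1
  have hnz : ∀ p, χ₂ p ≠ 0 := fun p => chi_pt_ne_zero ρ (ek Mo L M) hχ₂ (Sum.inr p)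
  have hfiber : ∀ t t', wt t = wt t' → σ (t - t') = t - t' := by
    intro t t' htt
    have h2 : χ₂ ∘ tauM hσ2 t = χ₂ ∘ tauM hσ2 t' := by
      have := congrArg (fun f => f ∘ Sum.inr) htt
      simpa [wt] using this
    have h3 : ∀ s, σ s = s → lam (s * t) = lam (s * t') := by
      intro s hs
      obtain ⟨z, hz⟩ := exists_trace σ hσ hσ2 (-(s * s)) (by rw [map_neg, map_mul, hs])
      let p : MidIdx σ := ⟨(s, z), hs, by rw [hz]; ring⟩
      have h4 := congrFun h2 p
      simp only [Function.comp] at h4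
      rw [hmul, hmul] at h4
      exact mul_left_cancel₀ (hnz p) h4
    by_contra hne'
    have hu : dl σ (t - t') ≠ 0 := by
      unfold dl
      intro h0
      apply hne'
      linear_combination -h0
    obtain ⟨s, hs⟩ : ∃ s : F, s = dl σ x₀ / dl σ (t - t') := ⟨_, rfl⟩
    have hsf : σ s = s := by
      rw [hs, map_div₀, dl_conj σ hσ2, dl_conj σ hσ2]
      field_simp
    have h5 := h3 s hsf
    have h6 : s * t = s * t' + s * (t - t') := by ring
    rw [h6, hlam_add] at h5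
    have h7 : lam (s * (t - t')) = 1 := by
      have : lam (s * t') * lam (s * (t - t')) = lam (s * t') * 1 := by rw [h5, mul_one]
      exact mul_left_cancel₀ (hlam_nz _) this
    have h8 : σ (x₀ - s * (t - t')) = x₀ - s * (t - t') := by
      have e1 : dl σ (x₀ - s * (t - t')) = 0 := by
        have : x₀ - s * (t - t') = x₀ + s * (-(t - t')) := by ring
        rw [this, dl_add, dl_mul_fixed σ hsf]
        have e2 : dl σ (-(t - t')) = -dl σ (t - t') := by
          unfold dl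
          rw [map_neg]
          ring
        rw [e2, hs]
        field_simp
        ring
      unfold dl at e1
      linear_combination -e1
    apply hx₀
    have h9 : x₀ = s * (t - t') + (x₀ - s * (t - t')) := by ring
    rw [h9, hlam_add, h7, hlam_fix _ h8, one_mul]
  have hq : 0 < q := by
    rcases Nat.eq_zero_or_pos q with h0 | h0
    · rw [h0] at hF
      have : 0 < Fintype.card F := Fintype.card_pos
      omega
    · exact h0
  have hScard : q ≤ (Finset.univ.image wt).card := by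
    have h1 := Finset.card_le_mul_card_image (f := wt) Finset.univ q ?_
    · rw [Finset.card_univ, hF, pow_two] at h1
      exact Nat.le_of_mul_le_mul_left h1 hq
    · intro w hw
      obtain ⟨t₀, _, rfl⟩ := Finset.mem_image.mp hw
      refine le_trans (Finset.card_le_card ?_) (hfix t₀)
      intro t' ht'
      rw [Finset.mem_filter] at ht' ⊢
      exact ⟨Finset.mem_univ _, hfiber t₀ t' ht'.2.symm⟩
  have hcard := card_mul_le ρ (ek Mo L M) (ek_comm Mo hσ2 hk L M) (Finset.univ.image wt)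
    (E ρ (dk Mo L) (Sum.elim (Sum.elim 1 lam) χ₁)) 1 ?_
  · rw [mul_one] at hcard
    exact hScard.trans hcard
  · intro χ hχ
    obtain ⟨t, _, rfl⟩ := Finset.mem_image.mp hχ
    constructor
    · change E ρ (Sum.elim (dk Mo L) (mf Mo L M))
        (Sum.elim (Sum.elim (Sum.elim 1 lam) χ₁) (χ₂ ∘ tauM hσ2 t)) ≤ _
      rw [E_sum]
      exact inf_le_left
    · have : 0 < finrank ℂ (E ρ (ek Mo L M) (wt t)) := by
        rw [Module.finrank_pos_iff]
        exact (Submodule.nontrivial_iff_ne_bot).mpr (hwt_ne t)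
      exact this

end Cfsg.Agent.Lib.Helper14.SULS
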