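import Mathlib
import Cfsg.Agent.Lib.Helper14.SULS7
import Cfsg.Agent.Lib.Helper14.SULS10

/-!
# The Landazuri–Seitz bound for a unitary group in Witt form (helper14)
-/

set_option autoImplicit false
set_option linter.unusedSectionVars false
set_option linter.unusedVariables false

namespace Cfsg.Agent.Lib.Helper14.SULS

open Matrix Module Cfsg.Agent.Lib.Helper14.SUBN Cfsg.Agent.Lib.Helper14.Wt
  Cfsg.Agent.Lib.Helper6

/-- the bound: `(q - 1) (q ^ (m - 2) + q ^ (m - 4) + ...)` -/
def bnd (q : ℕ) : ℕ → ℕ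
  | 0 => 0
  | 1 => 0
  | (m + 2) => (q - 1) * q ^ m + bnd q m

theorem bnd_eq (q : ℕ) (hq : 1 ≤ q) : ∀ m : ℕ,
    (q + 1) * bnd q m + (if m % 2 = 0 then 1 else q) = q ^ m
  | 0 => by simp [bnd]
  | 1 => by simp [bnd]
  | (m + 2) => by
    have ih := bnd_eq q hq m
    have h1 : (m + 2) % 2 = m % 2 := by omega
    rw [h1]
    unfold bnd
    obtain ⟨r, rfl⟩ : ∃ r, q = r + 1 := ⟨q - 1, by omega⟩
    simp only [Nat.add_sub_cancel]
    have : (r + 1) ^ (m + 2) = (r + 1 + 1) * r * (r + 1) ^ m + (r + 1) ^ m := by ring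
    rw [this, ← ih]
    ring

/-- the standard level data -/
def levC (n k h : ℕ) (hh : 2 * k + 2 + 2 * h ≤ n) : Lev n (⟨k, by omega⟩ : Fin n) h where
  c i := ⟨k + 1 + i.val, by have := i.isLt; omega⟩
  c_inj := by
    intro i i' hii
    have := congrArg Fin.val hii
    simp only at this
    apply Fin.ext
    omega
  c_gt i := by
    rw [Fin.lt_def]
    simp only
    omega
  c_lt i := by
    have := i.isLt
    rw [Fin.lt_def, Fin.val_rev]
    simp only
    omega
  c_rev i i' := by
    have := i.isLt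
    have := i'.isLt
    intro h
    have h1 := congrArg Fin.val h
    rw [Fin.val_rev] at h1
    simp only at h1
    omega

/-- the standard middle coordinate -/
def midC (n k h : ℕ) (hh : 2 * k + 2 + 2 * h + 1 ≤ n) (hodd : n % 2 = 1) :
    Mid (levC n k h (by omega)) where
  j₀ := ⟨(n - 1) / 2, by omega⟩
  hj := by
    apply Fin.ext
    rw [Fin.val_rev]
    simp only
    omega
  hc i := by
    have := i.isLt
    intro h
    have h1 := congrArg Fin.val h
    simp only [levC] at h1
    omega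

theorem up_of_two {n k : ℕ} (h2 : 2 * k + 2 ≤ n) :
    (⟨k, by omega⟩ : Fin n) < (⟨k, by omega⟩ : Fin n).rev := by
  rw [Fin.lt_def, Fin.val_rev]
  simp only
  omega

variable {G : Type*} [Group G] {n : ℕ} {F : Type*} [Field F] {σ : F →+* F}
  (Mo : UModel G n F σ) (hσ2 : ∀ x, σ (σ x) = x) (hσ : σ ≠ RingHom.id F)
  [Fintype F] [DecidableEq F] [Finite G] {V : Type*} [AddCommGroup V] [Module ℂ V]
  [FiniteDimensional ℂ V] (ρ : G →* (V →ₗ[ℂ] V)) {q : ℕ} (hF : Fintype.card F = q ^ 2)
  (hfix : ∀ t : F, (Finset.univ.filter (fun t' : F => σ (t - t') = t - t')).card ≤ q)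
  (hnorm : ∀ c : F, (Finset.univ.filter (fun t : F => t * σ t = c)).card ≤ q + 1)

include hσ2 hσ hF hfix hnorm in
/-- the bound for one level -/
theorem level_bound (hn : 3 ≤ n) (k : ℕ) (h2 : 2 * k + 2 ≤ n)
    (hne : ∃ v ∈ E ρ (zfN Mo k) 1, ∃ x, ρ (Z Mo (⟨k, by omega⟩ : Fin n) x) v ≠ v) :
    finrank ℂ (E ρ (zfN Mo (k + 1)) 1) + (q - 1) * q ^ (n - 2 * k - 2) ≤
      finrank ℂ (E ρ (zfN Mo k) 1) := by
  have hk := up_of_two (n := n) h2
  -- the auxiliary index for the torus
  obtain ⟨j, hjk, hjk'⟩ : ∃ j : Fin n, j ≠ (⟨k, by omega⟩ : Fin n) ∧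
      j ≠ (⟨k, by omega⟩ : Fin n).rev := by
    by_cases hk0 : k = 0
    · refine ⟨⟨1, by omega⟩, ?_, ?_⟩
      · intro h
        have := congrArg Fin.val h
        simp only at this
        omega
      · intro h
        have := congrArg Fin.val h
        rw [Fin.val_rev] at this
        simp only at this
        omega
    · refine ⟨⟨0, by omega⟩, ?_, ?_⟩
      · intro h
        have := congrArg Fin.val h
        simp only at this
        omega
      · intro h
        have := congrArg Fin.val h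
        rw [Fin.val_rev] at this
        simp only at this
        omega
  have hq : 1 ≤ q := by
    rcases Nat.eq_zero_or_pos q with h0 | h0
    · rw [h0] at hF
      have : 0 < Fintype.card F := Fintype.card_pos
      omega
    · exact h0
  apply level_step Mo hσ2 hk ρ hF hnorm hjk hjk' (q ^ (n - 2 * k - 2)) ?_ hne
  intro lam hlam ⟨x₀, hx₀⟩
  rcases Nat.even_or_odd' (n - 2 * k - 2) with ⟨h, hh | hh⟩
  · -- even case
    have hh' : 2 * k + 2 + 2 * h ≤ n := by omega
    have h1 := stage1 Mo hσ2 hk (levC n k h hh') ρ lam hx₀ 1 ?_ hlam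
    · rw [mul_one, Fintype.card_fun, Fintype.card_fin, hF, ← pow_mul, ← hh] at h1
      exact h1
    · intro χ₁ hχ₁
      have : 0 < finrank ℂ (E ρ (dk Mo (levC n k h hh')) (Sum.elim (Sum.elim 1 lam) χ₁)) := by
        rw [Module.finrank_pos_iff]
        exact (Submodule.nontrivial_iff_ne_bot).mpr hχ₁
      exact this
  · -- odd case
    have hh' : 2 * k + 2 + 2 * h + 1 ≤ n := by omega
    have hodd : n % 2 = 1 := by omega
    have h1 := stage1 Mo hσ2 hk (levC n k h (by omega)) ρ lam hx₀ q ?_ hlam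
    · rw [Fintype.card_fun, Fintype.card_fin, hF, ← pow_mul, ← pow_succ, ← hh] at h1
      exact h1
    · intro χ₁ hχ₁
      exact stage2 Mo hσ2 hσ hk (levC n k h (by omega)) (midC n k h hh' hodd) ρ hF hfix lam hx₀
        χ₁ hχ₁

include hσ2 hσ hF hfix hnorm in
/-- the induction over the levels -/
theorem levels_bound (hn : 3 ≤ n) : ∀ (m k : ℕ), n = 2 * k + m →
    (∀ h2 : 2 * k + 2 ≤ n,
      ∃ v ∈ E ρ (zfN Mo k) 1, ∃ x, ρ (Z Mo (⟨k, by omega⟩ : Fin n) x) v ≠ v) →
    bnd q m ≤ finrank ℂ (E ρ (zfN Mo k) 1) := by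
  intro m
  induction m using Nat.strong_induction_on with
  | _ m ih =>
    intro k hnk hne
    match m, ih, hnk with
    | 0, _, _ => simp [bnd]
    | 1, _, _ => simp [bnd]
    | (m + 2), ih, hnk =>
      have h2 : 2 * k + 2 ≤ n := by omega
      have h1 := level_bound Mo hσ2 hσ ρ hF hfix hnorm hn k h2 (hne h2)
      have h3 := ih m (by omega) (k + 1) (by omega) ?_
      · unfold bnd
        have e : n - 2 * k - 2 = m := by omega
        rw [e] at h1
        omega
      · intro h2'
        have hk := up_of_two (n := n) h2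
        have hi := up_of_two (n := n) (k := k + 1) h2'
        have hki : (⟨k, by omega⟩ : Fin n) < (⟨k + 1, by omega⟩ : Fin n) := by
          rw [Fin.lt_def]
          simp
        exact partB Mo hσ2 hσ hk hi hki ρ (hne h2)

include hσ2 hσ hF hfix hnorm in
/-- **The bound**: a representation on which the long root group acts non-trivially has degree
at least `bnd q n`. -/
theorem main_bound (hn : 3 ≤ n)
    (hne : ∃ v : V, ∃ x, ρ (Z Mo (⟨0, by omega⟩ : Fin n) x) v ≠ v) :
    bnd q n ≤ finrank ℂ V := by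
  have h1 := levels_bound Mo hσ2 hσ ρ hF hfix hnorm hn n 0 (by omega) ?_
  · exact h1.trans (Submodule.finrank_le _)
  · intro _
    obtain ⟨v, x, hvx⟩ := hne
    refine ⟨v, ?_, x, hvx⟩
    rw [mem_E]
    intro p
    simp [zfN]

end Cfsg.Agent.Lib.Helper14.SULS
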