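import Mathlib
import Cfsg.Agent.Lib.Helper14.SULS11
import Cfsg.Agent.Lib.Helper14.SUBN15

/-!
# The Landazuri–Seitz bounds for the special unitary groups (helper14)
-/

set_option autoImplicit false
set_option linter.unusedSectionVars false
set_option linter.unusedVariables false

namespace Cfsg.Agent.Lib.Helper14.SULS

open Matrix Module Cfsg Cfsg.Agent.Lib.Helper14.SUBN Cfsg.Agent.Lib.Helper14.Wt
  Cfsg.Agent.Lib.Helper6 Cfsg.Agent.Lib.Helper6.SUG

section gen

variable {G : Type*} [Group G] {n : ℕ} {F : Type*} [Field F] [Finite F] {σ : F →+* F}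
  (Mo : UModel G n F σ) (hσ2 : ∀ x, σ (σ x) = x) (hσ : σ ≠ RingHom.id F)

include hσ2 hσ in
/-- a transvection with centre the first basis vector lies in the long root group -/
theorem tv_eq_Z (hn : 2 ≤ n) {t : G} {lam c : F}
    (ht : IsTv Mo t (lam • Pi.single (⟨0, by omega⟩ : Fin n) 1) c) :
    ∃ x, t = Z Mo (⟨0, by omega⟩ : Fin n) x := by
  set k0 : Fin n := ⟨0, by omega⟩ with hk0
  have hk : k0 ≠ k0.rev := by
    intro h
    have := congrArg Fin.val h
    rw [Fin.val_rev] at this
    simp only [hk0] at this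
    omega
  set z : F := c * (lam * σ lam) with hz
  have hmat : Mo.mat t = Hm σ k0 0 z := by
    ext u v
    rw [mat_entry_eq Mo, ht, Hm_zero, hJ_single_l]
    rw [Matrix.add_apply, Matrix.one_apply, Matrix.single_apply, Pi.add_apply, Pi.smul_apply,
      Pi.smul_apply, Pi.smul_apply, Pi.single_apply, Pi.single_apply, Pi.single_apply]
    by_cases huv : u = v
    · subst huv
      by_cases hu0 : u = k0
      · subst hu0
        simp [hk.symm]
      · have : ¬ k0 = u := fun h => hu0 h.symm
        simp [hu0, this]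
    · by_cases hu0 : u = k0
      · subst hu0
        by_cases hv : v = k0.rev
        · subst hv
          simp [hk, hz]
          ring
        · have hv' : ¬ k0.rev = v := fun h => hv h.symm
          have hv'' : ¬ v.rev = k0 := fun h => hv (by rw [← h, Fin.rev_rev])
          simp [huv, hv', hv'']
      · have : ¬ k0 = u := fun h => hu0 h.symm
        simp [huv, hu0, this]
  -- unitarity gives the trace condition
  have hU := Mo.mat_isU t
  rw [hmat] at hU
  have htr : z + σ z = 0 := by
    have h1 := IsU.form σ hU (Pi.single k0.rev 1) (Pi.single k0.rev 1)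
    have e1 : Hm σ k0 0 z *ᵥ (Pi.single k0.rev 1 : Fin n → F) =
        Pi.single k0.rev 1 + Pi.single k0 z := by
      rw [Hm_zero, Matrix.add_mulVec, Matrix.one_mulVec]
      congr 1
      ext u
      rw [Matrix.mulVec_single_one]
      simp only [Matrix.col_apply, Matrix.single_apply, Pi.single_apply]
      by_cases hu : u = k0
      · subst hu
        simp
      · have : ¬ k0 = u := fun h => hu h.symm
        simp [hu, this]
    rw [e1, hJ_add_l, hJ_add_r, hJ_add_r, hJ_single_l, hJ_single_l, hJ_single_l, hJ_single_l,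
      Fin.rev_rev, Pi.single_eq_of_ne hk, Pi.single_eq_same, Pi.single_eq_same,
      Pi.single_eq_of_ne hk.symm] at h1
    simp only [map_zero, map_one, mul_zero, mul_one, one_mul, zero_add, add_zero] at h1
    linear_combination h1
  obtain ⟨x, hx⟩ := exists_dl σ hσ2 hσ z htr
  refine ⟨x, ?_⟩
  apply Mo.mat_inj
  unfold Z
  rw [hx, mat_Z Mo hσ2 hk htr, hmat]

end gen

section su

variable {F : Type*} [Field F] [Fintype F] [DecidableEq F] {q : ℕ} (hF : Fintype.card F = q ^ 2)
  {n : ℕ}

include hF in
theorem fix_card (t : F) :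
    (Finset.univ.filter (fun t' : F => conjQ hF (t - t') = t - t')).card ≤ q := by
  classical
  have hq : 1 < q := two_le_q hF
  have hne : (Polynomial.X ^ q - Polynomial.X : Polynomial F) ≠ 0 :=
    FiniteField.X_pow_card_sub_X_ne_zero F hq
  have h1 : (Finset.univ.filter (fun t' : F => conjQ hF (t - t') = t - t')).card ≤
      (Polynomial.X ^ q - Polynomial.X : Polynomial F).roots.toFinset.card := by
    apply Finset.card_le_card_of_injOn (fun t' => t - t')
    · intro t' ht'
      have ht'2 := (Finset.mem_filter.mp (Finset.mem_coe.mp ht')).2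
      rw [conjQ_apply] at ht'2
      rw [Finset.mem_coe, Multiset.mem_toFinset, Polynomial.mem_roots hne, Polynomial.IsRoot,
        Polynomial.eval_sub, Polynomial.eval_pow, Polynomial.eval_X, ht'2, sub_self]
    · intro a _ b _ hab
      simp only at hab
      linear_combination -hab
  refine h1.trans ((Multiset.toFinset_card_le _).trans ?_)
  refine (Polynomial.card_roots' _).trans ?_
  rw [FiniteField.X_pow_card_sub_X_natDegree_eq F hq]

include hF in
theorem norm_card (c : F) :
    (Finset.univ.filter (fun t : F => t * conjQ hF t = c)).card ≤ q + 1 := by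
  classical
  have h1 : (Finset.univ.filter (fun t : F => t * conjQ hF t = c)).card ≤
      (Polynomial.nthRoots (q + 1) c).toFinset.card := by
    apply Finset.card_le_card
    intro t ht
    have ht2 := (Finset.mem_filter.mp ht).2
    rw [conjQ_apply] at ht2
    rw [Multiset.mem_toFinset, Polynomial.mem_nthRoots (by omega), pow_succ, mul_comm]
    exact ht2
  exact h1.trans ((Multiset.toFinset_card_le _).trans (Polynomial.card_nthRoots _ _))

include hF in
/-- a normal subgroup containing the long root group is everything -/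
theorem normal_eq_top (hn : 3 ≤ n) (h32 : ¬ (n = 3 ∧ q = 2))
    (P Pi : Matrix (Fin n) (Fin n) F) (h1 : P * Pi = 1) (h2 : Pi * P = 1)
    (hP : ∀ x y, hermForm n F q (P *ᵥ x) (P *ᵥ y) = hJ (conjQ hF) x y)
    (K : Subgroup ↥(SU n F q)) [K.Normal]
    (hK : ∀ x, Z (suModel hF P Pi h1 h2 hP) (⟨0, by omega⟩ : Fin n) x ∈ K) : K = ⊤ := by
  set Mo := suModel hF P Pi h1 h2 hP with hMo
  obtain ⟨τ, hτ0, hτ'⟩ := exists_trace_zero hF
  have hτ : τ + conjQ hF τ = 0 := by
    rw [conjQ_apply, hτ']
    ring
  have htr : ∀ a, conjQ hF a = a → ∃ c, c + conjQ hF c = a :=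
    fun a ha => exists_trace (conjQ hF) (conjQ_ne_id hF) (conjQ_conjQ hF) a ha
  have hn0 : 0 < n := by omega
  have hL : ∀ (t : ↥(SU n F q)) (w : Fin n → F) (c : F), hJ (conjQ hF) w w = 0 →
      IsTv Mo t w c → t ∈ K := by
    intro t w c hiso ht
    by_cases hw : w = 0
    · rw [hw] at ht
      rw [eq_one_of_isTv_zero Mo ht]
      exact K.one_mem
    · obtain ⟨h, _, lam, hlam, e⟩ := reach_iso Mo (conjQ_conjQ hF) τ hτ0 hτ htr hn0 ⊤ le_top le_top
        w hw hiso
      have h3 := isTv_conj Mo ht h
      rw [e] at h3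
      obtain ⟨x, hx⟩ := tv_eq_Z Mo (conjQ_conjQ hF) (conjQ_ne_id hF) (by omega) h3
      have h4 : h * t * h⁻¹ ∈ K := by
        rw [hx]
        exact hK x
      have h5 : t = h⁻¹ * (h * t * h⁻¹) * h⁻¹⁻¹ := by group
      rw [h5]
      exact Subgroup.Normal.conj_mem inferInstance _ h4 _
  rw [eq_top_iff, ← TT_eq_top hF n (by omega) h32]
  unfold TT
  rw [Subgroup.closure_le]
  rintro A ⟨v, c, hv, hA⟩
  apply hL A (Pi *ᵥ v) c
  · rw [← hP, Matrix.mulVec_mulVec, h1, Matrix.one_mulVec]
    exact hv
  · intro x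
    rw [hMo, suModel_mat, hA, ← Matrix.mulVec_mulVec, ← Matrix.mulVec_mulVec,
      Cfsg.Agent.S0779.transvection_mulVec, Matrix.mulVec_add, Matrix.mulVec_smul,
      Matrix.mulVec_mulVec, h2, Matrix.one_mulVec]
    congr 3
    rw [← hP, Matrix.mulVec_mulVec, h1, Matrix.one_mulVec]

include hF in
/-- **The Landazuri–Seitz bound** for `SU_n(q)`. -/
theorem su_bound (hn : 3 ≤ n) (h32 : ¬ (n = 3 ∧ q = 2)) (k : ℕ)
    (ρ : Representation ℂ ↥(SU n F q) (Fin k → ℂ)) (hirr : ρ.IsIrreducible) (hk : 2 ≤ k) :
    bnd q n ≤ k := by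
  obtain ⟨P, Q, h1, h2, hP⟩ := exists_witt hF n
  set Mo := suModel hF P Q h1 h2 hP with hMo
  have : Finite ↥(SU n F q) := inferInstance
  have hmain := main_bound Mo (conjQ_conjQ hF) (conjQ_ne_id hF)
    (ρ : ↥(SU n F q) →* ((Fin k → ℂ) →ₗ[ℂ] (Fin k → ℂ))) hF (fix_card hF) (norm_card hF) hn ?_
  · rwa [Module.finrank_fin_fun] at hmain
  · by_contra hcon
    push Not at hcon
    have hker : (ρ : ↥(SU n F q) →* ((Fin k → ℂ) →ₗ[ℂ] (Fin k → ℂ))).ker = ⊤ := by
      apply normal_eq_top hF hn h32 P Q h1 h2 hP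
      intro x
      rw [MonoidHom.mem_ker]
      apply LinearMap.ext
      intro v
      exact hcon v x
    have htriv : ∀ g, ρ g = 1 := by
      intro g
      have : g ∈ (ρ : ↥(SU n F q) →* ((Fin k → ℂ) →ₗ[ℂ] (Fin k → ℂ))).ker := by
        rw [hker]
        trivial
      exact MonoidHom.mem_ker.mp this
    let v : Fin k → ℂ := Pi.single ⟨0, by omega⟩ 1
    have hv : v ≠ 0 := by
      intro h0
      have := congrFun h0 ⟨0, by omega⟩
      simp [v] at this
    let S : Subrepresentation ρ :=
      ⟨Submodule.span ℂ {v}, by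
        intro g w hw
        rw [htriv g]
        exact hw⟩
    rcases hirr.eq_bot_or_eq_top S with hS | hS
    · have h1 : S.toSubmodule = ⊥ := congrArg Subrepresentation.toSubmodule hS
      exact hv (Submodule.span_singleton_eq_bot.mp h1)
    · have h1 : S.toSubmodule = ⊤ := congrArg Subrepresentation.toSubmodule hS
      have h2 := finrank_span_singleton (K := ℂ) hv
      change Module.finrank ℂ ↥S.toSubmodule = 1 at h2
      rw [h1, finrank_top, Module.finrank_fin_fun] at h2
      omega

end su

end Cfsg.Agent.Lib.Helper14.SULS
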