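import Cfsg.Agent.Lib.Helper14.GUConj7
import Cfsg.Agent.Lib.Helper15.RegUnip5

set_option autoImplicit false
set_option linter.unusedSectionVars false

/-! # Regular unipotent elements of unitary groups -/

namespace Cfsg.Agent.Lib.Helper14.SURegUnip

open Matrix Cfsg Module Polynomial
open Cfsg.Agent.Lib.Helper14.HSemi (sigQ sigQ_apply)
open Cfsg.Agent.Lib.Helper14.HCount (sigQ_sigQ)
open Cfsg.Agent.Lib.Helper14.GUConj
open Cfsg.Agent.Lib.Helper14 (nilOf nilOf_pow_eq_zero_iff)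
open Cfsg.Agent.Lib.Helper15

variable {F : Type*} [Field F] [Fintype F] {q : ℕ} (hF : Fintype.card F = q ^ 2) {n : ℕ}

/-- regular unipotent matrices -/
def IsReg (M : Matrix (Fin n) (Fin n) F) : Prop := (M - 1) ^ n = 0 ∧ (M - 1).rank = n - 1

theorem isReg_of_conj {M M' G : Matrix (Fin n) (Fin n) F} (hG : IsUnit G.det)
    (h : G * M = M' * G) (hM : IsReg M) : IsReg M' := by
  have h1 : G * (M - 1) = (M' - 1) * G := by
    rw [mul_sub, sub_mul, h, mul_one, one_mul]
  have h2 : ∀ k : ℕ, G * (M - 1) ^ k = (M' - 1) ^ k * G := by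
    intro k
    induction k with
    | zero => simp
    | succ k ih => rw [pow_succ, ← mul_assoc, ih, mul_assoc, h1, ← mul_assoc, ← pow_succ]
  constructor
  · have h3 := h2 n
    rw [hM.1, mul_zero] at h3
    have h4 : (M' - 1) ^ n * G * G⁻¹ = 0 := by rw [← h3, zero_mul]
    rwa [Matrix.mul_nonsing_inv_cancel_right _ _ hG] at h4
  · rw [← hM.2, ← Matrix.rank_mul_eq_right_of_isUnit_det G (M - 1) hG, h1,
      Matrix.rank_mul_eq_left_of_isUnit_det G (M' - 1) hG]

theorem det_of_isReg {M : Matrix (Fin n) (Fin n) F} (hM : IsReg M) : M.det = 1 := by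
  have := det_smul_one_add_of_pow_eq_zero (M - 1) n hM.1 (1 : F)
  rwa [one_smul, one_pow, add_sub_cancel] at this

theorem exists_scalar_of_comm (N c : Matrix (Fin n) (Fin n) F) (hnil : N ^ n = 0)
    (hrank : N.rank = n - 1) (hcomm : c * N = N * c) :
    ∃ a : F, (c - a • (1 : Matrix (Fin n) (Fin n) F)) ^ n = 0 ∧ c.det = a ^ n := by
  classical
  have hnil' : (Matrix.toLin' N) ^ n = 0 := by
    rw [← Matrix.toLin'_pow, hnil, map_zero]
  have hker : finrank F (LinearMap.ker (Matrix.toLin' N)) ≤ 1 := by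
    rw [Matrix.toLin'_apply']
    exact finrank_ker_mulVecLin_le_one _ hrank
  have hc : Commute (Matrix.toLin' c) (Matrix.toLin' N) := by
    show _ * _ = _ * _
    rw [Module.End.mul_eq_comp, Module.End.mul_eq_comp, ← Matrix.toLin'_mul, ← Matrix.toLin'_mul,
      hcomm]
  obtain ⟨a, ha⟩ := exists_sub_smul_pow_eq_zero (Matrix.toLin' N) (Matrix.toLin' c) n hnil' hker hc
  have hM : (c - a • (1 : Matrix (Fin n) (Fin n) F)) ^ n = 0 := by
    apply Matrix.toLin'.injective
    rw [Matrix.toLin'_pow, map_sub, map_smul, Matrix.toLin'_one, map_zero]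
    exact ha
  refine ⟨a, hM, ?_⟩
  have := det_smul_one_add_of_pow_eq_zero (c - a • (1 : Matrix (Fin n) (Fin n) F)) n hM a
  rwa [add_sub_cancel] at this

theorem scalar_eq_zero_of_nilp (hn : 1 ≤ n) (b : F)
    (h : IsNilpotent (b • (1 : Matrix (Fin n) (Fin n) F))) : b = 0 := by
  obtain ⟨m, hm⟩ := h
  rw [_root_.smul_pow, one_pow] at hm
  have h1 := congrFun (congrFun hm ⟨0, hn⟩) ⟨0, hn⟩
  rw [Matrix.smul_apply, Matrix.one_apply_eq, smul_eq_mul, mul_one, Matrix.zero_apply] at h1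
  exact IsNilpotent.eq_zero ⟨m, h1⟩

theorem norm_of_comm (hn : 1 ≤ n) (c : Matrix (Fin n) (Fin n) F) (hcU : sharp hF c * c = 1)
    (a : F) (ha : (c - a • (1 : Matrix (Fin n) (Fin n) F)) ^ n = 0) : sigQ hF a * a = 1 := by
  have hcU' : c * sharp hF c = 1 := _root_.mul_eq_one_comm.mp hcU
  have h1 : (sharp hF c - sigQ hF a • (1 : Matrix (Fin n) (Fin n) F)) ^ n = 0 := by
    have h := congrArg (sharp hF) ha
    rw [sharp_pow, sharp_zero] at h
    rw [← h]
    congr 1
    rw [sub_eq_add_neg c, ← neg_smul, sharp_add, sharp_smul, sharp_one, map_neg, neg_smul,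
      ← sub_eq_add_neg]
  have hcomm : Commute (sharp hF c - sigQ hF a • (1 : Matrix (Fin n) (Fin n) F)) c := by
    apply Commute.sub_left
    · show _ * _ = _ * _
      rw [hcU, hcU']
    · exact (Commute.one_left c).smul_left (sigQ hF a)
  have h2 : ((1 : Matrix (Fin n) (Fin n) F) - sigQ hF a • c) ^ n = 0 := by
    have : (1 : Matrix (Fin n) (Fin n) F) - sigQ hF a • c
        = (sharp hF c - sigQ hF a • (1 : Matrix (Fin n) (Fin n) F)) * c := by
      rw [sub_mul, hcU, smul_mul_assoc, one_mul]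
    rw [this, hcomm.mul_pow, h1, zero_mul]
  have h3 : IsNilpotent (sigQ hF a • (c - a • (1 : Matrix (Fin n) (Fin n) F))
      + (1 - sigQ hF a • c)) := by
    apply Commute.isNilpotent_add
    · apply Commute.smul_left
      apply Commute.sub_left
      · exact (Commute.one_right c).sub_right ((Commute.refl c).smul_right _)
      · exact (Commute.one_left _).smul_left a
    · exact IsNilpotent.smul ⟨n, ha⟩ (sigQ hF a)
    · exact ⟨n, h2⟩
  have h4 : sigQ hF a • (c - a • (1 : Matrix (Fin n) (Fin n) F)) + (1 - sigQ hF a • c)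
      = (1 - sigQ hF a * a) • (1 : Matrix (Fin n) (Fin n) F) := by
    rw [smul_sub, smul_smul, sub_smul, one_smul]
    abel
  rw [h4] at h3
  have := scalar_eq_zero_of_nilp hn _ h3
  exact (sub_eq_zero.mp this).symm

theorem det_ratio (hn : 1 ≤ n) {M₀ M P P' : Matrix (Fin n) (Fin n) F} (hR₀ : IsReg M₀)
    (hPU : sharp hF P * P = 1) (hP'U : sharp hF P' * P' = 1)
    (hPM : P * M₀ = M * P) (hP'M : P' * M₀ = M * P') :
    ∃ a : F, sigQ hF a * a = 1 ∧ P'.det = P.det * a ^ n := by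
  have hPU' : P * sharp hF P = 1 := _root_.mul_eq_one_comm.mp hPU
  set c := sharp hF P * P' with hc
  have hcU : sharp hF c * c = 1 := by
    rw [hc, sharp_mul, sharp_sharp]
    calc sharp hF P' * P * (sharp hF P * P') = sharp hF P' * (P * sharp hF P) * P' := by
          simp only [mul_assoc]
      _ = 1 := by rw [hPU', mul_one, hP'U]
  have h1 : M₀ * sharp hF P = sharp hF P * M := by
    calc M₀ * sharp hF P = sharp hF P * (P * M₀) * sharp hF P := by
          rw [← mul_assoc, hPU, one_mul]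
      _ = sharp hF P * M * (P * sharp hF P) := by rw [hPM]; simp only [mul_assoc]
      _ = sharp hF P * M := by rw [hPU', mul_one]
  have hcomm : c * M₀ = M₀ * c := by
    rw [hc, mul_assoc, hP'M, ← mul_assoc, ← h1, mul_assoc]
  have hcomm' : c * (M₀ - 1) = (M₀ - 1) * c := by
    rw [mul_sub, sub_mul, hcomm, mul_one, one_mul]
  obtain ⟨a, ha, hdet⟩ := exists_scalar_of_comm (M₀ - 1) c hR₀.1 hR₀.2 hcomm'
  refine ⟨a, norm_of_comm hF hn c hcU a ha, ?_⟩
  have h2 : (sharp hF P).det * P.det = 1 := by rw [← Matrix.det_mul, hPU, Matrix.det_one]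
  rw [← hdet, hc, Matrix.det_mul, ← mul_assoc, mul_comm P.det, h2, one_mul]

theorem exists_su_conj {M₀ M M' P P' : Matrix (Fin n) (Fin n) F}
    (hPU : sharp hF P * P = 1) (hP'U : sharp hF P' * P' = 1)
    (hPM : P * M₀ = M * P) (hP'M : P' * M₀ = M' * P') (a : F) (ha : sigQ hF a * a = 1)
    (hdet : P'.det = P.det * a ^ n) :
    ∃ g : Matrix (Fin n) (Fin n) F, g.det = 1 ∧ sharp hF g * g = 1 ∧ g * M = M' * g := by
  have hPU' : P * sharp hF P = 1 := _root_.mul_eq_one_comm.mp hPU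
  have ha0 : a ≠ 0 := by
    rintro rfl
    simp at ha
  have h1 : M₀ * sharp hF P = sharp hF P * M := by
    calc M₀ * sharp hF P = sharp hF P * (P * M₀) * sharp hF P := by
          rw [← mul_assoc, hPU, one_mul]
      _ = sharp hF P * M * (P * sharp hF P) := by rw [hPM]; simp only [mul_assoc]
      _ = sharp hF P * M := by rw [hPU', mul_one]
  have h2 : (sharp hF P).det * P.det = 1 := by rw [← Matrix.det_mul, hPU, Matrix.det_one]
  refine ⟨a⁻¹ • (P' * sharp hF P), ?_, ?_, ?_⟩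
  · rw [Matrix.det_smul, Fintype.card_fin, Matrix.det_mul, hdet]
    calc a⁻¹ ^ n * (P.det * a ^ n * (sharp hF P).det)
        = (a⁻¹ ^ n * a ^ n) * ((sharp hF P).det * P.det) := by ring
      _ = 1 := by rw [h2, mul_one, ← mul_pow, inv_mul_cancel₀ ha0, one_pow]
  · rw [sharp_smul, sharp_mul, sharp_sharp, smul_mul_smul_comm]
    have h3 : sigQ hF a⁻¹ * a⁻¹ = 1 := by
      rw [map_inv₀ (sigQ hF), ← mul_inv, ha, inv_one]
    have h4 : P * sharp hF P' * (P' * sharp hF P) = 1 := by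
      calc P * sharp hF P' * (P' * sharp hF P) = P * (sharp hF P' * P') * sharp hF P := by
            simp only [mul_assoc]
        _ = 1 := by rw [hP'U, mul_one, hPU']
    rw [h3, h4, one_smul]
  · rw [smul_mul_assoc, mul_smul_comm]
    congr 1
    rw [mul_assoc, ← h1, ← mul_assoc, hP'M, mul_assoc]

theorem exists_unitary_det (hn : 1 ≤ n) (d : F) (hd : sigQ hF d * d = 1) :
    ∃ D : Matrix (Fin n) (Fin n) F, sharp hF D * D = 1 ∧ D.det = d := by
  classical
  let f : Fin n → F := fun i => if i = ⟨0, hn⟩ then d else 1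
  refine ⟨Matrix.diagonal f, ?_, ?_⟩
  · have h1 : sharp hF (Matrix.diagonal f) = Matrix.diagonal (fun i => sigQ hF (f i)) := by
      ext i j
      rw [sharp_apply, Matrix.diagonal_apply, Matrix.diagonal_apply]
      by_cases hij : i = j
      · subst hij
        simp
      · have : ¬ j = i := fun h => hij h.symm
        simp [hij, this]
    rw [h1, Matrix.diagonal_mul_diagonal, ← Matrix.diagonal_one]
    congr 1
    funext i
    show sigQ hF (f i) * f i = 1
    by_cases hi : i = ⟨0, hn⟩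
    · have : f i = d := if_pos hi
      rw [this]
      exact hd
    · have : f i = 1 := if_neg hi
      rw [this, map_one, one_mul]
  · rw [Matrix.det_diagonal]
    show ∏ i : Fin n, (if i = (⟨0, hn⟩ : Fin n) then d else 1) = d
    rw [Finset.prod_ite_eq']
    simp

theorem exists_unitary_reg (hn : 1 ≤ n) :
    ∃ M₀ : Matrix (Fin n) (Fin n) F, sharp hF M₀ * M₀ = 1 ∧ IsReg M₀ := by
  classical
  set J : GL (Fin n) F := stdRegUnip F n with hJ
  have hJm : (J : Matrix (Fin n) (Fin n) F) = 1 + shiftMat F n := coe_stdRegUnip n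
  have hJreg : IsReg (J : Matrix (Fin n) (Fin n) F) := by
    constructor
    · rw [hJm, add_sub_cancel_left, shiftMat_pow_self]
    · rw [hJm, add_sub_cancel_left, rank_shiftMat n hn]
  have hnil : IsNilpotent (nilOf J) := by
    refine ⟨n, ?_⟩
    rw [nilOf_pow_eq_zero_iff]
    exact hJreg.1
  have hgd : IsUnit (J : Matrix (Fin n) (Fin n) F).det :=
    (Matrix.isUnit_iff_isUnit_det _).mp J.isUnit
  have hsd : IsUnit (sharp hF (J : Matrix (Fin n) (Fin n) F))⁻¹.det := by
    rw [Matrix.det_nonsing_inv, Ring.inverse_eq_inv', det_sharp]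
    exact (hgd.map _).inv
  let J' : GL (Fin n) F := Matrix.nonsingInvUnit _ hsd
  have hJ' : (J' : Matrix (Fin n) (Fin n) F) = (sharp hF (J : Matrix (Fin n) (Fin n) F))⁻¹ := rfl
  have hconj := isConj_sharp_inv hF J J' hJ' hnil
  obtain ⟨x, hx⟩ := isConj_iff.mp hconj
  have h1 : x * J = J' * x := by rw [← hx, inv_mul_cancel_right]
  have h2 : (x : Matrix (Fin n) (Fin n) F) * (J : Matrix (Fin n) (Fin n) F)
      = (sharp hF (J : Matrix (Fin n) (Fin n) F))⁻¹ * (x : Matrix (Fin n) (Fin n) F) := by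
    have := congrArg (fun y : GL (Fin n) F => (y : Matrix (Fin n) (Fin n) F)) h1
    exact this
  have hsd' : IsUnit (sharp hF (J : Matrix (Fin n) (Fin n) F)).det := by
    rw [det_sharp]
    exact hgd.map _
  have h3 : sharp hF (J : Matrix (Fin n) (Fin n) F) * (x : Matrix (Fin n) (Fin n) F)
      * (J : Matrix (Fin n) (Fin n) F) = (x : Matrix (Fin n) (Fin n) F) := by
    rw [mul_assoc, h2, Matrix.mul_nonsing_inv_cancel_left _ _ hsd']
  have hxd : IsUnit (x : Matrix (Fin n) (Fin n) F).det :=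
    (Matrix.isUnit_iff_isUnit_det _).mp x.isUnit
  obtain ⟨W, hW, hWU⟩ := exists_unitary_conj hF (J : Matrix (Fin n) (Fin n) F)
    (x : Matrix (Fin n) (Fin n) F) hxd h3
  refine ⟨W * (J : Matrix (Fin n) (Fin n) F) * W⁻¹, hWU, ?_⟩
  apply isReg_of_conj hW _ hJreg
  rw [Matrix.nonsing_inv_mul_cancel_right _ _ hW]

theorem exists_unitary_conj_of_reg (hn : 1 ≤ n) {M₀ M : Matrix (Fin n) (Fin n) F}
    (hU₀ : sharp hF M₀ * M₀ = 1) (hU : sharp hF M * M = 1) (hR₀ : IsReg M₀) (hR : IsReg M) :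
    ∃ P : Matrix (Fin n) (Fin n) F, IsUnit P.det ∧ sharp hF P * P = 1 ∧ P * M₀ = M * P := by
  have hd₀ : IsUnit M₀.det := by rw [det_of_isReg hR₀]; exact isUnit_one
  have hd : IsUnit M.det := by rw [det_of_isReg hR]; exact isUnit_one
  let u₀ : GL (Fin n) F := Matrix.nonsingInvUnit M₀ hd₀
  let u : GL (Fin n) F := Matrix.nonsingInvUnit M hd
  obtain ⟨P₀, hP₀⟩ := exists_conj_stdRegUnip hn u₀ hR₀.1 hR₀.2
  obtain ⟨P₁, hP₁⟩ := exists_conj_stdRegUnip hn u hR.1 hR.2
  have hG : (P₁ * P₀⁻¹) * u₀ = u * (P₁ * P₀⁻¹) := by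
    rw [hP₀, hP₁]
    group
  have hG' : ((P₁ * P₀⁻¹ : GL (Fin n) F) : Matrix (Fin n) (Fin n) F) * M₀
      = M * ((P₁ * P₀⁻¹ : GL (Fin n) F) : Matrix (Fin n) (Fin n) F) := by
    have := congrArg (fun y : GL (Fin n) F => (y : Matrix (Fin n) (Fin n) F)) hG
    exact this
  exact gu_conj_core hF M₀ M _ hU₀ hU
    ((Matrix.isUnit_iff_isUnit_det _).mp (P₁ * P₀⁻¹).isUnit) hG'

end Cfsg.Agent.Lib.Helper14.SURegUnip
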