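import Mathlib
set_option autoImplicit false
namespace Cfsg.Agent.Lib.Helper14
open Polynomial Matrix

section
variable {F : Type*} [Field F] [Fintype F]

/-- Monic polynomials of degree `n ≥ 1` whose constant coefficient satisfies `P` are counted by
`#{a | P a} * q^(n-1)`. -/
theorem card_monic_coeff_zero (n : ℕ) (hn : 1 ≤ n) (P : F → Prop) :
    Nat.card {f : F[X] // f.Monic ∧ f.natDegree = n ∧ P (f.coeff 0)} =
      Nat.card {a : F // P a} * Fintype.card F ^ (n - 1) := by
  obtain ⟨m, rfl⟩ : ∃ m, n = m + 1 := ⟨n - 1, by omega⟩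
  let E : {p : F[X] // p.Monic ∧ p.natDegree = m + 1} ≃ (Fin (m + 1) → F) :=
    (monicEquivDegreeLT (m + 1)).trans (degreeLTEquiv F (m + 1)).toEquiv
  have hE : ∀ x : {p : F[X] // p.Monic ∧ p.natDegree = m + 1}, E x 0 = x.1.coeff 0 := by
    rintro ⟨f, hf, hd⟩
    show f.eraseLead.coeff ((0 : Fin (m + 1)) : ℕ) = f.coeff 0
    rw [Fin.val_zero, Polynomial.eraseLead_coeff_of_ne]
    rw [hd]
    omega
  let e1 : {f : F[X] // f.Monic ∧ f.natDegree = m + 1 ∧ P (f.coeff 0)} ≃
      {x : {p : F[X] // p.Monic ∧ p.natDegree = m + 1} // P (x.1.coeff 0)} :=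
    (Equiv.subtypeEquivRight (fun f => by rw [and_assoc])).trans
      (Equiv.subtypeSubtypeEquivSubtypeInter (fun p : F[X] => p.Monic ∧ p.natDegree = m + 1)
        (fun p => P (p.coeff 0))).symm
  let e2 : {x : {p : F[X] // p.Monic ∧ p.natDegree = m + 1} // P (x.1.coeff 0)} ≃
      {c : Fin (m + 1) → F // P (c 0)} :=
    Equiv.subtypeEquiv E (fun x => by rw [hE])
  let e3 : {c : Fin (m + 1) → F // P (c 0)} ≃ {s : F × (Fin m → F) // P s.1} :=
    Equiv.subtypeEquiv (Fin.consEquiv (fun _ => F)).symm (fun c => by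
      show P (c 0) ↔ P (c 0)
      exact Iff.rfl)
  let e4 : {s : F × (Fin m → F) // P s.1} ≃ {a : F // P a} × (Fin m → F) :=
    Equiv.prodSubtypeFstEquivSubtypeProd
  rw [Nat.card_congr (e1.trans (e2.trans (e3.trans e4))), Nat.card_prod, Nat.card_eq_fintype_card
    (α := Fin m → F), Fintype.card_fun, Fintype.card_fin, Nat.add_sub_cancel]

theorem card_monic_coeff_ne_zero (n : ℕ) (hn : 1 ≤ n) :
    Nat.card {f : F[X] // f.Monic ∧ f.natDegree = n ∧ f.coeff 0 ≠ 0} =
      (Fintype.card F - 1) * Fintype.card F ^ (n - 1) := by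
  classical
  rw [card_monic_coeff_zero n hn (fun a => a ≠ 0)]
  congr 1
  rw [Nat.card_eq_fintype_card, Fintype.card_subtype_compl, Fintype.card_subtype_eq]

theorem card_monic_coeff_eq (n : ℕ) (hn : 1 ≤ n) (a₀ : F) :
    Nat.card {f : F[X] // f.Monic ∧ f.natDegree = n ∧ f.coeff 0 = a₀} =
      Fintype.card F ^ (n - 1) := by
  classical
  rw [card_monic_coeff_zero n hn (fun a => a = a₀)]
  rw [Nat.card_eq_fintype_card, Fintype.card_subtype_eq, one_mul]

end

end Cfsg.Agent.Lib.Helper14
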