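import Mathlib
import Cfsg.Agent.Lib.Helper14.SemiConjFin
import Cfsg.Agent.Lib.Helper14.SemiExist
import Cfsg.Agent.Lib.Helper14.SemiCount
set_option autoImplicit false
namespace Cfsg.Agent.Lib.Helper14
open Polynomial Matrix

section
variable {F : Type*} [Field F] [Fintype F]

theorem coprime_ne_zero (p : ℕ) [Fact p.Prime] (k : ℕ) (hk : k.Coprime p) : k ≠ 0 := by
  rintro rfl
  rw [Nat.coprime_zero_left] at hk
  exact (Fact.out : p.Prime).one_lt.ne' hk

/-- Existence of a `p'`-element of `GL_n(q)` with prescribed characteristic polynomial. -/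
theorem exists_GL_charpoly (p : ℕ) [Fact p.Prime] [CharP F p] (n : ℕ) (f : F[X])
    (hm : f.Monic) (hn : f.natDegree = n) (h0 : f.coeff 0 ≠ 0) :
    ∃ g : GL (Fin n) F, (orderOf g).Coprime p ∧ (g : Matrix (Fin n) (Fin n) F).charpoly = f := by
  obtain ⟨A, k, hk, hA, hc⟩ := exists_matrix_charpoly p n f hm hn h0
  have hk0 : k ≠ 0 := coprime_ne_zero p k hk
  obtain ⟨j, rfl⟩ : ∃ j, k = j + 1 := ⟨k - 1, by omega⟩
  let g : GL (Fin n) F := ⟨A, A ^ j, by rw [← pow_succ', hA], by rw [← pow_succ, hA]⟩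
  refine ⟨g, ?_, hc⟩
  have hg : g ^ (j + 1) = 1 := by
    apply Units.ext
    rw [Units.val_pow_eq_pow_val]
    exact hA
  exact Nat.Coprime.coprime_dvd_left (orderOf_dvd_of_pow_eq_one hg) hk

/-- Existence of a `p'`-element of `SL_n(q)` with prescribed characteristic polynomial. -/
theorem exists_SL_charpoly (p : ℕ) [Fact p.Prime] [CharP F p] (n : ℕ) (f : F[X])
    (hm : f.Monic) (hn : f.natDegree = n) (h0 : f.coeff 0 = (-1) ^ n) :
    ∃ g : Matrix.SpecialLinearGroup (Fin n) F,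
      (orderOf g).Coprime p ∧ (g : Matrix (Fin n) (Fin n) F).charpoly = f := by
  have h0' : f.coeff 0 ≠ 0 := by
    rw [h0]
    exact pow_ne_zero _ (neg_ne_zero.mpr one_ne_zero)
  obtain ⟨A, k, hk, hA, hc⟩ := exists_matrix_charpoly p n f hm hn h0'
  have hdet : A.det = 1 := by
    rw [Matrix.det_eq_sign_charpoly_coeff, hc, h0, Fintype.card_fin, ← pow_add, ← two_mul,
      pow_mul, neg_one_sq, one_pow]
  let g : Matrix.SpecialLinearGroup (Fin n) F := ⟨A, hdet⟩
  refine ⟨g, ?_, hc⟩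
  have hg : g ^ k = 1 := by
    apply Subtype.ext
    rw [Matrix.SpecialLinearGroup.coe_pow]
    exact hA
  exact Nat.Coprime.coprime_dvd_left (orderOf_dvd_of_pow_eq_one hg) hk

theorem charpoly_coeff_zero_ne_zero {n : ℕ} (g : GL (Fin n) F) :
    (g : Matrix (Fin n) (Fin n) F).charpoly.coeff 0 ≠ 0 := by
  intro h
  have h1 : (g : Matrix (Fin n) (Fin n) F).det = 0 := by
    rw [Matrix.det_eq_sign_charpoly_coeff, h, mul_zero]
  have h2 : (g : Matrix (Fin n) (Fin n) F).det * ((g⁻¹ : GL (Fin n) F) : Matrix (Fin n) (Fin n) F).det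
      = 1 := by
    rw [← Matrix.det_mul, ← Units.val_mul, mul_inv_cancel, Units.val_one, Matrix.det_one]
  rw [h1, zero_mul] at h2
  exact zero_ne_one h2

theorem charpoly_coeff_zero_SL {n : ℕ} (g : Matrix.SpecialLinearGroup (Fin n) F) :
    (g : Matrix (Fin n) (Fin n) F).charpoly.coeff 0 = (-1) ^ n := by
  have h1 := Matrix.det_eq_sign_charpoly_coeff (g : Matrix (Fin n) (Fin n) F)
  rw [g.det_coe, Fintype.card_fin] at h1
  have h2 : ((-1 : F) ^ n) * ((-1) ^ n) = 1 := by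
    rw [← pow_add, ← two_mul, pow_mul, neg_one_sq, one_pow]
  calc (g : Matrix (Fin n) (Fin n) F).charpoly.coeff 0
      = ((-1 : F) ^ n * (-1) ^ n) * (g : Matrix (Fin n) (Fin n) F).charpoly.coeff 0 := by
        rw [h2, one_mul]
    _ = (-1) ^ n * ((-1) ^ n * (g : Matrix (Fin n) (Fin n) F).charpoly.coeff 0) := by ring
    _ = (-1) ^ n := by rw [← h1, mul_one]

end

end Cfsg.Agent.Lib.Helper14
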