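import Mathlib
import Cfsg.Agent.Lib.Helper14.SemiConj
set_option autoImplicit false
namespace Cfsg.Agent.Lib.Helper14
open Polynomial

/-!
# Semisimple matrices killed by a power of a polynomial

If `A` is a semisimple matrix over a perfect field whose characteristic polynomial divides a
power of `h`, then `h(A) = 0`.
-/

section
variable {K : Type*} [Field K] [PerfectField K] {n : Type*} [Fintype n] [DecidableEq n]

theorem aeval_eq_zero_of_charpoly_dvd_pow (A : Matrix n n K)
    (hss : Module.End.IsSemisimple (Matrix.toLin' A)) (h : K[X]) (M : ℕ)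
    (hd : A.charpoly ∣ h ^ M) : aeval A h = 0 := by
  have h1 : aeval A A.charpoly = 0 := Matrix.aeval_self_charpoly A
  have h2 : aeval A (h ^ M) = 0 := by
    obtain ⟨c, hc⟩ := hd
    rw [hc, map_mul, h1, zero_mul]
  have h3 : (aeval A h) ^ M = 0 := by rw [← map_pow, h2]
  have e1 : ∀ B : Matrix n n K, Matrix.toLin' B = Matrix.toLinAlgEquiv' B := fun _ => rfl
  have h4 : Matrix.toLin' (aeval A h) = aeval (Matrix.toLin' A) h := by
    rw [e1, e1, aeval_algHom_apply]
  have h5 : Module.End.IsSemisimple (Matrix.toLin' (aeval A h)) := by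
    rw [h4]
    exact hss.aeval _
  have h6 : IsNilpotent (Matrix.toLin' (aeval A h)) := by
    refine ⟨M, ?_⟩
    rw [e1, ← map_pow, h3, map_zero]
  have h7 := Module.End.eq_zero_of_isNilpotent_isSemisimple h6 h5
  apply Matrix.toLin'.injective
  rw [h7, map_zero]

end

end Cfsg.Agent.Lib.Helper14
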