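import Mathlib
import Cfsg.Agent.S0765
import Cfsg.Agent.Lib.Helper14.SpBN8

/-!
# The symplectic group is generated by its triangular and monomial subgroups
-/

set_option autoImplicit false
set_option linter.unusedSectionVars false

namespace Cfsg.Agent.Lib.Helper14.SpBN

open Matrix Cfsg.Agent.Lib.Helper14.MatBN Cfsg.Agent.Lib.Helper14.TriMono
open Cfsg.Agent.Lib.Helper6

variable {n : ℕ} {F : Type*} [Field F]

/-- symplectic transvections as elements of the group -/
def tvE (p : Idx n → F) (c : F) : SpG n F :=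
  ⟨Cfsg.sympTransvection (n + 1) p c, sympTransvection_mem p c⟩

theorem tvE_apply (p : Idx n → F) (c : F) (x : Idx n → F) :
    matHom n F (tvE p c) *ᵥ x = x + (c * Cfsg.sympForm (n + 1) F x p) • p :=
  sympTransvection_mulVec p c x

theorem sp_ext' {g h : SpG n F} (H : ∀ x, matHom n F g *ᵥ x = matHom n F h *ᵥ x) : g = h :=
  Subtype.ext (matrix_ext_mulVec H)

theorem mat_mul_mulVec (g h : SpG n F) (x : Idx n → F) :
    matHom n F (g * h) *ᵥ x = matHom n F g *ᵥ (matHom n F h *ᵥ x) := by
  rw [map_mul, mulVec_mulVec]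

theorem conj_tvE (g : SpG n F) (p : Idx n → F) (c : F) :
    g * tvE p c * g⁻¹ = tvE (matHom n F g *ᵥ p) c := by
  apply sp_ext'
  intro x
  have h1 : matHom n F g *ᵥ (matHom n F g⁻¹ *ᵥ x) = x := by
    rw [← mat_mul_mulVec, mul_inv_cancel, map_one, one_mulVec]
  rw [mat_mul_mulVec, mat_mul_mulVec, tvE_apply, tvE_apply, mulVec_add, mulVec_smul, h1]
  congr 3
  have h2 := Cfsg.Agent.S0765.preserves g (matHom n F g⁻¹ *ᵥ x) p
  have h3 : ((g : Matrix (Idx n) (Idx n) F)) *ᵥ (matHom n F g⁻¹ *ᵥ x) = x := h1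
  rw [h3] at h2
  exact h2.symm

theorem tvE_smul (a : F) (p : Idx n → F) (c : F) : tvE (a • p) c = tvE p (a * a * c) := by
  apply sp_ext'
  intro x
  rw [tvE_apply, tvE_apply, sympForm_smul_right, smul_smul]
  congr 2
  ring

theorem tvE_zero (c : F) : tvE (0 : Idx n → F) c = 1 := by
  apply sp_ext'
  intro x
  rw [tvE_apply, smul_zero, add_zero, map_one, one_mulVec]

section Gen

variable (L : Subgroup (SpG n F))

/-- the vectors all of whose transvections lie in `L` -/
def InV (p : Idx n → F) : Prop := ∀ c, tvE p c ∈ L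

theorem inV_of_mulVec {g : SpG n F} (hg : g ∈ L) {p : Idx n → F}
    (h : InV L (matHom n F g *ᵥ p)) : InV L p := by
  intro c
  have h1 := h c
  rw [← conj_tvE] at h1
  have h2 : tvE p c = g⁻¹ * (g * tvE p c * g⁻¹) * g := by group
  rw [h2]
  exact L.mul_mem (L.mul_mem (L.inv_mem hg) h1) hg

theorem inV_smul {a : F} {p : Idx n → F} (h : InV L p) : InV L (a • p) := by
  intro c
  rw [tvE_smul]
  exact h _

theorem inV_zero : InV L (0 : Idx n → F) := by
  intro c
  rw [tvE_zero]
  exact L.one_mem

end Gen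

/-- transvections along `eᵢ` are triangular -/
theorem tvE_inl_upper (i : Fin (n + 1)) (c : F) :
    (matHom n F (tvE (Pi.single (Sum.inl i) 1) c)).BlockTriangular (rho n) := by
  intro x y hxy
  show Cfsg.sympTransvection (n + 1) (Pi.single (Sum.inl i) 1) c x y = 0
  unfold Cfsg.sympTransvection
  have hne : x ≠ y := fun e => by rw [e] at hxy; exact lt_irrefl _ hxy
  rw [Matrix.add_apply, Matrix.one_apply_ne hne, zero_add, Matrix.smul_apply, vecMulVec_apply,
    mulVec_single_one]
  rcases x with x | x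
  · rcases y with y | y
    · have : (Matrix.J (Fin (n + 1)) F).col (Sum.inl i) (Sum.inl y) = 0 := by
        simp [Matrix.col_apply, Matrix.J]
      rw [this, mul_zero, smul_zero]
    · exfalso
      simp only [rho_inl, rho_inr] at hxy
      have := x.2
      have := y.2
      omega
  · rw [Pi.single_eq_of_ne (by simp), zero_mul, smul_zero]

/-- a monomial matrix maps basis vectors to multiples of basis vectors -/
theorem mono_mulVec_single {A : Matrix (Idx n) (Idx n) F} {π : Equiv.Perm (Idx n)}
    (hA : IsMono A π) (y : Idx n) :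
    A *ᵥ Pi.single y 1 = A (π y) y • Pi.single (π y) 1 := by
  rw [mulVec_single_one]
  funext x
  rw [Matrix.col_apply, Pi.smul_apply, smul_eq_mul]
  by_cases hx : x = π y
  · rw [hx, Pi.single_eq_same, mul_one]
  · rw [hA x y hx, Pi.single_eq_of_ne hx, mul_zero]

end Cfsg.Agent.Lib.Helper14.SpBN
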