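import Mathlib
import Cfsg.Agent.Lib.Helper14.SpBN9

/-!
# Generation of the symplectic group by `B` and `N`
-/

set_option autoImplicit false
set_option linter.unusedSectionVars false

namespace Cfsg.Agent.Lib.Helper14.SpBN

open Matrix Cfsg.Agent.Lib.Helper14.MatBN Cfsg.Agent.Lib.Helper14.TriMono
open Cfsg.Agent.Lib.Helper6

variable {n : ℕ} {F : Type*} [Field F]

section

variable (L : Subgroup (SpG n F)) (hBL : (spSetup n F).Bor ≤ L) (hNL : (spSetup n F).Nn ≤ L)

include hBL in
theorem inV_inl (i : Fin (n + 1)) : InV L (Pi.single (Sum.inl i) 1) := by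
  intro c
  apply hBL
  exact tvE_inl_upper i c

include hNL in
theorem inV_descent (k : Fin n ⊕ Unit) (y : Idx n)
    (h : InV L (Pi.single (piK k y) 1)) : InV L (Pi.single y 1) := by
  apply inV_of_mulVec L (hNL ((spSetup n F).s_mem_Nn k))
  have e : matHom n F ((spSetup n F).s k) *ᵥ Pi.single y 1 =
      matHom n F ((spSetup n F).s k) (piK k y) y • Pi.single (piK k y) 1 :=
    mono_mulVec_single ((spSetup n F).s_mono k) y
  rw [e]
  exact inV_smul L h

include hBL hNL in
theorem inV_inr : ∀ (d : ℕ) (i : Fin (n + 1)), i.val + d = n → InV L (Pi.single (Sum.inr i) 1) := by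
  intro d
  induction d with
  | zero =>
    intro i hi
    have hi' : i = Fin.last n := Fin.ext (by simpa using hi)
    subst hi'
    apply inV_descent L hNL (Sum.inr ())
    have : piK (Sum.inr ()) (Sum.inr (Fin.last n) : Idx n) = Sum.inl (Fin.last n) := by
      show piL n _ = _
      rw [piL_inr, if_pos rfl]
    rw [this]
    exact inV_inl L hBL _
  | succ d ih =>
    intro i hi
    have hlt : i.val < n := by omega
    set k : Fin n := ⟨i.val, hlt⟩ with hk
    have hik : i = k.castSucc := Fin.ext rfl
    rw [hik]
    apply inV_descent L hNL (Sum.inl k)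
    have : piK (Sum.inl k) (Sum.inr k.castSucc : Idx n) = Sum.inr k.succ := by
      show piS k _ = _
      rw [piS_inr, Equiv.swap_apply_left]
    rw [this]
    apply ih
    simp only [Fin.val_succ, hk]
    omega

include hBL hNL in
theorem inV_single (y : Idx n) : InV L (Pi.single y 1) := by
  rcases y with i | i
  · exact inV_inl L hBL i
  · exact inV_inr L hBL hNL (n - i.val) i (by have := i.2; omega)

include hBL hNL in
theorem inV_all (p : Idx n → F) : InV L p := by
  classical
  obtain ⟨a, b, rfl⟩ : ∃ a b, p = Sum.elim a b :=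
    ⟨p ∘ Sum.inl, p ∘ Sum.inr, (Sum.elim_comp_inl_inr p).symm⟩
  by_cases hb : b = 0
  · subst hb
    by_cases ha : a = 0
    · subst ha
      rw [Sum.elim_zero_zero]
      exact inV_zero L
    · have hne : (Finset.univ.filter (fun l => a l ≠ 0)).Nonempty := by
        obtain ⟨l, hl⟩ := Function.ne_iff.mp ha
        exact ⟨l, by simpa using hl⟩
      obtain ⟨i, hai, hmax⟩ : ∃ i, a i ≠ 0 ∧ ∀ l, i < l → a l = 0 := by
        refine ⟨(Finset.univ.filter (fun l => a l ≠ 0)).max' hne, ?_, ?_⟩
        · have := Finset.max'_mem _ hne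
          simpa using this
        · intro l hl
          by_contra hne'
          have : l ≤ (Finset.univ.filter (fun l => a l ≠ 0)).max' hne :=
            Finset.le_max' _ l (by simpa using hne')
          exact absurd hl (not_lt.mpr this)
      let c : Fin (n + 1) → F := fun l => if l < i then -a l / a i else 0
      let d : Fin (n + 1) → F := Pi.single i 1
      have hcd : d ⬝ᵥ c = 0 := by
        show Pi.single i 1 ⬝ᵥ c = 0
        rw [single_dotProduct, one_mul]
        simp [c]
      let g : SpG n F := ⟨g1Mat c d, g1Mat_mem c d hcd⟩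
      have hgB : g ∈ (spSetup n F).Bor := by
        apply g1Mat_upper c d
        intro l l' hl'
        by_cases h1 : l' = i
        · have : ¬ l < i := by rw [← h1]; exact not_lt.mpr hl'.le
          simp [c, this]
        · simp [d, Pi.single_eq_of_ne h1]
      apply inV_of_mulVec L (hBL hgB)
      have e : matHom n F g *ᵥ Sum.elim a 0 = a i • Pi.single (Sum.inl i) 1 := by
        show g1Mat c d *ᵥ Sum.elim a 0 = _
        rw [g1Mat_mulVec]
        funext x
        rcases x with l | l
        · simp only [Sum.elim_inl, Pi.add_apply, Pi.smul_apply, smul_eq_mul]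
          show a l + (Pi.single i 1 ⬝ᵥ a) * c l = a i * (Pi.single (Sum.inl i) 1 : Idx n → F) (Sum.inl l)
          rw [single_dotProduct, one_mul]
          rcases lt_trichotomy l i with h | h | h
          · have h2 : (Sum.inl l : Idx n) ≠ Sum.inl i := fun e => h.ne (Sum.inl_injective e)
            rw [Pi.single_eq_of_ne h2, mul_zero]
            simp only [c, if_pos h]
            field_simp
            ring
          · subst h
            simp [c]
          · have h2 : (Sum.inl l : Idx n) ≠ Sum.inl i := fun e => h.ne' (Sum.inl_injective e)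
            rw [Pi.single_eq_of_ne h2, mul_zero, hmax l h]
            simp [c, not_lt.mpr h.le]
        · simp only [Sum.elim_inr, Pi.sub_apply, Pi.smul_apply, smul_eq_mul, Pi.zero_apply]
          rw [dotProduct_zero, zero_mul, sub_zero, Pi.single_eq_of_ne (by simp), mul_zero]
      rw [e]
      exact inV_smul L (inV_single L hBL hNL _)
  · have hne : (Finset.univ.filter (fun l => b l ≠ 0)).Nonempty := by
      obtain ⟨l, hl⟩ := Function.ne_iff.mp hb
      exact ⟨l, by simpa using hl⟩
    obtain ⟨j, hbj, hmin⟩ : ∃ j, b j ≠ 0 ∧ ∀ l, l < j → b l = 0 := by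
      refine ⟨(Finset.univ.filter (fun l => b l ≠ 0)).min' hne, ?_, ?_⟩
      · have := Finset.min'_mem _ hne
        simpa using this
      · intro l hl
        by_contra hne'
        have : (Finset.univ.filter (fun l => b l ≠ 0)).min' hne ≤ l :=
          Finset.min'_le _ l (by simpa using hne')
        exact absurd hl (not_lt.mpr this)
    let c : Fin (n + 1) → F := Pi.single j 1
    let d : Fin (n + 1) → F := fun l => if j < l then b l / b j else 0
    have hcd : d ⬝ᵥ c = 0 := by
      show d ⬝ᵥ Pi.single j 1 = 0
      rw [dotProduct_single, mul_one]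
      simp [d]
    let g₁ : SpG n F := ⟨g1Mat c d, g1Mat_mem c d hcd⟩
    have hg₁ : g₁ ∈ (spSetup n F).Bor := by
      apply g1Mat_upper c d
      intro l l' hl'
      by_cases h1 : l = j
      · have : ¬ j < l' := by rw [← h1]; exact not_lt.mpr hl'.le
        simp [d, this]
      · simp [c, Pi.single_eq_of_ne h1]
    let a' : Fin (n + 1) → F := a + (d ⬝ᵥ a) • c
    have e₁ : matHom n F g₁ *ᵥ Sum.elim a b = Sum.elim a' (Pi.single j (b j)) := by
      show g1Mat c d *ᵥ Sum.elim a b = _
      rw [g1Mat_mulVec]
      congr 1
      funext l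
      simp only [Pi.sub_apply, Pi.smul_apply, smul_eq_mul]
      show b l - (Pi.single j 1 ⬝ᵥ b) * d l = _
      rw [single_dotProduct, one_mul]
      rcases lt_trichotomy l j with h | h | h
      · rw [Pi.single_eq_of_ne h.ne, hmin l h]
        simp [d, not_lt.mpr h.le]
      · subst h
        simp [d]
      · rw [Pi.single_eq_of_ne h.ne']
        simp only [d, if_pos h]
        field_simp
        ring
    let C : Matrix (Fin (n + 1)) (Fin (n + 1)) F := Matrix.of fun l l' =>
      if l' = j then -a' l / b j else if l = j then -a' l' / b j else 0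
    have hC : Cᵀ = C := by
      ext l l'
      simp only [Matrix.transpose_apply, C, Matrix.of_apply]
      by_cases h1 : l = j <;> by_cases h2 : l' = j
      · rw [h1, h2]
      · rw [if_pos h1, if_neg h2, if_pos h1]
      · rw [if_neg h1, if_pos h2, if_pos h2]
      · rw [if_neg h1, if_neg h2, if_neg h2, if_neg h1]
    let g₂ : SpG n F := ⟨g2Mat C, g2Mat_mem C hC⟩
    have hg₂ : g₂ ∈ (spSetup n F).Bor := g2Mat_upper C
    apply inV_of_mulVec L (hBL hg₁)
    rw [e₁]
    apply inV_of_mulVec L (hBL hg₂)
    have e₂ : matHom n F g₂ *ᵥ Sum.elim a' (Pi.single j (b j)) = b j • Pi.single (Sum.inr j) 1 := by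
      show g2Mat C *ᵥ Sum.elim a' (Pi.single j (b j)) = _
      rw [g2Mat_mulVec]
      funext x
      rcases x with l | l
      · simp only [Sum.elim_inl, Pi.add_apply, Pi.smul_apply, smul_eq_mul]
        rw [Pi.single_eq_of_ne (by simp), mul_zero, mulVec_single]
        simp only [Pi.smul_apply, MulOpposite.smul_eq_mul_unop, MulOpposite.unop_op,
          Matrix.col_apply, C, Matrix.of_apply, if_pos]
        field_simp
        ring
      · simp only [Sum.elim_inr, Pi.smul_apply, smul_eq_mul]
        by_cases h : l = j
        · subst h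
          simp
        · have h2 : (Sum.inr l : Idx n) ≠ Sum.inr j := fun e => h (Sum.inr_injective e)
          rw [Pi.single_eq_of_ne h, Pi.single_eq_of_ne h2, mul_zero]
    rw [e₂]
    exact inV_smul L (inV_single L hBL hNL _)

end

/-- **Generation**: the symplectic group is generated by its triangular and monomial subgroups. -/
theorem sp_gen (n : ℕ) (F : Type*) [Field F] : (spSetup n F).Bor ⊔ (spSetup n F).Nn = ⊤ := by
  rw [eq_top_iff, ← Cfsg.Agent.S0765.result (F := F) (n + 1), Subgroup.closure_le]
  rintro A ⟨w, c, hA⟩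
  have hA' : A = tvE w c := Subtype.ext hA
  rw [hA']
  exact inV_all _ le_sup_left le_sup_right w c

end Cfsg.Agent.Lib.Helper14.SpBN
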