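import Mathlib

set_option autoImplicit false

/-! # Palindromic polynomials `X^n P(X + 1/X)` and a determinant identity -/

namespace Cfsg.Agent.Lib.Helper14.SpCount

open Polynomial Matrix

variable {F : Type*} [Field F]

/-- the polynomial `X^n P(X + 1/X)` -/
noncomputable def pal (n : ℕ) (P : F[X]) : F[X] :=
  ∑ k ∈ Finset.range (n + 1), C (P.coeff k) * X ^ (n - k) * (X ^ 2 + 1) ^ k

theorem pal_sub (n : ℕ) (P Q : F[X]) : pal n (P - Q) = pal n P - pal n Q := by
  unfold pal
  rw [← Finset.sum_sub_distrib]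
  apply Finset.sum_congr rfl
  intro k _
  rw [coeff_sub, C_sub]
  ring

theorem pal_coeff (n : ℕ) (D : F[X]) (hD : D.natDegree ≤ n) :
    (pal n D).coeff (n - D.natDegree) = D.leadingCoeff := by
  unfold pal
  rw [finsetSum_coeff]
  rw [Finset.sum_eq_single D.natDegree]
  · rw [mul_assoc, coeff_C_mul, coeff_X_pow_mul', if_pos le_rfl, Nat.sub_self,
      coeff_zero_eq_eval_zero]
    simp only [eval_pow, eval_add, eval_X, eval_one, ne_eq, OfNat.ofNat_ne_zero, not_false_eq_true,
      zero_pow, zero_add, one_pow, mul_one, coeff_natDegree]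
  · intro k hk hkd
    rw [Finset.mem_range] at hk
    rw [mul_assoc, coeff_C_mul, coeff_X_pow_mul']
    rcases lt_or_gt_of_ne hkd with h1 | h1
    · rw [if_neg (by omega), mul_zero]
    · rw [coeff_eq_zero_of_natDegree_lt h1, zero_mul]
  · intro h
    exfalso
    apply h
    rw [Finset.mem_range]
    omega

theorem pal_ne_zero (n : ℕ) {D : F[X]} (hD0 : D ≠ 0) (hD : D.natDegree ≤ n) : pal n D ≠ 0 := by
  intro h
  have := pal_coeff n D hD
  rw [h, coeff_zero] at this
  exact hD0 (leadingCoeff_eq_zero.mp this.symm)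

theorem pal_injective (n : ℕ) {P Q : F[X]} (hP : P.natDegree ≤ n) (hQ : Q.natDegree ≤ n)
    (h : pal n P = pal n Q) : P = Q := by
  by_contra hne
  have h1 : P - Q ≠ 0 := sub_ne_zero.mpr hne
  have h2 : (P - Q).natDegree ≤ n := (natDegree_sub_le P Q).trans (max_le hP hQ)
  apply pal_ne_zero n h1 h2
  rw [pal_sub, h, sub_self]

variable {κ : Type*} [Fintype κ] [DecidableEq κ]

/-- the determinant of `(X² + 1) - X M` -/
theorem det_pal (M : Matrix κ κ F) :
    (((X : F[X]) ^ 2 + 1) • (1 : Matrix κ κ F[X]) - (X : F[X]) • M.map C).det =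
      pal (Fintype.card κ) M.charpoly := by
  apply IsFractionRing.injective F[X] (RatFunc F)
  set φ : F[X] →+* RatFunc F := algebraMap F[X] (RatFunc F) with hφ
  set x : RatFunc F := φ X with hx
  have hx0 : x ≠ 0 := by
    rw [hx, hφ, RatFunc.algebraMap_X]
    exact RatFunc.X_ne_zero
  have hC : ∀ a : F, φ (C a) = algebraMap F (RatFunc F) a := fun a => by
    rw [hφ, IsScalarTower.algebraMap_apply F F[X] (RatFunc F) a, Polynomial.algebraMap_eq]
  rw [RingHom.map_det]
  have e1 : φ.mapMatrix (((X : F[X]) ^ 2 + 1) • (1 : Matrix κ κ F[X]) - (X : F[X]) • M.map C) =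
      x • ((x + x⁻¹) • (1 : Matrix κ κ (RatFunc F)) - M.map (algebraMap F (RatFunc F))) := by
    ext i j
    simp only [RingHom.mapMatrix_apply, Matrix.map_apply, Matrix.sub_apply, Matrix.smul_apply,
      Matrix.one_apply, smul_eq_mul, map_sub, map_mul, map_add, map_pow, map_one, hC]
    by_cases hij : i = j
    · simp only [hij, if_true, map_one, ← hx]
      field_simp
    · simp only [hij, if_false, map_zero, mul_zero, zero_sub, ← hx]
      ring
  have e2 : (x + x⁻¹) • (1 : Matrix κ κ (RatFunc F)) = Matrix.scalar κ (x + x⁻¹) := by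
    rw [Matrix.smul_one_eq_diagonal, Matrix.scalar_apply]
  rw [e1, e2, Matrix.det_smul, ← Matrix.eval_charpoly, Matrix.charpoly_map, eval_map,
    eval₂_eq_sum_range, Matrix.charpoly_natDegree_eq_dim, Finset.mul_sum]
  unfold pal
  rw [map_sum]
  apply Finset.sum_congr rfl
  intro k hk
  rw [Finset.mem_range] at hk
  rw [map_mul, map_mul, hC, map_pow, map_pow, map_add, map_pow, map_one, ← hx]
  have h1 : x ^ Fintype.card κ = x ^ (Fintype.card κ - k) * x ^ k := by
    rw [← pow_add, Nat.sub_add_cancel (by omega)]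
  have h2 : x ^ k * (x + x⁻¹) ^ k = (x ^ 2 + 1) ^ k := by
    rw [← mul_pow]
    congr 1
    field_simp
  rw [h1, ← h2]
  ring

end Cfsg.Agent.Lib.Helper14.SpCount
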