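import Mathlib
set_option autoImplicit false
namespace Cfsg.Agent.Lib.Helper14
open Matrix

/-!
# Restriction of scalars `SL₂(K) →* Sp_{2κ}(F)`

For a finite separable field extension `K/F` with basis `b : Basis κ F K`, the regular
representation `ρ = leftMulMatrix b` and the trace Gram matrix `G` give an injective homomorphism
`SL₂(K) →* Sp_{2κ}(F)`,
`[[a, b], [c, e]] ↦ [[ρ a, ρ b G⁻¹], [G ρ c, G ρ e G⁻¹]]`.
-/

section abstract
variable {R : Type*} [CommRing R] {κ : Type*} [Fintype κ] [DecidableEq κ]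

theorem twisted_mem (G Gi a b c e : Matrix κ κ R) (hGiG : Gi * G = 1) (hGGi : G * Gi = 1)
    (hGt : Gᵀ = G) (ha : aᵀ * G = G * a) (hb : bᵀ * G = G * b) (hc : cᵀ * G = G * c)
    (he : eᵀ * G = G * e) (hac : a * c = c * a) (hbe : b * e = e * b) (hbc : c * b = b * c)
    (hdet : a * e - b * c = 1) :
    fromBlocks a (b * Gi) (G * c) (G * e * Gi) ∈ symplecticGroup κ R := by
  have hGit : Giᵀ = Gi := by
    have h1 : Giᵀ * G = 1 := by
      rw [← hGt, ← transpose_mul, hGGi, transpose_one]
    calc Giᵀ = Giᵀ * (G * Gi) := by rw [hGGi, mul_one]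
      _ = (Giᵀ * G) * Gi := by rw [mul_assoc]
      _ = Gi := by rw [h1, one_mul]
  have ha' : ∀ Y : Matrix κ κ R, aᵀ * (G * Y) = G * (a * Y) := fun Y => by
    rw [← mul_assoc, ha, mul_assoc]
  have hb' : ∀ Y : Matrix κ κ R, bᵀ * (G * Y) = G * (b * Y) := fun Y => by
    rw [← mul_assoc, hb, mul_assoc]
  have hc' : ∀ Y : Matrix κ κ R, cᵀ * (G * Y) = G * (c * Y) := fun Y => by
    rw [← mul_assoc, hc, mul_assoc]
  have he' : ∀ Y : Matrix κ κ R, eᵀ * (G * Y) = G * (e * Y) := fun Y => by
    rw [← mul_assoc, he, mul_assoc]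
  have hGiG' : ∀ Y : Matrix κ κ R, Gi * (G * Y) = Y := fun Y => by
    rw [← mul_assoc, hGiG, one_mul]
  rw [SymplecticGroup.fromBlocks_mem_iff]
  refine ⟨?_, ?_, ?_⟩
  · simp only [transpose_mul, hGt, mul_assoc, ha', hc']
    rw [hac]
  · simp only [transpose_mul, hGt, hGit, mul_assoc, hb', he', hGiG']
    rw [← mul_assoc b e, hbe, mul_assoc]
  · simp only [transpose_mul, hGt, mul_assoc, ha', hc']
    rw [← mul_assoc a e, ← mul_assoc c b, ← mul_sub, ← sub_mul, hbc, hdet, one_mul, hGGi]


theorem twisted_mul (G Gi a b c e a' b' c' e' : Matrix κ κ R) (hGiG : Gi * G = 1) :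
    fromBlocks a (b * Gi) (G * c) (G * e * Gi) * fromBlocks a' (b' * Gi) (G * c') (G * e' * Gi) =
      fromBlocks (a * a' + b * c') ((a * b' + b * e') * Gi) (G * (c * a' + e * c'))
        (G * (c * b' + e * e') * Gi) := by
  have hGiG' : ∀ Y : Matrix κ κ R, Gi * (G * Y) = Y := fun Y => by
    rw [← mul_assoc, hGiG, one_mul]
  rw [fromBlocks_multiply]
  simp only [mul_assoc, hGiG', mul_add, add_mul]

end abstract

section
variable {F K : Type*} [Field F] [Field K] [Algebra F K] [Module.Finite F K]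
  [Algebra.IsSeparable F K]
variable {κ : Type*} [Fintype κ] [DecidableEq κ] (b : Module.Basis κ F K)

theorem traceMatrix_transpose : (Algebra.traceMatrix F b)ᵀ = Algebra.traceMatrix F b := by
  ext i j
  rw [transpose_apply, Algebra.traceMatrix_apply, Algebra.traceMatrix_apply,
    Algebra.traceForm_apply, Algebra.traceForm_apply, mul_comm]

theorem traceMatrix_isUnit_det : IsUnit (Algebra.traceMatrix F b).det := by
  have := Algebra.discr_isUnit_of_basis F b
  rwa [Algebra.discr_def] at this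

theorem traceMatrix_inv_mul : (Algebra.traceMatrix F b)⁻¹ * Algebra.traceMatrix F b = 1 :=
  nonsing_inv_mul _ (traceMatrix_isUnit_det b)

theorem traceMatrix_mul_inv : Algebra.traceMatrix F b * (Algebra.traceMatrix F b)⁻¹ = 1 :=
  mul_nonsing_inv _ (traceMatrix_isUnit_det b)

theorem traceMatrix_inv_transpose :
    ((Algebra.traceMatrix F b)⁻¹)ᵀ = (Algebra.traceMatrix F b)⁻¹ := by
  rw [transpose_nonsing_inv, traceMatrix_transpose]

theorem sum_repr_mul_trace (y z : K) :
    ∑ k, (b.repr y) k * Algebra.trace F K (b k * z) = Algebra.trace F K (y * z) := by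
  conv_rhs => rw [← b.sum_repr y, Finset.sum_mul, map_sum]
  apply Finset.sum_congr rfl
  intro k _
  rw [smul_mul_assoc, map_smul, smul_eq_mul]

theorem leftMul_transpose_mul_trace (x : K) :
    (Algebra.leftMulMatrix b x)ᵀ * Algebra.traceMatrix F b =
      Algebra.traceMatrix F b * Algebra.leftMulMatrix b x := by
  ext i j
  rw [mul_apply, mul_apply]
  simp only [transpose_apply, Algebra.leftMulMatrix_eq_repr_mul, Algebra.traceMatrix_apply,
    Algebra.traceForm_apply]
  rw [sum_repr_mul_trace b (x * b i) (b j)]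
  have h1 : ∑ k, Algebra.trace F K (b i * b k) * (b.repr (x * b j)) k =
      ∑ k, (b.repr (x * b j)) k * Algebra.trace F K (b k * b i) := by
    apply Finset.sum_congr rfl
    intro k _
    rw [mul_comm, mul_comm (b i)]
  rw [h1, sum_repr_mul_trace b (x * b j) (b i)]
  congr 1
  ring

/-- The matrix of the restriction of scalars of an element of `SL₂(K)`. -/
noncomputable def rosMat (s : SpecialLinearGroup (Fin 2) K) : Matrix (κ ⊕ κ) (κ ⊕ κ) F :=
  fromBlocks (Algebra.leftMulMatrix b (s.1 0 0))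
    (Algebra.leftMulMatrix b (s.1 0 1) * (Algebra.traceMatrix F b)⁻¹)
    (Algebra.traceMatrix F b * Algebra.leftMulMatrix b (s.1 1 0))
    (Algebra.traceMatrix F b * Algebra.leftMulMatrix b (s.1 1 1) * (Algebra.traceMatrix F b)⁻¹)

theorem rosMat_mem (s : SpecialLinearGroup (Fin 2) K) : rosMat b s ∈ symplecticGroup κ F := by
  have hG := leftMul_transpose_mul_trace b
  have hcomm : ∀ x y : K, Algebra.leftMulMatrix b x * Algebra.leftMulMatrix b y =
      Algebra.leftMulMatrix b y * Algebra.leftMulMatrix b x := fun x y => by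
    rw [← map_mul, ← map_mul, mul_comm]
  apply twisted_mem _ _ _ _ _ _ (traceMatrix_inv_mul b) (traceMatrix_mul_inv b)
    (traceMatrix_transpose b) (hG _) (hG _) (hG _) (hG _) (hcomm _ _) (hcomm _ _) (hcomm _ _)
  rw [← map_mul, ← map_mul, ← map_sub]
  have hdet : s.1 0 0 * s.1 1 1 - s.1 0 1 * s.1 1 0 = 1 := by
    have := s.2
    rw [det_fin_two] at this
    exact this
  rw [hdet, map_one]

theorem rosMat_one : rosMat b (1 : SpecialLinearGroup (Fin 2) K) = 1 := by
  have h00 : (1 : SpecialLinearGroup (Fin 2) K).1 0 0 = 1 := by simp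
  have h01 : (1 : SpecialLinearGroup (Fin 2) K).1 0 1 = 0 := by simp
  have h10 : (1 : SpecialLinearGroup (Fin 2) K).1 1 0 = 0 := by simp
  have h11 : (1 : SpecialLinearGroup (Fin 2) K).1 1 1 = 1 := by simp
  rw [rosMat, h00, h01, h10, h11, map_one, map_zero, zero_mul, mul_zero, mul_one,
    traceMatrix_mul_inv, fromBlocks_one]

theorem rosMat_mul (s t : SpecialLinearGroup (Fin 2) K) :
    rosMat b (s * t) = rosMat b s * rosMat b t := by
  have h00 : (s * t).1 0 0 = s.1 0 0 * t.1 0 0 + s.1 0 1 * t.1 1 0 := by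
    simp [mul_apply, Fin.sum_univ_two]
  have h01 : (s * t).1 0 1 = s.1 0 0 * t.1 0 1 + s.1 0 1 * t.1 1 1 := by
    simp [mul_apply, Fin.sum_univ_two]
  have h10 : (s * t).1 1 0 = s.1 1 0 * t.1 0 0 + s.1 1 1 * t.1 1 0 := by
    simp [mul_apply, Fin.sum_univ_two]
  have h11 : (s * t).1 1 1 = s.1 1 0 * t.1 0 1 + s.1 1 1 * t.1 1 1 := by
    simp [mul_apply, Fin.sum_univ_two]
  rw [rosMat, rosMat, rosMat, twisted_mul _ _ _ _ _ _ _ _ _ _ (traceMatrix_inv_mul b), h00, h01,
    h10, h11]
  simp only [map_add, map_mul]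

/-- Restriction of scalars `SL₂(K) →* Sp_{2κ}(F)`. -/
noncomputable def rosHom : SpecialLinearGroup (Fin 2) K →* symplecticGroup κ F where
  toFun s := ⟨rosMat b s, rosMat_mem b s⟩
  map_one' := Subtype.ext (rosMat_one b)
  map_mul' s t := Subtype.ext (rosMat_mul b s t)

theorem rosHom_injective : Function.Injective (rosHom (F := F) b) := by
  intro s t h
  have h1 : rosMat b s = rosMat b t := congrArg Subtype.val h
  simp only [rosMat, fromBlocks_inj] at h1
  obtain ⟨h11, h12, h21, h22⟩ := h1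
  have hinj := Algebra.leftMulMatrix_injective b
  have hGG := traceMatrix_inv_mul b
  have hGG' := traceMatrix_mul_inv b
  have e11 : s.1 0 0 = t.1 0 0 := hinj h11
  have e12 : s.1 0 1 = t.1 0 1 := by
    apply hinj
    have := congrArg (· * Algebra.traceMatrix F b) h12
    simpa only [mul_assoc, hGG, mul_one] using this
  have e21 : s.1 1 0 = t.1 1 0 := by
    apply hinj
    have := congrArg ((Algebra.traceMatrix F b)⁻¹ * ·) h21
    simpa only [← mul_assoc, hGG, one_mul] using this
  have e22 : s.1 1 1 = t.1 1 1 := by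
    apply hinj
    have := congrArg (fun M => (Algebra.traceMatrix F b)⁻¹ * M * Algebra.traceMatrix F b) h22
    beta_reduce at this
    have e : ∀ M : Matrix κ κ F, (Algebra.traceMatrix F b)⁻¹ *
        (Algebra.traceMatrix F b * M * (Algebra.traceMatrix F b)⁻¹) * Algebra.traceMatrix F b
        = M := by
      intro M
      calc _ = ((Algebra.traceMatrix F b)⁻¹ * Algebra.traceMatrix F b) * M *
          ((Algebra.traceMatrix F b)⁻¹ * Algebra.traceMatrix F b) := by simp only [mul_assoc]
        _ = M := by rw [hGG, one_mul, mul_one]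
    rwa [e, e] at this
  apply Matrix.SpecialLinearGroup.ext
  intro i j
  fin_cases i <;> fin_cases j
  · exact e11
  · exact e12
  · exact e21
  · exact e22

end

end Cfsg.Agent.Lib.Helper14
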