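import Cfsg.Agent.Lib.Helper14.SpCount1
import Cfsg.Agent.Lib.Helper14.SpRos

set_option autoImplicit false

/-! # Symplectic matrices with prescribed palindromic characteristic polynomial -/

namespace Cfsg.Agent.Lib.Helper14.SpCount

open Polynomial Matrix

variable {κ : Type*} [Fintype κ] [DecidableEq κ]

theorem det_block {A : Type*} [CommRing A] (G Gi M : Matrix κ κ A) (t : A) (hGiG : Gi * G = 1)
    (hGGi : G * Gi = 1)
    (hW : (fromBlocks 0 (-Gi) G 0 : Matrix (κ ⊕ κ) (κ ⊕ κ) A).det = 1) :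
    (fromBlocks (t • 1) Gi (-G) (t • 1 - G * M * Gi) : Matrix (κ ⊕ κ) (κ ⊕ κ) A).det =
      ((t ^ 2 + 1) • (1 : Matrix κ κ A) - t • M).det := by
  have h1 : (fromBlocks 0 (-Gi) G 0 : Matrix (κ ⊕ κ) (κ ⊕ κ) A) *
      fromBlocks (t • 1) Gi (-G) (t • 1 - G * M * Gi) =
      fromBlocks 1 (-(t • Gi) + M * Gi) (t • G) 1 := by
    rw [fromBlocks_multiply]
    congr 1
    · rw [zero_mul, zero_add, neg_mul_neg, hGiG]
    · rw [zero_mul, zero_add, mul_sub, neg_mul, neg_mul, mul_smul_comm, mul_one, ← mul_assoc,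
        ← mul_assoc, hGiG, one_mul]
      abel
    · rw [zero_mul, add_zero, mul_smul_comm, mul_one]
    · rw [zero_mul, add_zero, hGGi]
  have h2 := congrArg det h1
  rw [det_mul, hW, one_mul, det_fromBlocks_one₁₁] at h2
  rw [h2]
  have e1 : t • G * (-(t • Gi) + M * Gi) = -((t * t) • (1 : Matrix κ κ A)) + t • (G * M * Gi) := by
    rw [smul_mul_assoc, mul_add, mul_neg, mul_smul_comm, hGGi, smul_add, smul_neg, smul_smul,
      mul_assoc]
  have e2 : G * ((t ^ 2 + 1) • 1 - t • M) * Gi = (t ^ 2 + 1) • (1 : Matrix κ κ A) - t • (G * M * Gi) := by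
    rw [mul_sub, sub_mul, mul_smul_comm, mul_one, smul_mul_assoc, hGGi, mul_smul_comm,
      smul_mul_assoc]
  have h3 : 1 - t • G * (-(t • Gi) + M * Gi) = G * ((t ^ 2 + 1) • 1 - t • M) * Gi := by
    rw [e1, e2]
    module
  rw [h3, det_mul, det_mul, mul_comm, ← mul_assoc, ← det_mul, hGiG, det_one, one_mul]

variable {F : Type*} [Field F]

/-- a symplectic matrix with characteristic polynomial `X^n χ_M(X + 1/X)` -/
theorem exists_sp_of_symm (G Gi M : Matrix κ κ F) (hGiG : Gi * G = 1) (hGGi : G * Gi = 1)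
    (hGt : Gᵀ = G) (hM : Mᵀ * G = G * M) :
    ∃ g : symplecticGroup κ F,
      (g : Matrix (κ ⊕ κ) (κ ⊕ κ) F).charpoly = pal (Fintype.card κ) M.charpoly := by
  have hmem : fromBlocks 0 (-1 * Gi) (G * 1) (G * M * Gi) ∈ symplecticGroup κ F :=
    twisted_mem G Gi 0 (-1) 1 M hGiG hGGi hGt (by simp) (by simp) (by simp) hM (by simp)
      (by simp) (by simp) (by simp)
  have hWmem : fromBlocks 0 (-1 * Gi) (G * 1) (G * 0 * Gi) ∈ symplecticGroup κ F :=
    twisted_mem G Gi 0 (-1) 1 0 hGiG hGGi hGt (by simp) (by simp) (by simp) (by simp) (by simp)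
      (by simp) (by simp) (by simp)
  have hWdet := SymplecticGroup.det_eq_one hWmem
  refine ⟨⟨_, hmem⟩, ?_⟩
  show (fromBlocks 0 (-1 * Gi) (G * 1) (G * M * Gi)).charpoly = _
  rw [← det_pal, Matrix.charpoly]
  have hW' : (fromBlocks 0 (-(Gi.map C)) (G.map C) 0 :
      Matrix (κ ⊕ κ) (κ ⊕ κ) F[X]).det = 1 := by
    have e : (fromBlocks 0 (-(Gi.map C)) (G.map C) 0 : Matrix (κ ⊕ κ) (κ ⊕ κ) F[X]) =
        (C : F →+* F[X]).mapMatrix (fromBlocks 0 (-1 * Gi) (G * 1) (G * 0 * Gi)) := by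
      rw [RingHom.mapMatrix_apply, fromBlocks_map]
      congr 1
      · simp
      · ext i j
        simp
      · simp
      · simp
    rw [e, ← RingHom.map_det, hWdet, map_one]
  have hGiG' : Gi.map C * G.map (C : F → F[X]) = 1 := by
    rw [← Matrix.map_mul, hGiG, Matrix.map_one _ C_0 C_1]
  have hGGi' : G.map C * Gi.map (C : F → F[X]) = 1 := by
    rw [← Matrix.map_mul, hGGi, Matrix.map_one _ C_0 C_1]
  rw [← det_block (G.map C) (Gi.map C) (M.map C) X hGiG' hGGi' hW']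
  congr 1
  ext (i | i) (j | j)
  · simp [charmatrix_apply, Matrix.diagonal_apply, Matrix.one_apply]
  · simp [charmatrix_apply]
  · simp [charmatrix_apply]
  · simp only [charmatrix_apply, fromBlocks_apply₂₂, Matrix.sub_apply, Matrix.smul_apply,
      Matrix.one_apply, Matrix.diagonal_apply, smul_eq_mul, mul_ite, mul_one, mul_zero,
      Sum.inr.injEq]
    congr 1
    rw [← Matrix.map_mul, ← Matrix.map_mul, Matrix.map_apply]

end Cfsg.Agent.Lib.Helper14.SpCount
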