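import Cfsg.Agent.Lib.Helper14.SpCount2

set_option autoImplicit false

/-! # A symmetrizer of the companion matrix -/

namespace Cfsg.Agent.Lib.Helper14.SpCount

open Polynomial Matrix

variable {F : Type*} [Field F]

theorem sum_repr_mul {R : Type*} [CommRing R] [Algebra F R] {ι : Type*} [Fintype ι]
    (b : Module.Basis ι F R) (τ : R →ₗ[F] F) (y z : R) :
    ∑ k, (b.repr y) k * τ (b k * z) = τ (y * z) := by
  conv_rhs => rw [← b.sum_repr y, Finset.sum_mul, map_sum]
  apply Finset.sum_congr rfl
  intro k _
  rw [smul_mul_assoc, map_smul, smul_eq_mul]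

/-- for a monic polynomial `P` of positive degree there are a symmetric invertible `G` and a matrix
`M` with characteristic polynomial `P` such that `G M` is symmetric -/
theorem exists_symm_pair {P : F[X]} (hP : P.Monic) (hn : 1 ≤ P.natDegree) :
    ∃ (G Gi M : Matrix (Fin P.natDegree) (Fin P.natDegree) F), Gi * G = 1 ∧ G * Gi = 1 ∧
      Gᵀ = G ∧ Mᵀ * G = G * M ∧ M.charpoly = P := by
  set n := P.natDegree with hndef
  let pb := AdjoinRoot.powerBasis hP.ne_zero
  let b : Module.Basis (Fin n) F (AdjoinRoot P) := pb.basis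
  have hb : ∀ i : Fin n, b i = AdjoinRoot.root P ^ (i : ℕ) := fun i => pb.basis_eq_pow i
  let last : Fin n := ⟨n - 1, by omega⟩
  let τ : AdjoinRoot P →ₗ[F] F := b.coord last
  have hτ : ∀ e : ℕ, e < n → τ (AdjoinRoot.root P ^ e) = if e = n - 1 then 1 else 0 := by
    intro e he
    have h1 : AdjoinRoot.root P ^ e = b ⟨e, he⟩ := (hb ⟨e, he⟩).symm
    rw [h1, Module.Basis.coord_apply, Module.Basis.repr_self, Finsupp.single_apply]
    simp only [last, Fin.mk.injEq]
  let G : Matrix (Fin n) (Fin n) F := Matrix.of fun i j => τ (b i * b j)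
  let M : Matrix (Fin n) (Fin n) F := Algebra.leftMulMatrix b pb.gen
  have hGt : Gᵀ = G := by
    ext i j
    simp only [G, transpose_apply, of_apply, mul_comm]
  have hMG : Mᵀ * G = G * M := by
    ext i j
    rw [mul_apply, mul_apply]
    simp only [M, G, transpose_apply, of_apply, Algebra.leftMulMatrix_eq_repr_mul]
    rw [sum_repr_mul b τ (pb.gen * b i) (b j)]
    have h1 : ∑ k, τ (b i * b k) * (b.repr (pb.gen * b j)) k =
        ∑ k, (b.repr (pb.gen * b j)) k * τ (b k * b i) := by
      apply Finset.sum_congr rfl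
      intro k _
      rw [mul_comm, mul_comm (b i)]
    rw [h1, sum_repr_mul b τ (pb.gen * b j) (b i)]
    congr 1
    ring
  have hdet : IsUnit G.det := by
    have h1 : (G.submatrix id (Fin.revPerm : Equiv.Perm (Fin n))).det = 1 := by
      rw [det_of_isLowerTriangular]
      · apply Finset.prod_eq_one
        intro i _
        simp only [submatrix_apply, id_eq, G, of_apply, hb, Fin.revPerm_apply, Fin.val_rev,
          ← pow_add]
        rw [hτ _ (by omega), if_pos (by omega)]
      · intro i j hij
        have hij' : i < j := hij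
        simp only [submatrix_apply, id_eq, G, of_apply, hb, Fin.revPerm_apply, Fin.val_rev,
          ← pow_add]
        have := Fin.lt_def.mp hij'
        rw [hτ _ (by omega), if_neg (by omega)]
    rw [det_permute'] at h1
    exact IsUnit.of_mul_eq_one_right _ h1
  refine ⟨G, G⁻¹, M, nonsing_inv_mul _ hdet, mul_nonsing_inv _ hdet, hGt, hMG, ?_⟩
  show (Algebra.leftMulMatrix pb.basis pb.gen).charpoly = P
  rw [charpoly_leftMulMatrix, AdjoinRoot.minpoly_powerBasis_gen_of_monic hP]

end Cfsg.Agent.Lib.Helper14.SpCount
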