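import Mathlib

/-!
# Orbits of the general linear group on symmetric matrices over a finite field of odd order
(helper14)

A non-empty set of symmetric `n × n` matrices, stable under congruence and containing a non-zero
matrix, has at least `(q ^ n - 1) / 2` elements.
-/

set_option autoImplicit false
set_option linter.unusedSectionVars false
set_option linter.unusedVariables false

namespace Cfsg.Agent.Lib.Helper14.Weil

open Matrix MvPolynomial

section cw

variable {F : Type*} [Field F] [Fintype F] [DecidableEq F]

/-- Chevalley–Warning for a quadratic form with one extra square. -/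
theorem exists_rep {ι : Type*} [Fintype ι] [DecidableEq ι] (hι : 2 ≤ Fintype.card ι)
    (B : Matrix ι ι F) (τ : F) :
    ∃ (x : ι → F) (z : F), (x ≠ 0 ∨ z ≠ 0) ∧ x ⬝ᵥ B *ᵥ x = τ * z ^ 2 := by
  classical
  set p := ringChar F with hp
  have : CharP F p := ringChar.charP F
  have : Fact p.Prime := ⟨CharP.char_is_prime F p⟩
  let f : MvPolynomial (Option ι) F :=
    ∑ i, ∑ j, C (B i j) * X (some i) * X (some j) - C τ * X none ^ 2
  have hdeg : f.totalDegree < Fintype.card (Option ι) := by
    rw [Fintype.card_option]
    have h1 : f.totalDegree ≤ 2 := by
      refine (totalDegree_sub _ _).trans (max_le ?_ ?_)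
      · refine (totalDegree_finsetSum_le ?_)
        intro i _
        refine (totalDegree_finsetSum_le ?_)
        intro j _
        refine (totalDegree_mul _ _).trans ?_
        have h2 : (C (B i j) * X (some i) : MvPolynomial (Option ι) F).totalDegree ≤ 1 := by
          refine (totalDegree_mul _ _).trans ?_
          rw [totalDegree_C, totalDegree_X]
        have h3 : (X (some j) : MvPolynomial (Option ι) F).totalDegree = 1 := totalDegree_X _
        omega
      · refine (totalDegree_mul _ _).trans ?_
        rw [totalDegree_C, totalDegree_X_pow]
    omega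
  have hdvd := char_dvd_card_solutions p hdeg
  have h0 : eval (0 : Option ι → F) f = 0 := by
    simp [f]
  have hcard : 1 < Fintype.card { x : Option ι → F // eval x f = 0 } := by
    have hpos : 0 < Fintype.card { x : Option ι → F // eval x f = 0 } :=
      Fintype.card_pos_iff.mpr ⟨⟨0, h0⟩⟩
    have := Nat.le_of_dvd hpos hdvd
    have h2 := (Fact.out : p.Prime).two_le
    omega
  obtain ⟨y, hy⟩ := Fintype.exists_ne_of_one_lt_card hcard ⟨0, h0⟩
  refine ⟨fun i => y.1 (some i), y.1 none, ?_, ?_⟩
  · by_contra hcon
    push Not at hcon
    apply hy
    apply Subtype.ext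
    funext o
    cases o with
    | none => exact hcon.2
    | some i => exact congrFun hcon.1 i
  · have h1 := y.2
    simp only [f, map_sub, map_sum, map_mul, eval_C, eval_X, map_pow] at h1
    rw [sub_eq_zero] at h1
    rw [← h1]
    simp only [dotProduct, mulVec, Finset.mul_sum]
    apply Finset.sum_congr rfl
    intro i _
    apply Finset.sum_congr rfl
    intro j _
    ring

end cw

end Cfsg.Agent.Lib.Helper14.Weil
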