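import Mathlib
import Cfsg.Agent.Lib.Helper14.Weil1

/-!
# Congruence-stable sets of symmetric matrices: basic moves (helper14)
-/

set_option autoImplicit false
set_option linter.unusedSectionVars false
set_option linter.unusedVariables false

namespace Cfsg.Agent.Lib.Helper14.Weil

open Matrix

section moves

variable {F : Type*} [Field F]

/-- the general linear group is transitive on non-zero vectors -/
theorem exists_gl_mulVec {ι : Type*} [Fintype ι] [DecidableEq ι] {v u : ι → F} (hv : v ≠ 0)
    (hu : u ≠ 0) : ∃ D : Matrix ι ι F, IsUnit D.det ∧ D *ᵥ v = u := by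
  let f : (Submodule.span F {v}) ≃ₗ[F] (Submodule.span F {u}) :=
    (LinearEquiv.toSpanNonzeroSingleton F (ι → F) v hv).symm ≪≫ₗ
      LinearEquiv.toSpanNonzeroSingleton F (ι → F) u hu
  have : FiniteDimensional F (Submodule.span F {v}) :=
    FiniteDimensional.span_of_finite F (Set.finite_singleton v)
  obtain ⟨g, hg⟩ := Submodule.exists_linearEquiv_restrict_eq f
  refine ⟨LinearMap.toMatrix' (g : (ι → F) →ₗ[F] (ι → F)), ?_, ?_⟩
  · rw [LinearMap.det_toMatrix']
    exact LinearEquiv.isUnit_det' g
  · rw [LinearMap.toMatrix'_mulVec, LinearEquiv.coe_coe]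
    have h1 := hg ⟨v, Submodule.mem_span_singleton_self v⟩
    rw [← h1]
    have h2 : (LinearEquiv.toSpanNonzeroSingleton F (ι → F) v hv).symm
        ⟨v, Submodule.mem_span_singleton_self v⟩ = 1 := by
      rw [LinearEquiv.symm_apply_eq]
      apply Subtype.ext
      simp [LinearEquiv.toSpanNonzeroSingleton_apply]
    show ((LinearEquiv.toSpanNonzeroSingleton F (ι → F) u hu)
      ((LinearEquiv.toSpanNonzeroSingleton F (ι → F) v hv).symm
        ⟨v, Submodule.mem_span_singleton_self v⟩) : ι → F) = u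
    rw [h2]
    simp [LinearEquiv.toSpanNonzeroSingleton_apply]

/-- a non-zero symmetric matrix in odd characteristic has a non-isotropic vector -/
theorem exists_value_ne_zero {ι : Type*} [Fintype ι] [DecidableEq ι] (h2 : (2 : F) ≠ 0)
    {B : Matrix ι ι F} (hB : Bᵀ = B) (hB0 : B ≠ 0) : ∃ x : ι → F, x ⬝ᵥ B *ᵥ x ≠ 0 := by
  by_contra hcon
  push Not at hcon
  apply hB0
  have hd : ∀ i, B i i = 0 := by
    intro i
    have := hcon (Pi.single i 1)
    simpa using this
  ext i j
  have h1 := hcon (Pi.single i 1 + Pi.single j 1)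
  simp only [add_dotProduct, mulVec_add, dotProduct_add, single_one_dotProduct, mulVec_single_one,
    col_apply, hd, zero_add, add_zero] at h1
  have h3 : B j i = B i j := by
    have := congrFun (congrFun hB i) j
    simpa using this
  rw [h3] at h1
  have : (2 : F) * B i j = 0 := by linear_combination h1
  rcases mul_eq_zero.mp this with h | h
  · exact absurd h h2
  · simpa using h

/-- value of a congruent matrix on the diagonal -/
theorem conj_apply_self {ι : Type*} [Fintype ι] [DecidableEq ι] (C B : Matrix ι ι F) (i : ι) :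
    (C * B * Cᵀ) i i = (fun j => C i j) ⬝ᵥ B *ᵥ (fun j => C i j) := by
  simp only [mul_apply, transpose_apply, dotProduct, mulVec, Finset.sum_mul, Finset.mul_sum]
  rw [Finset.sum_comm]
  apply Finset.sum_congr rfl
  intro j _
  apply Finset.sum_congr rfl
  intro k _
  ring

/-- move a given value to a prescribed diagonal position -/
theorem exists_conj_value {ι : Type*} [Fintype ι] [DecidableEq ι] (B : Matrix ι ι F) (i₀ : ι)
    {x : ι → F} (hx : x ≠ 0) :
    ∃ C : Matrix ι ι F, IsUnit C.det ∧ (C * B * Cᵀ) i₀ i₀ = x ⬝ᵥ B *ᵥ x := by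
  have he : (Pi.single i₀ 1 : ι → F) ≠ 0 := by
    intro h
    have := congrFun h i₀
    simp at this
  obtain ⟨D, hD, hDx⟩ := exists_gl_mulVec he hx
  refine ⟨Dᵀ, by rwa [det_transpose], ?_⟩
  rw [conj_apply_self]
  have : (fun j => Dᵀ i₀ j) = x := by
    rw [← hDx]
    funext j
    simp
  rw [this]

theorem conj_ne_zero {ι : Type*} [Fintype ι] [DecidableEq ι] {C B : Matrix ι ι F}
    (hC : IsUnit C.det) (hB : B ≠ 0) : C * B * Cᵀ ≠ 0 := by
  intro h
  apply hB
  have hCt : IsUnit Cᵀ.det := by rwa [det_transpose]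
  have h1 : C⁻¹ * (C * B * Cᵀ) * Cᵀ⁻¹ = B := by
    rw [Matrix.mul_assoc C, ← Matrix.mul_assoc C⁻¹, nonsing_inv_mul _ hC, Matrix.one_mul,
      Matrix.mul_assoc, mul_nonsing_inv _ hCt, Matrix.mul_one]
  rw [← h1, h, Matrix.mul_zero, Matrix.zero_mul]

theorem conj_transpose {ι : Type*} [Fintype ι] [DecidableEq ι] {C B : Matrix ι ι F}
    (hB : Bᵀ = B) : (C * B * Cᵀ)ᵀ = C * B * Cᵀ := by
  rw [transpose_mul, transpose_mul, transpose_transpose, hB, Matrix.mul_assoc]

end moves

end Cfsg.Agent.Lib.Helper14.Weil
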