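import Mathlib
import Cfsg.Agent.Lib.Helper14.Weil2

/-!
# Congruence-stable sets of symmetric matrices: the counting step (helper14)
-/

set_option autoImplicit false
set_option linter.unusedSectionVars false
set_option linter.unusedVariables false

namespace Cfsg.Agent.Lib.Helper14.Weil

open Matrix

section defs

variable {F : Type*} [Field F]

/-- a set of symmetric matrices stable under congruence -/
structure Stable {ι : Type*} [Fintype ι] [DecidableEq ι] (Ω : Finset (Matrix ι ι F)) : Prop where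
  symm : ∀ B ∈ Ω, Bᵀ = B
  conj : ∀ C : Matrix ι ι F, IsUnit C.det → ∀ B ∈ Ω, C * B * Cᵀ ∈ Ω

/-- the matrix `[[c, 0], [l, 1]]` -/
def Cc {ι : Type*} [Fintype ι] [DecidableEq ι] (c : F) (l : ι → F) :
    Matrix (Unit ⊕ ι) (Unit ⊕ ι) F :=
  fromBlocks (c • 1) 0 (replicateCol Unit l) 1

/-- the matrix `[[1, 0], [0, D]]` -/
def Dd {ι : Type*} [Fintype ι] [DecidableEq ι] (D : Matrix ι ι F) :
    Matrix (Unit ⊕ ι) (Unit ⊕ ι) F :=
  fromBlocks 1 0 0 D

variable {ι : Type*} [Fintype ι] [DecidableEq ι]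

theorem det_Cc (c : F) (l : ι → F) : (Cc c l).det = c := by
  rw [Cc, det_fromBlocks_zero₁₂]
  simp

theorem det_Dd (D : Matrix ι ι F) : (Dd D).det = D.det := by
  rw [Dd, det_fromBlocks_zero₁₂]
  simp

theorem Cc_conj_oo (c : F) (l : ι → F) (B : Matrix (Unit ⊕ ι) (Unit ⊕ ι) F) :
    (Cc c l * B * (Cc c l)ᵀ) (Sum.inl ()) (Sum.inl ()) = c ^ 2 * B (Sum.inl ()) (Sum.inl ()) := by
  simp [Cc, Matrix.mul_apply, Fintype.sum_sum_type]
  ring

theorem Cc_conj_io (c : F) (l : ι → F) (B : Matrix (Unit ⊕ ι) (Unit ⊕ ι) F) (i : ι) :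
    (Cc c l * B * (Cc c l)ᵀ) (Sum.inr i) (Sum.inl ()) =
      c * (l i * B (Sum.inl ()) (Sum.inl ()) + B (Sum.inr i) (Sum.inl ())) := by
  simp [Cc, Matrix.mul_apply, Fintype.sum_sum_type, Matrix.one_apply]
  ring

theorem Dd_conj_oo (D : Matrix ι ι F) (B : Matrix (Unit ⊕ ι) (Unit ⊕ ι) F) :
    (Dd D * B * (Dd D)ᵀ) (Sum.inl ()) (Sum.inl ()) = B (Sum.inl ()) (Sum.inl ()) := by
  simp [Dd, Matrix.mul_apply, Fintype.sum_sum_type]

theorem Dd_conj_io (D : Matrix ι ι F) (B : Matrix (Unit ⊕ ι) (Unit ⊕ ι) F) (i : ι) :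
    (Dd D * B * (Dd D)ᵀ) (Sum.inr i) (Sum.inl ()) =
      (D *ᵥ (fun j => B (Sum.inr j) (Sum.inl ()))) i := by
  simp [Dd, Matrix.mul_apply, Fintype.sum_sum_type, mulVec, dotProduct]

theorem Dd_conj_blocks (D B' : Matrix ι ι F) :
    Dd D * fromBlocks (0 : Matrix Unit Unit F) 0 0 B' * (Dd D)ᵀ =
      fromBlocks (0 : Matrix Unit Unit F) 0 0 (D * B' * Dᵀ) := by
  simp only [Dd, fromBlocks_transpose, fromBlocks_multiply, transpose_zero, transpose_one,
    Matrix.mul_zero, Matrix.zero_mul, add_zero, zero_add, Matrix.mul_one, Matrix.one_mul]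

end defs

section count

variable {F : Type*} [Field F] [Fintype F] [DecidableEq F]
  {ι : Type*} [Fintype ι] [DecidableEq ι]

local notation "q" => Fintype.card F
local notation "o" => (Sum.inl () : Unit ⊕ ι)

/-- many elements whose corner lies in a given square class -/
theorem count_sq {Ω : Finset (Matrix (Unit ⊕ ι) (Unit ⊕ ι) F)} (hΩ : Stable Ω)
    {B : Matrix (Unit ⊕ ι) (Unit ⊕ ι) F} (hB : B ∈ Ω) {α : F} (hα : B o o = α) (hα0 : α ≠ 0) :
    (q - 1) * q ^ Fintype.card ι ≤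
      2 * (Ω.filter (fun B' => ∃ c : F, c ≠ 0 ∧ B' o o = c ^ 2 * α)).card := by
  classical
  let f : Fˣ × (ι → F) → Matrix (Unit ⊕ ι) (Unit ⊕ ι) F :=
    fun x => Cc (x.1 : F) x.2 * B * (Cc (x.1 : F) x.2)ᵀ
  have hsub : Finset.univ.image f ⊆
      Ω.filter (fun B' => ∃ c : F, c ≠ 0 ∧ B' o o = c ^ 2 * α) := by
    intro y hy
    obtain ⟨x, -, rfl⟩ := Finset.mem_image.mp hy
    rw [Finset.mem_filter]
    refine ⟨hΩ.conj _ ?_ B hB, (x.1 : F), x.1.ne_zero, ?_⟩
    · rw [det_Cc]; exact x.1.isUnit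
    · show (Cc (x.1 : F) x.2 * B * (Cc (x.1 : F) x.2)ᵀ) o o = _
      rw [Cc_conj_oo, hα]
  have hkey : ∀ x y : Fˣ × (ι → F), f x = f y →
      ((x.1 : F) ^ 2 = (y.1 : F) ^ 2) ∧ (x.1 = y.1 → x.2 = y.2) := by
    intro x y hxy
    have h1 : (f x) o o = (f y) o o := by rw [hxy]
    have h1' : (x.1 : F) ^ 2 * α = (y.1 : F) ^ 2 * α := by
      have e1 : (f x) o o = (x.1 : F) ^ 2 * α := by
        show (Cc (x.1 : F) x.2 * B * (Cc (x.1 : F) x.2)ᵀ) o o = _
        rw [Cc_conj_oo, hα]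
      have e2 : (f y) o o = (y.1 : F) ^ 2 * α := by
        show (Cc (y.1 : F) y.2 * B * (Cc (y.1 : F) y.2)ᵀ) o o = _
        rw [Cc_conj_oo, hα]
      rw [← e1, ← e2, h1]
    refine ⟨mul_right_cancel₀ hα0 h1', fun h => ?_⟩
    funext i
    have h2 : (f x) (Sum.inr i) o = (f y) (Sum.inr i) o := by rw [hxy]
    have e1 : (f x) (Sum.inr i) o = (x.1 : F) * (x.2 i * α + B (Sum.inr i) o) := by
      show (Cc (x.1 : F) x.2 * B * (Cc (x.1 : F) x.2)ᵀ) (Sum.inr i) o = _
      rw [Cc_conj_io, hα]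
    have e2 : (f y) (Sum.inr i) o = (y.1 : F) * (y.2 i * α + B (Sum.inr i) o) := by
      show (Cc (y.1 : F) y.2 * B * (Cc (y.1 : F) y.2)ᵀ) (Sum.inr i) o = _
      rw [Cc_conj_io, hα]
    rw [e1, e2, h] at h2
    have h3 := mul_left_cancel₀ y.1.ne_zero h2
    have h4 : x.2 i * α = y.2 i * α := by linear_combination h3
    exact mul_right_cancel₀ hα0 h4
  have hfib : ∀ y ∈ Finset.univ.image f,
      (Finset.univ.filter (fun x => f x = y)).card ≤ 2 := by
    intro y hy
    obtain ⟨x₀, -, rfl⟩ := Finset.mem_image.mp hy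
    calc (Finset.univ.filter (fun x => f x = f x₀)).card
        ≤ ({x₀.1, -x₀.1} : Finset Fˣ).card := by
          apply Finset.card_le_card_of_injOn (fun x => x.1)
          · intro x hx
            have hx' : f x = f x₀ := (Finset.mem_filter.mp hx).2
            have h1 := (hkey _ _ hx').1
            rcases sq_eq_sq_iff_eq_or_eq_neg.mp h1 with h | h
            · have : x.1 = x₀.1 := Units.ext h
              simp [this]
            · have : x.1 = -x₀.1 := Units.ext (by rw [h, Units.val_neg])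
              simp [this]
          · intro x hx y hy hxy
            have hx' : f x = f x₀ := (Finset.mem_filter.mp hx).2
            have hy' : f y = f x₀ := (Finset.mem_filter.mp hy).2
            have hxy' : x.1 = y.1 := hxy
            exact Prod.ext hxy' ((hkey _ _ (hx'.trans hy'.symm)).2 hxy')
      _ ≤ 2 := Finset.card_le_two
  have hmain := Finset.card_le_mul_card_image (f := f) Finset.univ 2 hfib
  rw [Finset.card_univ, Fintype.card_prod, Fintype.card_units, Fintype.card_fun] at hmain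
  calc (q - 1) * q ^ Fintype.card ι ≤ 2 * (Finset.univ.image f).card := hmain
    _ ≤ _ := Nat.mul_le_mul_left 2 (Finset.card_le_card hsub)

/-- many elements with zero corner, first case -/
theorem count_zero_a {Ω : Finset (Matrix (Unit ⊕ ι) (Unit ⊕ ι) F)} (hΩ : Stable Ω)
    {B : Matrix (Unit ⊕ ι) (Unit ⊕ ι) F} (hB : B ∈ Ω) (h0 : B o o = 0)
    (hs : (fun j => B (Sum.inr j) o) ≠ 0) :
    q ^ Fintype.card ι - 1 ≤ (Ω.filter (fun B' => B' o o = 0)).card := by
  classical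
  have hex : ∀ t : ι → F, t ≠ 0 → ∃ D : Matrix ι ι F, IsUnit D.det ∧
      D *ᵥ (fun j => B (Sum.inr j) o) = t := fun t ht => exists_gl_mulVec hs ht
  let g : (ι → F) → Matrix (Unit ⊕ ι) (Unit ⊕ ι) F := fun t =>
    if ht : t ≠ 0 then Dd (Classical.choose (hex t ht)) * B * (Dd (Classical.choose (hex t ht)))ᵀ
    else 0
  have hg : ∀ t (ht : t ≠ 0), g t ∈ Ω ∧ (g t) o o = 0 ∧ ∀ i, (g t) (Sum.inr i) o = t i := by
    intro t ht
    obtain ⟨h1, h2⟩ := Classical.choose_spec (hex t ht)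
    have e : g t = Dd (Classical.choose (hex t ht)) * B * (Dd (Classical.choose (hex t ht)))ᵀ := by
      simp only [g, dif_pos ht]
    refine ⟨?_, ?_, ?_⟩
    · rw [e]
      exact hΩ.conj _ (by rw [det_Dd]; exact h1) B hB
    · rw [e, Dd_conj_oo, h0]
    · intro i
      rw [e, Dd_conj_io, h2]
  have hcard : (Finset.univ.filter (fun t : ι → F => t ≠ 0)).card = q ^ Fintype.card ι - 1 := by
    rw [Finset.filter_ne' Finset.univ (0 : ι → F), Finset.card_erase_of_mem (Finset.mem_univ _),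
      Finset.card_univ, Fintype.card_fun]
  rw [← hcard]
  apply Finset.card_le_card_of_injOn g
  · intro t ht
    have ht' : t ≠ 0 := (Finset.mem_filter.mp ht).2
    have := hg t ht'
    exact Finset.mem_coe.mpr (Finset.mem_filter.mpr ⟨this.1, this.2.1⟩)
  · intro t ht t' ht' htt
    have h1 : t ≠ 0 := (Finset.mem_filter.mp ht).2
    have h2 : t' ≠ 0 := (Finset.mem_filter.mp ht').2
    funext i
    rw [← (hg t h1).2.2 i, ← (hg t' h2).2.2 i, htt]

end count

end Cfsg.Agent.Lib.Helper14.Weil
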