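import Mathlib
import Cfsg.Agent.Lib.Helper14.Weil3

/-!
# Congruence-stable sets of symmetric matrices: the main count (helper14)
-/

set_option autoImplicit false
set_option linter.unusedSectionVars false
set_option linter.unusedVariables false

namespace Cfsg.Agent.Lib.Helper14.Weil

open Matrix

section claim

variable (F : Type*) [Field F] [Fintype F] [DecidableEq F]

/-- the counting claim for an index type -/
def Claim (ι : Type*) [Fintype ι] [DecidableEq ι] : Prop :=
  ∀ Ω : Finset (Matrix ι ι F), Stable Ω → (∃ B ∈ Ω, B ≠ 0) →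
    Fintype.card F ^ Fintype.card ι - 1 ≤ 2 * Ω.card

variable {F}
variable {ι : Type*} [Fintype ι] [DecidableEq ι]

local notation "q" => Fintype.card F
local notation "o" => (Sum.inl () : Unit ⊕ ι)

/-- many elements with zero corner, second case -/
theorem count_zero_b (hι : Claim F ι) {Ω : Finset (Matrix (Unit ⊕ ι) (Unit ⊕ ι) F)}
    (hΩ : Stable Ω) {B' : Matrix ι ι F}
    (hB : fromBlocks (0 : Matrix Unit Unit F) 0 0 B' ∈ Ω) (hB0 : B' ≠ 0) :
    q ^ Fintype.card ι - 1 ≤ 2 * (Ω.filter (fun B => B o o = 0)).card := by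
  classical
  let Ω' : Finset (Matrix ι ι F) :=
    Finset.univ.filter (fun B' => fromBlocks (0 : Matrix Unit Unit F) 0 0 B' ∈ Ω)
  have hst : Stable Ω' := by
    constructor
    · intro B₁ hB₁
      have h1 := hΩ.symm _ (Finset.mem_filter.mp hB₁).2
      rw [fromBlocks_transpose] at h1
      exact (fromBlocks_inj.mp h1).2.2.2
    · intro D hD B₁ hB₁
      have h1 := hΩ.conj (Dd D) (by rw [det_Dd]; exact hD) _ (Finset.mem_filter.mp hB₁).2
      rw [Dd_conj_blocks] at h1
      exact Finset.mem_filter.mpr ⟨Finset.mem_univ _, h1⟩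
  have h1 := hι Ω' hst ⟨B', Finset.mem_filter.mpr ⟨Finset.mem_univ _, hB⟩, hB0⟩
  refine h1.trans (Nat.mul_le_mul_left 2 ?_)
  apply Finset.card_le_card_of_injOn (fun B₁ => fromBlocks (0 : Matrix Unit Unit F) 0 0 B₁)
  · intro B₁ hB₁
    refine Finset.mem_coe.mpr (Finset.mem_filter.mpr ⟨(Finset.mem_filter.mp hB₁).2, ?_⟩)
    simp
  · intro B₁ _ B₂ _ h
    exact (fromBlocks_inj.mp h).2.2.2

/-- in the anisotropic case both square classes occur in the corner -/
theorem exists_nonsq_value (h2 : (2 : F) ≠ 0) (hcard : 1 ≤ Fintype.card ι)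
    {Ω : Finset (Matrix (Unit ⊕ ι) (Unit ⊕ ι) F)} (hΩ : Stable Ω)
    (hall : ∀ B ∈ Ω, B ≠ 0 → B o o ≠ 0)
    {B : Matrix (Unit ⊕ ι) (Unit ⊕ ι) F} (hB : B ∈ Ω) (hB0 : B ≠ 0) :
    ∃ ν : F, ¬ IsSquare ν ∧ ∃ B₂ ∈ Ω, B₂ o o = B o o * ν := by
  have hchar : ringChar F ≠ 2 := by
    intro h
    apply h2
    have : CharP F 2 := by rw [← h]; exact ringChar.charP F
    exact CharTwo.two_eq_zero
  obtain ⟨ν, hν⟩ := FiniteField.exists_nonsquare hchar
  have hν0 : ν ≠ 0 := by
    rintro rfl
    exact hν ⟨0, by simp⟩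
  have hα0 : B o o ≠ 0 := hall B hB hB0
  have haniso : ∀ x : Unit ⊕ ι → F, x ≠ 0 → x ⬝ᵥ B *ᵥ x ≠ 0 := by
    intro x hx
    obtain ⟨C, hC, hCx⟩ := exists_conj_value B o hx
    rw [← hCx]
    exact hall _ (hΩ.conj C hC B hB) (conj_ne_zero hC hB0)
  have hk : 2 ≤ Fintype.card (Unit ⊕ ι) := by
    rw [Fintype.card_sum, Fintype.card_unit]
    omega
  obtain ⟨x, z, hxz, hval⟩ := exists_rep hk B (B o o * ν)
  have hz : z ≠ 0 := by
    rintro rfl
    rcases hxz with hx | hx
    · apply haniso x hx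
      rw [hval]
      ring
    · exact hx rfl
  have hval' : (z⁻¹ • x) ⬝ᵥ B *ᵥ (z⁻¹ • x) = B o o * ν := by
    rw [mulVec_smul, smul_dotProduct, dotProduct_smul, hval, smul_eq_mul, smul_eq_mul]
    field_simp
  have hx' : z⁻¹ • x ≠ 0 := by
    intro h
    rw [h] at hval'
    simp only [mulVec_zero, dotProduct_zero] at hval'
    exact mul_ne_zero hα0 hν0 hval'.symm
  obtain ⟨C, hC, hCx⟩ := exists_conj_value B o hx'
  exact ⟨ν, hν, C * B * Cᵀ, hΩ.conj C hC B hB, by rw [hCx, hval']⟩

omit [DecidableEq F] in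
theorem card_ge_three (h2 : (2 : F) ≠ 0) : 3 ≤ q := by
  by_contra hlt
  have h1 : 1 < q := Fintype.one_lt_card
  have h3 : q = 2 := by omega
  apply h2
  have := Nat.cast_card_eq_zero F
  rw [h3] at this
  exact_mod_cast this

/-- the inductive step -/
theorem claim_sum (h2 : (2 : F) ≠ 0) (hι : Claim F ι) : Claim F (Unit ⊕ ι) := by
  classical
  intro Ω hΩ ⟨B₀, hB₀, hB₀0⟩
  have hq3 : 3 ≤ q := card_ge_three h2
  rw [Fintype.card_sum, Fintype.card_unit]
  -- Step 1: an element with non-zero corner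
  obtain ⟨B, hB, hα0⟩ : ∃ B ∈ Ω, B o o ≠ 0 := by
    obtain ⟨x, hx⟩ := exists_value_ne_zero h2 (hΩ.symm B₀ hB₀) hB₀0
    have hx0 : x ≠ 0 := by
      rintro rfl
      simp at hx
    obtain ⟨C, hC, hCx⟩ := exists_conj_value B₀ o hx0
    exact ⟨C * B₀ * Cᵀ, hΩ.conj C hC B₀ hB₀, by rw [hCx]; exact hx⟩
  have hB0 : B ≠ 0 := by
    rintro rfl
    simp at hα0
  have hsplit : (Ω.filter (fun B' => B' o o = 0)).card +
      (Ω.filter (fun B' => ¬ B' o o = 0)).card = Ω.card :=
    Finset.card_filter_add_card_filter_not (s := Ω) (fun B' => B' o o = 0)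
  have hc1 := count_sq hΩ hB rfl hα0
  have hsub1 : Ω.filter (fun B' => ∃ c : F, c ≠ 0 ∧ B' o o = c ^ 2 * B o o) ⊆
      Ω.filter (fun B' => ¬ B' o o = 0) := by
    intro B' hB'
    rw [Finset.mem_filter] at hB' ⊢
    obtain ⟨h1, c, hc, h3⟩ := hB'
    exact ⟨h1, by rw [h3]; exact mul_ne_zero (pow_ne_zero 2 hc) hα0⟩
  have hN1 := Finset.card_le_card hsub1
  obtain ⟨P, hP⟩ : ∃ P, P = q ^ Fintype.card ι := ⟨_, rfl⟩
  obtain ⟨A, hA⟩ : ∃ A, A = q * P := ⟨_, rfl⟩
  have hqn : 1 ≤ P := by rw [hP]; exact Nat.one_le_pow _ _ (by omega)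
  have hexp : q ^ (1 + Fintype.card ι) = A := by rw [pow_add, pow_one, hA, hP]
  have hprod : (q - 1) * P = A - P := by
    rw [Nat.sub_mul, one_mul, hA]
  have hle : P ≤ A := by rw [hA]; exact Nat.le_mul_of_pos_left _ (by omega)
  have h7 : 2 * P ≤ A := by rw [hA]; exact Nat.mul_le_mul_right _ (by omega)
  rw [← hP, hprod] at hc1
  rw [hexp]
  rcases Nat.eq_zero_or_pos (Fintype.card ι) with hn0 | hnpos
  · -- no further coordinates
    rw [hn0, pow_zero] at hP
    subst hP
    omega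
  by_cases hex : ∃ B₁ ∈ Ω, B₁ ≠ 0 ∧ B₁ o o = 0
  · obtain ⟨B₁, hB₁, hB₁0, hB₁o⟩ := hex
    have hN0 : P - 1 ≤ 2 * (Ω.filter (fun B' => B' o o = 0)).card := by
      rw [hP]
      by_cases hs : (fun j => B₁ (Sum.inr j) o) = 0
      · -- block diagonal
        have hsym := hΩ.symm B₁ hB₁
        have hrow : ∀ j, B₁ o (Sum.inr j) = 0 := by
          intro j
          have := congrFun (congrFun hsym o) (Sum.inr j)
          rw [transpose_apply] at this
          rw [← this]
          exact congrFun hs j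
        have hform : B₁ = fromBlocks (0 : Matrix Unit Unit F) 0 0 B₁.toBlocks₂₂ := by
          ext i j
          rcases i with ⟨⟩ | i <;> rcases j with ⟨⟩ | j
          · simpa using hB₁o
          · simpa using hrow j
          · simpa using congrFun hs i
          · simp [toBlocks₂₂]
        have hne : B₁.toBlocks₂₂ ≠ 0 := by
          intro h
          apply hB₁0
          rw [hform, h]
          simp
        rw [hform] at hB₁
        exact count_zero_b hι hΩ hB₁ hne
      · have := count_zero_a hΩ hB₁ hB₁o hs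
        omega
    omega
  · push Not at hex
    have hall : ∀ B ∈ Ω, B ≠ 0 → B o o ≠ 0 := fun B hB hB0 => hex B hB hB0
    obtain ⟨ν, hν, B₂, hB₂, hB₂o⟩ := exists_nonsq_value h2 hnpos hΩ hall hB hB0
    have hν0 : ν ≠ 0 := by
      rintro rfl
      exact hν ⟨0, by simp⟩
    have hc2 := count_sq hΩ hB₂ hB₂o (mul_ne_zero hα0 hν0)
    have hsub2 : Ω.filter (fun B' => ∃ c : F, c ≠ 0 ∧ B' o o = c ^ 2 * (B o o * ν)) ⊆
        Ω.filter (fun B' => ¬ B' o o = 0) := by
      intro B' hB'
      rw [Finset.mem_filter] at hB' ⊢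
      obtain ⟨h1, c, hc, h3⟩ := hB'
      exact ⟨h1, by rw [h3]; exact mul_ne_zero (pow_ne_zero 2 hc) (mul_ne_zero hα0 hν0)⟩
    have hdisj : Disjoint (Ω.filter (fun B' => ∃ c : F, c ≠ 0 ∧ B' o o = c ^ 2 * B o o))
        (Ω.filter (fun B' => ∃ c : F, c ≠ 0 ∧ B' o o = c ^ 2 * (B o o * ν))) := by
      rw [Finset.disjoint_left]
      intro B' h1 h2'
      obtain ⟨-, c, hc, h3⟩ := Finset.mem_filter.mp h1
      obtain ⟨-, c', hc', h4⟩ := Finset.mem_filter.mp h2'
      apply hν
      refine ⟨c / c', ?_⟩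
      have h5 : c ^ 2 * B o o = c' ^ 2 * (B o o * ν) := by rw [← h3, h4]
      have h6 : c ^ 2 = c' ^ 2 * ν := by
        apply mul_right_cancel₀ hα0
        linear_combination h5
      field_simp
      linear_combination -h6
    have hunion := Finset.card_union_of_disjoint hdisj
    have hsub3 := Finset.card_le_card (Finset.union_subset hsub1 hsub2)
    rw [hunion] at hsub3
    rw [← hP, hprod] at hc2
    omega

/-- the claim is invariant under reindexing -/
theorem claim_equiv {κ : Type*} [Fintype κ] [DecidableEq κ] (e : ι ≃ κ) (hι : Claim F ι) :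
    Claim F κ := by
  classical
  intro Ω hΩ ⟨B₀, hB₀, hB₀0⟩
  let r : Matrix κ κ F → Matrix ι ι F := fun B => B.submatrix e e
  have hr : Function.Injective r := by
    intro B B' h
    ext i j
    have := congrFun (congrFun h (e.symm i)) (e.symm j)
    simpa [r] using this
  have hst : Stable (Ω.image r) := by
    constructor
    · intro B hB
      obtain ⟨B', hB', rfl⟩ := Finset.mem_image.mp hB
      show (B'.submatrix e e)ᵀ = B'.submatrix e e
      rw [transpose_submatrix, hΩ.symm B' hB']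
    · intro C hC B hB
      obtain ⟨B', hB', rfl⟩ := Finset.mem_image.mp hB
      have h1 : IsUnit (C.submatrix e.symm e.symm).det := by
        rwa [det_submatrix_equiv_self]
      have h2 := hΩ.conj _ h1 B' hB'
      refine Finset.mem_image.mpr ⟨_, h2, ?_⟩
      show (C.submatrix e.symm e.symm * B' * (C.submatrix e.symm e.symm)ᵀ).submatrix e e =
        C * B'.submatrix e e * Cᵀ
      rw [← submatrix_mul_equiv _ _ e e e, ← submatrix_mul_equiv _ _ e e e, transpose_submatrix,
        submatrix_submatrix, submatrix_submatrix]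
      simp
  have h1 := hι (Ω.image r) hst ⟨r B₀, Finset.mem_image_of_mem r hB₀, by
    intro h
    apply hB₀0
    apply hr
    rw [h]
    rfl⟩
  rw [Finset.card_image_of_injective _ hr, Fintype.card_congr e] at h1
  exact h1

/-- the count for all `n` -/
theorem claim_fin (h2 : (2 : F) ≠ 0) : ∀ n : ℕ, Claim F (Fin n) := by
  intro n
  induction n with
  | zero =>
    intro Ω _ _
    simp
  | succ n ih =>
    have e : Unit ⊕ Fin n ≃ Fin (n + 1) :=
      (Equiv.sumCongr (Equiv.ofUnique Unit (Fin 1)) (Equiv.refl _)).trans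
        (finSumFinEquiv.trans (finCongr (Nat.add_comm 1 n)))
    exact claim_equiv e (claim_sum h2 ih)

end claim

end Cfsg.Agent.Lib.Helper14.Weil
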