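import Mathlib
import Cfsg.Agent.Lib.Helper14.Weil4
import Cfsg.Agent.Lib.Helper14.WeightBound

/-!
# The lower bound `(q ^ n - 1) / 2` for representations of `Sp_{2n}(q)`, `q` odd, on which the
Siegel unipotent radical acts non-trivially (helper14)
-/

set_option autoImplicit false
set_option linter.unusedSectionVars false
set_option linter.unusedVariables false

namespace Cfsg.Agent.Lib.Helper14.Weil

open Matrix Module Cfsg.Agent.Lib.Helper14.Wt

section elements

variable {F : Type*} [Field F] {n : ℕ}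

/-- elements of the Siegel unipotent radical, parametrised by all matrices -/
def aM (M : Matrix (Fin n) (Fin n) F) : ↥(symplecticGroup (Fin n) F) :=
  ⟨fromBlocks 1 (M + Mᵀ) 0 1, by
    rw [SymplecticGroup.fromBlocks_mem_iff]
    refine ⟨by simp, ?_, by simp⟩
    simp only [Matrix.one_mul, transpose_add, transpose_transpose, transpose_one, Matrix.mul_one]
    rw [add_comm]⟩

theorem aM_add (M M' : Matrix (Fin n) (Fin n) F) : aM (M + M') = aM M * aM M' := by
  apply Subtype.ext
  show fromBlocks 1 (M + M' + (M + M')ᵀ) 0 1 =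
    fromBlocks (1 : Matrix (Fin n) (Fin n) F) (M + Mᵀ) 0 1 * fromBlocks 1 (M' + M'ᵀ) 0 1
  simp only [fromBlocks_multiply, Matrix.mul_one, Matrix.one_mul, Matrix.mul_zero, Matrix.zero_mul,
    add_zero, zero_add, transpose_add]
  congr 1
  abel

theorem aM_zero : aM (0 : Matrix (Fin n) (Fin n) F) = 1 := by
  apply Subtype.ext
  show fromBlocks 1 (0 + 0ᵀ) 0 1 = (1 : Matrix (Fin n ⊕ Fin n) (Fin n ⊕ Fin n) F)
  simp [fromBlocks_one]

theorem aM_comm (M M' : Matrix (Fin n) (Fin n) F) : aM M * aM M' = aM M' * aM M := by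
  rw [← aM_add, ← aM_add, add_comm]

theorem aM_transpose (M : Matrix (Fin n) (Fin n) F) : aM Mᵀ = aM M := by
  apply Subtype.ext
  show fromBlocks 1 (Mᵀ + Mᵀᵀ) 0 1 =
    fromBlocks (1 : Matrix (Fin n) (Fin n) F) (M + Mᵀ) 0 1
  rw [transpose_transpose, add_comm]

theorem aM_pow (M : Matrix (Fin n) (Fin n) F) (k : ℕ) : aM M ^ k = aM (k • M) := by
  induction k with
  | zero => rw [pow_zero, zero_smul, aM_zero]
  | succ k ih => rw [pow_succ, ih, ← aM_add, succ_nsmul]

theorem aM_pow_char (p : ℕ) [CharP F p] (M : Matrix (Fin n) (Fin n) F) : aM M ^ p = 1 := by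
  rw [aM_pow]
  have : p • M = 0 := by
    ext i j
    simp
  rw [this, aM_zero]

/-- Levi elements -/
def dM (C D : Matrix (Fin n) (Fin n) F) (h : D * C = 1) : ↥(symplecticGroup (Fin n) F) :=
  ⟨fromBlocks C 0 0 Dᵀ, by
    rw [SymplecticGroup.fromBlocks_mem_iff]
    refine ⟨by simp, by simp, ?_⟩
    rw [← transpose_mul, h]
    simp⟩

theorem aM_dM (C D : Matrix (Fin n) (Fin n) F) (h : D * C = 1) (M : Matrix (Fin n) (Fin n) F) :
    aM M * dM C D h = dM C D h * aM (D * M * Dᵀ) := by
  apply Subtype.ext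
  show fromBlocks (1 : Matrix (Fin n) (Fin n) F) (M + Mᵀ) 0 1 * fromBlocks C 0 0 Dᵀ =
    fromBlocks C 0 0 Dᵀ * fromBlocks 1 (D * M * Dᵀ + (D * M * Dᵀ)ᵀ) 0 1
  simp only [fromBlocks_multiply, Matrix.mul_one, Matrix.one_mul, Matrix.mul_zero, Matrix.zero_mul,
    add_zero, zero_add]
  congr 1
  have h' : C * D = 1 := mul_eq_one_comm.mp h
  rw [transpose_mul, transpose_mul, transpose_transpose, Matrix.mul_add, ← Matrix.mul_assoc,
    ← Matrix.mul_assoc, ← Matrix.mul_assoc, ← Matrix.mul_assoc, h', Matrix.one_mul, Matrix.one_mul,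
    Matrix.add_mul]

end elements

section chars

variable {F : Type*} [Field F] [Fintype F] [DecidableEq F] {n : ℕ} (ψ : AddChar F ℂ)

/-- the characters of the additive group of matrices -/
noncomputable def chiB (B : Matrix (Fin n) (Fin n) F) : AddChar (Matrix (Fin n) (Fin n) F) ℂ :=
  ψ.compAddMonoidHom ((Matrix.traceAddMonoidHom (Fin n) F).comp (AddMonoidHom.mulLeft B))

theorem chiB_apply (B M : Matrix (Fin n) (Fin n) F) : chiB ψ B M = ψ (trace (B * M)) := rfl

theorem chiB_zero (M : Matrix (Fin n) (Fin n) F) : chiB ψ (0 : Matrix (Fin n) (Fin n) F) M = 1 := by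
  rw [chiB_apply, Matrix.zero_mul, trace_zero, AddChar.map_zero_eq_one]

variable {ψ}

theorem chiB_injective (hψ : ψ ≠ 1) : Function.Injective (chiB (n := n) ψ) := by
  intro B B' h
  by_contra hne
  have hD : B - B' ≠ 0 := sub_ne_zero.mpr hne
  obtain ⟨i, j, hij⟩ : ∃ i j, (B - B') i j ≠ 0 := by
    by_contra hcon
    push Not at hcon
    apply hD
    ext i j
    exact hcon i j
  apply hψ
  ext x
  have h1 := DFunLike.congr_fun h (Matrix.single j i (x / (B - B') i j))
  rw [chiB_apply, chiB_apply] at h1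
  have h2 : trace (B * Matrix.single j i (x / (B - B') i j)) -
      trace (B' * Matrix.single j i (x / (B - B') i j)) = x := by
    rw [← trace_sub, ← Matrix.sub_mul]
    simp only [trace, diag_apply, Matrix.mul_apply, Matrix.single_apply]
    rw [Finset.sum_eq_single i]
    · rw [Finset.sum_eq_single j]
      · simp only [and_self, if_true]
        field_simp
      · intro b _ hb
        simp [Ne.symm hb]
      · simp
    · intro b _ hb
      apply Finset.sum_eq_zero
      intro k _
      simp [Ne.symm hb]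
    · simp
  have h3 : ψ x = ψ (trace (B * Matrix.single j i (x / (B - B') i j))) /
      ψ (trace (B' * Matrix.single j i (x / (B - B') i j))) := by
    rw [← AddChar.map_sub_eq_div, h2]
  rw [h3, h1, div_self (AddChar.val_isUnit ψ _).ne_zero, AddChar.one_apply]

theorem chiB_surjective (hψ : ψ ≠ 1) (χ : AddChar (Matrix (Fin n) (Fin n) F) ℂ) :
    ∃ B, χ = chiB ψ B := by
  have hbij : Function.Bijective (chiB (n := n) ψ) := by
    rw [Fintype.bijective_iff_injective_and_card]
    exact ⟨chiB_injective hψ, AddChar.card_eq.symm⟩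
  obtain ⟨B, hB⟩ := hbij.2 χ
  exact ⟨B, hB.symm⟩

end chars

section bound

variable {F : Type*} [Field F] [Fintype F] [DecidableEq F] {n : ℕ}
  {V : Type*} [AddCommGroup V] [Module ℂ V] [FiniteDimensional ℂ V]

/-- **The lower bound**: a representation of `Sp_{2n}(q)`, `q` odd, on which the Siegel unipotent
radical acts non-trivially has degree at least `(q ^ n - 1) / 2`. -/
theorem sp_bound (h2 : (2 : F) ≠ 0) (ρ : ↥(symplecticGroup (Fin n) F) →* (V →ₗ[ℂ] V))
    (hne : ∃ M, ρ (aM M) ≠ 1) : Fintype.card F ^ n - 1 ≤ 2 * finrank ℂ V := by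
  classical
  obtain ⟨M₀, hM₀⟩ := hne
  set p := ringChar F with hpdef
  have : CharP F p := ringChar.charP F
  have : Fact p.Prime := ⟨CharP.char_is_prime F p⟩
  have hp : ((p : ℕ) : ℂ) ≠ 0 := Nat.cast_ne_zero.mpr (Fact.out : p.Prime).ne_zero
  obtain ⟨ψ, hψ1⟩ := (AddChar.exists_apply_ne_zero (α := F) (a := 1)).mpr one_ne_zero
  have hψ : ψ ≠ 1 := fun h => hψ1 (by rw [h]; rfl)
  let Ω : Finset (Matrix (Fin n) (Fin n) F) :=
    Finset.univ.filter (fun B => Bᵀ = B ∧ E ρ aM (⇑(chiB ψ B)) ≠ ⊥)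
  have hst : Stable Ω := by
    constructor
    · intro B hB
      exact (Finset.mem_filter.mp hB).2.1
    · intro C hC B hB
      obtain ⟨-, hBs, hBE⟩ := Finset.mem_filter.mp hB
      refine Finset.mem_filter.mpr ⟨Finset.mem_univ _, conj_transpose hBs, ?_⟩
      have hCt : IsUnit Cᵀ.det := by rwa [det_transpose]
      have hinv : Cᵀ * Cᵀ⁻¹ = 1 := mul_nonsing_inv _ hCt
      have h1 := E_comp_ne_bot ρ aM (dM Cᵀ⁻¹ Cᵀ hinv) (fun M => Cᵀ * M * Cᵀᵀ)
        (fun M => aM_dM _ _ hinv M) hBE
      have h3 : (⇑(chiB ψ B)) ∘ (fun M => Cᵀ * M * Cᵀᵀ) = ⇑(chiB ψ (C * B * Cᵀ)) := by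
        funext M
        simp only [Function.comp_apply, chiB_apply, transpose_transpose]
        congr 1
        rw [← Matrix.mul_assoc, ← Matrix.mul_assoc, trace_mul_comm, ← Matrix.mul_assoc,
          ← Matrix.mul_assoc]
      rwa [h3] at h1
  have hnz : ∃ B ∈ Ω, B ≠ 0 := by
    obtain ⟨χ, hχ, hχ0⟩ := exists_chi ρ aM aM_comm hp (aM_pow_char p) M₀ hM₀
    obtain ⟨hadd, h0⟩ := chi_mul ρ aM aM_add hχ
    let χ' : AddChar (Matrix (Fin n) (Fin n) F) ℂ := ⟨χ, h0, hadd⟩
    obtain ⟨B, hB⟩ := chiB_surjective hψ χ'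
    have hB' : χ = ⇑(chiB ψ B) := by
      rw [← hB]
      rfl
    have hsym : ∀ M, χ Mᵀ = χ M := by
      intro M
      obtain ⟨v, hv, hv0⟩ := Submodule.exists_mem_ne_zero_of_ne_bot hχ
      rw [mem_E] at hv
      have h3 := hv Mᵀ
      rw [aM_transpose, hv M] at h3
      have : (χ M - χ Mᵀ) • v = 0 := by rw [sub_smul, h3, sub_self]
      rcases smul_eq_zero.mp this with h | h
      · linear_combination -h
      · exact absurd h hv0
    have hBs : Bᵀ = B := by
      apply chiB_injective hψ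
      ext M
      have h3 := hsym M
      rw [hB', chiB_apply, chiB_apply] at h3
      rw [chiB_apply, chiB_apply, ← h3]
      congr 1
      rw [← trace_transpose, transpose_mul, transpose_transpose, trace_mul_comm]
    refine ⟨B, Finset.mem_filter.mpr ⟨Finset.mem_univ _, hBs, by rwa [← hB']⟩, ?_⟩
    rintro rfl
    apply hχ0
    rw [hB', chiB_zero]
  have h1 := claim_fin h2 n Ω hst hnz
  have h3 : Ω.card ≤ finrank ℂ V := by
    have h4 := card_le ρ aM aM_comm hp (aM_pow_char p)
      (Ω.image (fun B => (⇑(chiB ψ B) : Matrix (Fin n) (Fin n) F → ℂ))) (by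
        intro χ hχ
        obtain ⟨B, hB, rfl⟩ := Finset.mem_image.mp hχ
        exact (Finset.mem_filter.mp hB).2.2)
    rwa [Finset.card_image_of_injective] at h4
    intro B B' h
    exact chiB_injective hψ (DFunLike.coe_injective h)
  rw [Fintype.card_fin] at h1
  omega

end bound

end Cfsg.Agent.Lib.Helper14.Weil
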