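import Mathlib
import Cfsg.Agent.Lib.Helper14.Weil5

/-!
# The Siegel unipotent radical of `Sp_{2n}(q)`, `q` even, and its weights (helper14)
-/

set_option autoImplicit false
set_option linter.unusedSectionVars false
set_option linter.unusedVariables false

namespace Cfsg.Agent.Lib.Helper14.SpEv

open Matrix Module Cfsg.Agent.Lib.Helper14.Wt Cfsg.Agent.Lib.Helper14.Weil

section elements

variable {F : Type*} [Field F] {n : ℕ}

/-- the symmetric matrix attached to an arbitrary matrix (characteristic two) -/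
def sy (M : Matrix (Fin n) (Fin n) F) : Matrix (Fin n) (Fin n) F :=
  M + Mᵀ + diagonal (fun i => M i i)

theorem sy_apply (M : Matrix (Fin n) (Fin n) F) (i j : Fin n) :
    sy M i j = M i j + M j i + if i = j then M i i else 0 := by
  simp only [sy, Matrix.add_apply, transpose_apply, diagonal_apply]

theorem sy_add (M M' : Matrix (Fin n) (Fin n) F) : sy (M + M') = sy M + sy M' := by
  ext i j
  simp only [sy_apply, Matrix.add_apply]
  split_ifs <;> ring

theorem sy_zero : sy (0 : Matrix (Fin n) (Fin n) F) = 0 := by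
  ext i j
  simp [sy_apply]

theorem sy_symm (M : Matrix (Fin n) (Fin n) F) : (sy M)ᵀ = sy M := by
  ext i j
  simp only [transpose_apply, sy_apply]
  by_cases h : i = j
  · subst h
    simp
  · rw [if_neg h, if_neg (Ne.symm h)]
    ring

theorem sy_transpose (M : Matrix (Fin n) (Fin n) F) : sy Mᵀ = sy M := by
  ext i j
  simp only [transpose_apply, sy_apply]
  ring

/-- the upper triangular part -/
def up (S : Matrix (Fin n) (Fin n) F) : Matrix (Fin n) (Fin n) F :=
  Matrix.of fun i j => if i ≤ j then S i j else 0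

theorem up_apply (S : Matrix (Fin n) (Fin n) F) (i j : Fin n) :
    up S i j = if i ≤ j then S i j else 0 := rfl

theorem sy_up (h2 : (2 : F) = 0) (S : Matrix (Fin n) (Fin n) F) (hS : Sᵀ = S) : sy (up S) = S := by
  ext i j
  simp only [sy_apply, up_apply]
  have hji : S j i = S i j := by
    have := congrFun (congrFun hS i) j
    rwa [transpose_apply] at this
  rcases lt_trichotomy i j with h | h | h
  · rw [if_pos h.le, if_neg (not_le.mpr h), if_neg h.ne, add_zero, add_zero]
  · subst h
    rw [if_pos le_rfl, if_pos rfl]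
    linear_combination S i i * h2
  · rw [if_neg (not_le.mpr h), if_pos h.le, if_neg h.ne', add_zero, zero_add, hji]

/-- elements of the Siegel unipotent radical, parametrised by all matrices -/
def bM (M : Matrix (Fin n) (Fin n) F) : ↥(symplecticGroup (Fin n) F) :=
  ⟨fromBlocks 1 (sy M) 0 1, by
    rw [SymplecticGroup.fromBlocks_mem_iff]
    refine ⟨by simp, ?_, by simp⟩
    simp only [Matrix.one_mul, transpose_one, Matrix.mul_one]
    rw [sy_symm]⟩

theorem bM_coe (M : Matrix (Fin n) (Fin n) F) :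
    ((bM M : ↥(symplecticGroup (Fin n) F)) : Matrix (Fin n ⊕ Fin n) (Fin n ⊕ Fin n) F) =
      fromBlocks 1 (sy M) 0 1 := rfl

theorem bM_add (M M' : Matrix (Fin n) (Fin n) F) : bM (M + M') = bM M * bM M' := by
  apply Subtype.ext
  show fromBlocks 1 (sy (M + M')) 0 1 =
    fromBlocks (1 : Matrix (Fin n) (Fin n) F) (sy M) 0 1 * fromBlocks 1 (sy M') 0 1
  simp only [fromBlocks_multiply, Matrix.mul_one, Matrix.one_mul, Matrix.mul_zero, Matrix.zero_mul,
    add_zero, zero_add, sy_add]
  congr 1
  abel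

theorem bM_zero : bM (0 : Matrix (Fin n) (Fin n) F) = 1 := by
  apply Subtype.ext
  show fromBlocks 1 (sy 0) 0 1 = (1 : Matrix (Fin n ⊕ Fin n) (Fin n ⊕ Fin n) F)
  rw [sy_zero]
  simp [fromBlocks_one]

theorem bM_comm (M M' : Matrix (Fin n) (Fin n) F) : bM M * bM M' = bM M' * bM M := by
  rw [← bM_add, ← bM_add, add_comm]

theorem bM_eq_of_sy {M M' : Matrix (Fin n) (Fin n) F} (h : sy M = sy M') : bM M = bM M' := by
  apply Subtype.ext
  show fromBlocks 1 (sy M) 0 1 = fromBlocks (1 : Matrix (Fin n) (Fin n) F) (sy M') 0 1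
  rw [h]

theorem bM_sq (h2 : (2 : F) = 0) (M : Matrix (Fin n) (Fin n) F) : bM M ^ 2 = 1 := by
  rw [pow_two, ← bM_add]
  have : M + M = 0 := by
    ext i j
    rw [Matrix.add_apply, Matrix.zero_apply]
    linear_combination M i j * h2
  rw [this, bM_zero]

theorem bM_dM (h2 : (2 : F) = 0) (C D : Matrix (Fin n) (Fin n) F) (h : D * C = 1)
    (M : Matrix (Fin n) (Fin n) F) :
    bM M * dM C D h = dM C D h * bM (up (D * sy M * Dᵀ)) := by
  have hsym : (D * sy M * Dᵀ)ᵀ = D * sy M * Dᵀ := by
    rw [transpose_mul, transpose_mul, transpose_transpose, sy_symm, Matrix.mul_assoc]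
  apply Subtype.ext
  show fromBlocks (1 : Matrix (Fin n) (Fin n) F) (sy M) 0 1 * fromBlocks C 0 0 Dᵀ =
    fromBlocks C 0 0 Dᵀ * fromBlocks 1 (sy (up (D * sy M * Dᵀ))) 0 1
  rw [sy_up h2 _ hsym]
  simp only [fromBlocks_multiply, Matrix.mul_one, Matrix.one_mul, Matrix.mul_zero, Matrix.zero_mul,
    add_zero, zero_add]
  congr 1
  have h' : C * D = 1 := mul_eq_one_comm.mp h
  rw [← Matrix.mul_assoc, ← Matrix.mul_assoc, h', Matrix.one_mul]

/-- the rank one matrices -/
def rk (x : Fin n → F) : Matrix (Fin n) (Fin n) F := up (vecMulVec x x)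

theorem sy_rk (h2 : (2 : F) = 0) (x : Fin n → F) : sy (rk x) = vecMulVec x x := by
  apply sy_up h2
  ext i j
  simp only [transpose_apply, vecMulVec_apply]
  ring

theorem conj_vecMulVec (D : Matrix (Fin n) (Fin n) F) (x : Fin n → F) :
    D * vecMulVec x x * Dᵀ = vecMulVec (D *ᵥ x) (D *ᵥ x) := by
  rw [Matrix.mul_vecMulVec, Matrix.vecMulVec_mul, vecMul_transpose]

theorem up_conj_rk (h2 : (2 : F) = 0) (D : Matrix (Fin n) (Fin n) F) (x : Fin n → F) :
    up (D * sy (rk x) * Dᵀ) = rk (D *ᵥ x) := by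
  rw [sy_rk h2, conj_vecMulVec]
  rfl

/-- the quadratic form attached to a matrix `B` -/
theorem trace_mul_rk (B : Matrix (Fin n) (Fin n) F) (x : Fin n → F) :
    trace (B * rk x) = x ⬝ᵥ (up Bᵀ) *ᵥ x := by
  simp only [trace, diag_apply, Matrix.mul_apply, rk, up_apply, vecMulVec_apply, dotProduct,
    mulVec, transpose_apply]
  rw [Finset.sum_comm]
  apply Finset.sum_congr rfl
  intro i _
  rw [Finset.mul_sum]
  apply Finset.sum_congr rfl
  intro j _
  split_ifs <;> ring

end elements

end Cfsg.Agent.Lib.Helper14.SpEv
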