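import Mathlib
import Cfsg.Agent.Lib.Helper14.SpEv1

/-!
# The lower bound for representations of `Sp_{2n}(q)`, `q` even, from the orbit bound for
quadratic forms (helper14)
-/

set_option autoImplicit false
set_option linter.unusedSectionVars false
set_option linter.unusedVariables false

namespace Cfsg.Agent.Lib.Helper14.SpEv

open Matrix Module Cfsg.Agent.Lib.Helper14.Wt Cfsg.Agent.Lib.Helper14.Weil

section bound

variable {F : Type*} [Field F] [Fintype F] [DecidableEq F] {n : ℕ}
  {V : Type*} [AddCommGroup V] [Module ℂ V] [FiniteDimensional ℂ V]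

/-- the stabiliser of the quadratic form `x ↦ xᵀ C x` -/
abbrev OStab (C : Matrix (Fin n) (Fin n) F) : Type _ :=
  {A : GL (Fin n) F // ∀ x : Fin n → F,
    ((A : Matrix (Fin n) (Fin n) F) *ᵥ x) ⬝ᵥ C *ᵥ ((A : Matrix (Fin n) (Fin n) F) *ᵥ x) =
      x ⬝ᵥ C *ᵥ x}

theorem char_vanish {ψ : AddChar F ℂ} (hψ : ψ ≠ 1) (h2 : (2 : F) = 0) {d : F}
    (h : ∀ c : F, ψ (c ^ 2 * d) = 1) : d = 0 := by
  by_contra hd
  apply hψ
  ext t
  rw [AddChar.one_apply]
  have hchar : ringChar F = 2 := by
    have : ((2 : ℕ) : F) = 0 := by exact_mod_cast h2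
    have hdvd := (ringChar.spec F 2).mp this
    have hp : (ringChar F).Prime := CharP.char_is_prime F (ringChar F)
    exact (Nat.prime_dvd_prime_iff_eq hp Nat.prime_two).mp hdvd
  obtain ⟨s, hs⟩ := FiniteField.isSquare_of_char_two hchar (t / d)
  have h1 := h s
  have h3 : s ^ 2 * d = t := by
    rw [pow_two, ← hs]
    field_simp
  rwa [h3] at h1

/-- **The lower bound**: a representation of `Sp_{2n}(q)`, `q` even, which is non-trivial on a
short root element of the Siegel unipotent radical has degree at least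
`(q ^ n - 1) (q ^ n - q) / (2 (q + 1))`, given the orbit bound for quadratic forms. -/
theorem sp_even_bound (h2 : (2 : F) = 0) (i₀ j₀ : Fin n) (hij : i₀ ≠ j₀)
    (ρ : ↥(symplecticGroup (Fin n) F) →* (V →ₗ[ℂ] V))
    (hne : ρ (bM (Matrix.single i₀ j₀ (1 : F))) ≠ 1)
    (hob : ∀ C : Matrix (Fin n) (Fin n) F, C + Cᵀ ≠ 0 →
      Nat.card (OStab C) * ((Fintype.card F ^ n - 1) * (Fintype.card F ^ n - Fintype.card F)) ≤
        2 * (Fintype.card F + 1) * Nat.card (GL (Fin n) F)) :
    (Fintype.card F ^ n - 1) * (Fintype.card F ^ n - Fintype.card F) ≤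
      2 * (Fintype.card F + 1) * finrank ℂ V := by
  classical
  have hp : ((2 : ℕ) : ℂ) ≠ 0 := by norm_num
  obtain ⟨ψ, hψ1⟩ := (AddChar.exists_apply_ne_zero (α := F) (a := 1)).mpr one_ne_zero
  have hψ : ψ ≠ 1 := fun h => hψ1 (by rw [h]; rfl)
  obtain ⟨χ, hχ, hχ0⟩ := exists_chi ρ bM bM_comm hp (bM_sq h2) _ hne
  obtain ⟨hadd, h0⟩ := chi_mul ρ bM bM_add hχ
  let χ' : AddChar (Matrix (Fin n) (Fin n) F) ℂ := ⟨χ, h0, hadd⟩
  obtain ⟨B, hB⟩ := chiB_surjective hψ χ'
  have hB' : χ = ⇑(chiB ψ B) := by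
    rw [← hB]
    rfl
  set C : Matrix (Fin n) (Fin n) F := up Bᵀ with hC
  -- the form is not additive
  have hBji : B j₀ i₀ ≠ 0 := by
    intro h
    apply hχ0
    rw [hB', chiB_apply]
    have : trace (B * Matrix.single i₀ j₀ (1 : F)) = B j₀ i₀ := by
      simp only [trace, diag_apply, Matrix.mul_apply, Matrix.single_apply]
      rw [Finset.sum_eq_single j₀]
      · rw [Finset.sum_eq_single i₀]
        · simp
        · intro b _ hb
          simp [Ne.symm hb]
        · simp
      · intro b _ hb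
        apply Finset.sum_eq_zero
        intro k _
        simp [Ne.symm hb]
      · simp
    rw [this, h, AddChar.map_zero_eq_one]
  have hCne : C + Cᵀ ≠ 0 := by
    intro h
    have h1 := congrFun (congrFun h i₀) j₀
    have h3 := congrFun (congrFun h j₀) i₀
    simp only [Matrix.add_apply, transpose_apply, Matrix.zero_apply, hC, up_apply] at h1 h3
    rcases lt_or_gt_of_ne hij with hlt | hlt
    · rw [if_pos hlt.le, if_neg (not_le.mpr hlt), add_zero] at h1
      exact hBji h1
    · rw [if_neg (not_le.mpr hlt), if_pos hlt.le, zero_add] at h1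
      rw [if_pos hlt.le, if_neg (not_le.mpr hlt), add_zero] at h3
      -- `B i₀ j₀ = 0`, need `B j₀ i₀`
      -- use the symmetric entry
      exact hBji (by
        -- weights only depend on `sy`
        have hdep : χ (Matrix.single i₀ j₀ (1 : F)) = χ (Matrix.single j₀ i₀ (1 : F)) := by
          obtain ⟨v, hv, hv0⟩ := Submodule.exists_mem_ne_zero_of_ne_bot hχ
          rw [mem_E] at hv
          have e1 := hv (Matrix.single i₀ j₀ (1 : F))
          have e2 := hv (Matrix.single j₀ i₀ (1 : F))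
          have e3 : bM (Matrix.single i₀ j₀ (1 : F)) = bM (Matrix.single j₀ i₀ (1 : F)) := by
            apply bM_eq_of_sy
            rw [← sy_transpose, Matrix.transpose_single]
          rw [e3, e2] at e1
          have : (χ (Matrix.single j₀ i₀ (1 : F)) - χ (Matrix.single i₀ j₀ (1 : F))) • v = 0 := by
            rw [sub_smul, e1, sub_self]
          rcases smul_eq_zero.mp this with h | h
          · linear_combination -h
          · exact absurd h hv0
        exfalso
        apply hχ0
        rw [hdep, hB', chiB_apply]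
        have : trace (B * Matrix.single j₀ i₀ (1 : F)) = B i₀ j₀ := by
          simp only [trace, diag_apply, Matrix.mul_apply, Matrix.single_apply]
          rw [Finset.sum_eq_single i₀]
          · rw [Finset.sum_eq_single j₀]
            · simp
            · intro b _ hb
              simp [Ne.symm hb]
            · simp
          · intro b _ hb
            apply Finset.sum_eq_zero
            intro k _
            simp [Ne.symm hb]
          · simp
        rw [this, h3, AddChar.map_zero_eq_one])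
  -- the orbit of weights
  let τ : GL (Fin n) F → Matrix (Fin n) (Fin n) F → Matrix (Fin n) (Fin n) F :=
    fun A M => up ((A : Matrix (Fin n) (Fin n) F) * sy M * (A : Matrix (Fin n) (Fin n) F)ᵀ)
  let Φ : GL (Fin n) F → (Matrix (Fin n) (Fin n) F → ℂ) := fun A => χ ∘ τ A
  have hΦ : ∀ A, E ρ bM (Φ A) ≠ ⊥ := by
    intro A
    have hinv : (A : Matrix (Fin n) (Fin n) F) * ((A⁻¹ : GL (Fin n) F) : Matrix (Fin n) (Fin n) F)
        = 1 := by
      rw [← Units.val_mul, mul_inv_cancel]
      rfl
    exact E_comp_ne_bot ρ bM (dM _ _ hinv) (τ A) (fun M => bM_dM h2 _ _ hinv M) hχ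
  have hΦrk : ∀ (A : GL (Fin n) F) (x : Fin n → F) (c : F),
      Φ A (rk (c • x)) = ψ (c ^ 2 * (((A : Matrix (Fin n) (Fin n) F) *ᵥ x) ⬝ᵥ
        C *ᵥ ((A : Matrix (Fin n) (Fin n) F) *ᵥ x))) := by
    intro A x c
    show χ (up ((A : Matrix (Fin n) (Fin n) F) * sy (rk (c • x)) *
      (A : Matrix (Fin n) (Fin n) F)ᵀ)) = _
    rw [up_conj_rk h2, hB', chiB_apply, trace_mul_rk, mulVec_smul, mulVec_smul, smul_dotProduct,
      dotProduct_smul, smul_eq_mul, smul_eq_mul, ← mul_assoc, pow_two]
  have hfib : ∀ A A₁ : GL (Fin n) F, Φ A = Φ A₁ → ∀ y : Fin n → F,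
      ((A : Matrix (Fin n) (Fin n) F) *ᵥ y) ⬝ᵥ C *ᵥ ((A : Matrix (Fin n) (Fin n) F) *ᵥ y) =
      ((A₁ : Matrix (Fin n) (Fin n) F) *ᵥ y) ⬝ᵥ C *ᵥ ((A₁ : Matrix (Fin n) (Fin n) F) *ᵥ y) := by
    intro A A₁ h y
    rw [← sub_eq_zero]
    apply char_vanish hψ h2
    intro c
    have h1 := congrFun h (rk (c • y))
    rw [hΦrk, hΦrk] at h1
    rw [mul_sub, AddChar.map_sub_eq_div, h1, div_self (AddChar.val_isUnit ψ _).ne_zero]
  -- counting
  let S : Finset (Matrix (Fin n) (Fin n) F → ℂ) := Finset.univ.image Φ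
  have hS : S.card ≤ finrank ℂ V := by
    apply card_le ρ bM bM_comm hp (bM_sq h2) S
    intro s hs
    obtain ⟨A, -, rfl⟩ := Finset.mem_image.mp hs
    exact hΦ A
  haveI : Fintype (OStab C) := Fintype.ofFinite _
  have hcount : (Finset.univ : Finset (GL (Fin n) F)).card ≤ Fintype.card (OStab C) * S.card := by
    apply Finset.card_le_mul_card_image
    intro s hs
    obtain ⟨A₁, -, rfl⟩ := Finset.mem_image.mp hs
    have hmaps : ∀ A ∈ Finset.univ.filter (fun A => Φ A = Φ A₁), ∀ x : Fin n → F,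
        (((A * A₁⁻¹ : GL (Fin n) F) : Matrix (Fin n) (Fin n) F) *ᵥ x) ⬝ᵥ
          C *ᵥ (((A * A₁⁻¹ : GL (Fin n) F) : Matrix (Fin n) (Fin n) F) *ᵥ x) = x ⬝ᵥ C *ᵥ x := by
      intro A hA x
      have hA' := (Finset.mem_filter.mp hA).2
      have h1 := hfib A A₁ hA' (((A₁⁻¹ : GL (Fin n) F) : Matrix (Fin n) (Fin n) F) *ᵥ x)
      have e1 : (A₁ : Matrix (Fin n) (Fin n) F) *ᵥ
          (((A₁⁻¹ : GL (Fin n) F) : Matrix (Fin n) (Fin n) F) *ᵥ x) = x := by
        rw [mulVec_mulVec, ← Units.val_mul, mul_inv_cancel, Units.val_one, one_mulVec]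
      have e2 : (A : Matrix (Fin n) (Fin n) F) *ᵥ
          (((A₁⁻¹ : GL (Fin n) F) : Matrix (Fin n) (Fin n) F) *ᵥ x) =
          ((A * A₁⁻¹ : GL (Fin n) F) : Matrix (Fin n) (Fin n) F) *ᵥ x := by
        rw [mulVec_mulVec, ← Units.val_mul]
      rw [e1, e2] at h1
      exact h1
    have : (Finset.univ.filter (fun A => Φ A = Φ A₁)).card ≤
        (Finset.univ : Finset (OStab C)).card := by
      apply Finset.card_le_card_of_injOn
        (fun A => if h : A ∈ Finset.univ.filter (fun A => Φ A = Φ A₁) then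
          (⟨A * A₁⁻¹, hmaps A h⟩ : OStab C) else ⟨1, by intro x; simp⟩)
      · intro A _
        exact Finset.mem_univ _
      · intro A hA A' hA' h
        simp only [Finset.mem_coe] at hA hA'
        simp only [dif_pos hA, dif_pos hA'] at h
        have := congrArg Subtype.val h
        simpa using this
    exact this
  have hob' := hob C hCne
  rw [Nat.card_eq_fintype_card, Nat.card_eq_fintype_card] at hob'
  rw [Finset.card_univ] at hcount
  set D := (Fintype.card F ^ n - 1) * (Fintype.card F ^ n - Fintype.card F) with hD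
  set g := Fintype.card (GL (Fin n) F) with hg
  have hgpos : 0 < g := Fintype.card_pos
  have h5 : D * g ≤ (2 * (Fintype.card F + 1) * finrank ℂ V) * g := by
    calc D * g ≤ D * (Fintype.card (OStab C) * S.card) := Nat.mul_le_mul_left _ hcount
      _ = (Fintype.card (OStab C) * D) * S.card := by ring
      _ ≤ (2 * (Fintype.card F + 1) * g) * S.card := Nat.mul_le_mul_right _ hob'
      _ ≤ (2 * (Fintype.card F + 1) * g) * finrank ℂ V := Nat.mul_le_mul_left _ hS
      _ = _ := by ring
  exact Nat.le_of_mul_le_mul_right h5 hgpos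

end bound

end Cfsg.Agent.Lib.Helper14.SpEv
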