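import Mathlib
import Cfsg.Agent.Lib.Helper14.SpEv2
import Cfsg.Agent.Lib.Helper2.SympCenter
import Cfsg.Agent.S0270

/-!
# The Landazuri–Seitz bound for `Sp_{2n}(q)`, `q` even, given the orbit bound (helper14)
-/

set_option autoImplicit false
set_option linter.unusedSectionVars false
set_option linter.unusedVariables false

namespace Cfsg.Agent.Lib.Helper14.SpEv

open Matrix Module Cfsg.Agent.Lib.Helper14.Wt Cfsg.Agent.Lib.Helper14.Weil

section simple

variable {F : Type*} [Field F] [Fintype F] {n : ℕ}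

/-- in characteristic two the symplectic group has trivial centre -/
theorem center_eq_bot (h2 : (2 : F) = 0) (hn : 1 ≤ n) :
    Subgroup.center ↥(symplecticGroup (Fin n) F) = ⊥ := by
  rw [eq_bot_iff]
  intro A hA
  rw [Subgroup.mem_bot]
  apply Subtype.ext
  rcases Cfsg.Agent.Lib.Helper2.symp_center_coe hn A hA with h | h
  · exact h
  · rw [h]
    show (-1 : Matrix (Fin n ⊕ Fin n) (Fin n ⊕ Fin n) F) = 1
    have : (-1 : F) = 1 := by linear_combination (-1 : F) * h2
    ext i j
    by_cases hij : i = j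
    · subst hij
      simp [this]
    · simp [hij]

/-- a normal subgroup of `Sp_{2n}(q)`, `q` even, is trivial or everything -/
theorem normal_cases (h2 : (2 : F) = 0) (hn : 2 ≤ n) (hex : n = 2 → 3 ≤ Fintype.card F)
    (K : Subgroup ↥(symplecticGroup (Fin n) F)) [K.Normal] : K = ⊥ ∨ K = ⊤ := by
  have hsimple : IsSimpleGroup (Cfsg.PSp n F) := Cfsg.Agent.S0270.result n hn hex
  have hZ := center_eq_bot (F := F) h2 (by omega : 1 ≤ n)
  let π := QuotientGroup.mk' (Subgroup.center ↥(symplecticGroup (Fin n) F))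
  have hπ : Function.Surjective π := QuotientGroup.mk'_surjective _
  have hnorm : (K.map π).Normal := Subgroup.Normal.map inferInstance π hπ
  rcases hsimple.eq_bot_or_eq_top_of_normal (K.map π) hnorm with h | h
  · left
    rw [eq_bot_iff]
    intro g hg
    have h1 : π g ∈ K.map π := Subgroup.mem_map_of_mem π hg
    rw [h, Subgroup.mem_bot] at h1
    have h3 : g ∈ Subgroup.center ↥(symplecticGroup (Fin n) F) := by
      have := (QuotientGroup.eq_one_iff g).mp h1
      exact this
    rwa [hZ] at h3
  · right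
    rw [eq_top_iff]
    intro g _
    have h1 : π g ∈ K.map π := by rw [h]; trivial
    obtain ⟨k, hk, hkg⟩ := Subgroup.mem_map.mp h1
    have h3 : k⁻¹ * g ∈ Subgroup.center ↥(symplecticGroup (Fin n) F) := by
      apply (QuotientGroup.eq_one_iff _).mp
      show π (k⁻¹ * g) = 1
      rw [map_mul, map_inv, hkg, inv_mul_cancel]
    rw [hZ, Subgroup.mem_bot] at h3
    have : g = k := by
      have := congrArg (fun x => k * x) h3
      simpa using this
    rw [this]
    exact hk

end simple

section irr

variable {F : Type*} [Field F] [Fintype F] [DecidableEq F]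

/-- **The Landazuri–Seitz bound** for `Sp_{2n}(q)`, `q` even, given the orbit bound. -/
theorem sp_even_irr_bound (n : ℕ) (hn : 2 ≤ n) (h2 : (2 : F) = 0)
    (hex : n = 2 → 3 ≤ Fintype.card F)
    (hob : ∀ C : Matrix (Fin n) (Fin n) F, C + Cᵀ ≠ 0 →
      Nat.card (OStab C) * ((Fintype.card F ^ n - 1) * (Fintype.card F ^ n - Fintype.card F)) ≤
        2 * (Fintype.card F + 1) * Nat.card (GL (Fin n) F))
    (k : ℕ)
    (ρ : Representation ℂ ↥(symplecticGroup (Fin n) F) (Fin k → ℂ)) (hirr : ρ.IsIrreducible)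
    (hk : 2 ≤ k) :
    (Fintype.card F ^ n - 1) * (Fintype.card F ^ n - Fintype.card F) /
      (2 * (Fintype.card F + 1)) ≤ k := by
  let ρ' : ↥(symplecticGroup (Fin n) F) →* ((Fin k → ℂ) →ₗ[ℂ] (Fin k → ℂ)) := ρ
  have hne : ∃ g, ρ' g ≠ 1 := by
    by_contra hcon
    push Not at hcon
    let v : Fin k → ℂ := Pi.single ⟨0, by omega⟩ 1
    have hv : v ≠ 0 := by
      intro h0
      have := congrFun h0 ⟨0, by omega⟩
      simp [v] at this
    let S : Subrepresentation ρ :=
      ⟨Submodule.span ℂ {v}, by
        intro g w hw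
        have := hcon g
        rw [show ρ g = 1 from this]
        exact hw⟩
    rcases hirr.eq_bot_or_eq_top S with hS | hS
    · have h1 : S.toSubmodule = ⊥ := congrArg Subrepresentation.toSubmodule hS
      exact hv (Submodule.span_singleton_eq_bot.mp h1)
    · have h1 : S.toSubmodule = ⊤ := congrArg Subrepresentation.toSubmodule hS
      have h3 := finrank_span_singleton (K := ℂ) hv
      change Module.finrank ℂ ↥S.toSubmodule = 1 at h3
      rw [h1, finrank_top, Module.finrank_fin_fun] at h3
      omega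
  have hker : ρ'.ker = ⊥ := by
    rcases normal_cases h2 hn hex ρ'.ker with h | h
    · exact h
    · exfalso
      obtain ⟨g, hg⟩ := hne
      apply hg
      have : g ∈ ρ'.ker := by rw [h]; trivial
      exact MonoidHom.mem_ker.mp this
  have hi : (⟨0, by omega⟩ : Fin n) ≠ ⟨1, by omega⟩ := by
    intro h
    have := congrArg Fin.val h
    simp at this
  have hfaith : ρ' (bM (Matrix.single (⟨0, by omega⟩ : Fin n) ⟨1, by omega⟩ (1 : F))) ≠ 1 := by
    intro h
    have h1 : bM (Matrix.single (⟨0, by omega⟩ : Fin n) ⟨1, by omega⟩ (1 : F)) ∈ ρ'.ker :=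
      MonoidHom.mem_ker.mpr h
    rw [hker, Subgroup.mem_bot] at h1
    have h3 := congrArg Subtype.val h1
    rw [bM_coe] at h3
    have h4 := congrFun (congrFun h3 (Sum.inl ⟨0, by omega⟩)) (Sum.inr ⟨1, by omega⟩)
    simp only [fromBlocks_apply₁₂, sy_apply] at h4
    rw [if_neg hi] at h4
    simp [Matrix.single_apply, Matrix.one_apply] at h4
  have h3 := sp_even_bound h2 _ _ hi ρ' hfaith hob
  rw [Module.finrank_fin_fun] at h3
  apply Nat.div_le_of_le_mul
  exact h3

end irr

end Cfsg.Agent.Lib.Helper14.SpEv
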