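import Mathlib
import Cfsg.Agent.S0749

set_option autoImplicit false

/-! # Isometry groups of alternating forms: isotropic frames and pointwise stabilisers -/

namespace Cfsg.Agent.Lib.Helper14.SpInv

open Module

universe u

section defs

variable {F V : Type u} [Field F] [AddCommGroup V] [Module F V]

/-- the isometry group of a bilinear form -/
def IsoGrp (B : V →ₗ[F] V →ₗ[F] F) : Subgroup (V ≃ₗ[F] V) where
  carrier := {g | ∀ x y, B (g x) (g y) = B x y}
  mul_mem' := by
    intro a b ha hb x y
    rw [LinearEquiv.mul_apply, LinearEquiv.mul_apply, ha, hb]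
  one_mem' := by
    intro x y
    rfl
  inv_mem' := by
    intro a ha x y
    have h := ha (a⁻¹ x) (a⁻¹ y)
    have e : ∀ z, a (a⁻¹ z) = z := fun z => by
      rw [← LinearEquiv.mul_apply, mul_inv_cancel]; rfl
    rw [e, e] at h
    exact h.symm

theorem mem_IsoGrp (B : V →ₗ[F] V →ₗ[F] F) (g : V ≃ₗ[F] V) :
    g ∈ IsoGrp B ↔ ∀ x y, B (g x) (g y) = B x y := Iff.rfl

theorem IsoGrp_pres (B : V →ₗ[F] V →ₗ[F] F) (g : IsoGrp B) (x y : V) :
    B ((g : V ≃ₗ[F] V) x) ((g : V ≃ₗ[F] V) y) = B x y := g.2 x y

theorem coe_mul_apply (B : V →ₗ[F] V →ₗ[F] F) (g h : IsoGrp B) (x : V) :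
    ((g * h : IsoGrp B) : V ≃ₗ[F] V) x = (g : V ≃ₗ[F] V) ((h : V ≃ₗ[F] V) x) := rfl

theorem coe_one_apply (B : V →ₗ[F] V →ₗ[F] F) (x : V) :
    ((1 : IsoGrp B) : V ≃ₗ[F] V) x = x := rfl

theorem coe_inv_apply_self (B : V →ₗ[F] V →ₗ[F] F) (g : IsoGrp B) (x : V) :
    ((g⁻¹ : IsoGrp B) : V ≃ₗ[F] V) ((g : V ≃ₗ[F] V) x) = x := by
  rw [← coe_mul_apply, inv_mul_cancel, coe_one_apply]

theorem coe_apply_inv_self (B : V →ₗ[F] V →ₗ[F] F) (g : IsoGrp B) (x : V) :
    (g : V ≃ₗ[F] V) (((g⁻¹ : IsoGrp B) : V ≃ₗ[F] V) x) = x := by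
  rw [← coe_mul_apply, mul_inv_cancel, coe_one_apply]

/-- isotropic independent families -/
abbrev Frames (B : V →ₗ[F] V →ₗ[F] F) (s : ℕ) : Type u :=
  {v : Fin s → V // LinearIndependent F v ∧ ∀ i j, B (v i) (v j) = 0}

/-- the pointwise stabiliser of a subspace -/
def PStab (B : V →ₗ[F] V →ₗ[F] F) (E : Submodule F V) : Subgroup (IsoGrp B) where
  carrier := {g | ∀ e ∈ E, (g : V ≃ₗ[F] V) e = e}
  mul_mem' := by
    intro a b ha hb e he
    rw [coe_mul_apply, hb e he, ha e he]
  one_mem' := by
    intro e _
    rfl
  inv_mem' := by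
    intro a ha e he
    have h := ha e he
    conv_lhs => rw [← h]
    exact coe_inv_apply_self B a e

theorem mem_PStab (B : V →ₗ[F] V →ₗ[F] F) (E : Submodule F V) (g : IsoGrp B) :
    g ∈ PStab B E ↔ ∀ e ∈ E, (g : V ≃ₗ[F] V) e = e := Iff.rfl

end defs

section count

variable {F V : Type u} [Field F] [Fintype F] [AddCommGroup V] [Module F V] [FiniteDimensional F V]
variable (B : V →ₗ[F] V →ₗ[F] F)

theorem card_submodule (W : Submodule F V) : Nat.card W = Fintype.card F ^ finrank F W := by
  haveI : Finite V := Module.finite_of_finite F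
  haveI : Fintype W := Fintype.ofFinite _
  rw [Nat.card_eq_fintype_card, Module.card_eq_pow_finrank (K := F)]

instance finite_frames (s : ℕ) : Finite (Frames B s) := by
  haveI : Finite V := Module.finite_of_finite F
  unfold Frames
  infer_instance

instance finite_IsoGrp : Finite (IsoGrp B) := by
  haveI : Finite V := Module.finite_of_finite F
  haveI : Finite (V ≃ₗ[F] V) := Finite.of_injective (fun g : V ≃ₗ[F] V => (g : V → V))
    (fun a b h => LinearEquiv.ext (congrFun h))
  infer_instance

/-- restriction of a frame -/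
def Frames.init {s : ℕ} (x : Frames B (s + 1)) : Frames B s :=
  ⟨Fin.init x.1, by
    have h := x.2
    refine ⟨?_, fun i j => h.2 _ _⟩
    have h1 : x.1 = Fin.snoc (Fin.init x.1) (x.1 (Fin.last s)) := (Fin.snoc_init_self x.1).symm
    have h2 := h.1
    rw [h1, linearIndependent_finSnoc] at h2
    exact h2.1⟩

variable (hB : LinearMap.BilinForm.Nondegenerate (B : LinearMap.BilinForm F V))
variable (halt : ∀ x, B x x = 0)

include halt in
theorem alt_swap (x y : V) : B x y = - B y x := by
  have h := halt (x + y)
  simp only [map_add, LinearMap.add_apply, halt, zero_add, add_zero] at h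
  exact eq_neg_of_add_eq_zero_right h

theorem mem_orth_span {s : ℕ} (v : Fin s → V) (x : V) :
    x ∈ LinearMap.BilinForm.orthogonal (B : LinearMap.BilinForm F V)
      (Submodule.span F (Set.range v)) ↔ ∀ i, B (v i) x = 0 := by
  rw [LinearMap.BilinForm.mem_orthogonal_iff]
  constructor
  · intro h i
    exact h _ (Submodule.subset_span ⟨i, rfl⟩)
  · intro h y hy
    show B y x = 0
    induction hy using Submodule.span_induction with
    | mem y hy =>
      obtain ⟨i, rfl⟩ := hy
      exact h i
    | zero => simp
    | add a b _ _ ha hb => rw [map_add, LinearMap.add_apply, ha, hb, add_zero]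
    | smul c a _ ha => rw [map_smul, LinearMap.smul_apply, ha, smul_zero]

theorem span_le_orth {s : ℕ} (v : Frames B s) :
    Submodule.span F (Set.range v.1) ≤ LinearMap.BilinForm.orthogonal
      (B : LinearMap.BilinForm F V) (Submodule.span F (Set.range v.1)) := by
  rw [Submodule.span_le]
  rintro _ ⟨j, rfl⟩
  rw [SetLike.mem_coe, mem_orth_span]
  intro i
  exact v.2.2 i j

/-- the fibre of the restriction map of frames -/
noncomputable def frameFiberEquiv {s : ℕ} (p : Frames B s) :
    {x : Frames B (s + 1) // x.init B = p} ≃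
      {x : V // x ∈ LinearMap.BilinForm.orthogonal (B : LinearMap.BilinForm F V)
        (Submodule.span F (Set.range p.1)) ∧ x ∉ Submodule.span F (Set.range p.1)} where
  toFun x := ⟨x.1.1 (Fin.last s), by
    have hx := x.1.2
    have hp : Fin.init x.1.1 = p.1 := congrArg Subtype.val x.2
    have h1 : x.1.1 = Fin.snoc (Fin.init x.1.1) (x.1.1 (Fin.last s)) :=
      (Fin.snoc_init_self x.1.1).symm
    have h2 := hx.1
    rw [h1, linearIndependent_finSnoc, hp] at h2
    refine ⟨?_, h2.2⟩
    rw [mem_orth_span]
    intro i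
    rw [← hp]
    exact hx.2 _ _⟩
  invFun y := ⟨⟨(Fin.snoc p.1 y.1 : Fin (s + 1) → V), by
    obtain ⟨hy1, hy2⟩ := y.2
    rw [mem_orth_span] at hy1
    refine ⟨?_, ?_⟩
    · rw [linearIndependent_finSnoc]
      exact ⟨p.2.1, hy2⟩
    · intro i j
      induction i using Fin.lastCases with
      | last =>
        induction j using Fin.lastCases with
        | last => rw [Fin.snoc_last]; exact halt _
        | cast j =>
          rw [Fin.snoc_last, Fin.snoc_castSucc, alt_swap B halt, hy1 j, neg_zero]
      | cast i =>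
        induction j using Fin.lastCases with
        | last => rw [Fin.snoc_last, Fin.snoc_castSucc]; exact hy1 i
        | cast j => rw [Fin.snoc_castSucc, Fin.snoc_castSucc]; exact p.2.2 i j⟩, by
    apply Subtype.ext
    show Fin.init (Fin.snoc p.1 y.1 : Fin (s + 1) → V) = p.1
    exact Fin.init_snoc _ _⟩
  left_inv x := by
    apply Subtype.ext
    apply Subtype.ext
    show (Fin.snoc p.1 (x.1.1 (Fin.last s)) : Fin (s + 1) → V) = x.1.1
    have hp : Fin.init x.1.1 = p.1 := congrArg Subtype.val x.2
    rw [← hp]
    exact Fin.snoc_init_self _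
  right_inv y := by
    apply Subtype.ext
    show (Fin.snoc p.1 y.1 : Fin (s + 1) → V) (Fin.last s) = y.1
    exact Fin.snoc_last _ _

include hB halt in
theorem card_frameFiber {s : ℕ} (p : Frames B s) :
    Nat.card {x : V // x ∈ LinearMap.BilinForm.orthogonal (B : LinearMap.BilinForm F V)
        (Submodule.span F (Set.range p.1)) ∧ x ∉ Submodule.span F (Set.range p.1)} =
      Fintype.card F ^ (finrank F V - s) - Fintype.card F ^ s := by
  classical
  haveI : Finite V := Module.finite_of_finite F
  haveI : Fintype V := Fintype.ofFinite _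
  set W := Submodule.span F (Set.range p.1) with hW
  set O := LinearMap.BilinForm.orthogonal (B : LinearMap.BilinForm F V) W with hO
  have hWO : W ≤ O := span_le_orth B p
  have hWd : finrank F W = s := by
    rw [hW, finrank_span_eq_card p.2.1, Fintype.card_fin]
  have hOd : finrank F O = finrank F V - s := by
    rw [hO, LinearMap.BilinForm.finrank_orthogonal hB, hWd]
  have h1 : Nat.card {x : V // x ∈ O ∧ x ∉ W} =
      Nat.card O - Nat.card W := by
    rw [Nat.card_eq_fintype_card, Nat.card_eq_fintype_card, Nat.card_eq_fintype_card,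
      Fintype.card_subtype, Fintype.card_subtype, Fintype.card_subtype]
    have h2 : (Finset.univ.filter (fun x : V => x ∈ O ∧ x ∉ W)) =
        (Finset.univ.filter (fun x : V => x ∈ O)) \ (Finset.univ.filter (fun x : V => x ∈ W)) := by
      ext x
      simp only [Finset.mem_filter, Finset.mem_univ, true_and, Finset.mem_sdiff]
    rw [h2, Finset.card_sdiff_of_subset]
    intro x hx
    simp only [Finset.mem_filter, Finset.mem_univ, true_and] at hx ⊢
    exact hWO hx
  rw [h1, card_submodule, card_submodule, hWd, hOd]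

include hB halt in
theorem card_frames_succ (s : ℕ) :
    Nat.card (Frames B (s + 1)) =
      Nat.card (Frames B s) * (Fintype.card F ^ (finrank F V - s) - Fintype.card F ^ s) := by
  classical
  haveI : Fintype (Frames B s) := Fintype.ofFinite _
  rw [Nat.card_congr (Equiv.sigmaFiberEquiv (Frames.init B (s := s))).symm, Nat.card_sigma]
  have hfib : ∀ p : Frames B s, Nat.card {x : Frames B (s + 1) // x.init B = p} =
      Fintype.card F ^ (finrank F V - s) - Fintype.card F ^ s := by
    intro p
    rw [Nat.card_congr (frameFiberEquiv B halt p)]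
    exact card_frameFiber B hB halt p
  simp only [hfib, Finset.sum_const, Finset.card_univ, smul_eq_mul]
  rw [Nat.card_eq_fintype_card (α := Frames B s)]

include hB halt in
/-- the number of isotropic independent `s`-tuples -/
theorem card_frames (s : ℕ) :
    Nat.card (Frames B s) =
      ∏ i ∈ Finset.range s, (Fintype.card F ^ (finrank F V - i) - Fintype.card F ^ i) := by
  induction s with
  | zero =>
    rw [Finset.range_zero, Finset.prod_empty]
    haveI : Unique (Frames B 0) :=
      { default := ⟨Fin.elim0, linearIndependent_empty_type, fun i => i.elim0⟩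
        uniq := fun x => by
          apply Subtype.ext
          funext i
          exact i.elim0 }
    exact Nat.card_unique
  | succ s ih =>
    rw [card_frames_succ B hB halt, ih, Finset.prod_range_succ]

end count

end Cfsg.Agent.Lib.Helper14.SpInv
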