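import Cfsg.Agent.Lib.Helper14.SpInv1

set_option autoImplicit false

/-! # Isometry groups of alternating forms: the order of a pointwise stabiliser -/

namespace Cfsg.Agent.Lib.Helper14.SpInv

open Module

universe u

variable {F V : Type u} [Field F] [Fintype F] [AddCommGroup V] [Module F V] [FiniteDimensional F V]
variable (B : V →ₗ[F] V →ₗ[F] F)

/-- the image of a frame under an isometry -/
def frameMap {s : ℕ} (v₀ : Frames B s) (g : IsoGrp B) : Frames B s :=
  ⟨fun i => (g : V ≃ₗ[F] V) (v₀.1 i), by
    refine ⟨?_, fun i j => ?_⟩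
    · have h := v₀.2.1.map' ((g : V ≃ₗ[F] V) : V →ₗ[F] V) (LinearEquiv.ker _)
      exact h
    · rw [IsoGrp_pres]
      exact v₀.2.2 i j⟩

theorem frameMap_apply {s : ℕ} (v₀ : Frames B s) (g : IsoGrp B) (i : Fin s) :
    (frameMap B v₀ g).1 i = (g : V ≃ₗ[F] V) (v₀.1 i) := rfl

theorem linComb_iso {s : ℕ} (v : Frames B s) (a b : Fin s → F) :
    B (Fintype.linearCombination F v.1 a) (Fintype.linearCombination F v.1 b) = 0 := by
  rw [Fintype.linearCombination_apply, Fintype.linearCombination_apply]
  simp only [map_sum, LinearMap.sum_apply, map_smul, LinearMap.smul_apply, v.2.2, smul_zero,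
    Finset.sum_const_zero]

variable (hB : LinearMap.BilinForm.Nondegenerate (B : LinearMap.BilinForm F V))
variable (halt : ∀ x, B x x = 0)

include hB halt in
/-- **Witt**: the isometry group is transitive on isotropic frames -/
theorem frameMap_surjective {s : ℕ} (v₀ : Frames B s) :
    Function.Surjective (frameMap B v₀) := by
  intro w
  have hf : Function.Injective (Fintype.linearCombination F v₀.1) :=
    linearIndependent_iff_injective_fintypeLinearCombination.mp v₀.2.1
  have hf' : Function.Injective (Fintype.linearCombination F w.1) :=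
    linearIndependent_iff_injective_fintypeLinearCombination.mp w.2.1
  have hle : s ≤ finrank F V := by
    have := v₀.2.1.fintype_card_le_finrank
    rwa [Fintype.card_fin] at this
  obtain ⟨g, hg1, hg2⟩ := Cfsg.Agent.S0749.witt_alt (B : LinearMap.BilinForm F V) hB halt
    (finrank F V - s) (Fin s → F) (Fintype.linearCombination F v₀.1)
    (Fintype.linearCombination F w.1) hf hf' (by
      intro a b
      rw [linComb_iso, linComb_iso]) (by
      rw [Module.finrank_fin_fun]; omega)
  refine ⟨⟨g, hg1⟩, ?_⟩
  apply Subtype.ext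
  funext i
  rw [frameMap_apply]
  have h := hg2 (Pi.single i 1)
  rw [Fintype.linearCombination_apply_single, Fintype.linearCombination_apply_single, one_smul,
    one_smul] at h
  exact h

/-- the fibres of the frame map are cosets of the pointwise stabiliser -/
noncomputable def frameMapFiberEquiv {s : ℕ} (v₀ : Frames B s) (g₀ : IsoGrp B) :
    {g : IsoGrp B // frameMap B v₀ g = frameMap B v₀ g₀} ≃
      PStab B (Submodule.span F (Set.range v₀.1)) where
  toFun g := ⟨g₀⁻¹ * g.1, by
    rw [mem_PStab]
    intro e he
    induction he using Submodule.span_induction with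
    | mem e he =>
      obtain ⟨i, rfl⟩ := he
      have h := congrFun (congrArg Subtype.val g.2) i
      rw [frameMap_apply, frameMap_apply] at h
      rw [coe_mul_apply, h, coe_inv_apply_self]
    | zero => rw [map_zero]
    | add a b _ _ ha hb => rw [map_add, ha, hb]
    | smul c a _ ha => rw [map_smul, ha]⟩
  invFun h := ⟨g₀ * h.1, by
    apply Subtype.ext
    funext i
    rw [frameMap_apply, frameMap_apply, coe_mul_apply]
    congr 1
    exact (mem_PStab B _ h.1).mp h.2 _ (Submodule.subset_span ⟨i, rfl⟩)⟩
  left_inv g := by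
    apply Subtype.ext
    show g₀ * (g₀⁻¹ * g.1) = g.1
    group
  right_inv h := by
    apply Subtype.ext
    show g₀⁻¹ * (g₀ * h.1) = h.1
    group

include hB halt in
/-- **orbit–stabiliser** for isotropic frames -/
theorem card_IsoGrp_eq {s : ℕ} (v₀ : Frames B s) :
    Nat.card (IsoGrp B) =
      Nat.card (Frames B s) * Nat.card (PStab B (Submodule.span F (Set.range v₀.1))) := by
  classical
  haveI : Fintype (Frames B s) := Fintype.ofFinite _
  rw [Nat.card_congr (Equiv.sigmaFiberEquiv (frameMap B v₀)).symm, Nat.card_sigma]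
  have hfib : ∀ w : Frames B s, Nat.card {g : IsoGrp B // frameMap B v₀ g = w} =
      Nat.card (PStab B (Submodule.span F (Set.range v₀.1))) := by
    intro w
    obtain ⟨g₀, rfl⟩ := frameMap_surjective B hB halt v₀ w
    exact Nat.card_congr (frameMapFiberEquiv B v₀ g₀)
  simp only [hfib, Finset.sum_const, Finset.card_univ, smul_eq_mul]
  rw [Nat.card_eq_fintype_card (α := Frames B s)]

include hB halt in
/-- the order of the pointwise stabiliser of a totally isotropic subspace -/
theorem card_PStab (E : Submodule F V) (hE : ∀ x ∈ E, ∀ y ∈ E, B x y = 0) :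
    Nat.card (IsoGrp B) =
      (∏ i ∈ Finset.range (finrank F E), (Fintype.card F ^ (finrank F V - i) - Fintype.card F ^ i)) *
        Nat.card (PStab B E) := by
  obtain ⟨b⟩ : Nonempty (Basis (Fin (finrank F E)) F E) := ⟨Module.finBasis F E⟩
  let v₀ : Frames B (finrank F E) := ⟨fun i => (b i : V), by
    refine ⟨?_, fun i j => hE _ (b i).2 _ (b j).2⟩
    have h := b.linearIndependent.map' E.subtype (Submodule.ker_subtype E)
    exact h⟩
  have hspan : Submodule.span F (Set.range v₀.1) = E := by
    have h1 : Set.range v₀.1 = E.subtype '' (Set.range b) := by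
      ext x
      constructor
      · rintro ⟨i, rfl⟩
        exact ⟨b i, ⟨i, rfl⟩, rfl⟩
      · rintro ⟨_, ⟨i, rfl⟩, rfl⟩
        exact ⟨i, rfl⟩
    rw [h1, Submodule.span_image, b.span_eq, Submodule.map_top, Submodule.range_subtype]
  rw [card_IsoGrp_eq B hB halt v₀, card_frames B hB halt, hspan]

end Cfsg.Agent.Lib.Helper14.SpInv
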