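import Cfsg.Agent.Lib.Helper14.SpInv2

set_option autoImplicit false

/-! # The centraliser of a self-adjoint square-zero map in a symplectic group -/

namespace Cfsg.Agent.Lib.Helper14.SpInv

open Module

universe u

section nil

variable {F V : Type u} [Field F] [AddCommGroup V] [Module F V]
variable (B : V →ₗ[F] V →ₗ[F] F) (N : V →ₗ[F] V)

/-- a linear section of `N` over its range -/
noncomputable def sec : LinearMap.range N →ₗ[F] V :=
  Classical.choose (N.rangeRestrict.exists_rightInverse_of_surjective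
    (LinearMap.range_rangeRestrict N))

theorem N_sec (e : LinearMap.range N) : N (sec N e) = (e : V) := by
  have h := Classical.choose_spec (N.rangeRestrict.exists_rightInverse_of_surjective
    (LinearMap.range_rangeRestrict N))
  have h2 := LinearMap.congr_fun h e
  have h3 := congrArg Subtype.val h2
  exact h3

/-- the form induced on the range of `N` -/
noncomputable def betaE : LinearMap.range N →ₗ[F] LinearMap.range N →ₗ[F] F :=
  B.compl₁₂ (sec N) (LinearMap.range N).subtype

theorem betaE_def (e₁ e₂ : LinearMap.range N) : betaE B N e₁ e₂ = B (sec N e₁) (e₂ : V) := rfl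

variable (hN2 : ∀ x, N (N x) = 0) (hNB : ∀ x y, B (N x) y = B x (N y))

include hN2 hNB in
theorem betaE_apply (x : V) (e₁ e₂ : LinearMap.range N) (hx : N x = (e₁ : V)) :
    betaE B N e₁ e₂ = B x (e₂ : V) := by
  rw [betaE_def]
  obtain ⟨y, hy⟩ := e₂.2
  rw [← hy, ← hNB, ← hNB, N_sec, hx]

include hN2 hNB in
theorem betaE_mk (x y : V) :
    betaE B N ⟨N x, LinearMap.mem_range_self N x⟩ ⟨N y, LinearMap.mem_range_self N y⟩ =
      B x (N y) :=
  betaE_apply B N hN2 hNB x _ _ rfl

include hN2 hNB in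
theorem range_isotropic (x y : V) (hx : x ∈ LinearMap.range N) (hy : y ∈ LinearMap.range N) :
    B x y = 0 := by
  obtain ⟨a, rfl⟩ := hx
  obtain ⟨b, rfl⟩ := hy
  rw [hNB, hN2, map_zero]

include hN2 hNB in
theorem betaE_nondeg (hnd : ∀ x, (∀ y, B x y = 0) → x = 0) (e : LinearMap.range N)
    (h : ∀ e', betaE B N e e' = 0) : e = 0 := by
  obtain ⟨x, hx⟩ := e.2
  apply Subtype.ext
  rw [← hx]
  apply hnd
  intro y
  have h1 := h ⟨N y, LinearMap.mem_range_self N y⟩
  rw [betaE_apply B N hN2 hNB x e _ hx] at h1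
  rw [hNB]
  exact h1

/-- the centraliser of `N` in the isometry group -/
def Cent : Subgroup (IsoGrp B) where
  carrier := {g | ∀ x, (g : V ≃ₗ[F] V) (N x) = N ((g : V ≃ₗ[F] V) x)}
  mul_mem' := by
    intro a b ha hb x
    rw [coe_mul_apply, coe_mul_apply, hb, ha]
  one_mem' := by
    intro x
    rfl
  inv_mem' := by
    intro a ha x
    have h := ha (((a⁻¹ : IsoGrp B) : V ≃ₗ[F] V) x)
    rw [coe_apply_inv_self] at h
    rw [← h, coe_inv_apply_self]

theorem mem_Cent (g : IsoGrp B) :
    g ∈ Cent B N ↔ ∀ x, (g : V ≃ₗ[F] V) (N x) = N ((g : V ≃ₗ[F] V) x) := Iff.rfl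

theorem map_range_eq (g : IsoGrp B) (hg : g ∈ Cent B N) :
    Submodule.map (((g : V ≃ₗ[F] V)) : V →ₗ[F] V) (LinearMap.range N) = LinearMap.range N := by
  apply le_antisymm
  · rintro _ ⟨_, ⟨x, rfl⟩, rfl⟩
    exact ⟨(g : V ≃ₗ[F] V) x, ((mem_Cent B N g).mp hg x).symm⟩
  · rintro _ ⟨x, rfl⟩
    refine ⟨N (((g⁻¹ : IsoGrp B) : V ≃ₗ[F] V) x), LinearMap.mem_range_self N _, ?_⟩
    show (g : V ≃ₗ[F] V) (N (((g⁻¹ : IsoGrp B) : V ≃ₗ[F] V) x)) = N x
    rw [(mem_Cent B N g).mp hg, coe_apply_inv_self]

/-- restriction of a centralising isometry to the range of `N` -/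
noncomputable def resE (g : Cent B N) : LinearMap.range N ≃ₗ[F] LinearMap.range N :=
  ((g.1 : V ≃ₗ[F] V)).ofSubmodules (LinearMap.range N) (LinearMap.range N)
    (map_range_eq B N g.1 g.2)

theorem resE_apply (g : Cent B N) (e : LinearMap.range N) :
    ((resE B N g e : LinearMap.range N) : V) = (g.1 : V ≃ₗ[F] V) (e : V) := rfl

include hN2 hNB in
theorem resE_mem (g : Cent B N) : resE B N g ∈ IsoGrp (betaE B N) := by
  intro e₁ e₂
  obtain ⟨x, hx⟩ := e₁.2
  have h1 : N ((g.1 : V ≃ₗ[F] V) x) = ((resE B N g e₁ : LinearMap.range N) : V) := by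
    rw [resE_apply, ← hx]
    exact ((mem_Cent B N g.1).mp g.2 x).symm
  rw [betaE_apply B N hN2 hNB _ _ _ h1, betaE_apply B N hN2 hNB x _ _ hx, resE_apply, IsoGrp_pres]

/-- the restriction homomorphism -/
noncomputable def rho : Cent B N →* IsoGrp (betaE B N) where
  toFun g := ⟨resE B N g, resE_mem B N hN2 hNB g⟩
  map_one' := by
    apply Subtype.ext
    apply LinearEquiv.ext
    intro e
    apply Subtype.ext
    rfl
  map_mul' := by
    intro a b
    apply Subtype.ext
    apply LinearEquiv.ext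
    intro e
    apply Subtype.ext
    rfl

theorem rho_apply (g : Cent B N) (e : LinearMap.range N) :
    ((((rho B N hN2 hNB g : IsoGrp (betaE B N)) : LinearMap.range N ≃ₗ[F] LinearMap.range N) e :
      LinearMap.range N) : V) = (g.1 : V ≃ₗ[F] V) (e : V) := rfl

include hN2 hNB in
/-- the pointwise stabiliser of the range centralises `N` -/
theorem PStab_le_Cent (halt : ∀ x, B x x = 0) (hnd : ∀ x, (∀ y, B x y = 0) → x = 0)
    (g : IsoGrp B) (hg : g ∈ PStab B (LinearMap.range N)) : g ∈ Cent B N := by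
  rw [mem_Cent]
  intro x
  rw [(mem_PStab B _ g).mp hg _ (LinearMap.mem_range_self N x)]
  have h1 : N ((g : V ≃ₗ[F] V) x - x) = 0 := by
    apply hnd
    intro y
    rw [hNB, map_sub, LinearMap.sub_apply]
    have h2 : B ((g : V ≃ₗ[F] V) x) (N y) = B ((g : V ≃ₗ[F] V) x) ((g : V ≃ₗ[F] V) (N y)) := by
      rw [(mem_PStab B _ g).mp hg _ (LinearMap.mem_range_self N y)]
    rw [h2, IsoGrp_pres, sub_self]
  rw [map_sub, sub_eq_zero] at h1
  exact h1.symm

/-- the kernel of the restriction homomorphism -/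
noncomputable def kerEquiv (halt : ∀ x, B x x = 0) (hnd : ∀ x, (∀ y, B x y = 0) → x = 0) :
    (rho B N hN2 hNB).ker ≃ PStab B (LinearMap.range N) where
  toFun g := ⟨g.1.1, by
    rw [mem_PStab]
    intro e he
    have h := g.2
    rw [MonoidHom.mem_ker] at h
    have h2 := rho_apply B N hN2 hNB g.1 ⟨e, he⟩
    rw [h] at h2
    exact h2.symm⟩
  invFun h := ⟨⟨h.1, PStab_le_Cent B N hN2 hNB halt hnd h.1 h.2⟩, by
    rw [MonoidHom.mem_ker]
    apply Subtype.ext
    apply LinearEquiv.ext
    intro e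
    apply Subtype.ext
    rw [rho_apply]
    exact (mem_PStab B _ h.1).mp h.2 _ e.2⟩
  left_inv g := rfl
  right_inv h := rfl

end nil

section surj

variable {F V : Type u} [Field F] [Fintype F] [AddCommGroup V] [Module F V] [FiniteDimensional F V]
variable (B : V →ₗ[F] V →ₗ[F] F) (N : V →ₗ[F] V)
variable (hN2 : ∀ x, N (N x) = 0) (hNB : ∀ x y, B (N x) y = B x (N y))
variable (hB : LinearMap.BilinForm.Nondegenerate (B : LinearMap.BilinForm F V))
variable (halt : ∀ x, B x x = 0)

include hB halt in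
/-- **surjectivity** of the restriction homomorphism, by Witt's lemma -/
theorem rho_surjective : Function.Surjective (rho B N hN2 hNB) := by
  intro a
  have hle : finrank F (LinearMap.range N) ≤ finrank F V := Submodule.finrank_le _
  obtain ⟨g, hg1, hg2⟩ := Cfsg.Agent.S0749.witt_alt (B : LinearMap.BilinForm F V) hB halt
    (finrank F V - finrank F (LinearMap.range N)) (LinearMap.range N)
    (LinearMap.range N).subtype
    ((LinearMap.range N).subtype ∘ₗ ((a : LinearMap.range N ≃ₗ[F] LinearMap.range N) :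
      LinearMap.range N →ₗ[F] LinearMap.range N))
    (Submodule.injective_subtype _)
    ((Submodule.injective_subtype _).comp (LinearEquiv.injective _)) (by
      intro x y
      show B (x : V) (y : V) =
        B ((((a : LinearMap.range N ≃ₗ[F] LinearMap.range N) x : LinearMap.range N)) : V)
          ((((a : LinearMap.range N ≃ₗ[F] LinearMap.range N) y : LinearMap.range N)) : V)
      rw [range_isotropic B N hN2 hNB _ _ x.2 y.2,
        range_isotropic B N hN2 hNB _ _ (Subtype.mem _) (Subtype.mem _)]) (by omega)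
  have hga : ∀ e : LinearMap.range N, g (e : V) =
      (((a : LinearMap.range N ≃ₗ[F] LinearMap.range N) e : LinearMap.range N) : V) := hg2
  have hgC : (⟨g, hg1⟩ : IsoGrp B) ∈ Cent B N := by
    rw [mem_Cent]
    intro v
    show g (N v) = N (g v)
    have key : ∀ y, B (g (N v)) y = B (N (g v)) y := by
      intro y
      let e₁ : LinearMap.range N := ⟨N v, LinearMap.mem_range_self N v⟩
      let e₂ : LinearMap.range N := ⟨N y, LinearMap.mem_range_self N y⟩
      let e₂' : LinearMap.range N := (a : LinearMap.range N ≃ₗ[F] LinearMap.range N).symm e₂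
      have h5 : (a : LinearMap.range N ≃ₗ[F] LinearMap.range N) e₂' = e₂ :=
        LinearEquiv.apply_symm_apply _ _
      have h1 : g (e₂' : V) = N y := by
        rw [hga e₂', h5]
      have h2 : B (N (g v)) y = B v (e₂' : V) := by
        rw [hNB, ← h1, hg1]
      have h3 : betaE B N e₁ e₂' = B v (e₂' : V) := betaE_apply B N hN2 hNB v e₁ e₂' rfl
      have h4 := a.2 e₁ e₂'
      obtain ⟨x', hx'⟩ := ((a : LinearMap.range N ≃ₗ[F] LinearMap.range N) e₁).2
      have h6 : betaE B N ((a : LinearMap.range N ≃ₗ[F] LinearMap.range N) e₁) e₂ = B x' (N y) :=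
        betaE_apply B N hN2 hNB x' _ e₂ hx'
      have h7 : B (g (N v)) y = B x' (N y) := by
        have : g (N v) = g (e₁ : V) := rfl
        rw [this, hga e₁, ← hx', hNB]
      rw [h2, ← h3, ← h4, h5, h6, h7]
    have hsub : g (N v) - N (g v) = 0 := by
      apply hB.1
      intro y
      rw [map_sub, LinearMap.sub_apply, key, sub_self]
    exact sub_eq_zero.mp hsub
  refine ⟨⟨⟨g, hg1⟩, hgC⟩, ?_⟩
  apply Subtype.ext
  apply LinearEquiv.ext
  intro e
  apply Subtype.ext
  rw [rho_apply]
  exact hga e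

end surj

end Cfsg.Agent.Lib.Helper14.SpInv
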