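import Cfsg.Agent.Lib.Helper14.SpInv3
import Cfsg.Agent.Lib.Helper16.SympEmbed

set_option autoImplicit false

/-! # Order of the centraliser; isometry groups of alternating forms -/

namespace Cfsg.Agent.Lib.Helper14.SpInv

open Module Matrix

universe u

section card

variable {F V : Type u} [Field F] [Fintype F] [AddCommGroup V] [Module F V] [FiniteDimensional F V]
variable (B : V →ₗ[F] V →ₗ[F] F) (N : V →ₗ[F] V)
variable (hN2 : ∀ x, N (N x) = 0) (hNB : ∀ x y, B (N x) y = B x (N y))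
variable (hB : LinearMap.BilinForm.Nondegenerate (B : LinearMap.BilinForm F V))
variable (halt : ∀ x, B x x = 0)

include hN2 hNB hB halt in
theorem card_Cent : Nat.card (Cent B N) =
    Nat.card (PStab B (LinearMap.range N)) * Nat.card (IsoGrp (betaE B N)) := by
  have h1 := Subgroup.card_eq_card_quotient_mul_card_subgroup (rho B N hN2 hNB).ker
  have h2 := Nat.card_congr (QuotientGroup.quotientKerEquivOfSurjective (rho B N hN2 hNB)
    (rho_surjective B N hN2 hNB hB halt)).toEquiv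
  have h3 := Nat.card_congr (kerEquiv B N hN2 hNB halt hB.1)
  rw [h1, h2, h3, mul_comm]

include hN2 hNB hB halt in
theorem card_Cent_mul :
    (∏ i ∈ Finset.range (finrank F (LinearMap.range N)),
        (Fintype.card F ^ (finrank F V - i) - Fintype.card F ^ i)) * Nat.card (Cent B N) =
      Nat.card (IsoGrp B) * Nat.card (IsoGrp (betaE B N)) := by
  rw [card_Cent B N hN2 hNB hB halt, ← mul_assoc,
    ← card_PStab B hB halt (LinearMap.range N)
      (fun x hx y hy => range_isotropic B N hN2 hNB x y hx hy)]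

end card

section transport

variable {F : Type u} [Field F]

/-- transport of isometry groups along an isometry -/
def isoGrpCongr {V₁ V₂ : Type u} [AddCommGroup V₁] [Module F V₁] [AddCommGroup V₂] [Module F V₂]
    (B₁ : V₁ →ₗ[F] V₁ →ₗ[F] F) (B₂ : V₂ →ₗ[F] V₂ →ₗ[F] F) (Ψ : V₁ ≃ₗ[F] V₂)
    (hΨ : ∀ x y, B₂ (Ψ x) (Ψ y) = B₁ x y) : IsoGrp B₁ ≃ IsoGrp B₂ where
  toFun g := ⟨(Ψ.symm.trans g.1).trans Ψ, by
    intro x y
    show B₂ (Ψ (g.1 (Ψ.symm x))) (Ψ (g.1 (Ψ.symm y))) = _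
    rw [hΨ, g.2, ← hΨ, LinearEquiv.apply_symm_apply, LinearEquiv.apply_symm_apply]⟩
  invFun h := ⟨(Ψ.trans h.1).trans Ψ.symm, by
    intro x y
    show B₁ (Ψ.symm (h.1 (Ψ x))) (Ψ.symm (h.1 (Ψ y))) = _
    rw [← hΨ, LinearEquiv.apply_symm_apply, LinearEquiv.apply_symm_apply, h.2, hΨ]⟩
  left_inv g := by
    apply Subtype.ext
    apply LinearEquiv.ext
    intro x
    show Ψ.symm (Ψ (g.1 (Ψ.symm (Ψ x)))) = g.1 x
    rw [LinearEquiv.symm_apply_apply, LinearEquiv.symm_apply_apply]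
  right_inv h := by
    apply Subtype.ext
    apply LinearEquiv.ext
    intro x
    show Ψ (Ψ.symm (h.1 (Ψ (Ψ.symm x)))) = h.1 x
    rw [LinearEquiv.apply_symm_apply, LinearEquiv.apply_symm_apply]

open Cfsg.Agent.Lib.Helper15 Cfsg.Agent.Lib.Helper6 in
/-- symplectic matrices as isometries of the standard symplectic form -/
noncomputable def sympIso (m : ℕ) :
    Matrix.symplecticGroup (Fin m) F ≃ IsoGrp (stdSymp m F) where
  toFun A := ⟨Matrix.toLin'OfInv (M := (A⁻¹ : Matrix.symplecticGroup (Fin m) F).1) (M' := A.1)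
      (congrArg Subtype.val (inv_mul_cancel A)) (congrArg Subtype.val (mul_inv_cancel A)), by
    intro x y
    have h := (mem_symplecticGroup_iff_preserves A.1).mp A.2 x y
    exact h⟩
  invFun g := ⟨LinearMap.toMatrix' ((g.1 : (Fin m ⊕ Fin m → F) ≃ₗ[F] (Fin m ⊕ Fin m → F)) :
      (Fin m ⊕ Fin m → F) →ₗ[F] (Fin m ⊕ Fin m → F)), by
    rw [mem_symplecticGroup_iff_preserves]
    intro u v
    rw [LinearMap.toMatrix'_mulVec, LinearMap.toMatrix'_mulVec]
    exact g.2 u v⟩
  left_inv A := by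
    apply Subtype.ext
    show LinearMap.toMatrix' (Matrix.toLin' A.1) = A.1
    rw [LinearMap.toMatrix'_toLin']
  right_inv g := by
    apply Subtype.ext
    apply LinearEquiv.ext
    intro x
    show (LinearMap.toMatrix' ((g.1 : (Fin m ⊕ Fin m → F) ≃ₗ[F] (Fin m ⊕ Fin m → F)) :
      (Fin m ⊕ Fin m → F) →ₗ[F] (Fin m ⊕ Fin m → F))) *ᵥ x = g.1 x
    rw [LinearMap.toMatrix'_mulVec]
    rfl

theorem sympIso_apply (m : ℕ) (A : Matrix.symplecticGroup (Fin m) F) (x : Fin m ⊕ Fin m → F) :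
    ((sympIso m A : IsoGrp (Cfsg.Agent.Lib.Helper15.stdSymp m F)) :
      (Fin m ⊕ Fin m → F) ≃ₗ[F] (Fin m ⊕ Fin m → F)) x = A.1 *ᵥ x := rfl

end transport

section altcard

variable {F : Type u} [Field F] [Fintype F]

open Cfsg.Agent.Lib.Helper15 in
/-- the order of the isometry group of a nondegenerate alternating form -/
theorem card_IsoGrp_alt {W : Type u} [AddCommGroup W] [Module F W] [FiniteDimensional F W]
    (β : W →ₗ[F] W →ₗ[F] F) (halt : ∀ x, β x x = 0) (hnd : ∀ x, (∀ y, β x y = 0) → x = 0)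
    (k : ℕ) (hk : finrank F W = 2 * k) :
    Nat.card (IsoGrp β) =
      Fintype.card F ^ (k ^ 2) * ∏ i ∈ Finset.range k, (Fintype.card F ^ (2 * (i + 1)) - 1) := by
  obtain ⟨Ψ, hΨ⟩ := Cfsg.Agent.Lib.Helper16.exists_symp_equiv β halt hnd k hk
  rw [← card_symplecticGroup k, Nat.card_congr (sympIso (F := F) k),
    Nat.card_congr (isoGrpCongr (stdSymp k F) β Ψ (fun x y => hΨ x y))]

end altcard

end Cfsg.Agent.Lib.Helper14.SpInv
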