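import Cfsg.Agent.Lib.Helper14.SpInv4
import Cfsg.Agent.Lib.Helper13.AltRank

set_option autoImplicit false

/-! # Symmetric bilinear forms in characteristic two: the norm functional and complements -/

namespace Cfsg.Agent.Lib.Helper14.SpInv

open Module

universe u

section sym

variable {F : Type u} [Field F] [Fintype F] [CharP F 2]
variable {W : Type u} [AddCommGroup W] [Module F W]
variable (β : W →ₗ[F] W →ₗ[F] F)

omit [Fintype F] in
theorem mul_self_eq_one_charTwo (z : F) (h : z * z = 1) : z = 1 := by
  have h1 : (z + 1) * (z + 1) = 0 := by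
    have : (z + 1) * (z + 1) = z * z + (z + z) + 1 := by ring
    rw [this, h, CharTwo.add_self_eq_zero, add_zero, CharTwo.add_self_eq_zero]
  have h2 : z + 1 = 0 := by
    rcases mul_self_eq_zero.mp h1 with h
    exact h
  have h3 : z = -1 := eq_neg_of_add_eq_zero_left h2
  rw [h3, CharTwo.neg_eq]

/-- the additive "norm" functional `lam` with `lam x ^ 2 = β x x` -/
theorem exists_lam (hsym : ∀ x y, β x y = β y x) :
    ∃ lam : W →ₗ[F] F, ∀ x, lam x * lam x = β x x := by
  have : Fact (Nat.Prime 2) := ⟨Nat.prime_two⟩
  have hφ : ∀ c : F, frobeniusEquiv F 2 c = c * c := fun c => by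
    rw [frobeniusEquiv_def, pow_two]
  refine ⟨{ toFun := fun x => (frobeniusEquiv F 2).symm (β x x)
            map_add' := ?_
            map_smul' := ?_ }, ?_⟩
  · intro x y
    rw [← map_add]
    congr 1
    rw [map_add, map_add, LinearMap.add_apply, LinearMap.add_apply, hsym y x]
    have : β x x + β x y + (β x y + β y y) = β x x + β y y + (β x y + β x y) := by ring
    rw [this, CharTwo.add_self_eq_zero, add_zero]
  · intro c x
    rw [RingHom.id_apply, smul_eq_mul, RingEquiv.symm_apply_eq, map_mul,
      RingEquiv.apply_symm_apply, hφ]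
    simp only [map_smul, LinearMap.smul_apply, smul_eq_mul]
    ring
  · intro x
    show (frobeniusEquiv F 2).symm (β x x) * (frobeniusEquiv F 2).symm (β x x) = β x x
    rw [← hφ, RingEquiv.apply_symm_apply]

omit [Fintype F] [CharP F 2] in
/-- every functional is represented by a vector -/
theorem exists_rep [FiniteDimensional F W] (hnd : ∀ x, (∀ y, β x y = 0) → x = 0)
    (f : W →ₗ[F] F) : ∃ a, ∀ y, β a y = f y := by
  have hinj : Function.Injective β := by
    rw [← LinearMap.ker_eq_bot, Submodule.eq_bot_iff]
    intro x hx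
    rw [LinearMap.mem_ker] at hx
    apply hnd
    intro y
    rw [hx, LinearMap.zero_apply]
  have hfr : finrank F W = finrank F (W →ₗ[F] F) := (Subspace.dual_finrank_eq (K := F) (V := W)).symm
  have hsurj := (LinearMap.injective_iff_surjective_of_finrank_eq_finrank hfr).mp hinj
  obtain ⟨a, ha⟩ := hsurj f
  exact ⟨a, fun y => by rw [ha]⟩

/-- the orthogonal complement of a vector -/
def perp (x : W) : Submodule F W := LinearMap.ker (β x)

omit [Fintype F] [CharP F 2] in
theorem mem_perp (x y : W) : y ∈ perp β x ↔ β x y = 0 := LinearMap.mem_ker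

/-- the restriction of the form to the complement -/
def betaP (x : W) : perp β x →ₗ[F] perp β x →ₗ[F] F := β.domRestrict₁₂ (perp β x) (perp β x)

omit [Fintype F] [CharP F 2] in
theorem betaP_apply (x : W) (y z : perp β x) : betaP β x y z = β (y : W) (z : W) := rfl

omit [Fintype F] [CharP F 2] in
theorem sub_smul_mem_perp (x : W) (hx : β x x = 1) (w : W) : w - β x w • x ∈ perp β x := by
  rw [mem_perp, map_sub, map_smul, hx, smul_eq_mul, mul_one, sub_self]

omit [Fintype F] [CharP F 2] in
theorem finrank_perp [FiniteDimensional F W] (x : W) (hx : β x x = 1) :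
    finrank F (perp β x) + 1 = finrank F W := by
  have h1 := LinearMap.finrank_range_add_finrank_ker (β x)
  have h2 : LinearMap.range (β x) = ⊤ := by
    rw [LinearMap.range_eq_top]
    intro c
    exact ⟨c • x, by rw [map_smul, hx, smul_eq_mul, mul_one]⟩
  rw [h2, finrank_top, Module.finrank_self] at h1
  unfold perp
  omega

omit [Fintype F] [CharP F 2] in
theorem betaP_nondeg (hsym : ∀ x y, β x y = β y x) (hnd : ∀ x, (∀ y, β x y = 0) → x = 0)
    (x : W) (hx : β x x = 1) (y : perp β x) (h : ∀ z, betaP β x y z = 0) : y = 0 := by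
  apply Subtype.ext
  apply hnd
  intro w
  have h1 := h ⟨w - β x w • x, sub_smul_mem_perp β x hx w⟩
  rw [betaP_apply] at h1
  have h2 : β (y : W) x = 0 := by
    rw [hsym]
    exact (mem_perp β x y).mp y.2
  have h3 : β (y : W) (w - β x w • x) = β (y : W) w := by
    rw [map_sub, map_smul, h2, smul_zero, sub_zero]
  rw [← h3]
  exact h1

omit [Fintype F] [CharP F 2] in
theorem betaP_sym (hsym : ∀ x y, β x y = β y x) (x : W) (y z : perp β x) :
    betaP β x y z = betaP β x z y := hsym _ _

omit [Fintype F] [CharP F 2] in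
/-- a nondegenerate symmetric alternating form lives in even dimension -/
theorem even_finrank_of_alt [FiniteDimensional F W] (hsym : ∀ x y, β x y = β y x)
    (hnd : ∀ x, (∀ y, β x y = 0) → x = 0) (halt : ∀ x, β x x = 0) : Even (finrank F W) := by
  have h := Cfsg.Agent.Lib.Helper13.even_finrank_sub_radical β halt ⊥ (by
    intro x
    rw [Submodule.mem_bot]
    constructor
    · rintro rfl y
      rw [map_zero]
    · intro h
      apply hnd
      intro y
      rw [hsym]
      exact h y)
  rw [finrank_bot, Nat.sub_zero] at h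
  exact h

omit [Fintype F] [CharP F 2] in
theorem odd_finrank_of_rep [FiniteDimensional F W] (hsym : ∀ x y, β x y = β y x)
    (hnd : ∀ x, (∀ y, β x y = 0) → x = 0) (a : W) (ha : ∀ y, β a y * β a y = β y y)
    (ha1 : β a a = 1) : Odd (finrank F W) := by
  have h1 := finrank_perp β a ha1
  have h2 : Even (finrank F (perp β a)) := by
    apply even_finrank_of_alt (betaP β a) (betaP_sym β hsym a)
      (betaP_nondeg β hsym hnd a ha1)
    intro y
    rw [betaP_apply, ← ha, (mem_perp β a y).mp y.2, mul_zero]
  rw [← h1]
  exact h2.add_one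

omit [Fintype F] in
theorem even_finrank_of_rep [FiniteDimensional F W] (hsym : ∀ x y, β x y = β y x)
    (hnd : ∀ x, (∀ y, β x y = 0) → x = 0) (a : W) (ha : ∀ y, β a y * β a y = β y y)
    (ha0 : β a a = 0) (x : W) (hx : β x x = 1) : Even (finrank F W) := by
  have h1 := finrank_perp β x hx
  have hax : β a x = 1 := mul_self_eq_one_charTwo _ (by rw [ha, hx])
  have hmem : a - x ∈ perp β x := by
    rw [mem_perp, map_sub, hsym x a, hax, hx, sub_self]
  have h2 : Odd (finrank F (perp β x)) := by
    apply odd_finrank_of_rep (betaP β x) (betaP_sym β hsym x)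
      (betaP_nondeg β hsym hnd x hx) ⟨a - x, hmem⟩
    · intro y
      rw [betaP_apply, betaP_apply]
      show β (a - x) (y : W) * β (a - x) (y : W) = _
      rw [map_sub, LinearMap.sub_apply, (mem_perp β x y).mp y.2, sub_zero, ha]
    · rw [betaP_apply]
      show β (a - x) (a - x) = 1
      rw [map_sub, map_sub, LinearMap.sub_apply, LinearMap.sub_apply, ha0, hax, hsym x a, hax, hx]
      rw [zero_sub, sub_self, sub_zero, CharTwo.neg_eq]
  rw [← h1]
  exact h2.add_one

end sym

end Cfsg.Agent.Lib.Helper14.SpInv
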