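import Cfsg.Agent.Lib.Helper14.SpInv5

set_option autoImplicit false

/-! # Counting orthonormal bases of non-alternating symmetric forms in characteristic two -/

namespace Cfsg.Agent.Lib.Helper14.SpInv

open Module

universe u

section count

variable {F : Type u} [Field F] [Fintype F] [CharP F 2]
variable {W : Type u} [AddCommGroup W] [Module F W] [FiniteDimensional F W]
variable (β : W →ₗ[F] W →ₗ[F] F)

/-- the number of vectors of norm one -/
theorem card_units (hsym : ∀ x y, β x y = β y x) (hna : ∃ x, β x x ≠ 0) (d : ℕ)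
    (hd : finrank F W = d + 1) :
    Nat.card {x : W // β x x = 1} = Fintype.card F ^ d := by
  obtain ⟨lam, hlam⟩ := exists_lam β hsym
  obtain ⟨z, hz⟩ := hna
  have hlz : lam z ≠ 0 := by
    intro h
    apply hz
    rw [← hlam, h, mul_zero]
  obtain ⟨x₀, hx₀⟩ : ∃ x₀ : W, lam x₀ = 1 :=
    ⟨(lam z)⁻¹ • z, by rw [map_smul, smul_eq_mul, inv_mul_cancel₀ hlz]⟩
  have hiff : ∀ x, β x x = 1 ↔ lam x = 1 := by
    intro x
    rw [← hlam]
    constructor
    · exact mul_self_eq_one_charTwo _
    · intro h
      rw [h, mul_one]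
  let e : {x : W // β x x = 1} ≃ LinearMap.ker lam :=
    { toFun := fun x => ⟨x.1 - x₀, by
        rw [LinearMap.mem_ker, map_sub, (hiff x.1).mp x.2, hx₀, sub_self]⟩
      invFun := fun k => ⟨k.1 + x₀, by
        rw [hiff, map_add, LinearMap.mem_ker.mp k.2, hx₀, zero_add]⟩
      left_inv := fun x => by
        apply Subtype.ext
        show x.1 - x₀ + x₀ = x.1
        rw [sub_add_cancel]
      right_inv := fun k => by
        apply Subtype.ext
        show k.1 + x₀ - x₀ = k.1
        rw [add_sub_cancel_right] }
  rw [Nat.card_congr e, card_submodule]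
  congr 1
  have h1 := LinearMap.finrank_range_add_finrank_ker lam
  have h2 : LinearMap.range lam = ⊤ := by
    rw [LinearMap.range_eq_top]
    intro c
    exact ⟨c • x₀, by rw [map_smul, hx₀, smul_eq_mul, mul_one]⟩
  rw [h2, finrank_top, Module.finrank_self] at h1
  omega

/-- unit vectors whose complement is not alternating -/
def Good (x : W) : Prop := β x x = 1 ∧ ∃ y, β x y = 0 ∧ β y y ≠ 0

theorem card_good (hsym : ∀ x y, β x y = β y x) (hnd : ∀ x, (∀ y, β x y = 0) → x = 0)
    (hna : ∃ x, β x x ≠ 0) (d : ℕ) (hd : finrank F W = d + 2) :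
    Nat.card {x : W // Good β x} = Fintype.card F ^ (d + 1) - (if Odd d then 1 else 0) := by
  have : Finite W := Module.finite_of_finite F
  obtain ⟨lam, hlam⟩ := exists_lam β hsym
  obtain ⟨a, ha'⟩ := exists_rep β hnd lam
  have ha : ∀ y, β a y * β a y = β y y := fun y => by rw [ha', hlam]
  have haa : β a a = 0 ∨ β a a = 1 := by
    have h := ha a
    have h2 : β a a * (β a a - 1) = 0 := by rw [mul_sub, h, mul_one, sub_self]
    rcases mul_eq_zero.mp h2 with h3 | h3
    · exact Or.inl h3
    · exact Or.inr (sub_eq_zero.mp h3)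
  obtain ⟨x₁, hx₁⟩ : ∃ x₁ : W, β x₁ x₁ = 1 := by
    obtain ⟨z, hz⟩ := hna
    have hlz : lam z ≠ 0 := by
      intro h
      apply hz
      rw [← hlam, h, mul_zero]
    refine ⟨(lam z)⁻¹ • z, ?_⟩
    rw [← hlam, map_smul, smul_eq_mul, inv_mul_cancel₀ hlz, mul_one]
  -- a unit vector with alternating complement is `a`
  have hbad : ∀ x, β x x = 1 → (¬ ∃ y, β x y = 0 ∧ β y y ≠ 0) → x = a := by
    intro x hx hno
    have hlx : lam x = 1 := mul_self_eq_one_charTwo _ (by rw [hlam, hx])
    have hsub : x - a = 0 := by
      apply hnd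
      intro w
      have h1 : β x (w - β x w • x) = 0 := (mem_perp β x _).mp (sub_smul_mem_perp β x hx w)
      have h2 : β (w - β x w • x) (w - β x w • x) = 0 := by
        by_contra h
        exact hno ⟨_, h1, h⟩
      have h3 : lam (w - β x w • x) = 0 := by
        rw [← hlam] at h2
        exact mul_self_eq_zero.mp h2
      rw [map_sub, map_smul, hlx, smul_eq_mul, mul_one, sub_eq_zero] at h3
      rw [map_sub, LinearMap.sub_apply, ha', h3, sub_self]
    exact sub_eq_zero.mp hsub
  have hU := card_units β hsym hna (d + 1) hd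
  have hcoe : Nat.card {x : W // Good β x} = Set.ncard {x : W | Good β x} :=
    Nat.card_coe_set_eq _
  have hcoeU : Nat.card {x : W // β x x = 1} = Set.ncard {x : W | β x x = 1} :=
    Nat.card_coe_set_eq _
  rw [hcoe]
  rw [hcoeU] at hU
  rcases haa with h0 | h1
  · -- even dimension: every unit vector is good
    have hev := even_finrank_of_rep β hsym hnd a ha h0 x₁ hx₁
    have hd' : ¬ Odd d := by
      rw [Nat.not_odd_iff_even]
      rw [hd] at hev
      obtain ⟨k, hk⟩ := hev
      exact ⟨k - 1, by omega⟩
    rw [if_neg hd', Nat.sub_zero, ← hU]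
    congr 1
    ext x
    constructor
    · intro hx
      exact hx.1
    · intro hx
      refine ⟨hx, ?_⟩
      by_contra hno
      have hxa := hbad x hx hno
      have hx' : β x x = 1 := hx
      rw [hxa, h0] at hx'
      exact zero_ne_one hx'
  · -- odd dimension: all unit vectors but `a`
    have hodd := odd_finrank_of_rep β hsym hnd a ha h1
    have hd' : Odd d := by
      rw [hd] at hodd
      obtain ⟨k, hk⟩ := hodd
      exact ⟨k - 1, by omega⟩
    rw [if_pos hd', ← hU]
    have hset : {x : W | Good β x} = {x : W | β x x = 1} \ {a} := by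
      ext x
      constructor
      · intro hx
        refine ⟨hx.1, ?_⟩
        intro hxa
        rw [Set.mem_singleton_iff] at hxa
        obtain ⟨y, hy1, hy2⟩ := hx.2
        apply hy2
        rw [← ha, ← hxa, hy1, mul_zero]
      · rintro ⟨hx, hxa⟩
        refine ⟨hx, ?_⟩
        by_contra hno
        exact hxa (hbad x hx hno)
    rw [hset]
    exact Set.ncard_sdiff_singleton_of_mem h1

/-- orthonormal families -/
abbrev ONB (n : ℕ) : Type u :=
  {v : Fin n → W // ∀ i j, β (v i) (v j) = if i = j then 1 else 0}

instance finite_ONB (n : ℕ) : Finite (ONB β n) := by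
  have : Finite W := Module.finite_of_finite F
  unfold ONB
  infer_instance

/-- the fibre of the "first vector" map -/
def onbFiberEquiv (hsym : ∀ x y, β x y = β y x) (n : ℕ) (x : W) (hx : β x x = 1) :
    {v : ONB β (n + 1) // v.1 0 = x} ≃ ONB (betaP β x) n where
  toFun v := ⟨fun i => ⟨v.1.1 i.succ, by
      have h := v.1.2 0 i.succ
      rw [v.2, if_neg (Fin.succ_ne_zero i).symm] at h
      exact (mem_perp β x _).mpr h⟩, by
    intro i j
    rw [betaP_apply]
    show β (v.1.1 i.succ) (v.1.1 j.succ) = _
    rw [v.1.2]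
    simp only [Fin.succ_inj]⟩
  invFun u := ⟨⟨(Fin.cons x (fun i => ((u.1 i : perp β x) : W)) : Fin (n + 1) → W), by
      intro i j
      refine Fin.cases ?_ (fun i' => ?_) i <;> refine Fin.cases ?_ (fun j' => ?_) j
      · rw [Fin.cons_zero, hx, if_pos rfl]
      · rw [Fin.cons_zero, Fin.cons_succ, (mem_perp β x _).mp (u.1 j').2,
          if_neg (Fin.succ_ne_zero j').symm]
      · rw [Fin.cons_zero, Fin.cons_succ, hsym, (mem_perp β x _).mp (u.1 i').2,
          if_neg (Fin.succ_ne_zero i')]
      · rw [Fin.cons_succ, Fin.cons_succ]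
        have h := u.2 i' j'
        rw [betaP_apply] at h
        rw [h]
        simp only [Fin.succ_inj]⟩, by
      show (Fin.cons x (fun i => ((u.1 i : perp β x) : W)) : Fin (n + 1) → W) 0 = x
      rw [Fin.cons_zero]⟩
  left_inv v := by
    apply Subtype.ext
    apply Subtype.ext
    funext i
    refine Fin.cases ?_ (fun i' => ?_) i
    · dsimp only
      rw [Fin.cons_zero, v.2]
    · dsimp only
      rw [Fin.cons_succ]
  right_inv u := by
    apply Subtype.ext
    funext i
    apply Subtype.ext
    dsimp only
    rw [Fin.cons_succ]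

/-- the first vector of an orthonormal family of size at least two is good -/
def onbHead (d : ℕ) (v : ONB β (d + 2)) : {x : W // Good β x} :=
  ⟨v.1 0, by rw [v.2 0 0, if_pos rfl], v.1 1, by
    rw [v.2 0 1, if_neg Fin.zero_ne_one], by
    rw [v.2 1 1, if_pos rfl]
    exact one_ne_zero⟩

end count

/-- the number of orthonormal bases in dimension `n` -/
def Acount (q : ℕ) : ℕ → ℕ
  | 0 => 1
  | 1 => 1
  | (d + 2) => (q ^ (d + 1) - (if Odd d then 1 else 0)) * Acount q (d + 1)

theorem Acount_succ_succ (q d : ℕ) :
    Acount q (d + 2) = (q ^ (d + 1) - (if Odd d then 1 else 0)) * Acount q (d + 1) := rfl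

section main

variable {F : Type u} [Field F] [Fintype F] [CharP F 2]

/-- **the number of orthonormal bases** of a nondegenerate non-alternating symmetric form -/
theorem card_ONB : ∀ (d : ℕ) (W : Type u) [AddCommGroup W] [Module F W] [FiniteDimensional F W]
    (β : W →ₗ[F] W →ₗ[F] F), (∀ x y, β x y = β y x) → (∀ x, (∀ y, β x y = 0) → x = 0) →
    (∃ x, β x x ≠ 0) → finrank F W = d + 1 →
    Nat.card (ONB β (d + 1)) = Acount (Fintype.card F) (d + 1) := by
  intro d
  induction d with
  | zero =>
    intro W _ _ _ β hsym hnd hna hd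
    have h1 := card_units β hsym hna 0 hd
    rw [pow_zero] at h1
    rw [show Acount (Fintype.card F) (0 + 1) = 1 from rfl]
    refine Eq.trans ?_ h1
    have hsub : ∀ i j : Fin (0 + 1), i = j := fun i j => by
      apply Fin.ext
      omega
    apply Nat.card_congr
    exact
      { toFun := fun v => ⟨v.1 0, by rw [v.2 0 0, if_pos rfl]⟩
        invFun := fun x => ⟨fun _ => x.1, fun i j => by
          rw [x.2, if_pos (hsub i j)]⟩
        left_inv := fun v => by
          apply Subtype.ext
          funext i
          rw [hsub i 0]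
        right_inv := fun x => rfl }
  | succ d ih =>
    intro W _ _ _ β hsym hnd hna hd
    classical
    have : Finite W := Module.finite_of_finite F
    haveI : Fintype {x : W // Good β x} := Fintype.ofFinite _
    rw [Nat.card_congr (Equiv.sigmaFiberEquiv (onbHead β d)).symm, Nat.card_sigma]
    have hfib : ∀ x : {x : W // Good β x}, Nat.card {v : ONB β (d + 2) // onbHead β d v = x} =
        Acount (Fintype.card F) (d + 1) := by
      intro x
      have e1 : {v : ONB β (d + 2) // onbHead β d v = x} ≃ {v : ONB β (d + 1 + 1) // v.1 0 = x.1} :=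
        Equiv.subtypeEquivRight (fun v => by
          constructor
          · intro h
            exact congrArg Subtype.val h
          · intro h
            exact Subtype.ext h)
      rw [Nat.card_congr e1, Nat.card_congr (onbFiberEquiv β hsym (d + 1) x.1 x.2.1)]
      apply ih (perp β x.1) (betaP β x.1) (betaP_sym β hsym x.1)
        (betaP_nondeg β hsym hnd x.1 x.2.1)
      · obtain ⟨y, hy1, hy2⟩ := x.2.2
        exact ⟨⟨y, (mem_perp β x.1 y).mpr hy1⟩, hy2⟩
      · have := finrank_perp β x.1 x.2.1
        omega
    simp only [hfib, Finset.sum_const, Finset.card_univ, smul_eq_mul]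
    rw [← Nat.card_eq_fintype_card, card_good β hsym hnd hna d hd, Acount_succ_succ]

end main

end Cfsg.Agent.Lib.Helper14.SpInv
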