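import Cfsg.Agent.Lib.Helper14.SpInv6
import Cfsg.Agent.Lib.Helper13.SymmCharTwo

set_option autoImplicit false

/-! # Isometry groups of non-alternating forms and the order of the centraliser -/

namespace Cfsg.Agent.Lib.Helper14.SpInv

open Module

universe u

/-- the order of `Sp_{2k}(q)` -/
def spOrd (q k : ℕ) : ℕ := q ^ (k ^ 2) * ∏ i ∈ Finset.range k, (q ^ (2 * (i + 1)) - 1)

theorem spOrd_succ (q k : ℕ) :
    spOrd q (k + 1) = q ^ (2 * k + 1) * (q ^ (2 * (k + 1)) - 1) * spOrd q k := by
  unfold spOrd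
  rw [Finset.prod_range_succ]
  have h : (k + 1) ^ 2 = k ^ 2 + (2 * k + 1) := by ring
  rw [h, pow_add]
  ring

theorem spOrd_pos (q k : ℕ) (hq : 2 ≤ q) : 0 < spOrd q k := by
  unfold spOrd
  apply Nat.mul_pos
  · exact Nat.pow_pos (by omega)
  · apply Finset.prod_pos
    intro i _
    have : 1 < q ^ (2 * (i + 1)) := Nat.one_lt_pow (by omega) (by omega)
    omega

theorem Acount_closed (q k : ℕ) :
    Acount q (2 * k + 1) = spOrd q k ∧ Acount q (2 * k + 2) = q ^ (2 * k + 1) * spOrd q k := by
  induction k with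
  | zero =>
    refine ⟨?_, ?_⟩
    · show 1 = spOrd q 0
      unfold spOrd
      simp
    · show (q ^ (0 + 1) - (if Odd 0 then 1 else 0)) * 1 = q ^ (2 * 0 + 1) * spOrd q 0
      unfold spOrd
      simp
  | succ k ih =>
    have h1 : Acount q (2 * (k + 1) + 1) = spOrd q (k + 1) := by
      have e : 2 * (k + 1) + 1 = (2 * k + 1) + 2 := by ring
      rw [e, Acount_succ_succ, if_pos ⟨k, rfl⟩, ih.2, spOrd_succ]
      have e2 : 2 * k + 1 + 1 = 2 * (k + 1) := by ring
      rw [e2]
      ring
    refine ⟨h1, ?_⟩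
    have e : 2 * (k + 1) + 2 = (2 * k + 2) + 2 := by ring
    rw [e, Acount_succ_succ, if_neg, Nat.sub_zero]
    · have e3 : 2 * k + 2 + 1 = 2 * (k + 1) + 1 := by ring
      rw [e3, h1]
    · rw [Nat.not_odd_iff_even]
      exact ⟨k + 1, by ring⟩

section iso

variable {F : Type u} [Field F] [Fintype F] [CharP F 2]
variable {W : Type u} [AddCommGroup W] [Module F W] [FiniteDimensional F W]
variable (β : W →ₗ[F] W →ₗ[F] F)

omit [Fintype F] [CharP F 2] [FiniteDimensional F W] in
theorem onb_linearIndependent {n : ℕ} (v : ONB β n) : LinearIndependent F v.1 := by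
  classical
  rw [Fintype.linearIndependent_iff]
  intro g hg j
  have h1 := congrArg (fun z => β z (v.1 j)) hg
  simp only [map_sum, map_smul, LinearMap.sum_apply, LinearMap.smul_apply, smul_eq_mul, v.2,
    mul_ite, mul_one, mul_zero, Finset.sum_ite_eq', Finset.mem_univ, if_true, map_zero,
    LinearMap.zero_apply] at h1
  exact h1

omit [Fintype F] [CharP F 2] in
/-- an orthonormal family of full size is a basis -/
noncomputable def onbBasis {n : ℕ} (hd : finrank F W = n) (v : ONB β n) : Basis (Fin n) F W :=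
  Basis.mk (onb_linearIndependent β v) (by
    rw [(onb_linearIndependent β v).span_eq_top_of_card_eq_finrank'
      (by rw [Fintype.card_fin, hd])])

omit [Fintype F] [CharP F 2] in
theorem onbBasis_apply {n : ℕ} (hd : finrank F W = n) (v : ONB β n) (i : Fin n) :
    onbBasis β hd v i = v.1 i := by
  unfold onbBasis
  rw [Basis.mk_apply]

omit [Fintype F] [CharP F 2] in
theorem onbEquiv_apply {n : ℕ} (hd : finrank F W = n) (v₀ v : ONB β n) (i : Fin n) :
    ((onbBasis β hd v₀).equiv (onbBasis β hd v) (Equiv.refl _)) (v₀.1 i) = v.1 i := by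
  rw [← onbBasis_apply β hd v₀, Basis.equiv_apply, Equiv.refl_apply, onbBasis_apply]

omit [Fintype F] [CharP F 2] in
/-- the isometry group acts simply transitively on orthonormal bases -/
noncomputable def isoOnbEquiv {n : ℕ} (hd : finrank F W = n) (v₀ : ONB β n) :
    IsoGrp β ≃ ONB β n where
  toFun g := ⟨fun i => g.1 (v₀.1 i), fun i j => by
    rw [g.2]
    exact v₀.2 i j⟩
  invFun v := ⟨(onbBasis β hd v₀).equiv (onbBasis β hd v) (Equiv.refl _), by
    have h : β.compl₁₂
        (((onbBasis β hd v₀).equiv (onbBasis β hd v) (Equiv.refl _) : W ≃ₗ[F] W) : W →ₗ[F] W)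
        (((onbBasis β hd v₀).equiv (onbBasis β hd v) (Equiv.refl _) : W ≃ₗ[F] W) : W →ₗ[F] W) =
        β := by
      apply LinearMap.ext_basis (onbBasis β hd v₀) (onbBasis β hd v₀)
      intro i j
      rw [LinearMap.compl₁₂_apply]
      simp only [LinearEquiv.coe_coe, onbBasis_apply]
      rw [onbEquiv_apply, onbEquiv_apply, v.2, v₀.2]
    intro x y
    have h2 := LinearMap.congr_fun₂ h x y
    rw [LinearMap.compl₁₂_apply] at h2
    exact h2⟩
  left_inv g := by
    apply Subtype.ext
    apply Basis.ext' (onbBasis β hd v₀)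
    intro i
    rw [onbBasis_apply]
    exact onbEquiv_apply β hd v₀ _ i
  right_inv v := by
    apply Subtype.ext
    funext i
    exact onbEquiv_apply β hd v₀ v i

/-- **the order of the isometry group** of a nondegenerate non-alternating symmetric form -/
theorem card_IsoGrp_nonalt (hsym : ∀ x y, β x y = β y x) (hnd : ∀ x, (∀ y, β x y = 0) → x = 0)
    (hna : ∃ x, β x x ≠ 0) (d : ℕ) (hd : finrank F W = d + 1) :
    Nat.card (IsoGrp β) = Acount (Fintype.card F) (d + 1) := by
  have hsq : ∀ x : F, ∃ y : F, y * y = x := by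
    intro x
    obtain ⟨r, hr⟩ := FiniteField.isSquare_of_char_two (ringChar.eq F 2) x
    exact ⟨r, hr.symm⟩
  obtain ⟨b, hb⟩ := Cfsg.Agent.Lib.Helper13.exists_orthonormal_of_symm_charTwo (K := F) hsq
    (d + 1) W β hd hsym hnd hna
  rw [Nat.card_congr (isoOnbEquiv β hd ⟨b, hb⟩)]
  exact card_ONB d W β hsym hnd hna hd

end iso

/-- the exponent `(3 s ^ 2 - s) / 2` -/
def Texp (s : ℕ) : ℕ := (3 * s ^ 2 - s) / 2

theorem Texp_succ (s : ℕ) : Texp (s + 1) = Texp s + (3 * s + 1) := by
  unfold Texp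
  have h1 : s ≤ 3 * s ^ 2 := by nlinarith
  have h2 : 3 * (s + 1) ^ 2 - (s + 1) = (3 * s ^ 2 - s) + 2 * (3 * s + 1) := by
    have : 3 * (s + 1) ^ 2 = 3 * s ^ 2 + 6 * s + 3 := by ring
    omega
  rw [h2, Nat.add_mul_div_left _ _ (by norm_num : 0 < 2)]

theorem Texp_le (s m : ℕ) (h : s ≤ m) : Texp s ≤ 2 * m * s := by
  unfold Texp
  have h1 : s * s ≤ m * s := Nat.mul_le_mul_right s h
  have h2 : s ^ 2 = s * s := by ring
  have h3 : 2 * m * s = 2 * (m * s) := by ring
  rw [h2, h3]
  omega

/-- the key order identity -/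
theorem spOrd_split (q : ℕ) : ∀ s j : ℕ,
    q ^ Texp s * spOrd q (s + j) =
      (∏ i ∈ Finset.range s, (q ^ (2 * (s + j) - i) - q ^ i)) * q ^ (2 * (s + j) * s) *
        spOrd q j := by
  intro s
  induction s with
  | zero =>
    intro j
    simp [Texp]
  | succ s ih =>
    intro j
    have e1 : s + 1 + j = s + (j + 1) := by ring
    rw [e1, Texp_succ, pow_add, Finset.prod_range_succ]
    have hfac : q ^ (2 * (s + (j + 1)) - s) - q ^ s = q ^ s * (q ^ (2 * (j + 1)) - 1) := by
      have : 2 * (s + (j + 1)) - s = s + 2 * (j + 1) := by omega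
      rw [this, pow_add, Nat.mul_sub, mul_one]
    rw [hfac]
    have h1 : q ^ Texp s * q ^ (3 * s + 1) * spOrd q (s + (j + 1)) =
        q ^ (3 * s + 1) * (q ^ Texp s * spOrd q (s + (j + 1))) := by ring
    rw [h1, ih (j + 1), spOrd_succ]
    have hexp : q ^ (3 * s + 1) * q ^ (2 * (s + (j + 1)) * s) * q ^ (2 * j + 1) =
        q ^ s * q ^ (2 * (s + (j + 1)) * (s + 1)) := by
      rw [← pow_add, ← pow_add, ← pow_add]
      congr 1
      ring
    calc q ^ (3 * s + 1) * ((∏ i ∈ Finset.range s, (q ^ (2 * (s + (j + 1)) - i) - q ^ i)) *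
          q ^ (2 * (s + (j + 1)) * s) * (q ^ (2 * j + 1) * (q ^ (2 * (j + 1)) - 1) * spOrd q j))
        = (∏ i ∈ Finset.range s, (q ^ (2 * (s + (j + 1)) - i) - q ^ i)) *
          (q ^ (3 * s + 1) * q ^ (2 * (s + (j + 1)) * s) * q ^ (2 * j + 1)) *
          ((q ^ (2 * (j + 1)) - 1) * spOrd q j) := by ring
      _ = _ := by
        rw [hexp]
        ring

section final

variable {F V : Type u} [Field F] [Fintype F] [AddCommGroup V] [Module F V] [FiniteDimensional F V]
variable (B : V →ₗ[F] V →ₗ[F] F) (N : V →ₗ[F] V)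
variable (hN2 : ∀ x, N (N x) = 0) (hNB : ∀ x y, B (N x) y = B x (N y))
variable (hB : LinearMap.BilinForm.Nondegenerate (B : LinearMap.BilinForm F V))
variable (halt : ∀ x, B x x = 0)

include hN2 hNB hB halt in
/-- **the order of the centraliser** in terms of the isometry group of the induced form -/
theorem card_Cent_final (m s : ℕ) (hV : finrank F V = 2 * m)
    (hs : finrank F (LinearMap.range N) = s) :
    s ≤ m ∧ Nat.card (Cent B N) =
      Fintype.card F ^ (2 * m * s - Texp s) * spOrd (Fintype.card F) (m - s) *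
        Nat.card (IsoGrp (betaE B N)) := by
  have hq : 2 ≤ Fintype.card F := Fintype.one_lt_card
  have hmain := card_Cent_mul B N hN2 hNB hB halt
  rw [hs, hV, card_IsoGrp_alt B halt hB.1 m hV] at hmain
  have hpos : 0 < spOrd (Fintype.card F) m * Nat.card (IsoGrp (betaE B N)) :=
    Nat.mul_pos (spOrd_pos _ _ hq) Nat.card_pos
  have hsm : s ≤ m := by
    by_contra hlt
    push Not at hlt
    have hz : (∏ i ∈ Finset.range s, (Fintype.card F ^ (2 * m - i) - Fintype.card F ^ i)) = 0 := by
      apply Finset.prod_eq_zero (Finset.mem_range.mpr hlt)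
      have : 2 * m - m = m := by omega
      rw [this, Nat.sub_self]
    change _ = spOrd (Fintype.card F) m * _ at hmain
    rw [hz, zero_mul] at hmain
    omega
  refine ⟨hsm, ?_⟩
  obtain ⟨j, rfl⟩ : ∃ j, m = s + j := ⟨m - s, by omega⟩
  have hsplit := spOrd_split (Fintype.card F) s j
  change _ = spOrd (Fintype.card F) (s + j) * _ at hmain
  have hT := Texp_le s (s + j) (by omega)
  have hPpos : 0 < ∏ i ∈ Finset.range s,
      (Fintype.card F ^ (2 * (s + j) - i) - Fintype.card F ^ i) := by
    apply Finset.prod_pos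
    intro i hi
    rw [Finset.mem_range] at hi
    have : Fintype.card F ^ i < Fintype.card F ^ (2 * (s + j) - i) :=
      Nat.pow_lt_pow_right (by omega) (by omega)
    omega
  have hTpos : 0 < Fintype.card F ^ Texp s := Nat.pow_pos (by omega)
  have hsub : s + j - s = j := by omega
  rw [hsub]
  apply Nat.eq_of_mul_eq_mul_left (Nat.mul_pos hPpos hTpos)
  have hexp : Fintype.card F ^ Texp s * Fintype.card F ^ (2 * (s + j) * s - Texp s) =
      Fintype.card F ^ (2 * (s + j) * s) := by
    rw [← pow_add]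
    congr 1
    omega
  calc (∏ i ∈ Finset.range s, (Fintype.card F ^ (2 * (s + j) - i) - Fintype.card F ^ i)) *
        Fintype.card F ^ Texp s * Nat.card (Cent B N)
      = Fintype.card F ^ Texp s * ((∏ i ∈ Finset.range s,
          (Fintype.card F ^ (2 * (s + j) - i) - Fintype.card F ^ i)) * Nat.card (Cent B N)) := by
        ring
    _ = (Fintype.card F ^ Texp s * spOrd (Fintype.card F) (s + j)) *
          Nat.card (IsoGrp (betaE B N)) := by
        rw [hmain]
        ring
    _ = _ := by
        rw [hsplit, ← hexp]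
        ring

end final

end Cfsg.Agent.Lib.Helper14.SpInv
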