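import Cfsg.Agent.Lib.Helper14.SpInv7

set_option autoImplicit false

/-! # Centralisers of involutions in `Sp_{2m}(q)`, `q` even: matrix form -/

namespace Cfsg.Agent.Lib.Helper14.SpInv

open Module Matrix
open Cfsg.Agent.Lib.Helper15 Cfsg.Agent.Lib.Helper6

universe u

section abstractSym

variable {F V : Type u} [Field F] [CharP F 2] [AddCommGroup V] [Module F V]
variable (B : V →ₗ[F] V →ₗ[F] F) (N : V →ₗ[F] V)
variable (hN2 : ∀ x, N (N x) = 0) (hNB : ∀ x y, B (N x) y = B x (N y))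
variable (halt : ∀ x, B x x = 0)

include hN2 hNB halt in
theorem betaE_sym (e₁ e₂ : LinearMap.range N) : betaE B N e₁ e₂ = betaE B N e₂ e₁ := by
  obtain ⟨x, hx⟩ := e₁.2
  obtain ⟨y, hy⟩ := e₂.2
  rw [betaE_apply B N hN2 hNB x e₁ e₂ hx, betaE_apply B N hN2 hNB y e₂ e₁ hy, ← hy, ← hx,
    ← hNB y x, Cfsg.Agent.Lib.Helper15.alt_swap B halt x (N y), CharTwo.neg_eq]

end abstractSym

section mat

variable {F : Type u} [Field F] {m : ℕ}
variable (t : Matrix.symplecticGroup (Fin m) F)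

/-- `t - 1` as a linear map -/
noncomputable def Nmat : (Fin m ⊕ Fin m → F) →ₗ[F] (Fin m ⊕ Fin m → F) := (t.1 - 1).mulVecLin

theorem Nmat_apply (x : Fin m ⊕ Fin m → F) : Nmat t x = t.1 *ᵥ x - x := by
  unfold Nmat
  rw [Matrix.mulVecLin_apply, Matrix.sub_mulVec, Matrix.one_mulVec]

theorem tt_apply (ht : t ^ 2 = 1) (x : Fin m ⊕ Fin m → F) : t.1 *ᵥ (t.1 *ᵥ x) = x := by
  rw [pow_two] at ht
  have h : t.1 * t.1 = 1 := congrArg Subtype.val ht
  rw [Matrix.mulVec_mulVec, h, Matrix.one_mulVec]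

theorem Nmat_sq [CharP F 2] (ht : t ^ 2 = 1) (x : Fin m ⊕ Fin m → F) : Nmat t (Nmat t x) = 0 := by
  rw [Nmat_apply, Nmat_apply, Matrix.mulVec_sub, tt_apply t ht]
  funext i
  have h2 : (2 : F) = 0 := CharTwo.two_eq_zero
  simp only [Pi.sub_apply, Pi.zero_apply]
  linear_combination (x i - (t.1 *ᵥ x) i) * h2

theorem std_pres (u v : Fin m ⊕ Fin m → F) :
    stdSymp m F (t.1 *ᵥ u) (t.1 *ᵥ v) = stdSymp m F u v :=
  (mem_symplecticGroup_iff_preserves t.1).mp t.2 u v

theorem Nmat_adj (ht : t ^ 2 = 1) (x y : Fin m ⊕ Fin m → F) :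
    stdSymp m F (Nmat t x) y = stdSymp m F x (Nmat t y) := by
  rw [Nmat_apply, Nmat_apply, map_sub, LinearMap.sub_apply, map_sub]
  congr 1
  conv_lhs => rw [← tt_apply t ht y]
  rw [std_pres]

theorem std_nondeg : LinearMap.BilinForm.Nondegenerate
    (stdSymp m F : LinearMap.BilinForm F (Fin m ⊕ Fin m → F)) := by
  refine ⟨fun x hx => stdSymp_nondeg x hx, fun y hy => ?_⟩
  apply stdSymp_nondeg y
  intro x
  rw [Cfsg.Agent.Lib.Helper15.alt_swap (stdSymp m F) stdSymp_alt, hy x, neg_zero]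

theorem finrank_std : finrank F (Fin m ⊕ Fin m → F) = 2 * m := by
  rw [Module.finrank_fintype_fun_eq_card, Fintype.card_sum, Fintype.card_fin]
  ring

theorem mem_centralizer_iff_Cent (A : Matrix.symplecticGroup (Fin m) F) :
    A ∈ Subgroup.centralizer ({t} : Set (Matrix.symplecticGroup (Fin m) F)) ↔
      sympIso m A ∈ Cent (stdSymp m F) (Nmat t) := by
  rw [Subgroup.mem_centralizer_iff, mem_Cent]
  constructor
  · intro hA x
    have h1 : t * A = A * t := hA t rfl
    have h2 : t.1 * A.1 = A.1 * t.1 := congrArg Subtype.val h1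
    rw [sympIso_apply, sympIso_apply, Nmat_apply, Nmat_apply, Matrix.mulVec_sub,
      Matrix.mulVec_mulVec, Matrix.mulVec_mulVec, h2]
  · intro h g hg
    rw [Set.mem_singleton_iff] at hg
    subst hg
    apply Subtype.ext
    show g.1 * A.1 = A.1 * g.1
    apply Matrix.mulVec_injective
    funext x
    have h1 := h x
    rw [sympIso_apply, sympIso_apply, Nmat_apply, Nmat_apply, Matrix.mulVec_sub] at h1
    have h2 : A.1 *ᵥ (g.1 *ᵥ x) = g.1 *ᵥ (A.1 *ᵥ x) := sub_left_injective h1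
    rw [← Matrix.mulVec_mulVec, ← Matrix.mulVec_mulVec, h2]

theorem card_centralizer_eq :
    Nat.card (Subgroup.centralizer ({t} : Set (Matrix.symplecticGroup (Fin m) F))) =
      Nat.card (Cent (stdSymp m F) (Nmat t)) :=
  Nat.card_congr (Equiv.subtypeEquiv (sympIso m) (mem_centralizer_iff_Cent t))

theorem finrank_range_Nmat : finrank F (LinearMap.range (Nmat t)) = (t.1 - 1).rank := rfl

variable [Fintype F] [CharP F 2]

/-- the centraliser order in terms of the induced form on the range of `t - 1` -/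
theorem card_centralizer_invol (ht : t ^ 2 = 1) (s : ℕ) (hs : (t.1 - 1).rank = s) :
    s ≤ m ∧ Nat.card (Subgroup.centralizer ({t} : Set (Matrix.symplecticGroup (Fin m) F))) =
      Fintype.card F ^ (2 * m * s - Texp s) * spOrd (Fintype.card F) (m - s) *
        Nat.card (IsoGrp (betaE (stdSymp m F) (Nmat t))) := by
  rw [card_centralizer_eq]
  exact card_Cent_final (stdSymp m F) (Nmat t) (Nmat_sq t ht) (Nmat_adj t ht) std_nondeg
    stdSymp_alt m s finrank_std ((finrank_range_Nmat t).trans hs)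

omit [Fintype F] in
theorem betaE_self (ht : t ^ 2 = 1) (x : Fin m ⊕ Fin m → F) :
    betaE (stdSymp m F) (Nmat t) ⟨Nmat t x, LinearMap.mem_range_self _ x⟩
      ⟨Nmat t x, LinearMap.mem_range_self _ x⟩ = Cfsg.sympForm m F x (t.1 *ᵥ x) := by
  rw [betaE_mk (stdSymp m F) (Nmat t) (Nmat_sq t ht) (Nmat_adj t ht), Nmat_apply, map_sub,
    stdSymp_alt, sub_zero, stdSymp_apply]

/-- alternating type -/
theorem card_centralizer_alt (ht : t ^ 2 = 1) (s : ℕ) (hs : (t.1 - 1).rank = s)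
    (ha : ∀ v : Fin m ⊕ Fin m → F, Cfsg.sympForm m F v (t.1 *ᵥ v) = 0) :
    s ≤ m ∧ Even s ∧
      Nat.card (Subgroup.centralizer ({t} : Set (Matrix.symplecticGroup (Fin m) F))) =
      Fintype.card F ^ (2 * m * s - Texp s) * spOrd (Fintype.card F) (m - s) *
        spOrd (Fintype.card F) (s / 2) := by
  obtain ⟨h1, h2⟩ := card_centralizer_invol t ht s hs
  have hfr : finrank F (LinearMap.range (Nmat t)) = s := (finrank_range_Nmat t).trans hs
  have hsym := betaE_sym (stdSymp m F) (Nmat t) (Nmat_sq t ht) (Nmat_adj t ht) stdSymp_alt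
  have hnd := betaE_nondeg (stdSymp m F) (Nmat t) (Nmat_sq t ht) (Nmat_adj t ht) stdSymp_nondeg
  have halt : ∀ e, betaE (stdSymp m F) (Nmat t) e e = 0 := by
    intro e
    obtain ⟨x, hx⟩ := e.2
    have : e = ⟨Nmat t x, LinearMap.mem_range_self _ x⟩ := Subtype.ext hx.symm
    rw [this, betaE_self t ht, ha]
  have hev : Even s := by
    rw [← hfr]
    exact even_finrank_of_alt _ hsym hnd halt
  refine ⟨h1, hev, ?_⟩
  rw [h2, card_IsoGrp_alt _ halt hnd (s / 2) (by
    rw [hfr]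
    obtain ⟨k, hk⟩ := hev
    omega)]
  rfl

/-- non-alternating type -/
theorem card_centralizer_nonalt (ht : t ^ 2 = 1) (s : ℕ) (hs : (t.1 - 1).rank = s)
    (hna : ∃ v : Fin m ⊕ Fin m → F, Cfsg.sympForm m F v (t.1 *ᵥ v) ≠ 0) :
    s ≤ m ∧ 1 ≤ s ∧
      Nat.card (Subgroup.centralizer ({t} : Set (Matrix.symplecticGroup (Fin m) F))) =
      Fintype.card F ^ (2 * m * s - Texp s) * spOrd (Fintype.card F) (m - s) *
        Acount (Fintype.card F) s := by
  obtain ⟨h1, h2⟩ := card_centralizer_invol t ht s hs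
  have hfr : finrank F (LinearMap.range (Nmat t)) = s := (finrank_range_Nmat t).trans hs
  have hsym := betaE_sym (stdSymp m F) (Nmat t) (Nmat_sq t ht) (Nmat_adj t ht) stdSymp_alt
  have hnd := betaE_nondeg (stdSymp m F) (Nmat t) (Nmat_sq t ht) (Nmat_adj t ht) stdSymp_nondeg
  have hna' : ∃ e, betaE (stdSymp m F) (Nmat t) e e ≠ 0 := by
    obtain ⟨v, hv⟩ := hna
    refine ⟨⟨Nmat t v, LinearMap.mem_range_self _ v⟩, ?_⟩
    rw [betaE_self t ht]
    exact hv
  have hs1 : 1 ≤ s := by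
    by_contra h0
    have hs0 : s = 0 := by omega
    rw [hs0] at hfr
    obtain ⟨e, he⟩ := hna'
    have : Subsingleton (LinearMap.range (Nmat t)) := Module.finrank_zero_iff.mp hfr
    apply he
    rw [Subsingleton.elim e 0, map_zero]
  refine ⟨h1, hs1, ?_⟩
  obtain ⟨d, rfl⟩ : ∃ d, s = d + 1 := ⟨s - 1, by omega⟩
  rw [h2, card_IsoGrp_nonalt _ hsym hnd hna' d hfr]

/-- for odd rank the induced form is automatically non-alternating -/
theorem exists_nonalt_of_odd (ht : t ^ 2 = 1) (s : ℕ) (hs : (t.1 - 1).rank = s) (hodd : Odd s) :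
    ∃ v : Fin m ⊕ Fin m → F, Cfsg.sympForm m F v (t.1 *ᵥ v) ≠ 0 := by
  by_contra hno
  push Not at hno
  obtain ⟨_, hev, _⟩ := card_centralizer_alt t ht s hs hno
  exact (Nat.not_even_iff_odd.mpr hodd) hev

end mat

/-- the order of `Sp_{2k}(q)` as it is written in the statements -/
theorem spOrd_fin (q k : ℕ) :
    q ^ (k ^ 2) * ∏ i : Fin k, (q ^ (2 * ((i : ℕ) + 1)) - 1) = spOrd q k := by
  unfold spOrd
  rw [Fin.prod_univ_eq_prod_range (fun i => q ^ (2 * (i + 1)) - 1) k]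

end Cfsg.Agent.Lib.Helper14.SpInv
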