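import Mathlib

set_option autoImplicit false

/-! # Semisimple isometries of alternating forms: basic algebra -/

namespace Cfsg.Agent.Lib.Helper14.SpSemi

open Polynomial

section factor

variable {F : Type*} [Field F] {M V V' : Type*} [AddCommGroup M] [Module F M]
  [AddCommGroup V] [Module F V] [AddCommGroup V'] [Module F V']

/-- a linear map killing the kernel of `Φ` factors through `Φ` -/
theorem factor_exists (Φ : M →ₗ[F] V) (Φ' : M →ₗ[F] V')
    (h : LinearMap.ker Φ ≤ LinearMap.ker Φ') :
    ∃ φ : V →ₗ[F] V', ∀ m, φ (Φ m) = Φ' m := by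
  let φ₀ : LinearMap.range Φ →ₗ[F] V' :=
    ((LinearMap.ker Φ).liftQ Φ' h).comp (Φ.quotKerEquivRange.symm : _ →ₗ[F] _)
  obtain ⟨φ, hφ⟩ := LinearMap.exists_extend φ₀
  refine ⟨φ, fun m => ?_⟩
  have h1 := LinearMap.congr_fun hφ ⟨Φ m, LinearMap.mem_range_self Φ m⟩
  simp only [LinearMap.comp_apply, Submodule.subtype_apply] at h1
  rw [h1]
  show ((LinearMap.ker Φ).liftQ Φ' h) (Φ.quotKerEquivRange.symm ⟨Φ m, _⟩) = Φ' m
  rw [LinearMap.quotKerEquivRange_symm_apply_image]
  rfl

end factor

variable {F : Type*} [Field F] {V : Type*} [AddCommGroup V] [Module F V]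

/-- an alternating form `ω`, an isometry `g` with inverse `h`, of order dividing `m` prime to the
characteristic -/
structure Setup (ω : LinearMap.BilinForm F V) (g h : Module.End F V) (m : ℕ) : Prop where
  alt : ∀ x, ω x x = 0
  gh : g * h = 1
  hg : h * g = 1
  pres : ∀ x y, ω (g x) (g y) = ω x y
  hm : (m : F) ≠ 0
  gm : g ^ m = 1

namespace Setup

variable {ω : LinearMap.BilinForm F V} {g h : Module.End F V} {m : ℕ}

theorem skew (S : Setup ω g h m) (x y : V) : ω x y = - ω y x := by
  have h1 := S.alt (x + y)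
  simp only [map_add, LinearMap.add_apply, S.alt, zero_add, add_zero] at h1
  exact eq_neg_of_add_eq_zero_right h1

theorem g_h_apply (S : Setup ω g h m) (x : V) : g (h x) = x := by
  have := LinearMap.congr_fun S.gh x
  simpa using this

theorem h_g_apply (S : Setup ω g h m) (x : V) : h (g x) = x := by
  have := LinearMap.congr_fun S.hg x
  simpa using this

theorem adj (S : Setup ω g h m) (x y : V) : ω (g x) y = ω x (h y) := by
  rw [← S.pres x (h y), S.g_h_apply]

theorem adj' (S : Setup ω g h m) (x y : V) : ω (h x) y = ω x (g y) := by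
  rw [← S.pres (h x) y, S.g_h_apply]

theorem m_pos (S : Setup ω g h m) : 0 < m := by
  rcases Nat.eq_zero_or_pos m with h0 | h0
  · exfalso; apply S.hm; rw [h0]; simp
  · exact h0

theorem commute (S : Setup ω g h m) : Commute g h := by
  show g * h = h * g
  rw [S.gh, S.hg]

theorem h_eq (S : Setup ω g h m) : h = g ^ (m - 1) := by
  have h1 : g ^ (m - 1) * g = 1 := by
    rw [← pow_succ, Nat.sub_add_cancel S.m_pos, S.gm]
  calc h = (g ^ (m - 1) * g) * h := by rw [h1, one_mul]
    _ = g ^ (m - 1) := by rw [mul_assoc, S.gh, mul_one]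

theorem symm (S : Setup ω g h m) : Setup ω h g m where
  alt := S.alt
  gh := S.hg
  hg := S.gh
  pres := fun x y => by rw [S.adj', S.g_h_apply]
  hm := S.hm
  gm := by
    have : h ^ m = h ^ m * g ^ m := by rw [S.gm, mul_one]
    rw [this, ← S.commute.symm.mul_pow, S.hg, one_pow]

theorem aeval_h (S : Setup ω g h m) (P : F[X]) :
    aeval h P = aeval g (P.comp (X ^ (m - 1))) := by
  rw [aeval_comp, aeval_X_pow, ← S.h_eq]

theorem adj_pow (S : Setup ω g h m) (n : ℕ) (x y : V) : ω ((g ^ n) x) y = ω x ((h ^ n) y) := by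
  induction n generalizing x y with
  | zero => simp
  | succ n ih =>
    rw [pow_succ, pow_succ', Module.End.mul_apply, Module.End.mul_apply, ih, S.adj]

theorem adjP (S : Setup ω g h m) (P : F[X]) (x y : V) :
    ω (aeval g P x) y = ω x (aeval h P y) := by
  induction P using Polynomial.induction_on' with
  | add p q hp hq =>
    simp only [map_add, LinearMap.add_apply, hp, hq]
  | monomial n a =>
    simp only [aeval_monomial, Module.End.mul_apply, Module.algebraMap_end_apply, map_smul,
      LinearMap.smul_apply, S.adj_pow]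

theorem adjP' (S : Setup ω g h m) (P : F[X]) (x y : V) :
    ω x (aeval g P y) = ω (aeval h P x) y := by
  rw [S.symm.adjP]

end Setup

section poly

variable {g : Module.End F V}

theorem aeval_mul_apply (P Q : F[X]) (x : V) :
    aeval g (P * Q) x = aeval g P (aeval g Q x) := by
  rw [map_mul, Module.End.mul_apply]

theorem aeval_mul_apply' (P Q : F[X]) (x : V) :
    aeval g (P * Q) x = aeval g Q (aeval g P x) := by
  rw [mul_comm, aeval_mul_apply]

/-- a subspace stable under `g` is stable under polynomials in `g` -/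
theorem aeval_mem {L : Submodule F V} (hL : ∀ x ∈ L, g x ∈ L) (P : F[X]) {x : V} (hx : x ∈ L) :
    aeval g P x ∈ L := by
  induction P using Polynomial.induction_on' with
  | add p q hp hq =>
    rw [map_add, LinearMap.add_apply]
    exact L.add_mem hp hq
  | monomial n a =>
    rw [aeval_monomial, Module.End.mul_apply, Module.algebraMap_end_apply]
    apply L.smul_mem
    induction n with
    | zero => simpa using hx
    | succ n ih =>
      rw [pow_succ', Module.End.mul_apply]
      exact hL _ ih

/-- the annihilator of a nonzero vector killed by an irreducible polynomial -/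
theorem ann_dvd {f P : F[X]} (hf : Irreducible f) {u : V} (hu : u ≠ 0)
    (hfu : aeval g f u = 0) (hP : aeval g P u = 0) : f ∣ P := by
  by_contra hnd
  obtain ⟨a, b, hab⟩ := (hf.coprime_iff_not_dvd).mpr hnd
  apply hu
  have h1 : aeval g (a * f + b * P) u = u := by
    rw [hab, map_one, Module.End.one_apply]
  rw [map_add, LinearMap.add_apply, aeval_mul_apply, aeval_mul_apply, hfu, hP, map_zero,
    map_zero, add_zero] at h1
  exact h1.symm

theorem aeval_eq_of_dvd_sub {f P Q : F[X]} {u : V} (hfu : aeval g f u = 0) (h : f ∣ P - Q) :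
    aeval g P u = aeval g Q u := by
  obtain ⟨c, hc⟩ := h
  have : P = Q + c * f := by rw [mul_comm, ← hc]; ring
  rw [this, map_add, LinearMap.add_apply, aeval_mul_apply, hfu, map_zero, add_zero]

/-- the cyclic module generated by a vector killed by an irreducible polynomial is irreducible -/
theorem cyc_irr {f : F[X]} (hf : Irreducible f) {u : V} (hfu : aeval g f u = 0)
    {L : Submodule F V} (hL : ∀ x ∈ L, g x ∈ L) {P : F[X]} (hx : aeval g P u ∈ L)
    (hx0 : aeval g P u ≠ 0) : u ∈ L := by
  have hnd : ¬ f ∣ P := by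
    rintro ⟨c, rfl⟩
    apply hx0
    rw [aeval_mul_apply', hfu, map_zero]
  obtain ⟨a, b, hab⟩ := (hf.coprime_iff_not_dvd).mpr hnd
  have h1 : aeval g (a * f + b * P) u = u := by
    rw [hab, map_one, Module.End.one_apply]
  rw [map_add, LinearMap.add_apply, aeval_mul_apply, aeval_mul_apply, hfu, map_zero,
    zero_add] at h1
  rw [← h1]
  exact aeval_mem hL b hx

end poly

namespace Setup

variable {ω : LinearMap.BilinForm F V} {g h : Module.End F V} {m : ℕ}

/-- semisimplicity: `V = ker f(g) ⊕ im f(g)` for irreducible `f`, with polynomial projections -/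
theorem split (S : Setup ω g h m) {f : F[X]} (hf : Irreducible f) :
    ∃ A B : F[X], ∀ w : V, aeval g f (aeval g A w) = 0 ∧
      w = aeval g A w + aeval g f (aeval g B w) := by
  have hsq : Squarefree (X ^ m - C (1 : F)) :=
    (separable_X_pow_sub_C (1 : F) S.hm one_ne_zero).squarefree
  have hμ : aeval g (X ^ m - C (1 : F)) = 0 := by
    rw [map_sub, aeval_X_pow, aeval_C, S.gm, map_one, sub_self]
  by_cases hdvd : f ∣ X ^ m - C (1 : F)
  · obtain ⟨Q, hQ⟩ := hdvd
    rw [hQ] at hsq
    obtain ⟨a, b, hab⟩ := ((squarefree_mul_iff.mp hsq).1).isCoprime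
    refine ⟨b * Q, a, fun w => ⟨?_, ?_⟩⟩
    · rw [← aeval_mul_apply, show f * (b * Q) = b * (f * Q) by ring, ← hQ, map_mul, hμ, mul_zero,
        LinearMap.zero_apply]
    · rw [← aeval_mul_apply, ← LinearMap.add_apply, ← map_add,
        show b * Q + f * a = a * f + b * Q by ring, hab, map_one, Module.End.one_apply]
  · obtain ⟨a, b, hab⟩ := (hf.coprime_iff_not_dvd).mpr hdvd
    refine ⟨0, a, fun w => ⟨by simp, ?_⟩⟩
    have h1 : aeval g (a * f + b * (X ^ m - C (1 : F))) w = w := by
      rw [hab, map_one, Module.End.one_apply]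
    rw [map_add, LinearMap.add_apply, aeval_mul_apply b, hμ, LinearMap.zero_apply, map_zero,
      add_zero] at h1
    rw [map_zero, LinearMap.zero_apply, zero_add, ← aeval_mul_apply, mul_comm]
    exact h1.symm

end Setup

end Cfsg.Agent.Lib.Helper14.SpSemi
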