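import Cfsg.Agent.Lib.Helper14.SpSemi1

set_option autoImplicit false

/-! # Semisimple isometries of alternating forms: hyperbolic blocks -/

namespace Cfsg.Agent.Lib.Helper14.SpSemi

open Polynomial

variable {F : Type*} [Field F] {V : Type*} [AddCommGroup V] [Module F V]
  {V' : Type*} [AddCommGroup V'] [Module F V']

/-- `ω` is nondegenerate on the subspace `W` -/
def NDeg (ω : LinearMap.BilinForm F V) (W : Submodule F V) : Prop :=
  ∀ x ∈ W, (∀ y ∈ W, ω x y = 0) → x = 0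

/-- `φ` induces an equivariant isometry of `H` onto `H'` -/
structure Block (ω : LinearMap.BilinForm F V) (ω' : LinearMap.BilinForm F V')
    (g : Module.End F V) (g' : Module.End F V') (H : Submodule F V) (H' : Submodule F V')
    (φ : V →ₗ[F] V') : Prop where
  maps : ∀ x ∈ H, φ x ∈ H'
  surj : ∀ y ∈ H', ∃ x ∈ H, φ x = y
  isom : ∀ x ∈ H, ∀ y ∈ H, ω' (φ x) (φ y) = ω x y
  equi : ∀ x ∈ H, φ (g x) = g' (φ x)

theorem Block.ndeg {ω : LinearMap.BilinForm F V} {ω' : LinearMap.BilinForm F V'}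
    {g : Module.End F V} {g' : Module.End F V'} {H : Submodule F V} {H' : Submodule F V'}
    {φ : V →ₗ[F] V'} (B : Block ω ω' g g' H H' φ) (hH : NDeg ω H) : NDeg ω' H' := by
  intro x' hx' hx'0
  obtain ⟨x, hx, rfl⟩ := B.surj x' hx'
  have : x = 0 := by
    apply hH x hx
    intro y hy
    rw [← B.isom x hx y hy]
    exact hx'0 _ (B.maps y hy)
  rw [this, map_zero]

/-- the evaluation map `P ↦ P(g) u` -/
noncomputable def evl (g : Module.End F V) (u : V) : F[X] →ₗ[F] V :=
  (LinearMap.applyₗ u).comp (aeval g).toLinearMap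

@[simp] theorem evl_apply (g : Module.End F V) (u : V) (P : F[X]) : evl g u P = aeval g P u := rfl

/-- representing a functional on a nondegenerate finite-dimensional subspace -/
theorem exists_repr [FiniteDimensional F V] {ω : LinearMap.BilinForm F V}
    (hskew : ∀ x y, ω x y = - ω y x) {W : Submodule F V} (hW : NDeg ω W)
    (ℓ : V →ₗ[F] F) : ∃ w ∈ W, ∀ x ∈ W, ω x w = ℓ x := by
  let T : W →ₗ[F] Module.Dual F W :=
    ((LinearMap.lcomp F F W.subtype).comp ω.flip).comp W.subtype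
  have hT : ∀ (w x : W), T w x = ω (x : V) (w : V) := fun w x => rfl
  have hinj : Function.Injective T := by
    rw [← LinearMap.ker_eq_bot, LinearMap.ker_eq_bot']
    intro w hw
    apply Subtype.ext
    apply hW w.1 w.2
    intro y hy
    have := LinearMap.congr_fun hw ⟨y, hy⟩
    rw [hT] at this
    rw [hskew, this]
    simp
  have hsurj : Function.Surjective T :=
    (LinearMap.injective_iff_surjective_of_finrank_eq_finrank
      (Subspace.dual_finrank_eq).symm).mp hinj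
  obtain ⟨w, hw⟩ := hsurj (ℓ.comp W.subtype)
  refine ⟨w.1, w.2, fun x hx => ?_⟩
  have := LinearMap.congr_fun hw ⟨x, hx⟩
  rw [hT] at this
  exact this

namespace Setup

variable {ω : LinearMap.BilinForm F V} {g h : Module.End F V} {m : ℕ}

/-- a vector killed by `f(g)` pairs nontrivially with a vector killed by `f(g⁻¹)` -/
theorem partner (S : Setup ω g h m) {W : Submodule F V} (hW : NDeg ω W)
    (hWh : ∀ x ∈ W, h x ∈ W) {f : F[X]} (hf : Irreducible f) {u : V} (huW : u ∈ W)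
    (hu : u ≠ 0) (hfu : aeval g f u = 0) : ∃ v ∈ W, aeval h f v = 0 ∧ ω u v ≠ 0 := by
  obtain ⟨w, hwW, hw⟩ : ∃ w ∈ W, ω u w ≠ 0 := by
    by_contra hcon
    apply hu
    apply hW u huW
    intro y hy
    by_contra hne
    exact hcon ⟨y, hy, hne⟩
  obtain ⟨A, B, hAB⟩ := S.symm.split hf
  refine ⟨aeval h A w, aeval_mem hWh A hwW, (hAB w).1, ?_⟩
  have h1 : ω u w = ω u (aeval h A w) := by
    have h2 : ω u (aeval h f (aeval h B w)) = 0 := by
      rw [← S.adjP, hfu, map_zero, LinearMap.zero_apply]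
    conv_lhs => rw [(hAB w).2]
    rw [map_add, h2, add_zero]
  rwa [← h1]

/-- if `f` is prime to its twist, `ker f(g)` is totally isotropic -/
theorem iso_of_coprime (S : Setup ω g h m) {f : F[X]}
    (hc : IsCoprime f (f.comp (X ^ (m - 1)))) {x y : V} (hx : aeval g f x = 0)
    (hy : aeval g f y = 0) : ω x y = 0 := by
  obtain ⟨a, b, hab⟩ := hc
  have h1 : aeval g (a * f + b * f.comp (X ^ (m - 1))) y = y := by
    rw [hab, map_one, Module.End.one_apply]
  rw [map_add, LinearMap.add_apply, aeval_mul_apply, hy, map_zero, zero_add, aeval_mul_apply',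
    ← S.aeval_h] at h1
  rw [← h1, ← S.adjP, hx, map_zero, LinearMap.zero_apply]

/-- a line is totally isotropic -/
theorem iso_of_deg_one (S : Setup ω g h m) {f : F[X]} (hd : f.natDegree = 1) {u : V}
    (hfu : aeval g f u = 0) (P Q : F[X]) : ω (aeval g P u) (aeval g Q u) = 0 := by
  by_cases hu : u = 0
  · rw [hu, map_zero, map_zero, LinearMap.zero_apply]
  have hf := Polynomial.eq_X_add_C_of_natDegree_le_one (le_of_eq hd)
  have ha : f.coeff 1 ≠ 0 := by
    have := Polynomial.leadingCoeff_ne_zero.mpr (fun h0 : f = 0 => by rw [h0] at hd; simp at hd)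
    rwa [Polynomial.leadingCoeff, hd] at this
  have hgu : g u = (-(f.coeff 0) / f.coeff 1) • u := by
    rw [hf] at hfu
    simp only [map_add, map_mul, aeval_C, aeval_X, LinearMap.add_apply, Module.End.mul_apply,
      Module.algebraMap_end_apply] at hfu
    have h2 : f.coeff 1 • g u = -(f.coeff 0 • u) := eq_neg_of_add_eq_zero_left hfu
    have h3 : g u = (f.coeff 1)⁻¹ • (f.coeff 1 • g u) := by
      rw [smul_smul, inv_mul_cancel₀ ha, one_smul]
    rw [h3, h2, smul_neg, smul_smul, ← neg_smul]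
    congr 1
    field_simp
  have hev : g.HasEigenvector (-(f.coeff 0) / f.coeff 1) u :=
    ⟨Module.End.mem_eigenspace_iff.mpr hgu, hu⟩
  rw [Module.End.aeval_apply_of_hasEigenvector hev, Module.End.aeval_apply_of_hasEigenvector hev]
  simp only [map_smul, LinearMap.smul_apply, S.alt, smul_zero]

end Setup

namespace Setup

variable {ω : LinearMap.BilinForm F V} {g h : Module.End F V} {m : ℕ}

theorem g_aeval (g : Module.End F V) (P : F[X]) (x : V) :
    g (aeval g P x) = aeval g ((X : F[X]) * P) x := by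
  rw [aeval_mul_apply, aeval_X]

/-- perfectness of the pairing between the two cyclic modules, right side -/
theorem pair_right (S : Setup ω g h m) {f : F[X]} (hf : Irreducible f) {u v : V}
    (hfv : aeval h f v = 0) (huv : ω u v ≠ 0) (R : F[X])
    (hR : ∀ P : F[X], ω (aeval g P u) (aeval h R v) = 0) : aeval h R v = 0 := by
  by_contra hne
  let L : Submodule F V :=
    { carrier := {y | ∀ P : F[X], ω (aeval g P u) y = 0}
      add_mem' := fun {a b} ha hb P => by
        show ω (aeval g P u) (a + b) = 0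
        rw [map_add, ha P, hb P, add_zero]
      zero_mem' := fun P => by
        show ω (aeval g P u) 0 = 0
        rw [map_zero]
      smul_mem' := fun c a ha P => by
        show ω (aeval g P u) (c • a) = 0
        rw [map_smul, ha P, smul_zero] }
  have hLh : ∀ y ∈ L, h y ∈ L := fun y hy P => by
    show ω (aeval g P u) (h y) = 0
    rw [← S.adj, g_aeval]
    exact hy _
  have hv : v ∈ L := cyc_irr (g := h) hf hfv hLh (P := R) hR hne
  apply huv
  have := hv (1 : F[X])
  simpa using this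

/-- perfectness of the pairing between the two cyclic modules, left side -/
theorem pair_left (S : Setup ω g h m) {f : F[X]} (hf : Irreducible f) {u v : V}
    (hfu : aeval g f u = 0) (huv : ω u v ≠ 0) (P : F[X])
    (hP : ∀ R : F[X], ω (aeval g P u) (aeval h R v) = 0) : aeval g P u = 0 := by
  apply S.symm.pair_right hf hfu (u := v) (v := u) _ P
  · intro R
    rw [S.skew, hP R, neg_zero]
  · rw [S.skew]
    exact neg_ne_zero.mpr huv

theorem hyp_block [FiniteDimensional F V'] {ω' : LinearMap.BilinForm F V'}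
    {g' h' : Module.End F V'}
    (S : Setup ω g h m) (S' : Setup ω' g' h' m) {f : F[X]} (hf : Irreducible f)
    {W : Submodule F V} {W' : Submodule F V'} (hW : NDeg ω W) (hW' : NDeg ω' W')
    (hWg : ∀ x ∈ W, g x ∈ W) (hWh : ∀ x ∈ W, h x ∈ W)
    (hWg' : ∀ x ∈ W', g' x ∈ W') (hWh' : ∀ x ∈ W', h' x ∈ W')
    {u : V} (huW : u ∈ W) (hu : u ≠ 0) (hfu : aeval g f u = 0)
    {u' : V'} (huW' : u' ∈ W') (hu' : u' ≠ 0) (hfu' : aeval g' f u' = 0)
    (isoU : ∀ P Q : F[X], ω (aeval g P u) (aeval g Q u) = 0)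
    (isoC : ∀ v, aeval h f v = 0 → ∀ P Q : F[X], ω (aeval h P v) (aeval h Q v) = 0)
    (isoU' : ∀ P Q : F[X], ω' (aeval g' P u') (aeval g' Q u') = 0)
    (isoC' : ∀ v, aeval h' f v = 0 → ∀ P Q : F[X], ω' (aeval h' P v) (aeval h' Q v) = 0) :
    ∃ (H : Submodule F V) (H' : Submodule F V') (φ : V →ₗ[F] V'),
      u ∈ H ∧ H ≤ W ∧ H' ≤ W' ∧ (∀ x ∈ H, g x ∈ H) ∧ (∀ x ∈ H, h x ∈ H) ∧
      (∀ x ∈ H', g' x ∈ H') ∧ (∀ x ∈ H', h' x ∈ H') ∧ NDeg ω H ∧ Block ω ω' g g' H H' φ := by
  -- the partner of `u`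
  obtain ⟨v, hvW, hfv, huv⟩ := S.partner hW hWh hf huW hu hfu
  -- transport of the pairing functional
  obtain ⟨ψ, hψ⟩ := factor_exists (evl g' u') (evl g u) (by
    intro P hP
    rw [LinearMap.mem_ker, evl_apply] at hP ⊢
    obtain ⟨c, rfl⟩ := ann_dvd hf hu' hfu' hP
    rw [aeval_mul_apply', hfu, map_zero])
  obtain ⟨w', hw'W, hw'⟩ := exists_repr S'.skew hW' ((ω.flip v).comp ψ)
  obtain ⟨A, B, hAB⟩ := S'.symm.split hf
  set v' : V' := aeval h' A w' with hv'def
  have hfv' : aeval h' f v' = 0 := (hAB w').1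
  have hv'W : v' ∈ W' := aeval_mem hWh' A hw'W
  -- the key compatibility
  have key : ∀ P : F[X], ω' (aeval g' P u') v' = ω (aeval g P u) v := by
    intro P
    have h1 : ω' (aeval g' P u') w' = ω (aeval g P u) v := by
      rw [hw' _ (aeval_mem hWg' P huW')]
      have := hψ P
      rw [evl_apply, evl_apply] at this
      simp only [LinearMap.comp_apply, this]
      rfl
    have h2 : ω' (aeval g' P u') (aeval h' f (aeval h' B w')) = 0 := by
      rw [← S'.adjP, ← aeval_mul_apply, mul_comm, aeval_mul_apply, hfu', map_zero, map_zero,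
        LinearMap.zero_apply]
    rw [← h1]
    conv_rhs => rw [(hAB w').2]
    rw [map_add, h2, add_zero]
  have huv' : ω' u' v' ≠ 0 := by
    have := key (1 : F[X])
    simp only [map_one, Module.End.one_apply] at this
    rw [this]
    exact huv
  -- the general pairing
  have key2 : ∀ P R : F[X], ω' (aeval g' P u') (aeval h' R v') = ω (aeval g P u) (aeval h R v) := by
    intro P R
    rw [← S'.adjP, ← S.adjP, ← aeval_mul_apply, ← aeval_mul_apply, key]
  -- the two maps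
  set Φ : (F[X] × F[X]) →ₗ[F] V := (evl g u).coprod (evl h v) with hΦ
  set Φ' : (F[X] × F[X]) →ₗ[F] V' := (evl g' u').coprod (evl h' v') with hΦ'
  have hΦa : ∀ P R, Φ (P, R) = aeval g P u + aeval h R v := fun P R => by
    rw [hΦ, LinearMap.coprod_apply, evl_apply, evl_apply]
  have hΦ'a : ∀ P R, Φ' (P, R) = aeval g' P u' + aeval h' R v' := fun P R => by
    rw [hΦ', LinearMap.coprod_apply, evl_apply, evl_apply]
  -- vanishing
  have hvan : ∀ P R : F[X], (∀ x ∈ LinearMap.range Φ, ω (aeval g P u + aeval h R v) x = 0) →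
      aeval g P u = 0 ∧ aeval h R v = 0 := by
    intro P R hx
    constructor
    · apply S.pair_left hf hfu huv P
      intro R₂
      have := hx (aeval h R₂ v) ⟨(0, R₂), by rw [hΦa]; simp⟩
      rw [map_add, LinearMap.add_apply, isoC v hfv, add_zero] at this
      exact this
    · apply S.pair_right hf hfv huv R
      intro P₂
      have := hx (aeval g P₂ u) ⟨(P₂, 0), by rw [hΦa]; simp⟩
      rw [map_add, LinearMap.add_apply, isoU, zero_add, S.skew, neg_eq_zero] at this
      exact this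
  have hker : LinearMap.ker Φ ≤ LinearMap.ker Φ' := by
    rintro ⟨P, R⟩ hPR
    rw [LinearMap.mem_ker, hΦa] at hPR
    rw [LinearMap.mem_ker, hΦ'a]
    obtain ⟨h1, h2⟩ := hvan P R (fun x _ => by rw [hPR, map_zero, LinearMap.zero_apply])
    obtain ⟨c, rfl⟩ := ann_dvd hf hu hfu h1
    have hv0 : v ≠ 0 := by
      rintro rfl
      apply huv
      rw [map_zero]
    obtain ⟨d, rfl⟩ := ann_dvd hf hv0 hfv h2
    rw [aeval_mul_apply', hfu', map_zero, aeval_mul_apply', hfv', map_zero, add_zero]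
  obtain ⟨φ, hφ⟩ := factor_exists Φ Φ' hker
  have gΦ : ∀ P R, g (Φ (P, R)) = Φ (X * P, X ^ (m - 1) * R) := by
    intro P R
    rw [hΦa, hΦa, map_add, g_aeval]
    congr 1
    rw [aeval_mul_apply, aeval_X_pow, ← S.symm.h_eq]
  have hΦh : ∀ P R, h (Φ (P, R)) = Φ (X ^ (m - 1) * P, X * R) := by
    intro P R
    rw [hΦa, hΦa, map_add, g_aeval]
    congr 1
    rw [aeval_mul_apply, aeval_X_pow, ← S.h_eq]
  have gΦ' : ∀ P R, g' (Φ' (P, R)) = Φ' (X * P, X ^ (m - 1) * R) := by
    intro P R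
    rw [hΦ'a, hΦ'a, map_add, g_aeval]
    congr 1
    rw [aeval_mul_apply, aeval_X_pow, ← S'.symm.h_eq]
  have hΦ'h : ∀ P R, h' (Φ' (P, R)) = Φ' (X ^ (m - 1) * P, X * R) := by
    intro P R
    rw [hΦ'a, hΦ'a, map_add, g_aeval]
    congr 1
    rw [aeval_mul_apply, aeval_X_pow, ← S'.h_eq]
  refine ⟨LinearMap.range Φ, LinearMap.range Φ', φ, ⟨(1, 0), by rw [hΦa]; simp⟩, ?_, ?_, ?_, ?_,
    ?_, ?_, ?_, ?_⟩
  · rintro _ ⟨⟨P, R⟩, rfl⟩
    rw [hΦa]
    exact W.add_mem (aeval_mem hWg P huW) (aeval_mem hWh R hvW)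
  · rintro _ ⟨⟨P, R⟩, rfl⟩
    rw [hΦ'a]
    exact W'.add_mem (aeval_mem hWg' P huW') (aeval_mem hWh' R hv'W)
  · rintro _ ⟨⟨P, R⟩, rfl⟩
    exact ⟨_, (gΦ P R).symm⟩
  · rintro _ ⟨⟨P, R⟩, rfl⟩
    exact ⟨_, (hΦh P R).symm⟩
  · rintro _ ⟨⟨P, R⟩, rfl⟩
    exact ⟨_, (gΦ' P R).symm⟩
  · rintro _ ⟨⟨P, R⟩, rfl⟩
    exact ⟨_, (hΦ'h P R).symm⟩
  · rintro _ ⟨⟨P, R⟩, rfl⟩ hx
    rw [hΦa] at hx ⊢
    obtain ⟨h1, h2⟩ := hvan P R hx
    rw [h1, h2, add_zero]
  · refine ⟨?_, ?_, ?_, ?_⟩
    · rintro _ ⟨x, rfl⟩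
      exact ⟨x, (hφ x).symm⟩
    · rintro _ ⟨x, rfl⟩
      exact ⟨Φ x, ⟨x, rfl⟩, hφ x⟩
    · rintro _ ⟨⟨P₁, R₁⟩, rfl⟩ _ ⟨⟨P₂, R₂⟩, rfl⟩
      rw [hφ, hφ, hΦa, hΦa, hΦ'a, hΦ'a]
      simp only [map_add, LinearMap.add_apply]
      rw [isoU, isoU', isoC v hfv, isoC' v' hfv', key2, S'.skew (aeval h' R₁ v'), key2,
        ← S.skew]
    · rintro _ ⟨⟨P, R⟩, rfl⟩
      rw [gΦ, hφ, hφ, gΦ']

end Setup

end Cfsg.Agent.Lib.Helper14.SpSemi
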