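import Mathlib

set_option autoImplicit false

/-! # Norm surjectivity for finite fields with an involution, and forms in one variable -/

namespace Cfsg.Agent.Lib.Helper14.SpSemi

/-- In a finite field with an involutive automorphism `σ ≠ 1`, every `σ`-fixed element is a norm
`c σ(c)`. -/
theorem norm_surj {E : Type*} [Field E] [Finite E] (σ : E ≃+* E) (hσ2 : ∀ x, σ (σ x) = x)
    (hσ : ∃ x, σ x ≠ x) (t : E) (ht : σ t = t) : ∃ c, c * σ c = t := by
  classical
  by_cases ht0 : t = 0
  · exact ⟨0, by rw [ht0, zero_mul]⟩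
  let σu : Eˣ →* Eˣ := Units.map σ.toRingHom.toMonoidHom
  have hσu : ∀ c : Eˣ, ((σu c : Eˣ) : E) = σ (c : E) := fun c => rfl
  let N : Eˣ →* Eˣ :=
    { toFun := fun c => c * σu c
      map_one' := by simp
      map_mul' := fun a b => by rw [map_mul]; exact mul_mul_mul_comm _ _ _ _ }
  let H : Eˣ →* Eˣ :=
    { toFun := fun c => c * (σu c)⁻¹
      map_one' := by simp
      map_mul' := fun a b => by rw [map_mul, mul_inv]; exact mul_mul_mul_comm _ _ _ _ }
  have hN : ∀ c, N c = c * σu c := fun c => rfl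
  have hH : ∀ c, H c = c * (σu c)⁻¹ := fun c => rfl
  -- Hilbert 90
  have h90 : N.ker ≤ H.range := by
    intro k hk
    rw [MonoidHom.mem_ker, hN] at hk
    have hk' : (k : E) * σ (k : E) = 1 := by
      have := congrArg (fun z : Eˣ => (z : E)) hk
      simpa [hσu] using this
    obtain ⟨a, ha⟩ : ∃ a : E, a + k * σ a ≠ 0 := by
      by_cases hk1 : (k : E) = -1
      · obtain ⟨x, hx⟩ := hσ
        refine ⟨x, ?_⟩
        rw [hk1, neg_one_mul, ← sub_eq_add_neg]
        exact sub_ne_zero.mpr (Ne.symm hx)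
      · refine ⟨1, ?_⟩
        rw [map_one, mul_one]
        intro h0
        apply hk1
        exact (eq_neg_of_add_eq_zero_right h0)
    set c : E := a + k * σ a with hc
    have hσc : (k : E) * σ c = c := by
      rw [hc, map_add, map_mul, hσ2, mul_add, ← mul_assoc, hk', one_mul, add_comm]
    refine ⟨Units.mk0 c ha, ?_⟩
    rw [hH]
    apply Units.ext
    rw [Units.val_mul, Units.val_inv_eq_inv_val, hσu, Units.val_mk0]
    have hσc0 : σ c ≠ 0 := by
      intro h0
      apply ha
      rw [← hσc, h0, mul_zero]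
    rw [eq_comm, eq_mul_inv_iff_mul_eq₀ hσc0]
    exact hσc
  have hrange : N.range ≤ H.ker := by
    rintro _ ⟨c, rfl⟩
    rw [MonoidHom.mem_ker, hH, hN]
    apply Units.ext
    simp only [Units.val_mul, Units.val_inv_eq_inv_val, hσu, map_mul, hσ2, Units.val_one]
    have h1 : (c : E) ≠ 0 := c.ne_zero
    have h2 : σ (c : E) ≠ 0 := by
      intro h0
      apply h1
      rw [← hσ2 (c : E), h0, map_zero]
    field_simp
  have c1 : Nat.card N.ker * Nat.card N.range = Nat.card Eˣ := by
    rw [← Subgroup.index_ker, Subgroup.card_mul_index]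
  have c2 : Nat.card H.ker * Nat.card H.range = Nat.card Eˣ := by
    rw [← Subgroup.index_ker, Subgroup.card_mul_index]
  have c3 : Nat.card N.ker ≤ Nat.card H.range := Subgroup.card_le_of_le h90
  have c4 : Nat.card H.ker ≤ Nat.card N.range := by
    have hpos : 0 < Nat.card N.ker := Nat.card_pos
    have : Nat.card N.ker * Nat.card H.ker ≤ Nat.card N.ker * Nat.card N.range := by
      rw [c1, ← c2, mul_comm]
      exact Nat.mul_le_mul_left _ c3
    exact Nat.le_of_mul_le_mul_left this hpos
  have heq : N.range = H.ker := Subgroup.eq_of_le_of_card_ge hrange c4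
  have htk : Units.mk0 t ht0 ∈ H.ker := by
    rw [MonoidHom.mem_ker, hH]
    apply Units.ext
    rw [Units.val_mul, Units.val_inv_eq_inv_val, hσu, Units.val_mk0, ht, Units.val_one,
      mul_inv_cancel₀ ht0]
  rw [← heq] at htk
  obtain ⟨c, hc⟩ := htk
  refine ⟨(c : E), ?_⟩
  have := congrArg (fun z : Eˣ => (z : E)) hc
  simpa [hN, hσu] using this

/-- Two nonzero "alternating" functionals on a finite field with involution differ by a norm. -/
theorem normform {F E : Type*} [Field F] [Field E] [Algebra F E] [Finite E]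
    (σ : E ≃ₐ[F] E) (hσ2 : ∀ x, σ (σ x) = x) (hσ : ∃ x, σ x ≠ x)
    (Λ Λ' : E →ₗ[F] F) (hΛ : Λ ≠ 0) (hΛ' : Λ' ≠ 0)
    (hN : ∀ a, Λ (a * σ a) = 0) (hN' : ∀ a, Λ' (a * σ a) = 0) :
    ∃ c : E, c ≠ 0 ∧ ∀ s, Λ' (c * σ c * s) = Λ s := by
  have : Module.Finite F E := Module.Finite.of_finite
  let T : E →ₗ[F] Module.Dual F E := (LinearMap.mul F E).compr₂ Λ'
  have hT : ∀ t s, T t s = Λ' (t * s) := fun t s => rfl
  have hker : ∀ t, (∀ s, Λ' (t * s) = 0) → t = 0 := by
    intro t ht
    by_contra ht0
    apply hΛ'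
    ext x
    have := ht (t⁻¹ * x)
    rw [mul_inv_cancel_left₀ ht0] at this
    rw [this, LinearMap.zero_apply]
  have hinj : Function.Injective T := by
    rw [← LinearMap.ker_eq_bot, LinearMap.ker_eq_bot']
    intro t ht
    apply hker
    intro s
    rw [← hT, ht, LinearMap.zero_apply]
  have hsurj : Function.Surjective T :=
    (LinearMap.injective_iff_surjective_of_finrank_eq_finrank
      (Subspace.dual_finrank_eq).symm).mp hinj
  obtain ⟨t, ht⟩ := hsurj Λ
  have htΛ : ∀ s, Λ' (t * s) = Λ s := fun s => by rw [← hT, ht]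
  -- antisymmetry of both functionals
  have anti : ∀ (L : E →ₗ[F] F), (∀ a, L (a * σ a) = 0) → ∀ a, L (σ a) = - L a := by
    intro L hL a
    have h1 := hL (a + 1)
    have h2 := hL a
    have h3 := hL 1
    rw [map_one, mul_one] at h3
    have e : (a + 1) * σ (a + 1) = a * σ a + a + σ a + 1 := by
      rw [map_add, map_one]; ring
    rw [e, map_add, map_add, map_add, h2, h3, zero_add, add_zero] at h1
    exact eq_neg_of_add_eq_zero_right h1
  have hσt : σ t = t := by
    have : σ t - t = 0 := by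
      apply hker
      intro s
      rw [sub_mul, map_sub, htΛ]
      have e : σ t * s = σ (t * σ s) := by rw [map_mul, hσ2]
      rw [e, anti Λ' hN', htΛ, anti Λ hN, neg_neg, sub_self]
    exact sub_eq_zero.mp this
  have ht0 : t ≠ 0 := by
    rintro rfl
    apply hΛ
    ext s
    rw [← htΛ, zero_mul, map_zero, LinearMap.zero_apply]
  obtain ⟨c, hc⟩ := norm_surj σ.toRingEquiv hσ2 hσ t hσt
  refine ⟨c, ?_, fun s => ?_⟩
  · rintro rfl
    apply ht0
    rw [← hc, zero_mul]
  · have hc' : c * σ c = t := hc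
    rw [hc', htΛ]

end Cfsg.Agent.Lib.Helper14.SpSemi
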