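import Cfsg.Agent.Lib.Helper14.SpSemi2
import Cfsg.Agent.Lib.Helper14.SpSemi3

set_option autoImplicit false

/-! # Semisimple isometries of alternating forms: anisotropic cyclic blocks -/

namespace Cfsg.Agent.Lib.Helper14.SpSemi

open Polynomial

variable {F : Type*} [Field F] {V : Type*} [AddCommGroup V] [Module F V]
  {V' : Type*} [AddCommGroup V'] [Module F V']

theorem not_dvd_sq_sub_one {f : F[X]} (hf : Irreducible f) (hdeg : 2 ≤ f.natDegree) :
    ¬ f ∣ X ^ 2 - C (1 : F) := by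
  intro hd
  have e : (X ^ 2 - C (1 : F) : F[X]) = (X - C 1) * (X + C 1) := by
    rw [map_one]; ring
  rw [e] at hd
  rcases hf.prime.dvd_or_dvd hd with h1 | h1
  · have := Polynomial.natDegree_le_of_dvd h1 (Polynomial.X_sub_C_ne_zero 1)
    rw [Polynomial.natDegree_X_sub_C] at this
    omega
  · have := Polynomial.natDegree_le_of_dvd h1 (Polynomial.X_add_C_ne_zero 1)
    rw [Polynomial.natDegree_X_add_C] at this
    omega

namespace Setup

variable {ω : LinearMap.BilinForm F V} {g h : Module.End F V} {m : ℕ}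

/-- in the self-dual case of degree at least two some cyclic submodule is not totally isotropic -/
theorem exists_aniso (S : Setup ω g h m) {f : F[X]} (hf : Irreducible f)
    (hdvd : f ∣ f.comp (X ^ (m - 1))) (hdeg : 2 ≤ f.natDegree)
    {W : Submodule F V} (hW : NDeg ω W) (hWg : ∀ x ∈ W, g x ∈ W) (hWh : ∀ x ∈ W, h x ∈ W)
    {u₀ : V} (hu₀W : u₀ ∈ W) (hu₀ : u₀ ≠ 0) (hfu₀ : aeval g f u₀ = 0) :
    ∃ u ∈ W, aeval g f u = 0 ∧ ∃ P : F[X], ω (aeval g P u) u ≠ 0 := by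
  by_contra hcon
  have hall : ∀ u ∈ W, aeval g f u = 0 → ∀ P : F[X], ω (aeval g P u) u = 0 := by
    intro u hu hfu P
    by_contra hne
    exact hcon ⟨u, hu, hfu, P, hne⟩
  -- `f(h)` kills `ker f(g)`
  have hfh : ∀ x, aeval g f x = 0 → aeval h f x = 0 := by
    intro x hx
    obtain ⟨s, hs⟩ := hdvd
    rw [S.aeval_h, hs, aeval_mul_apply', hx, map_zero]
  -- polarisation
  have hpol : ∀ x ∈ W, ∀ y ∈ W, aeval g f x = 0 → aeval g f y = 0 → ω (g x - h x) y = 0 := by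
    intro x hx y hy hfx hfy
    have h1 := hall (x + y) (W.add_mem hx hy) (by rw [map_add, hfx, hfy, add_zero]) (X : F[X])
    have h2 := hall x hx hfx (X : F[X])
    have h3 := hall y hy hfy (X : F[X])
    simp only [aeval_X, map_add, LinearMap.add_apply] at h1 h2 h3
    rw [h2, h3, zero_add, add_zero] at h1
    -- h1 : ω (g x) y + ω (g y) x = 0
    rw [map_sub, LinearMap.sub_apply, S.adj', S.skew x (g y)]
    linear_combination h1
  have hgh : g u₀ - h u₀ = 0 := by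
    apply hW _ (W.sub_mem (hWg _ hu₀W) (hWh _ hu₀W))
    intro w hw
    obtain ⟨A, B, hAB⟩ := S.split hf
    rw [(hAB w).2, map_add,
      hpol u₀ hu₀W _ (aeval_mem hWg A hw) hfu₀ (hAB w).1, zero_add, S.adjP', map_sub]
    have e1 : aeval h f (g u₀) = 0 := by
      have : g u₀ = aeval h ((X : F[X]) ^ (m - 1)) u₀ := by rw [aeval_X_pow, ← S.symm.h_eq]
      rw [this, ← aeval_mul_apply, mul_comm, aeval_mul_apply, hfh _ hfu₀, map_zero]
    have e2 : aeval h f (h u₀) = 0 := by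
      have : h u₀ = aeval h (X : F[X]) u₀ := by rw [aeval_X]
      rw [this, ← aeval_mul_apply, mul_comm, aeval_mul_apply, hfh _ hfu₀, map_zero]
    rw [e1, e2, sub_zero, map_zero, LinearMap.zero_apply]
  have hsq : aeval g (X ^ 2 - C (1 : F)) u₀ = 0 := by
    rw [map_sub, aeval_X_pow, aeval_C, map_one, LinearMap.sub_apply, Module.End.one_apply, pow_two,
      Module.End.mul_apply]
    have : g u₀ = h u₀ := sub_eq_zero.mp hgh
    rw [this, S.g_h_apply, sub_self]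
  exact not_dvd_sq_sub_one hf hdeg (ann_dvd hf hu₀ hfu₀ hsq)

end Setup

section sigma

variable {f : F[X]} [Fact (Irreducible f)] {m : ℕ}

theorem root_pow_eq_one (hm1 : f ∣ X ^ m - C (1 : F)) : AdjoinRoot.root f ^ m = 1 := by
  have h1 : AdjoinRoot.mk f (X ^ m - C (1 : F)) = 0 := AdjoinRoot.mk_eq_zero.mpr hm1
  rw [map_sub, map_pow, AdjoinRoot.mk_X, map_one, map_one] at h1
  exact sub_eq_zero.mp h1

theorem mk_comp (P Q : F[X]) :
    AdjoinRoot.mk f (P.comp Q) = aeval (AdjoinRoot.mk f Q) P := by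
  rw [← AdjoinRoot.aeval_eq, aeval_comp, AdjoinRoot.aeval_eq]

/-- the inversion involution of `F[X]/(f)` -/
theorem exists_sigma (hm : 0 < m) (hm1 : f ∣ X ^ m - C (1 : F))
    (hdvd : f ∣ f.comp (X ^ (m - 1))) :
    ∃ σ : AdjoinRoot f ≃ₐ[F] AdjoinRoot f, (∀ x, σ (σ x) = x) ∧
      ∀ P : F[X], σ (AdjoinRoot.mk f P) = AdjoinRoot.mk f (P.comp (X ^ (m - 1))) := by
  have hrm : (AdjoinRoot.root f) ^ m = 1 := root_pow_eq_one hm1
  have h0 : f.eval₂ (Algebra.ofId F (AdjoinRoot f) : F →+* AdjoinRoot f) ((AdjoinRoot.root f) ^ (m - 1)) = 0 := by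
    have e : f.eval₂ (Algebra.ofId F (AdjoinRoot f) : F →+* AdjoinRoot f) ((AdjoinRoot.root f) ^ (m - 1))
        = aeval ((AdjoinRoot.root f) ^ (m - 1)) f := rfl
    rw [e, ← AdjoinRoot.mk_X, ← map_pow, ← mk_comp]
    exact AdjoinRoot.mk_eq_zero.mpr hdvd
  let σ₀ : AdjoinRoot f →ₐ[F] AdjoinRoot f :=
    AdjoinRoot.liftAlgHom f (Algebra.ofId F (AdjoinRoot f)) ((AdjoinRoot.root f) ^ (m - 1)) h0
  have hσ₀ : ∀ P : F[X], σ₀ (AdjoinRoot.mk f P) = AdjoinRoot.mk f (P.comp (X ^ (m - 1))) := by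
    intro P
    rw [mk_comp, map_pow, AdjoinRoot.mk_X]
    rfl
  have hrk : (AdjoinRoot.root f) ^ ((m - 1) * (m - 1)) = (AdjoinRoot.root f) := by
    have h1 : (AdjoinRoot.root f) ^ (m - 1) * (AdjoinRoot.root f) = 1 := by
      rw [← pow_succ, Nat.sub_add_cancel hm, hrm]
    have h2 : (AdjoinRoot.root f) ^ ((m - 1) * (m - 1)) * (AdjoinRoot.root f) ^ (m - 1) = 1 := by
      rw [← pow_add, ← Nat.mul_succ, Nat.succ_eq_add_one, Nat.sub_add_cancel hm, mul_comm,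
        pow_mul, hrm, one_pow]
    calc (AdjoinRoot.root f) ^ ((m - 1) * (m - 1)) = (AdjoinRoot.root f) ^ ((m - 1) * (m - 1)) * ((AdjoinRoot.root f) ^ (m - 1) * (AdjoinRoot.root f)) := by
          rw [h1, mul_one]
      _ = (AdjoinRoot.root f) := by rw [← mul_assoc, h2, one_mul]
  have hσ2 : ∀ x, σ₀ (σ₀ x) = x := by
    intro x
    obtain ⟨P, rfl⟩ := AdjoinRoot.mk_surjective x
    rw [hσ₀, hσ₀, Polynomial.comp_assoc, X_pow_comp, ← pow_mul, mk_comp, map_pow, AdjoinRoot.mk_X,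
      hrk, AdjoinRoot.aeval_eq]
  refine ⟨AlgEquiv.ofAlgHom σ₀ σ₀ (AlgHom.ext hσ2) (AlgHom.ext hσ2), hσ2, hσ₀⟩

end sigma

namespace Setup

variable {ω : LinearMap.BilinForm F V} {g h : Module.End F V} {m : ℕ}

/-- the norm functional of a vector killed by `f(g)` -/
theorem cyc_functional (g : Module.End F V) (ω : LinearMap.BilinForm F V) {f : F[X]} {u : V}
    (hfu : aeval g f u = 0) :
    ∃ Λ : AdjoinRoot f →ₗ[F] F, ∀ P : F[X], Λ (AdjoinRoot.mk f P) = ω (aeval g P u) u := by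
  obtain ⟨ι, hι⟩ := factor_exists (AdjoinRoot.mkₐ f).toLinearMap (evl g u) (by
    intro P hP
    rw [LinearMap.mem_ker] at hP ⊢
    have hP' : AdjoinRoot.mk f P = 0 := hP
    obtain ⟨c, rfl⟩ := AdjoinRoot.mk_eq_zero.mp hP'
    rw [evl_apply, aeval_mul_apply', hfu, map_zero])
  refine ⟨(ω.flip u).comp ι, fun P => ?_⟩
  have := hι P
  rw [evl_apply] at this
  have e : (AdjoinRoot.mkₐ f).toLinearMap P = AdjoinRoot.mk f P := rfl
  rw [e] at this
  rw [LinearMap.comp_apply, this]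
  rfl

theorem cyc_block [Finite F] {ω' : LinearMap.BilinForm F V'} {g' h' : Module.End F V'}
    (S : Setup ω g h m) (S' : Setup ω' g' h' m) {f : F[X]} (hf : Irreducible f)
    (hdvd : f ∣ f.comp (X ^ (m - 1))) (hdeg : 2 ≤ f.natDegree)
    {W : Submodule F V} {W' : Submodule F V'} (hW : NDeg ω W) (hW' : NDeg ω' W')
    (hWg : ∀ x ∈ W, g x ∈ W) (hWh : ∀ x ∈ W, h x ∈ W)
    (hWg' : ∀ x ∈ W', g' x ∈ W') (hWh' : ∀ x ∈ W', h' x ∈ W')
    {u₀ : V} (hu₀W : u₀ ∈ W) (hu₀ : u₀ ≠ 0) (hfu₀ : aeval g f u₀ = 0)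
    {u₀' : V'} (hu₀W' : u₀' ∈ W') (hu₀' : u₀' ≠ 0) (hfu₀' : aeval g' f u₀' = 0) :
    ∃ (H : Submodule F V) (H' : Submodule F V') (φ : V →ₗ[F] V'),
      (∃ x ∈ H, x ≠ 0) ∧ H ≤ W ∧ H' ≤ W' ∧ (∀ x ∈ H, g x ∈ H) ∧ (∀ x ∈ H, h x ∈ H) ∧
      (∀ x ∈ H', g' x ∈ H') ∧ (∀ x ∈ H', h' x ∈ H') ∧ NDeg ω H ∧ Block ω ω' g g' H H' φ := by
  have : Fact (Irreducible f) := ⟨hf⟩
  obtain ⟨u, huW, hfu, P₀, hP₀⟩ := S.exists_aniso hf hdvd hdeg hW hWg hWh hu₀W hu₀ hfu₀
  obtain ⟨u', huW', hfu', P₀', hP₀'⟩ :=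
    S'.exists_aniso hf hdvd hdeg hW' hWg' hWh' hu₀W' hu₀' hfu₀'
  have hu : u ≠ 0 := by
    rintro rfl
    apply hP₀
    simp
  have hm1 : f ∣ X ^ m - C (1 : F) := by
    apply ann_dvd hf hu hfu
    rw [map_sub, aeval_X_pow, aeval_C, S.gm, map_one, sub_self, LinearMap.zero_apply]
  -- the field and its involution
  have : Module.Finite F (AdjoinRoot f) := (AdjoinRoot.powerBasis hf.ne_zero).finite
  have : Finite (AdjoinRoot f) := Module.finite_of_finite F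
  obtain ⟨σ, hσ2, hσ⟩ := exists_sigma (f := f) S.m_pos hm1 hdvd
  have hσne : ∃ x, σ x ≠ x := by
    refine ⟨AdjoinRoot.mk f X, ?_⟩
    rw [hσ, X_comp]
    intro heq
    rw [AdjoinRoot.mk_eq_mk] at heq
    apply not_dvd_sq_sub_one hf hdeg
    have e : (X ^ 2 - C (1 : F) : F[X]) = (X ^ m - C 1) - X * (X ^ (m - 1) - X) := by
      have : (X : F[X]) ^ m = X * X ^ (m - 1) := by
        rw [← pow_succ', Nat.sub_add_cancel S.m_pos]
      rw [this]; ring
    rw [e]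
    exact dvd_sub hm1 (Dvd.dvd.mul_left heq X)
  -- the norm functionals
  obtain ⟨Λ, hΛ⟩ := cyc_functional g ω hfu
  obtain ⟨Λ', hΛ'⟩ := cyc_functional g' ω' hfu'
  have tw : ∀ (P Q : F[X]) (x y : V), ω (aeval g P x) (aeval g Q y) =
      ω (aeval g (Q.comp (X ^ (m - 1)) * P) x) y := by
    intro P Q x y
    rw [S.adjP', aeval_mul_apply, ← S.aeval_h]
  have tw' : ∀ (P Q : F[X]) (x y : V'), ω' (aeval g' P x) (aeval g' Q y) =
      ω' (aeval g' (Q.comp (X ^ (m - 1)) * P) x) y := by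
    intro P Q x y
    rw [S'.adjP', aeval_mul_apply, ← S'.aeval_h]
  have hN : ∀ a, Λ (a * σ a) = 0 := by
    intro a
    obtain ⟨P, rfl⟩ := AdjoinRoot.mk_surjective a
    rw [hσ, ← map_mul, hΛ, mul_comm, ← tw, S.alt]
  have hN' : ∀ a, Λ' (a * σ a) = 0 := by
    intro a
    obtain ⟨P, rfl⟩ := AdjoinRoot.mk_surjective a
    rw [hσ, ← map_mul, hΛ', mul_comm, ← tw', S'.alt]
  have hΛ0 : Λ ≠ 0 := by
    intro h0
    apply hP₀
    rw [← hΛ, h0, LinearMap.zero_apply]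
  have hΛ0' : Λ' ≠ 0 := by
    intro h0
    apply hP₀'
    rw [← hΛ', h0, LinearMap.zero_apply]
  obtain ⟨c, hc0, hc⟩ := normform σ hσ2 hσne Λ Λ' hΛ0 hΛ0' hN hN'
  obtain ⟨c₀, rfl⟩ := AdjoinRoot.mk_surjective c
  set ũ : V' := aeval g' c₀ u' with hũ
  have hfũ : aeval g' f ũ = 0 := by
    rw [hũ, ← aeval_mul_apply, mul_comm, aeval_mul_apply, hfu', map_zero]
  have hũW : ũ ∈ W' := aeval_mem hWg' c₀ huW'
  have key : ∀ P : F[X], ω' (aeval g' P ũ) ũ = ω (aeval g P u) u := by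
    intro P
    rw [hũ, ← aeval_mul_apply]
    have e1 : ω' (aeval g' (P * c₀) u') (aeval g' c₀ u') =
        ω' (aeval g' (c₀.comp (X ^ (m - 1)) * (P * c₀)) u') u' := by
      have := tw' (P * c₀) c₀ u' u'
      exact this
    rw [e1, ← hΛ', ← hΛ, ← hc]
    congr 1
    rw [hσ, ← map_mul, ← map_mul]
    congr 1
    ring
  -- the map
  obtain ⟨φ, hφ⟩ := factor_exists (evl g u) (evl g' ũ) (by
    intro P hP
    rw [LinearMap.mem_ker, evl_apply] at hP ⊢
    obtain ⟨d, rfl⟩ := ann_dvd hf hu hfu hP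
    rw [aeval_mul_apply', hfũ, map_zero])
  have hφ' : ∀ P : F[X], φ (aeval g P u) = aeval g' P ũ := hφ
  have hform : ∀ P Q : F[X], ω' (aeval g' P ũ) (aeval g' Q ũ) = ω (aeval g P u) (aeval g Q u) := by
    intro P Q
    rw [tw, tw', key]
  have hH : ∀ (k : Module.End F V) (u : V), k = g ∨ k = h →
      ∀ x ∈ LinearMap.range (evl g u), k x ∈ LinearMap.range (evl g u) := by
    rintro k u (rfl | rfl) _ ⟨P, rfl⟩
    · exact ⟨X * P, by rw [evl_apply, evl_apply, g_aeval]⟩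
    · refine ⟨X ^ (m - 1) * P, ?_⟩
      rw [evl_apply, evl_apply, aeval_mul_apply, aeval_X_pow, ← S.h_eq]
  have hH' : ∀ (k : Module.End F V') (u : V'), k = g' ∨ k = h' →
      ∀ x ∈ LinearMap.range (evl g' u), k x ∈ LinearMap.range (evl g' u) := by
    rintro k u (rfl | rfl) _ ⟨P, rfl⟩
    · exact ⟨X * P, by rw [evl_apply, evl_apply, g_aeval]⟩
    · refine ⟨X ^ (m - 1) * P, ?_⟩
      rw [evl_apply, evl_apply, aeval_mul_apply, aeval_X_pow, ← S'.h_eq]
  refine ⟨LinearMap.range (evl g u), LinearMap.range (evl g' ũ), φ,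
    ⟨u, ⟨1, by simp⟩, hu⟩, ?_, ?_, hH g u (Or.inl rfl), hH h u (Or.inr rfl),
    hH' g' ũ (Or.inl rfl), hH' h' ũ (Or.inr rfl), ?_, ?_⟩
  · rintro _ ⟨P, rfl⟩
    exact aeval_mem hWg P huW
  · rintro _ ⟨P, rfl⟩
    exact aeval_mem hWg' P hũW
  · -- nondegeneracy
    rintro _ ⟨P, rfl⟩ hx
    rw [evl_apply] at hx ⊢
    by_contra hne
    let L : Submodule F V :=
      { carrier := {y | ∀ Q : F[X], ω y (aeval g Q u) = 0}
        add_mem' := fun {a b} ha hb Q => by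
          show ω (a + b) (aeval g Q u) = 0
          rw [map_add, LinearMap.add_apply, ha Q, hb Q, add_zero]
        zero_mem' := fun Q => by
          show ω 0 (aeval g Q u) = 0
          rw [map_zero, LinearMap.zero_apply]
        smul_mem' := fun c a ha Q => by
          show ω (c • a) (aeval g Q u) = 0
          rw [map_smul, LinearMap.smul_apply, ha Q, smul_zero] }
    have hLg : ∀ y ∈ L, g y ∈ L := fun y hy Q => by
      show ω (g y) (aeval g Q u) = 0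
      rw [S.adj]
      have : h (aeval g Q u) = aeval g (X ^ (m - 1) * Q) u := by
        rw [aeval_mul_apply, aeval_X_pow, ← S.h_eq]
      rw [this]
      exact hy _
    have huL : u ∈ L := cyc_irr hf hfu hLg (P := P)
      (fun Q => hx _ ⟨Q, rfl⟩) hne
    apply hP₀
    rw [S.skew]
    rw [huL P₀, neg_zero]
  · refine ⟨?_, ?_, ?_, ?_⟩
    · rintro _ ⟨P, rfl⟩
      exact ⟨P, (hφ P).symm⟩
    · rintro _ ⟨P, rfl⟩
      exact ⟨_, ⟨P, rfl⟩, hφ P⟩
    · rintro _ ⟨P, rfl⟩ _ ⟨Q, rfl⟩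
      rw [hφ, hφ, evl_apply, evl_apply, evl_apply, evl_apply, hform]
    · rintro _ ⟨P, rfl⟩
      rw [evl_apply, g_aeval, hφ', hφ', g_aeval]

end Setup

end Cfsg.Agent.Lib.Helper14.SpSemi
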