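import Mathlib
import Cfsg.Agent.Lib.Helper8.ChevPar7
import Cfsg.Agent.Lib.Helper8.ChevSyl1
import Cfsg.Agent.Lib.Helper8.ChevOrdH2
import Cfsg.Agent.Lib.Helper14.BNSt12

/-!
# The split data of the `(B, N)`-pair of a Chevalley group
-/

set_option autoImplicit false
set_option linter.unusedSectionVars false

namespace Cfsg.Agent.Lib.Helper14.StCount

open Cfsg.Lie Matrix Cfsg.Agent.Lib.Helper8.Chev
open Cfsg.Agent.Lib.Helper3 Cfsg.Agent.Lib.Helper8.Weyl Cfsg.Agent.Lib.Helper8.BNCox
open Cfsg.Agent.Lib.Helper14.BNSt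

variable {D : ChevalleyDatum} {F : Type*} [Field F]

/-- the split data of the `(B, N)`-pair of a Chevalley group -/
theorem chev_split_data [Fintype F] (p : ℕ) [Fact p.Prime] [CharP F p]
    (hD : D ∈ [chevG2, chevB2, chevD4, chevF4, chevE6, chevE7, chevE8]) :
    (D.posUnipotent F).subgroupOf (D.group F) ≤ (chevBN hD F).B ∧
    (∀ b ∈ (chevBN hD F).B, ∀ u ∈ (D.posUnipotent F).subgroupOf (D.group F),
      b⁻¹ * u * b ∈ (D.posUnipotent F).subgroupOf (D.group F)) ∧
    (∀ b ∈ (chevBN hD F).B, ∃ u ∈ (D.posUnipotent F).subgroupOf (D.group F),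
      ∃ t ∈ (chevBN hD F).B ⊓ (chevBN hD F).N, b = u * t) ∧
    IsPGroup p ↥((D.posUnipotent F).subgroupOf (D.group F)) ∧
    ¬ p ∣ ((D.posUnipotent F).subgroupOf (D.group F)).index ∧
    Nat.card ↥((D.posUnipotent F).subgroupOf (D.group F)) = Fintype.card F ^ (D.nroots / 2) := by
  classical
  have hp : p.Prime := Fact.out
  have V := valid0_of_mem hD
  have V1 := valid1_of_mem hD
  have J := validJ_of_mem hD
  have H := validH_of_mem hD
  have hcard : Nat.card ↥((D.posUnipotent F).subgroupOf (D.group F)) =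
      Fintype.card F ^ (D.nroots / 2) := by
    rw [← card_posUnipotent (F := F) hD]
    exact Nat.card_congr (Subgroup.subgroupOfEquivOfLe pos_le_group).toEquiv
  obtain ⟨n, hn⟩ := FiniteField.card F p
  have hpq : p ∣ Fintype.card F := by
    rw [hn.2]
    exact dvd_pow_self p n.pos.ne'
  refine ⟨?_, ?_, ?_, ?_, ?_, hcard⟩
  · intro x hx
    rw [Subgroup.mem_subgroupOf] at hx
    exact (mem_chevBN_B hD).2 (pos_le_borel hx)
  · intro b hb u hu
    rw [Subgroup.mem_subgroupOf] at hu ⊢
    have hb' := (mem_chevBN_B hD).1 hb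
    have hnorm := borel_le_normalizer_pos J V1 H (inv_mem hb')
    have := (Subgroup.mem_normalizer_iff.1 hnorm (u : GL D.Idx F)).1 hu
    simpa using this
  · intro b hb
    have hb' := (mem_chevBN_B hD).1 hb
    obtain ⟨u, hu, h, hh, e⟩ := borel_decomp J V1 H hb'
    refine ⟨⟨u, pos_le_group hu⟩, Subgroup.mem_subgroupOf.mpr hu,
      ⟨h, diagonal_le_group V V1 hh⟩, ⟨?_, ?_⟩, ?_⟩
    · exact (mem_chevBN_B hD).2 (diagonal_le_borel hh)
    · exact (mem_chevBN_N hD).2 (diagonal_le_monomial hh)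
    · apply Subtype.ext
      exact e
  · apply IsPGroup.of_card (n := (n : ℕ) * (D.nroots / 2))
    rw [hcard, hn.2, pow_mul]
  · -- the index
    intro hdvd
    have hmul := Subgroup.card_mul_index ((D.posUnipotent F).subgroupOf (D.group F))
    rw [hcard, card_group_bruhat hD, mul_assoc] at hmul
    have hqpos : 0 < Fintype.card F ^ (D.nroots / 2) := pow_pos Fintype.card_pos _
    have hidx := Nat.eq_of_mul_eq_mul_left hqpos hmul
    rw [hidx] at hdvd
    rcases (Nat.Prime.dvd_mul hp).mp hdvd with h | h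
    · have h1 : Nat.card ↥(D.diagonalSubgroup F) ∣ Nat.card (Fin D.rank → Fˣ) := by
        rw [diagonal_eq_range J V1 H]
        exact Subgroup.card_range_dvd _
      have h2 : Nat.card (Fin D.rank → Fˣ) = (Fintype.card F - 1) ^ D.rank := by
        rw [Nat.card_fun, Nat.card_fin, Nat.card_units, Nat.card_eq_fintype_card]
      rw [h2] at h1
      have h3 : p ∣ Fintype.card F - 1 := hp.dvd_of_dvd_pow (h.trans h1)
      have h4 : p ∣ 1 := by
        have := (Nat.dvd_sub_iff_right Fintype.card_pos hpq).mp h3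
        exact this
      exact hp.one_lt.ne' (Nat.dvd_one.mp h4)
    · have := poincare_sum_mod hD (Fintype.card F) p hpq
      rw [Nat.mod_eq_zero_of_dvd h, Nat.mod_eq_of_lt hp.one_lt] at this
      exact absurd this (by norm_num)

end Cfsg.Agent.Lib.Helper14.StCount
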