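import Mathlib
import Cfsg.Agent.Lib.Helper14.BNChar3
import Cfsg.Agent.Lib.Helper22.S2314FOF
import Cfsg.Agent.Lib.Helper22.S2314FOH
import Cfsg.Agent.Lib.Helper6.S2314FOA
import Cfsg.Agent.Lib.Helper16.S2314FOB

/-!
# Steinberg's count of `p`-elements in a finite group with a split `(B, N)`-pair
-/

set_option autoImplicit false
set_option linter.unusedSectionVars false

namespace Cfsg.Agent.Lib.Helper14.StCount

open Cfsg.Agent.Lib.Helper3 Cfsg.Agent.Lib.Helper8.Weyl Cfsg.Agent.Lib.Helper8.BNCox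
open Cfsg.Agent.Lib.Helper14.BNSt Cfsg.Agent.Lib.Helper14.BNChar
open Cfsg.Agent.Lib.Helper6.S2314FOA

/-- the number of elements of `p`-power order of a subgroup -/
noncomputable def npe {Γ : Type*} [Group Γ] (p : ℕ) (H : Subgroup Γ) : ℕ :=
  Nat.card {g : Γ // g ∈ H ∧ ∃ k : ℕ, orderOf g = p ^ k}

section general

variable {Γ : Type*} [Group Γ]

/-- the number of `p`-elements of a subgroup, computed inside an overgroup -/
theorem npe_subgroupOf (p : ℕ) {H M : Subgroup Γ} (hHM : H ≤ M) :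
    npe p (H.subgroupOf M) = npe p H := by
  unfold npe
  apply Nat.card_congr
  refine ⟨fun g => ⟨((g : ↥M) : Γ), ?_, ?_⟩, fun g => ⟨⟨(g : Γ), hHM g.2.1⟩, ?_, ?_⟩, ?_, ?_⟩
  · exact Subgroup.mem_subgroupOf.mp g.2.1
  · obtain ⟨k, hk⟩ := g.2.2
    exact ⟨k, by rw [Subgroup.orderOf_coe]; exact hk⟩
  · exact Subgroup.mem_subgroupOf.mpr g.2.1
  · obtain ⟨k, hk⟩ := g.2.2
    exact ⟨k, by rw [← Subgroup.orderOf_coe]; exact hk⟩
  · intro g; rfl
  · intro g; rfl

theorem npe_top (p : ℕ) : npe p (⊤ : Subgroup Γ) = Nat.card {g : Γ // ∃ k : ℕ, orderOf g = p ^ k} := by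
  unfold npe
  apply Nat.card_congr
  exact Equiv.subtypeEquivRight (fun g => by simp)

end general

section main

variable {G : Type*} [Group G] [Fintype G] (P : Cfsg.BNPair G)
variable (p : ℕ) [hp : Fact p.Prime] (U : Subgroup G)
  (hUB : U ≤ P.B)
  (hUn : ∀ b ∈ P.B, ∀ u ∈ U, b⁻¹ * u * b ∈ U)
  (hUT : ∀ b ∈ P.B, ∃ u ∈ U, ∃ t ∈ P.B ⊓ P.N, b = u * t)
  (hUp : IsPGroup p U) (hidx : ¬ p ∣ U.index)

include hUB hUn hUT hUp hidx in
open Classical in
/-- the key identity inside the `(B, N)`-pair of a parabolic subgroup -/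
theorem sub_identity (J : Set P.S) (V : Subgroup G) (n : G) (hnN : n ∈ P.N) (hnM : n ∈ par P J)
    (hVU : V ≤ U) (hVn : ∀ g ∈ par P J, ∀ v ∈ V, g * v * g⁻¹ ∈ V)
    (hcrit : ∀ s ∈ J, ∃ a ∈ P.B, (s : G) * (a * n) ∈ BN.C P n)
    (hb : ∀ u ∈ U, n⁻¹ * u * n ∈ P.B → u ∈ V) :
    ∑ K ∈ (Finset.univ : Finset (subBN P (par P J) (B_le_par P J)).S).powerset,
      (-1 : ℂ) ^ K.card *
        (((par (subBN P (par P J) (B_le_par P J)) (↑K : Set _)).index : ℂ) *
        (npe p (par (subBN P (par P J) (B_le_par P J)) (↑K : Set _)) : ℂ)) = (Nat.card U : ℂ) := by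
  set M := par P J with hM
  have hBM : P.B ≤ M := B_le_par P J
  set Q := subBN P M hBM with hQ
  have hUM : U ≤ M := hUB.trans hBM
  let n0 : Q.N := ⟨⟨n, hnM⟩, Subgroup.mem_subgroupOf.mpr hnN⟩
  have key := Cfsg.Agent.Lib.Helper16.S2314B.sum_stBN_pElements Q p (U.subgroupOf M) (V.subgroupOf M) n0
    (by
      intro x hx
      exact Subgroup.mem_subgroupOf.mpr (hUB (Subgroup.mem_subgroupOf.mp hx)))
    (by
      intro b hb' u hu
      rw [Subgroup.mem_subgroupOf] at hu ⊢
      have := hUn _ (Subgroup.mem_subgroupOf.mp hb') _ hu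
      simpa using this)
    (by
      intro b hb'
      obtain ⟨u, hu, t, ht, e⟩ := hUT _ (Subgroup.mem_subgroupOf.mp hb')
      refine ⟨⟨u, hUM hu⟩, Subgroup.mem_subgroupOf.mpr hu, ⟨t, hBM ht.1⟩, ?_, ?_⟩
      · exact ⟨Subgroup.mem_subgroupOf.mpr ht.1, Subgroup.mem_subgroupOf.mpr ht.2⟩
      · apply Subtype.ext
        exact e)
    (by
      have : IsPGroup p ↥(U.subgroupOf M) :=
        IsPGroup.of_injective hUp ((Subgroup.subgroupOfEquivOfLe hUM).toMonoidHom)
          (Subgroup.subgroupOfEquivOfLe hUM).injective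
      exact this)
    (by
      intro hdvd
      apply hidx
      exact hdvd.trans (Subgroup.relIndex_dvd_index_of_le hUM))
    (by
      intro x hx
      exact Subgroup.mem_subgroupOf.mpr (hVU (Subgroup.mem_subgroupOf.mp hx)))
    (by
      intro g v hv
      rw [Subgroup.mem_subgroupOf] at hv ⊢
      have := hVn _ g.2 _ hv
      simpa using this)
    (by
      intro s hs
      have hsS : (s : G) ∈ P.S := hs
      have hsJ : (⟨(s : G), hsS⟩ : P.S) ∈ J := by
        have := range_embS P J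
        have h1 : (⟨(s : G), hsS⟩ : P.S) ∈ Set.range (embS P (par P J) (B_le_par P J)) :=
          ⟨⟨s, hs⟩, rfl⟩
        rwa [this] at h1
      obtain ⟨a, ha, hmem⟩ := hcrit _ hsJ
      refine ⟨⟨a, hBM ha⟩, Subgroup.mem_subgroupOf.mpr ha, ?_⟩
      rw [mem_C_subBN]
      exact hmem)
    (by
      intro u hu hmem
      rw [Subgroup.mem_subgroupOf] at hu ⊢
      apply hb _ hu
      have := Subgroup.mem_subgroupOf.mp hmem
      simpa using this)
  have hcard : Nat.card ↥(U.subgroupOf M) = Nat.card ↥U :=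
    Nat.card_congr (Subgroup.subgroupOfEquivOfLe hUM).toEquiv
  rw [hcard] at key
  rw [← key]
  unfold stBN
  rw [Finset.sum_comm]
  apply Finset.sum_congr rfl
  intro K _
  rw [← Finset.mul_sum, Cfsg.Agent.Lib.Helper22.S2314.sum_fpc_pElements]
  rfl

theorem par_mono {J K : Set P.S} (h : K ⊆ J) : par P K ≤ par P J := by
  unfold par Cfsg.BNPair.parabolic
  exact sup_le_sup_left (Subgroup.closure_mono (Set.image_mono h)) _

variable [Fintype P.S]

include hUB hUn hUT hUp hidx in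
open Classical in
/-- the key identity in terms of the parabolic subgroups of `G` -/
theorem key_identity (J : Finset P.S) (V : Subgroup G) (n : G) (hnN : n ∈ P.N)
    (hnM : n ∈ par P (↑J : Set P.S))
    (hVU : V ≤ U) (hVn : ∀ g ∈ par P (↑J : Set P.S), ∀ v ∈ V, g * v * g⁻¹ ∈ V)
    (hcrit : ∀ s ∈ J, ∃ a ∈ P.B, (s : G) * (a * n) ∈ BN.C P n)
    (hb : ∀ u ∈ U, n⁻¹ * u * n ∈ P.B → u ∈ V) :
    ∑ K ∈ J.powerset, (-1 : ℤ) ^ K.card *
      ((par P (↑K : Set P.S)).relIndex (par P (↑J : Set P.S)) : ℤ) *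
        (npe p (par P (↑K : Set P.S)) : ℤ) = (Nat.card U : ℤ) := by
  have h := sub_identity P p U hUB hUn hUT hUp hidx (↑J : Set P.S) V n hnN hnM hVU hVn
    (fun s hs => hcrit s (Finset.mem_coe.mp hs)) hb
  set M := par P (↑J : Set P.S) with hM
  have hBM : P.B ≤ M := B_le_par P _
  set Q := subBN P M hBM with hQ
  set emb := embS P M hBM with hemb
  have hinj : Function.Injective emb := by
    intro x y hxy
    have : (x : ↥M) = (y : ↥M) := by
      apply Subtype.ext
      exact congrArg (fun z : P.S => (z : G)) hxy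
    exact Subtype.ext this
  have hJ : J = (Finset.univ : Finset Q.S).image emb := by
    apply Finset.coe_injective
    rw [Finset.coe_image, Finset.coe_univ, Set.image_univ]
    exact (range_embS P (↑J : Set P.S)).symm
  have hcast : ((∑ K ∈ J.powerset, (-1 : ℤ) ^ K.card *
      ((par P (↑K : Set P.S)).relIndex M : ℤ) * (npe p (par P (↑K : Set P.S)) : ℤ) : ℤ) : ℂ) =
      ((Nat.card U : ℤ) : ℂ) := by
    rw [Int.cast_natCast, ← h]
    push_cast
    conv_lhs => rw [hJ, Finset.powerset_image]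
    rw [Finset.sum_image]
    · apply Finset.sum_congr rfl
      intro K _
      rw [Finset.card_image_of_injective _ hinj, par_subBN, Finset.coe_image, mul_assoc]
      congr 2
      rw [npe_subgroupOf]
      apply par_mono
      rw [← Finset.coe_image, ← hemb]
      apply Finset.coe_subset.mpr
      rw [hJ]
      exact Finset.image_subset_image (Finset.subset_univ _)
    · intro K1 _ K2 _ h12
      exact Finset.image_injective hinj h12
  exact_mod_cast hcast

include hUB hUn hUT hUp hidx in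
open Classical in
/-- **Steinberg's count.**  In a finite group with a split `(B, N)`-pair of characteristic `p` in which
every standard parabolic subgroup has a Levi decomposition, the number of `p`-elements is `|U|²`. -/
theorem card_pElements
    (hlevi : ∀ J : Set P.S, ∃ (V : Subgroup G) (n : G), n ∈ P.N ∧ n ∈ par P J ∧ V ≤ U ∧
      (∀ g ∈ par P J, ∀ v ∈ V, g * v * g⁻¹ ∈ V) ∧
      (∀ s ∈ J, ∃ a ∈ P.B, (s : G) * (a * n) ∈ BN.C P n) ∧
      (∀ u ∈ U, n⁻¹ * u * n ∈ P.B → u ∈ V))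
    (htop : ∃ n0 : P.N, (∀ s ∈ P.S, ∃ a ∈ P.B, s * (a * (n0 : G)) ∈ BN.C P (n0 : G)) ∧
      ∀ u ∈ U, (n0 : G)⁻¹ * u * (n0 : G) ∈ P.B → u = 1) :
    Nat.card {g : G // ∃ k : ℕ, orderOf g = p ^ k} = Nat.card U ^ 2 := by
  have hN := tNormal P
  set idx : Finset P.S → Finset P.S → ℤ :=
    fun J K => ((par P (↑K : Set P.S)).relIndex (par P (↑J : Set P.S)) : ℤ) with hidxdef
  set a : Finset P.S → ℤ := fun K => (npe p (par P (↑K : Set P.S)) : ℤ) with hadef
  have h1 : ∀ J, idx J J = 1 := by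
    intro J
    simp only [hidxdef, Subgroup.relIndex_self, Nat.cast_one]
  have h2 : ∀ J K L : Finset P.S, L ⊆ K → K ⊆ J → idx J K * idx K L = idx J L := by
    intro J K L hLK hKJ
    simp only [hidxdef]
    rw [mul_comm, ← Nat.cast_mul,
      Subgroup.relIndex_mul_relIndex _ _ _ (par_mono P (Finset.coe_subset.mpr hLK))
        (par_mono P (Finset.coe_subset.mpr hKJ))]
  have h3 : ∀ J : Finset P.S, ∑ K ∈ J.powerset, (-1 : ℤ) ^ K.card * idx J K * a K =
      (Nat.card U : ℤ) := by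
    intro J
    obtain ⟨V, n, hnN, hnM, hVU, hVn, hcrit, hb⟩ := hlevi (↑J : Set P.S)
    exact key_identity P p U hUB hUn hUT hUp hidx J V n hnN hnM hVU hVn
      (fun s hs => hcrit s (Finset.mem_coe.mpr hs)) hb
  have hsol := Cfsg.Agent.Lib.Helper22.S2314.moebius_solve idx a (Nat.card U : ℤ) h1 h2 h3 Finset.univ
  -- the top parabolic subgroup
  have htopar : par P (↑(Finset.univ : Finset P.S) : Set P.S) = ⊤ := by
    unfold par
    rw [Finset.coe_univ, Set.image_univ, Subtype.range_coe]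
    exact BN.parabolic_S P
  -- the degree of the Steinberg character
  obtain ⟨n0, hcrit0, hw0⟩ := htop
  have hn0 := proj_eq_w0_of' P n0 hcrit0
  have hdeg := stBN_one P U n0 hn0 hUB hUT hw0
  have hdeg' : ((∑ K ∈ (Finset.univ : Finset P.S).powerset,
      (-1 : ℤ) ^ K.card * idx Finset.univ K : ℤ) : ℂ) = (Nat.card ↥U : ℂ) := by
    rw [← hdeg]
    unfold stBN
    push_cast
    apply Finset.sum_congr rfl
    intro K _
    rw [fpc_one']
    simp only [hidxdef]
    rw [htopar, Subgroup.relIndex_top_right]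
    rfl
  have hdeg'' : (∑ K ∈ (Finset.univ : Finset P.S).powerset,
      (-1 : ℤ) ^ K.card * idx Finset.univ K : ℤ) = (Nat.card ↥U : ℤ) := by
    exact_mod_cast hdeg'
  rw [hdeg''] at hsol
  simp only [hadef] at hsol
  rw [htopar, npe_top] at hsol
  have : ((Nat.card {g : G // ∃ k : ℕ, orderOf g = p ^ k} : ℕ) : ℤ) = ((Nat.card U ^ 2 : ℕ) : ℤ) := by
    rw [hsol]
    push_cast
    ring
  exact_mod_cast this

end main

end Cfsg.Agent.Lib.Helper14.StCount
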