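import Mathlib
import Cfsg.Agent.Lib.Helper14.StCountMain
import Cfsg.Agent.Lib.Helper14.StCountD
import Cfsg.Agent.Lib.Helper7.S2314FOC

/-!
# Steinberg's count of `p`-elements in the Chevalley groups
-/

set_option autoImplicit false
set_option linter.unusedSectionVars false

namespace Cfsg.Agent.Lib.Helper14.StCount

open Cfsg.Lie Matrix Cfsg.Agent.Lib.Helper8.Chev
open Cfsg.Agent.Lib.Helper3 Cfsg.Agent.Lib.Helper8.Weyl Cfsg.Agent.Lib.Helper8.BNCox
open Cfsg.Agent.Lib.Helper14.BNSt

variable {D : ChevalleyDatum} {F : Type*} [Field F]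

/-- the set of indices of fundamental roots attached to a set of distinguished generators -/
def idxSet (hD : D ∈ [chevG2, chevB2, chevD4, chevF4, chevE6, chevE7, chevE8])
    (J : Set (chevBN hD F).S) : Set ℕ :=
  {i | ∃ h : i < D.rank, equivS hD F ⟨i, h⟩ ∈ J}

/-- the standard parabolic subgroups are the parabolic subgroups of the `(B, N)`-pair -/
theorem par_eq (hD : D ∈ [chevG2, chevB2, chevD4, chevF4, chevE6, chevE7, chevE8])
    (J : Set (chevBN hD F).S) :
    par (chevBN hD F) J = (D.parabolicSubgroup F (idxSet hD J)).subgroupOf (D.group F) := by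
  have V := valid0_of_mem hD
  have V1 := valid1_of_mem hD
  have VJ := validJ_of_mem hD
  unfold ChevalleyDatum.parabolicSubgroup par Cfsg.BNPair.parabolic
  have hT : {g : GL D.Idx F | ∃ j ∈ idxSet hD J, j < D.rank ∧
      (g : Matrix D.Idx D.Idx F) = D.nMat F (D.simple j) 1} ⊆ (D.group F : Set (GL D.Idx F)) := by
    rintro g ⟨j, _, hj, hg⟩
    have : g = nG D F j := Units.ext (by rw [hg, coe_nG VJ V1 hj])
    rw [this]
    exact nG_mem_group hD hj
  rw [Subgroup.subgroupOf_sup (borel_le_group V V1) ((Subgroup.closure_le _).2 hT),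
    closure_subgroupOf_eq _ _ hT, chevBN_B]
  congr 2
  ext n
  simp only [Set.mem_setOf_eq, Set.mem_image]
  constructor
  · rintro ⟨s, hs, rfl⟩
    obtain ⟨i, rfl⟩ := (equivS hD F).surjective s
    refine ⟨i.val, ⟨i.2, hs⟩, i.2, ?_⟩
    show (((equivS hD F i : (chevBN hD F).S) : ↥(D.group F)) : GL D.Idx F).val = _
    rw [coe_equivS, coe_sG hD i.2, coe_nG VJ V1 i.2]
  · rintro ⟨j, ⟨hj, hjJ⟩, _, hn⟩
    refine ⟨equivS hD F ⟨j, hj⟩, hjJ, ?_⟩
    rw [coe_equivS]
    apply Subtype.ext
    apply Units.ext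
    rw [coe_sG hD hj, coe_nG VJ V1 hj]
    exact hn.symm

variable [Fintype F]

/-- **Steinberg's count of unipotent elements** in the Chevalley groups -/
theorem chev_card_pElements (p : ℕ) [Fact p.Prime] [CharP F p]
    (hD : D ∈ [chevG2, chevB2, chevD4, chevF4, chevE6, chevE7, chevE8]) :
    Nat.card {g : ↥(D.group F) // ∃ k : ℕ, orderOf g = p ^ k} =
      Fintype.card F ^ (2 * (D.nroots / 2)) := by
  classical
  have V := valid0_of_mem hD
  have V1 := valid1_of_mem hD
  have VJ := validJ_of_mem hD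
  have H := validH_of_mem hD
  have Pp := posP_of_mem hD
  have Tr := triP_of_mem hD
  obtain ⟨hUB, hUn, hUT, hUp, hidx, hcard⟩ := chev_split_data (F := F) p hD
  set U := (D.posUnipotent F).subgroupOf (D.group F) with hU
  have key := card_pElements (chevBN hD F) p U hUB hUn hUT hUp hidx ?_ ?_
  · rw [key, hcard, ← pow_mul, mul_comm]
  · -- the Levi data
    intro J
    obtain ⟨n, hnN, hnP, hdesc, hrad⟩ := Cfsg.Agent.Lib.Helper7.S2314FOC.chev_levi_data (F := F) hD (idxSet hD J)
    have hnG : n ∈ D.group F := monomial_le_group V V1 hnN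
    refine ⟨(D.unipotentRadical F (idxSet hD J)).subgroupOf (D.group F), ⟨n, hnG⟩, ?_, ?_, ?_, ?_, ?_, ?_⟩
    · exact (mem_chevBN_N hD).2 hnN
    · rw [par_eq hD J, Subgroup.mem_subgroupOf]
      exact hnP
    · intro x hx
      rw [Subgroup.mem_subgroupOf] at hx
      rw [hU, Subgroup.mem_subgroupOf]
      revert hx
      apply Subgroup.closure_mono
      rintro g ⟨r, t, hr, -, hg⟩
      exact ⟨r, t, hr, hg⟩
    · intro g hg v hv
      rw [par_eq hD J, Subgroup.mem_subgroupOf] at hg
      rw [Subgroup.mem_subgroupOf] at hv ⊢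
      have hnorm := parabolic_le_normalizer (F := F) hD (idxSet hD J) hg
      have := (Subgroup.mem_normalizer_iff.1 hnorm (v : GL D.Idx F)).1 hv
      simpa using this
    · intro s hs
      obtain ⟨i, rfl⟩ := (equivS hD F).surjective s
      have hiJ : i.val ∈ idxSet hD J := ⟨i.2, hs⟩
      obtain ⟨a, ha, b1, hb1, b2, hb2, e⟩ := hdesc i.val hiJ i.2
      refine ⟨⟨a, borel_le_group V V1 ha⟩, (mem_chevBN_B hD).2 ha, ?_⟩
      rw [BN.mem_C]
      refine ⟨⟨b1, borel_le_group V V1 hb1⟩, (mem_chevBN_B hD).2 hb1,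
        ⟨b2, borel_le_group V V1 hb2⟩, (mem_chevBN_B hD).2 hb2, ?_⟩
      apply Subtype.ext
      show (((equivS hD F i : (chevBN hD F).S) : ↥(D.group F)) : GL D.Idx F) * (a * n) = b1 * n * b2
      rw [coe_equivS, coe_sG hD i.2]
      exact e
    · intro u hu hmem
      rw [hU, Subgroup.mem_subgroupOf] at hu
      rw [Subgroup.mem_subgroupOf]
      apply hrad _ hu
      have := (mem_chevBN_B hD).1 hmem
      simpa using this
  · -- the longest element
    obtain ⟨n0, h1, h2⟩ := chev_w0_data (F := F) hD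
    refine ⟨n0, h1, ?_⟩
    intro u hu hmem
    have huB : u ∈ (chevBN hD F).B := hUB hu
    have hmap : u ∈ (chevBN hD F).B.map (MulAut.conj (n0 : ↥(D.group F))).toMonoidHom := by
      refine ⟨(n0 : ↥(D.group F))⁻¹ * u * (n0 : ↥(D.group F)), hmem, ?_⟩
      show (n0 : ↥(D.group F)) * ((n0 : ↥(D.group F))⁻¹ * u * (n0 : ↥(D.group F))) *
        (n0 : ↥(D.group F))⁻¹ = u
      group
    have hH : u ∈ (D.diagonalSubgroup F).subgroupOf (D.group F) := by
      rw [← h2]
      exact ⟨huB, hmap⟩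
    rw [Subgroup.mem_subgroupOf] at hH
    rw [hU, Subgroup.mem_subgroupOf] at hu
    have hbot : (u : GL D.Idx F) ∈ D.posUnipotent F ⊓ D.diagonalSubgroup F := ⟨hu, hH⟩
    rw [pos_inf_diagonal VJ V1 H Tr Pp, Subgroup.mem_bot] at hbot
    apply Subtype.ext
    exact hbot

end Cfsg.Agent.Lib.Helper14.StCount
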