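import Mathlib
import Cfsg.Agent.Lib.Helper14.StGLDefs
import Cfsg.Agent.Lib.Helper15.UnipSL
import Cfsg.Agent.Lib.Helper2.S2425Q1
import Cfsg.Agent.Lib.Helper2.S2425Q4
import Cfsg.Agent.Lib.Helper12.S2425COMB
import Cfsg.Agent.Lib.Helper15.S2425Q7
import Cfsg.Agent.Lib.Helper10.S2425Q2
import Cfsg.Agent.Lib.Helper8.S2425Q9
import Cfsg.Agent.Lib.Helper8.S2425Q10
import Cfsg.Agent.Lib.Helper29.S2425Q12
import Cfsg.Agent.Lib.Helper29.S2425Q13

/-!
# S2425 (helper14): values of the Steinberg character of `GL_n(q)` at `p'`-elements: assembly.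
Pieces by helper2 (Q1, Q4), helper12 (Q3), helper15 (Q5-Q7), helper10 (Q2, Q8), helper8 (Q9, Q10),
helper29 (Q11-Q13).
-/

set_option autoImplicit false

namespace Cfsg.Agent.Lib.Helper14.StGL

open Cfsg Polynomial
open scoped MatrixGroups

section A1

variable {F : Type*} [Field F] [Fintype F] {n : ℕ}

/-- A1: the Steinberg character is, up to sign, the Möbius number of the lattice of invariant
subspaces. -/
theorem steinberg_eq_muBot (g : GL (Fin n) F)
    [Fintype (Module.End.invtSubmodule (Matrix.toLin' (g : Matrix (Fin n) (Fin n) F)))] :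
    Cfsg.unipotentCharacterGL n F (fun _ => 1) g =
      (-1 : ℂ) ^ n *
        (muBot (Module.End.invtSubmodule (Matrix.toLin' (g : Matrix (Fin n) (Fin n) F))) ⊤ : ℂ) := by
  classical
  have hterm : ∀ κ : Equiv.Perm (Fin n),
      (if ∀ i : Fin n, (κ i).val ≤ (fun _ : Fin n => 1) i + i.val then
        ((Equiv.Perm.sign κ : ℤ) : ℂ) * Cfsg.fixedPointCharacter
          (Cfsg.parabolicGL n F fun i => (fun _ : Fin n => 1) i + i.val - (κ i).val) g else 0) =
      (if ∀ i : Fin n, (κ i).val ≤ 1 + i.val then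
        ((Equiv.Perm.sign κ : ℤ) : ℂ) *
          (fun s : Fin n → ℕ => (flagCount
            (invRank (Matrix.toLin' (g : Matrix (Fin n) (Fin n) F))) s : ℂ))
            (psum fun i => 1 + i.val - (κ i).val) else 0) := by
    intro κ
    by_cases h : ∀ i : Fin n, (κ i).val ≤ 1 + i.val
    · rw [if_pos h, if_pos h]
      have hsum : ∑ i : Fin n, (1 + i.val - (κ i).val) = n := by
        have := Cfsg.Agent.S2424.sum_sub_perm (fun _ : Fin n => 1) κ h
        simpa using this
      rw [Cfsg.Agent.Lib.Helper15.S2425Q7.fpc_parabolicGL _ hsum g]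
    · rw [if_neg h, if_neg h]
  unfold Cfsg.unipotentCharacterGL
  rw [Finset.sum_congr rfl (fun κ _ => hterm κ)]
  rw [Cfsg.Agent.Lib.Helper12.S2425COMB.perm_sum_eq_subset_sum n
    (fun s : Fin n → ℕ => (flagCount
      (invRank (Matrix.toLin' (g : Matrix (Fin n) (Fin n) F))) s : ℂ))]
  have hrk : StrictMono (invRank (Matrix.toLin' (g : Matrix (Fin n) (Fin n) F))) := by
    intro W W' hlt
    exact Submodule.finrank_lt_finrank_of_lt hlt
  have h0 : invRank (Matrix.toLin' (g : Matrix (Fin n) (Fin n) F)) ⊥ = 0 := by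
    show Module.finrank F ((⊥ : Submodule F (Fin n → F))) = 0
    exact finrank_bot F (Fin n → F)
  have hn : invRank (Matrix.toLin' (g : Matrix (Fin n) (Fin n) F)) ⊤ = n := by
    show Module.finrank F ((⊤ : Submodule F (Fin n → F))) = n
    rw [finrank_top, Module.finrank_fin_fun]
  exact Cfsg.Agent.Lib.Helper2.S2425Q4.hall_flags _ hrk h0 n hn

end A1

/-- KS-3: the Möbius number of the lattice of subspaces of `K^m`. -/
theorem muBot_submodule_top {K : Type*} [Field K] [Fintype K] (m : ℕ)
    [Fintype (Submodule K (Fin m → K))] :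
    muBot (Submodule K (Fin m → K)) ⊤ =
      (-1) ^ m * (Fintype.card K : ℤ) ^ (m * (m - 1) / 2) := by
  classical
  have hA : Matrix.toLin' (((1 : GL (Fin m) K)) : Matrix (Fin m) (Fin m) K) = 1 := by
    rw [Units.val_one, Matrix.toLin'_one]
    rfl
  have hinv : (Module.End.invtSubmodule (Matrix.toLin' (((1 : GL (Fin m) K)) : Matrix (Fin m) (Fin m) K))) = ⊤ := by
    rw [hA]
    exact Module.End.invtSubmodule.one
  have : Fintype (Module.End.invtSubmodule (Matrix.toLin' (((1 : GL (Fin m) K)) : Matrix (Fin m) (Fin m) K))) :=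
    Fintype.ofFinite _
  let e : (Module.End.invtSubmodule (Matrix.toLin' (((1 : GL (Fin m) K)) : Matrix (Fin m) (Fin m) K))) ≃o
      Submodule K (Fin m → K) :=
    { toFun := fun W => W.1
      invFun := fun W => ⟨W, by rw [hinv]; trivial⟩
      left_inv := fun W => rfl
      right_inv := fun W => rfl
      map_rel_iff' := Iff.rfl }
  have he : e ⊤ = ⊤ := rfl
  have h1 := Cfsg.Agent.Lib.Helper2.S2425Q1.muBot_orderIso e ⊤
  rw [he] at h1
  have h2 := steinberg_eq_muBot (1 : GL (Fin m) K)
  rw [Cfsg.Agent.Lib.Helper15.UnipSL.steinberg_degree] at h2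
  rw [h1]
  have htri : Cfsg.Agent.Lib.Helper15.QHook.tri m = m * (m - 1) / 2 := by
    unfold Cfsg.Agent.Lib.Helper15.QHook.tri
    exact Finset.sum_range_id m
  rw [htri] at h2
  generalize muBot (Module.End.invtSubmodule (Matrix.toLin'
    (((1 : GL (Fin m) K)) : Matrix (Fin m) (Fin m) K))) ⊤ = μ0 at h2 ⊢
  have hs : ((-1 : ℂ) ^ m) * ((-1 : ℂ) ^ m) = 1 := by
    rw [← mul_pow]; norm_num
  have h3 : ((((-1 : ℤ) ^ m * (Fintype.card K : ℤ) ^ (m * (m - 1) / 2) : ℤ)) : ℂ) = (μ0 : ℂ) := by
    push_cast at h2 ⊢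
    rw [h2, ← mul_assoc, hs, one_mul]
  exact_mod_cast h3.symm

/-- KSINGLE: the Möbius number of the isotypic component of a monic irreducible polynomial. -/
theorem muBot_kerInvt_irreducible {F : Type*} [Field F] [Fintype F] {V : Type*} [AddCommGroup V]
    [Module F V] [FiniteDimensional F V] (A : Module.End F V) [Fintype A.invtSubmodule]
    (f : F[X]) (hf : Irreducible f) (hm : f.Monic) :
    muBot A.invtSubmodule (kerInvt A f) =
      (-1) ^ (Module.finrank F (LinearMap.ker (Polynomial.aeval A f)) / f.natDegree) *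
        (Fintype.card F : ℤ) ^ (f.natDegree *
          ((Module.finrank F (LinearMap.ker (Polynomial.aeval A f)) / f.natDegree) *
            (Module.finrank F (LinearMap.ker (Polynomial.aeval A f)) / f.natDegree - 1) / 2)) := by
  classical
  have : Fact (Irreducible f) := ⟨hf⟩
  have hdeg : 0 < f.natDegree := hf.natDegree_pos
  have hU := ker_aeval_mem_invtSubmodule A f
  obtain ⟨m, hfr, ⟨e1⟩⟩ := Cfsg.Agent.Lib.Helper8.S2425Q9.exists_orderIso_adjoinRoot
    (restrictInvt A (LinearMap.ker (Polynomial.aeval A f)) hU) f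
    (Cfsg.Agent.Lib.Helper8.S2425Q10.aeval_restrict_ker A f)
  obtain ⟨e2⟩ := Cfsg.Agent.Lib.Helper8.S2425Q10.nonempty_Iic_orderIso_restrict A
    (LinearMap.ker (Polynomial.aeval A f)) hU
  have hm' : Module.finrank F (LinearMap.ker (Polynomial.aeval A f)) / f.natDegree = m := by
    rw [hfr]
    exact Nat.mul_div_cancel m hdeg
  rw [hm']
  -- finiteness
  have : Finite (AdjoinRoot f) := by
    have h1 := Cfsg.Agent.Lib.Helper8.S2425Q10.card_adjoinRoot f hm
    have h2 : Nat.card (AdjoinRoot f) ≠ 0 := by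
      rw [h1]
      exact pow_ne_zero _ Fintype.card_ne_zero
    exact Nat.finite_of_card_ne_zero h2
  have : Fintype (AdjoinRoot f) := Fintype.ofFinite _
  have : Fintype (Submodule (AdjoinRoot f) (Fin m → AdjoinRoot f)) := Fintype.ofFinite _
  have : Fintype (Set.Iic (kerInvt A f)) := Fintype.ofFinite _
  have hcard : (Fintype.card (AdjoinRoot f) : ℤ) = (Fintype.card F : ℤ) ^ f.natDegree := by
    rw [← Nat.card_eq_fintype_card, Cfsg.Agent.Lib.Helper8.S2425Q10.card_adjoinRoot f hm]
    push_cast
    rfl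
  have h3 := muBot_submodule_top (K := AdjoinRoot f) m
  rw [hcard, ← pow_mul] at h3
  -- transport
  let e : Set.Iic (kerInvt A f) ≃o Submodule (AdjoinRoot f) (Fin m → AdjoinRoot f) :=
    e2.trans e1
  have he : e ⊤ = ⊤ := e.map_top
  have h4 := Cfsg.Agent.Lib.Helper2.S2425Q1.muBot_orderIso e ⊤
  rw [he] at h4
  have h5 := Cfsg.Agent.Lib.Helper2.S2425Q1.muBot_Iic (kerInvt A f) (⊤ : Set.Iic (kerInvt A f))
  have h6 : ((⊤ : Set.Iic (kerInvt A f)) : A.invtSubmodule) = kerInvt A f := rfl
  rw [h6] at h5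
  rw [← h5, ← h4, h3]

/-- distinct monic irreducible polynomials are coprime -/
theorem isCoprime_of_irreducible_monic {F : Type*} [Field F] {f g : F[X]} (hf : Irreducible f)
    (hfm : f.Monic) (hg : Irreducible g) (hgm : g.Monic) (hne : f ≠ g) : IsCoprime f g := by
  rw [hf.coprime_iff_not_dvd]
  intro hdvd
  have hassoc : Associated f g := hf.associated_of_dvd hg hdvd
  exact hne (Polynomial.eq_of_monic_of_associated hfm hgm hassoc)

/-- The value of the Steinberg character of `GL_n(q)` at a `p'`-element. -/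
theorem steinberg_value {F : Type*} [Field F] [Fintype F] [DecidableEq F] (p : ℕ)
    [Fact p.Prime] [CharP F p] {n : ℕ} (x : GL (Fin n) F) (hx : (orderOf x).Coprime p) :
    Cfsg.unipotentCharacterGL n F (fun _ => 1) x =
      ∏ f ∈ (UniqueFactorizationMonoid.normalizedFactors
          (x : Matrix (Fin n) (Fin n) F).charpoly).toFinset,
        (-1 : ℂ) ^ ((f.natDegree - 1) * (UniqueFactorizationMonoid.normalizedFactors
          (x : Matrix (Fin n) (Fin n) F).charpoly).count f) *
          (Fintype.card F : ℂ) ^ (f.natDegree * (UniqueFactorizationMonoid.normalizedFactors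
            (x : Matrix (Fin n) (Fin n) F).charpoly).count f *
            ((UniqueFactorizationMonoid.normalizedFactors
              (x : Matrix (Fin n) (Fin n) F).charpoly).count f - 1) / 2) := by
  have hfin : Fintype (Module.End.invtSubmodule
      (Matrix.toLin' (x : Matrix (Fin n) (Fin n) F))) := Fintype.ofFinite _
  rw [steinberg_eq_muBot x]
  generalize hM : (x : Matrix (Fin n) (Fin n) F) = M at *
  have hA0 := Cfsg.Agent.Lib.Helper29.S2425Q13.aeval_prod_factors_eq_zero p x hx
  rw [hM] at hA0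
  generalize hA : Matrix.toLin' M = A at *
  generalize hS : (UniqueFactorizationMonoid.normalizedFactors M.charpoly).toFinset = S at *
  have hSprop : ∀ f ∈ S, Irreducible f ∧ f.Monic := by
    intro f hf
    rw [← hS, Multiset.mem_toFinset] at hf
    refine ⟨UniqueFactorizationMonoid.irreducible_of_normalized_factor f hf, ?_⟩
    have h1 := UniqueFactorizationMonoid.normalize_normalized_factor f hf
    rw [← h1]
    exact Polynomial.monic_normalize
      (UniqueFactorizationMonoid.irreducible_of_normalized_factor f hf).ne_zero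
  have hchar := Cfsg.Agent.Lib.Helper29.S2425Q12.charpoly_eq_prod_pow A S hSprop hA0
  have hAc : A.charpoly = M.charpoly := by
    rw [← hA]
    exact Matrix.charpoly_toLin' M
  have hufd := Cfsg.Agent.Lib.Helper29.S2425Q13.normalizedFactors_prod_pow S hSprop
    (fun f => Module.finrank F (LinearMap.ker (Polynomial.aeval A f)) / f.natDegree)
  rw [← hchar, hAc] at hufd
  have hcount := hufd.1
  -- the top element
  have htop : (⊤ : Module.End.invtSubmodule A) = kerInvt A (∏ f ∈ S, f) := by
    apply Subtype.ext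
    show (⊤ : Submodule F (Fin n → F)) = LinearMap.ker (Polynomial.aeval A (∏ f ∈ S, f))
    rw [hA0]
    exact LinearMap.ker_zero.symm
  have hpair : (S : Set F[X]).Pairwise IsCoprime := by
    intro f hf g hg hne
    exact isCoprime_of_irreducible_monic (hSprop f hf).1 (hSprop f hf).2 (hSprop g hg).1
      (hSprop g hg).2 hne
  rw [htop, Cfsg.Agent.Lib.Helper10.S2425Q2.muBot_kerInvt_prod A S hpair]
  rw [Finset.prod_congr rfl (fun f hf =>
    muBot_kerInvt_irreducible A f (hSprop f hf).1 (hSprop f hf).2)]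
  -- the degree
  have hn : n = ∑ f ∈ S, f.natDegree *
      (Module.finrank F (LinearMap.ker (Polynomial.aeval A f)) / f.natDegree) := by
    have h1 : M.charpoly.natDegree = n := by
      rw [Matrix.charpoly_natDegree_eq_dim, Fintype.card_fin]
    have h2 : M.charpoly.natDegree = ∑ f ∈ S, f.natDegree *
        (Module.finrank F (LinearMap.ker (Polynomial.aeval A f)) / f.natDegree) := by
      rw [← hAc, hchar, Polynomial.natDegree_prod_of_monic]
      · apply Finset.sum_congr rfl
        intro f hf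
        rw [(hSprop f hf).2.natDegree_pow, mul_comm]
      · intro f hf
        exact (hSprop f hf).2.pow _
    exact h1.symm.trans h2
  have hsign : (-1 : ℂ) ^ n = ∏ f ∈ S, (-1 : ℂ) ^ (f.natDegree *
      (Module.finrank F (LinearMap.ker (Polynomial.aeval A f)) / f.natDegree)) := by
    rw [Finset.prod_pow_eq_pow_sum, ← hn]
  rw [hsign]
  push_cast
  rw [← Finset.prod_mul_distrib]
  apply Finset.prod_congr rfl
  intro f hf
  rw [hcount f hf]
  generalize Module.finrank F (LinearMap.ker (Polynomial.aeval A f)) / f.natDegree = m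
  have hdeg : 0 < f.natDegree := (hSprop f hf).1.natDegree_pos
  generalize f.natDegree = d at hdeg
  have e1 : d * m * (m - 1) / 2 = d * (m * (m - 1) / 2) := by
    have h2 : 2 ∣ m * (m - 1) := by
      rcases Nat.even_or_odd m with ⟨r, hr⟩ | ⟨r, hr⟩
      · exact ⟨r * (m - 1), by rw [hr]; ring⟩
      · have : m - 1 = 2 * r := by omega
        exact ⟨m * r, by rw [this]; ring⟩
    rw [mul_assoc, Nat.mul_div_assoc _ h2]
  rw [e1, ← mul_assoc, ← pow_add]
  congr 1
  have e2 : d * m + m = (d - 1) * m + 2 * m := by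
    obtain ⟨d', rfl⟩ : ∃ d', d = d' + 1 := ⟨d - 1, by omega⟩
    simp only [Nat.add_sub_cancel]
    ring
  rw [e2, pow_add, pow_mul (-1 : ℂ) 2 m]
  norm_num

end Cfsg.Agent.Lib.Helper14.StGL
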