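import Mathlib
import Cfsg.Agent.Lib.Helper14.MatBN2
import Cfsg.Agent.Lib.Helper6.S2314FOA
import Cfsg.Agent.Lib.Helper16.S2316SP1
import Cfsg.Agent.Lib.Helper16.S2316SP5
import Cfsg.Agent.Lib.Helper25.S2316SP3
import Cfsg.Agent.Lib.Helper25.S2316SP4

/-!
# Levi data for the `(B, N)`-pair of a matrix group with rank one data
-/

set_option autoImplicit false
set_option linter.unusedSectionVars false

namespace Cfsg.Agent.Lib.Helper14.MatBN

open Matrix Cfsg.Agent.Lib.Helper14.TriMono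
open Cfsg.Agent.Lib.Helper3 Cfsg.Agent.Lib.Helper8.BNCox Cfsg.Agent.Lib.Helper14.BNSt
open Cfsg.Agent.Lib.Helper6.S2314FOA

variable {G : Type*} [Group G] {ι : Type*} [Fintype ι] [DecidableEq ι] {F : Type*} [Field F]
  {K : Type*}

namespace Setup

variable (D : Setup G ι F K)

/-- the Levi data of the standard parabolic subgroups -/
theorem exists_levi [Fintype G] (hgen : D.Bor ⊔ D.Nn = ⊤)
    (hadjP : ∀ k u v, InPi D.ρ (D.π k) u v → D.ρ v = D.ρ u + 1)
    (J : Set (D.bn hgen).S) :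
    ∃ (V : Subgroup G) (n : G), n ∈ (D.bn hgen).N ∧ n ∈ par (D.bn hgen) J ∧ V ≤ D.Uu ∧
      (∀ g ∈ par (D.bn hgen) J, ∀ v ∈ V, g * v * g⁻¹ ∈ V) ∧
      (∀ s ∈ J, ∃ a ∈ (D.bn hgen).B, (s : G) * (a * n) ∈ BN.C (D.bn hgen) n) ∧
      (∀ u ∈ D.Uu, n⁻¹ * u * n ∈ (D.bn hgen).B → u ∈ V) := by
  classical
  set JK : Set K := {k | (⟨D.s k, ⟨k, rfl⟩⟩ : (D.bn hgen).S) ∈ J} with hJK
  obtain ⟨n, hnN, hnP, hcrit⟩ := Cfsg.Agent.Lib.Helper16.S2316SP5.exists_longest_par (D.bn hgen) J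
  refine ⟨D.VJ JK, n, hnN, hnP, fun _ h => h.1, ?_, hcrit, ?_⟩
  · -- normality
    intro g hg
    have hg' : g ∈ Subgroup.closure (((D.bn hgen).B : Set G) ∪ (Subtype.val '' J)) := by
      rw [Subgroup.closure_union, Subgroup.closure_eq]; exact hg
    clear hg
    induction hg' using Subgroup.closure_induction with
    | mem x hx =>
      intro v hv
      rcases hx with hx | ⟨s, hs, rfl⟩
      · exact D.VJ_conj_Bor JK hx hv
      · obtain ⟨k, hk⟩ := s.2
        have hkJ : k ∈ JK := by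
          show (⟨D.s k, ⟨k, rfl⟩⟩ : (D.bn hgen).S) ∈ J
          have : (⟨D.s k, ⟨k, rfl⟩⟩ : (D.bn hgen).S) = s := Subtype.ext hk
          rw [this]; exact hs
        rw [← hk]
        exact (Cfsg.Agent.Lib.Helper25.S2316.VJ_conj_s D hadjP JK hkJ hv).1
    | one =>
      intro v hv
      simpa using hv
    | mul x y _ _ hx hy =>
      intro v hv
      have := hx _ (hy v hv)
      have e : x * y * v * (x * y)⁻¹ = x * (y * v * y⁻¹) * x⁻¹ := by group
      rw [e]; exact this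
    | inv x hx ih =>
      -- in a finite group, `x V x⁻¹ ≤ V` gives equality
      intro v hv
      have hmap : (D.VJ JK).map (MulAut.conj x).toMonoidHom ≤ D.VJ JK := by
        rintro _ ⟨w, hw, rfl⟩
        exact ih w hw
      have hcard : Nat.card ↥((D.VJ JK).map (MulAut.conj x).toMonoidHom) = Nat.card ↥(D.VJ JK) := by
        symm
        exact Nat.card_congr ((D.VJ JK).equivMapOfInjective _ (MulAut.conj x).injective).toEquiv
      have heq : (D.VJ JK).map (MulAut.conj x).toMonoidHom = D.VJ JK :=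
        Subgroup.eq_of_le_of_card_ge hmap (le_of_eq hcard.symm)
      have hv' : v ∈ (D.VJ JK).map (MulAut.conj x).toMonoidHom := by rw [heq]; exact hv
      obtain ⟨w, hw, e⟩ := hv'
      have e' : x * w * x⁻¹ = v := e
      rw [← e']
      have : x⁻¹ * (x * w * x⁻¹) * x⁻¹⁻¹ = w := by group
      rw [this]; exact hw
  · -- `U ∩ ⁿB ≤ V`
    obtain ⟨σ, hσW, hσ⟩ := D.Nn_le_Mon hnN
    intro u hu h
    apply Cfsg.Agent.Lib.Helper25.S2316.mem_VJ_of_conj D JK hσ ?_ hu h
    intro k hk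
    rcases D.orient σ⁻¹ (D.W.inv_mem hσW) k with h' | h'
    · exfalso
      have h1 := D.conj_mem_of_orient hσ k h'
      have hs : D.s k ∈ (D.bn hgen).S := ⟨k, rfl⟩
      have hsN : D.s k ∈ (D.bn hgen).N := (D.bn hgen).subset hs
      obtain ⟨a, ha, hmem⟩ := hcrit ⟨D.s k, hs⟩ hk
      have h2 := mul_mem_of_case1 D.Bor (D.s k) n (D.X k) (D.condA k) h1 a ha
      rw [mul_assoc] at h2
      have h3 : BN.C (D.bn hgen) (D.s k * n) = BN.C (D.bn hgen) n := by
        rw [← BN.C_eq_of_mem (D.bn hgen) h2, BN.C_eq_of_mem (D.bn hgen) hmem]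
      exact BN.not_rel_smul (D.bn hgen) hs hnN
        (BN.bruhat_unique (D.bn hgen) ((D.bn hgen).N.mul_mem hsN hnN) hnN h3)
    · exact h'

end Setup

end Cfsg.Agent.Lib.Helper14.MatBN
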