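import Mathlib
import Cfsg.Agent.Lib.Helper14.StSpMain
import Cfsg.Agent.Lib.Helper14.StCountMain
import Cfsg.Agent.Lib.Helper14.SpBN10
import Cfsg.Agent.Lib.Helper15.SympOrder

/-!
# Steinberg's count of `p`-elements in the symplectic groups
-/

set_option autoImplicit false
set_option linter.unusedSectionVars false

namespace Cfsg.Agent.Lib.Helper14.SpBN

open Matrix Cfsg.Agent.Lib.Helper14.TriMono Cfsg.Agent.Lib.Helper14.MatBN
open Cfsg.Agent.Lib.Helper3 Cfsg.Agent.Lib.Helper8.BNCox Cfsg.Agent.Lib.Helper14.BNSt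

variable {n : ℕ} {F : Type*} [Field F]

/-- the pairs inverted by a fundamental reflection are adjacent -/
theorem sp_hadjP (k : Fin n ⊕ Unit) (u v : Idx n) (h : InPi (rho n) (piK k) u v) :
    rho n v = rho n u + 1 := by
  rcases k with k | k
  · have h' : InPi (rho n) (piS k) u v := h
    rw [inPi_piS] at h'
    rcases h' with ⟨rfl, rfl⟩ | ⟨rfl, rfl⟩
    · simp [rho]
    · have hk := k.2
      simp only [rho, Sum.elim_inr, Fin.val_succ, Fin.val_castSucc]
      omega
  · have h' : InPi (rho n) (piL n) u v := h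
    rw [inPi_piL] at h'
    obtain ⟨rfl, rfl⟩ := h'
    simp only [rho, Sum.elim_inr, Sum.elim_inl, Fin.val_last]
    omega

variable [Fintype F]

/-- the number of `p`-elements is the square of the order of the unitriangular subgroup -/
theorem sp_card_pElements_sq (p : ℕ) [Fact p.Prime] [CharP F p] (n : ℕ) :
    Nat.card {g : SpG n F // ∃ k : ℕ, orderOf g = p ^ k} = Nat.card ↥(spSetup n F).Uu ^ 2 ∧
      ¬ p ∣ (spSetup n F).Uu.index := by
  classical
  have : Fintype (SpG n F) := Fintype.ofFinite _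
  set D := spSetup n F with hD
  have hgen := sp_gen n F
  have : Fintype (D.bn hgen).S := Fintype.ofFinite _
  have hBN : (D.bn hgen).B ⊓ (D.bn hgen).N = D.Hd := D.Bor_inf_Nn
  have hUn : ∀ b ∈ (D.bn hgen).B, ∀ u ∈ D.Uu, b⁻¹ * u * b ∈ D.Uu := fun b hb u hu => D.Uu_conj hb hu
  have hUT : ∀ b ∈ (D.bn hgen).B, ∃ u ∈ D.Uu, ∃ t ∈ (D.bn hgen).B ⊓ (D.bn hgen).N, b = u * t := by
    intro b hb
    obtain ⟨u, hu, t, ht, e⟩ := D.Bor_eq_mul (fun b hb => sp_hdiag b hb) hb
    exact ⟨u, hu, t, by rw [hBN]; exact ht, e⟩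
  have hidx : ¬ p ∣ D.Uu.index := by
    apply BNChar.not_dvd_index (D.bn hgen) p D.Uu D.Uu_le_Bor hUn hUT (D.Uu_isPGroup p)
    · intro t ht
      rw [hBN] at ht
      exact D.Hd_not_dvd p ht
    · rintro _ ⟨k, rfl⟩
      exact D.exists_conj_not_mem k
  refine ⟨?_, hidx⟩
  exact StCount.card_pElements (D.bn hgen) p D.Uu D.Uu_le_Bor hUn hUT (D.Uu_isPGroup p) hidx
    (fun J => D.exists_levi hgen sp_hadjP J) (D.exists_w0 hgen sp_hadj sp_hconn)

/-- the order of the unitriangular subgroup -/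
theorem sp_card_Uu (p : ℕ) [Fact p.Prime] [CharP F p] (n : ℕ) :
    Nat.card ↥(spSetup n F).Uu = Fintype.card F ^ ((n + 1) ^ 2) := by
  classical
  have hp : p.Prime := Fact.out
  have hidx := (sp_card_pElements_sq (F := F) p n).2
  obtain ⟨e, he⟩ := IsPGroup.iff_card.mp ((spSetup n F).Uu_isPGroup p)
  obtain ⟨f, hf⟩ := FiniteField.card F p
  have hmul := Subgroup.card_mul_index (spSetup n F).Uu
  rw [Cfsg.Agent.Lib.Helper15.card_symplecticGroup] at hmul
  set r := ∏ i ∈ Finset.range (n + 1), (Fintype.card F ^ (2 * (i + 1)) - 1) with hr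
  have hq : Fintype.card F ^ ((n + 1) ^ 2) = p ^ ((f : ℕ) * (n + 1) ^ 2) := by
    rw [hf.2, pow_mul]
  have hrp : ¬ p ∣ r := by
    intro hdvd
    obtain ⟨i, _, hi⟩ := (Prime.dvd_finsetProd_iff hp.prime _).mp hdvd
    have h1 : p ∣ Fintype.card F ^ (2 * (i + 1)) := by
      rw [hf.2]
      exact dvd_pow (dvd_pow_self p f.pos.ne') (by omega)
    have hpos : 1 ≤ Fintype.card F ^ (2 * (i + 1)) := Nat.one_le_pow _ _ Fintype.card_pos
    have h2 : p ∣ 1 := by
      have := (Nat.dvd_sub_iff_right hpos h1).mp hi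
      exact this
    exact hp.one_lt.ne' (Nat.dvd_one.mp h2)
  rw [he, hq] at hmul
  rw [he, hq]
  apply Nat.dvd_antisymm
  · have h1 : p ^ e ∣ p ^ ((f : ℕ) * (n + 1) ^ 2) * r := Dvd.intro _ hmul
    exact (Nat.Coprime.pow_left _ ((Nat.Prime.coprime_iff_not_dvd hp).mpr hrp)).dvd_of_dvd_mul_right h1
  · have h1 : p ^ ((f : ℕ) * (n + 1) ^ 2) ∣ p ^ e * (spSetup n F).Uu.index := Dvd.intro _ hmul.symm
    exact (Nat.Coprime.pow_left _ ((Nat.Prime.coprime_iff_not_dvd hp).mpr hidx)).dvd_of_dvd_mul_right h1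

/-- **Steinberg's count of unipotent elements** in the symplectic groups -/
theorem sp_card_pElements (p : ℕ) [Fact p.Prime] [CharP F p] (m : ℕ) :
    Nat.card {g : ↥(Matrix.symplecticGroup (Fin m) F) // ∃ k : ℕ, orderOf g = p ^ k} =
      Fintype.card F ^ (2 * m ^ 2) := by
  rcases m with _ | n
  · -- the trivial group
    have hsub : Subsingleton ↥(Matrix.symplecticGroup (Fin 0) F) := by
      constructor
      intro a b
      apply Subtype.ext
      ext i j
      rcases i with i | i <;> exact i.elim0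
    have : Unique {g : ↥(Matrix.symplecticGroup (Fin 0) F) // ∃ k : ℕ, orderOf g = p ^ k} :=
      { default := ⟨1, 0, by simp⟩
        uniq := fun g => Subtype.ext (Subsingleton.elim _ _) }
    rw [Nat.card_unique]
    simp
  · rw [(sp_card_pElements_sq (F := F) p n).1, sp_card_Uu p n, ← pow_mul, mul_comm]

end Cfsg.Agent.Lib.Helper14.SpBN
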