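import Mathlib

/-!
# Conjugating a `p`-element into a subgroup of full `p`-power order
-/

set_option autoImplicit false

namespace Cfsg.Agent.Lib.Helper14.SylConj

/-- a `p`-element is conjugate into any subgroup whose order is the full `p`-part -/
theorem exists_conj_mem {G : Type*} [Group G] [Finite G] (p : ℕ) [Fact p.Prime]
    (P : Subgroup G) (hP : Nat.card ↥P = p ^ (Nat.card G).factorization p)
    (x : G) (j : ℕ) (hj : orderOf x = p ^ j) : ∃ g : G, g⁻¹ * x * g ∈ P := by
  let S : Sylow p G := Sylow.ofCard P hP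
  have hpg : IsPGroup p ↥(Subgroup.zpowers x) := by
    apply IsPGroup.of_card (n := j)
    rw [Nat.card_zpowers, hj]
  obtain ⟨Q, hQ⟩ := hpg.exists_le_sylow
  obtain ⟨g, hg⟩ := MulAction.exists_smul_eq G S Q
  have hxQ : x ∈ (Q : Subgroup G) := hQ (Subgroup.mem_zpowers x)
  rw [← hg, Sylow.coe_subgroup_smul, Subgroup.mem_pointwise_smul_iff_inv_smul_mem] at hxQ
  refine ⟨g, ?_⟩
  have : (MulAut.conj g)⁻¹ • x = g⁻¹ * x * g := by
    rw [MulAut.smul_def, ← map_inv, MulAut.conj_apply, inv_inv]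
  rw [← this]
  exact hxQ

/-- if a conjugate has `n`-th power one, so does the element -/
theorem pow_eq_one_of_conj {G : Type*} [Group G] (g x : G) (n : ℕ)
    (h : (g⁻¹ * x * g) ^ n = 1) : x ^ n = 1 := by
  have e : (g⁻¹ * x * g) ^ n = g⁻¹ * x ^ n * g := by
    have := conj_pow (a := g⁻¹) (b := x) (i := n)
    rw [inv_inv] at this
    exact this
  rw [e] at h
  have : x ^ n = g * (g⁻¹ * x ^ n * g) * g⁻¹ := by group
  rw [this, h]
  group

end Cfsg.Agent.Lib.Helper14.SylConj
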