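import Mathlib

/-!
# Arithmetic for Sylow `r`-subgroups of `GL_n(q)` with `r > n`
-/

set_option autoImplicit false

namespace Cfsg.Agent.Lib.Helper14

open Finset

section arith

variable (q r : ℕ) [hr : Fact r.Prime]

theorem isOfFinOrder_zmod (hrq : ¬ r ∣ q) : IsOfFinOrder (q : ZMod r) := by
  rw [isOfFinOrder_iff_pow_eq_one]
  refine ⟨r - 1, Nat.sub_pos_of_lt hr.out.one_lt, ?_⟩
  apply ZMod.pow_card_sub_one_eq_one
  rwa [Ne, ZMod.natCast_eq_zero_iff]

theorem orderOf_zmod_pos (hrq : ¬ r ∣ q) : 0 < orderOf (q : ZMod r) :=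
  (isOfFinOrder_zmod q r hrq).orderOf_pos

omit hr in
theorem q_pos_of_not_dvd (hrq : ¬ r ∣ q) : 0 < q := by
  rcases Nat.eq_zero_or_pos q with h | h
  · exfalso; apply hrq; rw [h]; exact dvd_zero r
  · exact h

theorem dvd_pow_sub_one_iff (hrq : ¬ r ∣ q) (i : ℕ) :
    r ∣ q ^ i - 1 ↔ orderOf (q : ZMod r) ∣ i := by
  have hq := q_pos_of_not_dvd q r hrq
  rw [orderOf_dvd_iff_pow_eq_one, ← ZMod.natCast_eq_zero_iff, Nat.cast_sub (Nat.one_le_pow _ _ hq),
    sub_eq_zero]
  push_cast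
  rfl

/-- The `r`-part of `q ^ d - 1` is the `r`-part of `Φ_d(q)`, for `d` the order of `q` mod `r`. -/
theorem factorization_pow_orderOf_sub_one (hrq : ¬ r ∣ q) (hq2 : 2 ≤ q) :
    (q ^ orderOf (q : ZMod r) - 1).factorization r =
      padicValNat r ((Polynomial.cyclotomic (orderOf (q : ZMod r)) ℤ).eval (q : ℤ)).natAbs := by
  set d := orderOf (q : ZMod r) with hd
  have hdpos : 0 < d := orderOf_zmod_pos q r hrq
  have hq : 0 < q := by omega
  have hprod := Polynomial.prod_cyclotomic_eq_X_pow_sub_one hdpos ℤ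
  have heval := congrArg (Polynomial.eval (q : ℤ)) hprod
  rw [Polynomial.eval_prod, Polynomial.eval_sub, Polynomial.eval_pow, Polynomial.eval_X,
    Polynomial.eval_one, ← Nat.cons_self_properDivisors hdpos.ne', Finset.prod_cons] at heval
  set A := (Polynomial.cyclotomic d ℤ).eval (q : ℤ) with hA
  set B := ∏ k ∈ d.properDivisors, (Polynomial.cyclotomic k ℤ).eval (q : ℤ) with hB
  have hcast : ((q ^ d - 1 : ℕ) : ℤ) = (q : ℤ) ^ d - 1 := by
    rw [Nat.cast_sub (Nat.one_le_pow _ _ hq)]; push_cast; rfl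
  have hlt : 1 < q ^ d := Nat.one_lt_pow hdpos.ne' (by omega)
  have hne : (q : ℤ) ^ d - 1 ≠ 0 := by
    rw [← hcast]
    have : q ^ d - 1 ≠ 0 := by omega
    exact_mod_cast this
  have hA0 : A ≠ 0 := by
    intro h; rw [h, zero_mul] at heval; exact hne heval.symm
  have hB0 : B ≠ 0 := by
    intro h; rw [h, mul_zero] at heval; exact hne heval.symm
  -- `r` does not divide `B`
  have hrB : ¬ (r : ℤ) ∣ B := by
    intro hdvd
    rw [hB] at hdvd
    obtain ⟨k, hk, hkdvd⟩ := (Prime.dvd_finsetProd_iff (Nat.prime_iff_prime_int.mp hr.out) _).mp hdvd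
    have hkd := Nat.mem_properDivisors.mp hk
    have hkpos : 0 < k := Nat.pos_of_dvd_of_pos hkd.1 hdpos
    have h1 : (Polynomial.cyclotomic k ℤ).eval (q : ℤ) ∣ (q : ℤ) ^ k - 1 := by
      have := Polynomial.cyclotomic.dvd_X_pow_sub_one k ℤ
      have h2 := Polynomial.eval_dvd (x := (q : ℤ)) this
      simpa using h2
    have h3 : (r : ℤ) ∣ (q : ℤ) ^ k - 1 := hkdvd.trans h1
    have h4 : ((q ^ k - 1 : ℕ) : ℤ) = (q : ℤ) ^ k - 1 := by
      rw [Nat.cast_sub (Nat.one_le_pow _ _ hq)]; push_cast; rfl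
    rw [← h4] at h3
    have h5 : r ∣ q ^ k - 1 := by exact_mod_cast h3
    have h6 := (dvd_pow_sub_one_iff q r hrq k).mp h5
    have := Nat.le_of_dvd hkpos h6
    omega
  have h1 : (q ^ d - 1).factorization r = padicValInt r ((q : ℤ) ^ d - 1) := by
    rw [Nat.factorization_def _ hr.out, ← hcast, padicValInt.of_nat]
  rw [h1, ← heval, padicValInt.mul hA0 hB0, padicValInt.eq_zero_of_not_dvd hrB, add_zero]
  rfl

/-- For `0 < j < r` the `r`-part of `q ^ (d * j) - 1` equals that of `q ^ d - 1`. -/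
theorem factorization_pow_mul_sub_one (hrq : ¬ r ∣ q) (hq2 : 2 ≤ q) (j : ℕ) (hj : 0 < j)
    (hjr : j < r) :
    (q ^ (orderOf (q : ZMod r) * j) - 1).factorization r =
      (q ^ orderOf (q : ZMod r) - 1).factorization r := by
  set d := orderOf (q : ZMod r) with hd
  have hdpos : 0 < d := orderOf_zmod_pos q r hrq
  have hq : 0 < q := by omega
  set x := q ^ d with hx
  have hx1 : 1 < x := Nat.one_lt_pow hdpos.ne' (by omega)
  have hrx : r ∣ x - 1 := (dvd_pow_sub_one_iff q r hrq d).mpr dvd_rfl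
  have hgeom : ((∑ i ∈ range j, (x : ℤ) ^ i) * ((x : ℤ) - 1)) = (x : ℤ) ^ j - 1 := geom_sum_mul _ _
  have hxz : ((x : ℤ) - 1) = ((x - 1 : ℕ) : ℤ) := by
    rw [Nat.cast_sub hx1.le]; push_cast; rfl
  have hxjz : ((x : ℤ) ^ j - 1) = ((x ^ j - 1 : ℕ) : ℤ) := by
    rw [Nat.cast_sub (Nat.one_le_pow _ _ (by omega))]; push_cast; rfl
  -- the geometric sum is `≡ j` mod `r`
  have hG : ¬ (r : ℤ) ∣ ∑ i ∈ range j, (x : ℤ) ^ i := by
    intro hdvd
    have h1 : ((∑ i ∈ range j, (x : ℤ) ^ i : ℤ) : ZMod r) = 0 :=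
      (ZMod.intCast_zmod_eq_zero_iff_dvd _ r).mpr hdvd
    have hx' : ((x : ℤ) : ZMod r) = 1 := by
      have : ((x - 1 : ℕ) : ZMod r) = 0 := (ZMod.natCast_eq_zero_iff _ r).mpr hrx
      rw [Nat.cast_sub hx1.le] at this
      push_cast at this ⊢
      exact sub_eq_zero.mp this
    push_cast at h1
    have hx'' : (x : ZMod r) = 1 := by exact_mod_cast hx'
    simp only [hx'', one_pow, sum_const, card_range, nsmul_eq_mul, mul_one] at h1
    rw [ZMod.natCast_eq_zero_iff] at h1
    have := Nat.le_of_dvd hj h1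
    omega
  have hG0 : (∑ i ∈ range j, (x : ℤ) ^ i) ≠ 0 := fun h => hG (h ▸ dvd_zero _)
  have hx0 : ((x : ℤ) - 1) ≠ 0 := by
    rw [hxz]; have : x - 1 ≠ 0 := by omega
    exact_mod_cast this
  have h1 : (q ^ (d * j) - 1).factorization r = padicValInt r ((x : ℤ) ^ j - 1) := by
    rw [Nat.factorization_def _ hr.out, pow_mul, hxjz, padicValInt.of_nat]
  have h2 : (x - 1).factorization r = padicValInt r ((x : ℤ) - 1) := by
    rw [Nat.factorization_def _ hr.out, hxz, padicValInt.of_nat]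
  rw [h1, h2, ← hgeom, padicValInt.mul hG0 hx0, padicValInt.eq_zero_of_not_dvd hG, zero_add]

/-- The `r`-part of `q ^ k - 1` for `1 ≤ k < r`. -/
theorem factorization_pow_sub_one (hrq : ¬ r ∣ q) (hq2 : 2 ≤ q) (k : ℕ) (hk : 0 < k) (hkr : k < r) :
    (q ^ k - 1).factorization r =
      if orderOf (q : ZMod r) ∣ k then (q ^ orderOf (q : ZMod r) - 1).factorization r else 0 := by
  split_ifs with h
  · obtain ⟨j, rfl⟩ := h
    have hdpos := orderOf_zmod_pos q r hrq
    have hj : 0 < j := Nat.pos_of_mul_pos_left hk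
    have hjr : j < r := lt_of_le_of_lt (Nat.le_mul_of_pos_left j hdpos) hkr
    exact factorization_pow_mul_sub_one q r hrq hq2 j hj hjr
  · apply Nat.factorization_eq_zero_of_not_dvd
    rwa [dvd_pow_sub_one_iff q r hrq]

/-- The `r`-part of the order of `GL_n(q)` for `n < r`. -/
theorem factorization_prod_GL (hrq : ¬ r ∣ q) (hq2 : 2 ≤ q) (n : ℕ) (hnr : n < r) :
    (∏ i : Fin n, (q ^ n - q ^ (i : ℕ))).factorization r =
      (q ^ orderOf (q : ZMod r) - 1).factorization r * (n / orderOf (q : ZMod r)) := by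
  set d := orderOf (q : ZMod r) with hd
  set e := (q ^ d - 1).factorization r with he
  have hq : 0 < q := by omega
  have hne : ∀ i ∈ (univ : Finset (Fin n)), q ^ n - q ^ (i : ℕ) ≠ 0 := by
    intro i _
    have : q ^ (i : ℕ) < q ^ n := Nat.pow_lt_pow_right (by omega) i.2
    omega
  rw [Nat.factorization_prod hne, Finsupp.finsetSum_apply]
  have hterm : ∀ i : Fin n, (q ^ n - q ^ (i : ℕ)).factorization r =
      if d ∣ (n - 1 - (i : ℕ)) + 1 then e else 0 := by
    intro i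
    have hi := i.2
    have h1 : q ^ n - q ^ (i : ℕ) = q ^ (i : ℕ) * (q ^ (n - i) - 1) := by
      rw [Nat.mul_sub, mul_one, ← pow_add, Nat.add_sub_cancel' hi.le]
    have hlt : 1 < q ^ (n - i) := Nat.one_lt_pow (by omega) (by omega)
    rw [h1, Nat.factorization_mul (pow_ne_zero _ hq.ne') (by omega), Finsupp.add_apply,
      Nat.factorization_pow, Finsupp.smul_apply, Nat.factorization_eq_zero_of_not_dvd hrq,
      smul_zero, zero_add, factorization_pow_sub_one q r hrq hq2 (n - i) (by omega) (by omega)]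
    have : n - 1 - (i : ℕ) + 1 = n - i := by omega
    rw [this]
  rw [Finset.sum_congr rfl (fun i _ => hterm i),
    Fin.sum_univ_eq_sum_range (fun i => if d ∣ (n - 1 - i) + 1 then e else 0) n,
    Finset.sum_range_reflect (fun j => if d ∣ j + 1 then e else 0) n, Finset.sum_ite,
    Finset.sum_const_zero, add_zero, Finset.sum_const, Nat.card_multiples, smul_eq_mul, mul_comm]

end arith

end Cfsg.Agent.Lib.Helper14
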