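import Mathlib
import Cfsg.Agent.Lib.Helper3.Suzuki2

set_option autoImplicit false

namespace Cfsg.Agent.Lib.Helper14.SzRep

open Cfsg.Agent.Lib.Helper3.Sz

variable {F : Type*} [Field F] [Fintype F] {m : ℕ} (hF : Fintype.card F = 2 ^ (2 * m + 1))

include hF in
lemma theta_surj (y : F) : ∃ c : F, c ^ (2 ^ (m + 1)) = y := by
  refine ⟨y ^ (2 ^ m), ?_⟩
  rw [← pow_mul]
  have : 2 ^ m * 2 ^ (m + 1) = 2 ^ (2 * m + 1) := by
    rw [← pow_add]; congr 1; omega
  rw [this]
  exact pow_q hF y

include hF in
lemma theta_fix {x : F} (hx : x ^ (2 ^ (m + 1)) = x) : x = 0 ∨ x = 1 := by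
  have h2 : x ^ 2 = x := by
    have := sig_sig hF x
    rw [hx, hx] at this
    exact this.symm
  have : x * (x - 1) = 0 := by linear_combination h2
  rcases mul_eq_zero.mp this with h | h
  · exact Or.inl h
  · exact Or.inr (by linear_combination h)

include hF in
lemma theta_succ_eq_one {r : F} (hr : r ^ (2 ^ (m + 1) + 1) = 1) : r = 1 := by
  have hr0 : r ≠ 0 := by
    rintro rfl
    rw [zero_pow (by positivity)] at hr
    exact zero_ne_one hr
  have h1 : r ^ (2 ^ (m + 1)) = r⁻¹ := by
    rw [pow_succ] at hr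
    exact eq_inv_of_mul_eq_one_left hr
  have h2 : r ^ 2 = r := by
    have := sig_sig hF r
    rw [h1, inv_pow, h1, inv_inv] at this
    exact this.symm
  have : r * (r - 1) = 0 := by linear_combination h2
  rcases mul_eq_zero.mp this with h | h
  · exact absurd h hr0
  · linear_combination h

include hF in
lemma theta_succ_injective {x y : F} (hy : y ≠ 0) (h : x ^ (2 ^ (m + 1) + 1) = y ^ (2 ^ (m + 1) + 1)) :
    x = y := by
  have : (x / y) ^ (2 ^ (m + 1) + 1) = 1 := by
    rw [div_pow, h, div_self (pow_ne_zero _ hy)]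
  have := theta_succ_eq_one hF this
  field_simp at this
  exact this

section trace

include hF in
/-- the radical of the commutator form attached to a nontrivial additive character has at most two
elements -/
theorem rad_le_two (χ : F → ℂ) (hmul : ∀ x y, χ (x + y) = χ x * χ y) (h0 : χ 0 = 1)
    (b₁ : F) (hb₁ : χ b₁ ≠ 1) :
    ∃ d₀ : F, ∀ d : F,
      (∀ c : F, χ (c ^ (2 ^ (m + 1)) * d + c * d ^ (2 ^ (m + 1))) = 1) → d = 0 ∨ d = d₀ := by
  have := charP hF
  let _ : Algebra (ZMod 2) F := ZMod.algebra F 2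
  have h2 := two_eq_zero hF
  have hsq : ∀ x, χ x = 1 ∨ χ x = -1 := by
    intro x
    have : χ x * χ x = 1 := by
      rw [← hmul, ← two_mul, h2, zero_mul, h0]
    have : (χ x - 1) * (χ x + 1) = 0 := by linear_combination this
    rcases mul_eq_zero.mp this with h | h
    · exact Or.inl (by linear_combination h)
    · exact Or.inr (by linear_combination h)
  have hne : (-1 : ℂ) ≠ 1 := by norm_num
  classical
  let φ : F →+ ZMod 2 :=
    { toFun := fun x => if χ x = 1 then 0 else 1
      map_zero' := by simp [h0]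
      map_add' := by
        intro x y
        rcases hsq x with hx | hx <;> rcases hsq y with hy | hy <;>
          simp only [hmul, hx, hy, mul_one, if_true, hne, if_false, add_zero, zero_add,
            mul_neg, neg_neg]
        · decide }
  have hφ : ∀ x, φ x = 0 ↔ χ x = 1 := by
    intro x
    change (if χ x = 1 then (0 : ZMod 2) else 1) = 0 ↔ _
    by_cases h : χ x = 1
    · simp [h]
    · simp [h]
  let L : Module.Dual (ZMod 2) F := φ.toZModLinearMap 2
  have hB := traceForm_nondegenerate (ZMod 2) F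
  obtain ⟨e, he⟩ : ∃ e : F, ∀ x, Algebra.trace (ZMod 2) F (e * x) = φ x := by
    refine ⟨((Algebra.traceForm (ZMod 2) F).toDual hB).symm L, fun x => ?_⟩
    have := LinearMap.BilinForm.apply_toDual_symm_apply (B := Algebra.traceForm (ZMod 2) F)
      (hB := hB) L x
    rw [Algebra.traceForm_apply] at this
    exact this
  have tr_sq : ∀ y : F, Algebra.trace (ZMod 2) F (y ^ 2) = Algebra.trace (ZMod 2) F y := by
    intro y
    have := Algebra.trace_eq_of_algEquiv (FiniteField.frobeniusAlgEquivOfAlgebraic (ZMod 2) F) y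
    rw [FiniteField.coe_frobeniusAlgEquivOfAlgebraic, ZMod.card] at this
    exact this
  have tr_pow : ∀ (j : ℕ) (y : F),
      Algebra.trace (ZMod 2) F (y ^ (2 ^ j)) = Algebra.trace (ZMod 2) F y := by
    intro j
    induction j with
    | zero => intro y; simp
    | succ j ih =>
      intro y
      rw [pow_succ, pow_mul, tr_sq, ih]
  have he0 : e ≠ 0 := by
    rintro rfl
    have := he b₁
    rw [zero_mul, map_zero] at this
    exact hb₁ ((hφ b₁).mp this.symm)
  refine ⟨e / e ^ (2 ^ (m + 1)), fun d hd => ?_⟩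
  have key : ∀ y : F, Algebra.trace (ZMod 2) F ((e * d + e ^ (2 ^ (m + 1)) * d ^ 2) * y) = 0 := by
    intro y
    obtain ⟨c, rfl⟩ := theta_surj hF y
    have h1 := (hφ _).mpr (hd c)
    rw [← he, mul_add, map_add] at h1
    have h3 : Algebra.trace (ZMod 2) F (e * (c * d ^ (2 ^ (m + 1))))
        = Algebra.trace (ZMod 2) F (e ^ (2 ^ (m + 1)) * d ^ 2 * c ^ (2 ^ (m + 1))) := by
      rw [← tr_pow (m + 1) (e * (c * d ^ (2 ^ (m + 1))))]
      congr 1
      rw [mul_pow, mul_pow, sig_sig hF]
      ring
    rw [h3] at h1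
    rw [add_mul, map_add, ← h1]
    congr 2
    ring
  have hz : e * d + e ^ (2 ^ (m + 1)) * d ^ 2 = 0 := by
    apply hB.1
    intro y
    rw [Algebra.traceForm_apply]
    exact key y
  by_cases hd0 : d = 0
  · exact Or.inl hd0
  · right
    have h4 : d * (e + e ^ (2 ^ (m + 1)) * d) = 0 := by linear_combination hz
    have h5 : e + e ^ (2 ^ (m + 1)) * d = 0 := (mul_eq_zero.mp h4).resolve_left hd0
    have hes : e ^ (2 ^ (m + 1)) ≠ 0 := pow_ne_zero _ he0
    rw [eq_div_iff hes]
    linear_combination h5 - e * h2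

end trace

end Cfsg.Agent.Lib.Helper14.SzRep
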