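import Mathlib
import Cfsg.Agent.Lib.Helper14.SzRepField
import Cfsg.Agent.Lib.Helper14.SzRepGen

set_option autoImplicit false
set_option linter.unusedSectionVars false

namespace Cfsg.Agent.Lib.Helper14.SzRep

open Module Polynomial Cfsg.Agent.Lib.Helper3.Sz

section semis

variable {V : Type*} [AddCommGroup V] [Module ℂ V] [FiniteDimensional ℂ V]

lemma isSemisimple_of_sq (T : Module.End ℂ V) (h : T * T = 1) : T.IsSemisimple := by
  apply Module.End.isSemisimple_of_squarefree_aeval_eq_zero (p := X ^ 2 - C 1)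
  · exact (Polynomial.separable_X_pow_sub_C (1 : ℂ) (by norm_num) one_ne_zero).squarefree
  · simp [pow_two, h]

end semis

section main

variable {G : Type*} [Group G] {V : Type*} [AddCommGroup V] [Module ℂ V] [FiniteDimensional ℂ V]
  (ρ : G →* (V →ₗ[ℂ] V))
  {F : Type*} [Field F] [Fintype F] {m : ℕ} (hF : Fintype.card F = 2 ^ (2 * m + 1))
  (t : F → F → G) (κ : Fˣ → G)
  (ht_mul : ∀ a b a' b', t a' b' * t a b = t (a + a') (b + b' + a' ^ (2 ^ (m + 1)) * a))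
  (ht0 : t 0 0 = 1)
  (hκ : ∀ (k : Fˣ) (a b : F),
    κ k * t a b = t ((k : F) * a) ((k : F) ^ (2 ^ (m + 1) + 1) * b) * κ k)
  (hfaith : ∀ b, b ≠ 0 → ρ (t 0 b) ≠ 1)

/-- simultaneous eigenspace of the central translations -/
def E (χ : F → ℂ) : Submodule ℂ V := ⨅ b, Module.End.eigenspace (ρ (t 0 b)) (χ b)

lemma mem_E (χ : F → ℂ) (v : V) : v ∈ E ρ t χ ↔ ∀ b, ρ (t 0 b) v = χ b • v := by
  simp [E]

include ht_mul in
lemma zz_mul (b b' : F) : t 0 b' * t 0 b = t 0 (b + b') := by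
  have := ht_mul 0 b 0 b'
  simpa using this

include hF ht_mul ht0 in
lemma z_sq (b : F) : t 0 b * t 0 b = 1 := by
  rw [zz_mul t ht_mul, ← two_mul, two_eq_zero hF, zero_mul, ht0]

include ht_mul in
lemma uz (a b : F) : t a 0 * t 0 b = t a b := by
  have := ht_mul 0 b a 0
  simpa using this

include ht_mul in
lemma zu (a b : F) : t 0 b * t a 0 = t a b := by
  have := ht_mul a 0 0 b
  have h0 : (0 : F) ^ (2 ^ (m + 1)) = 0 := zero_pow (by positivity)
  simpa [h0] using this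

include ht_mul in
lemma z_comm_all (a b b' : F) : t 0 b' * t a b = t a b * t 0 b' := by
  have h1 := ht_mul a b 0 b'
  have h2 := ht_mul 0 b' a b
  have h0 : (0 : F) ^ (2 ^ (m + 1)) = 0 := zero_pow (by positivity)
  rw [h1, h2]
  congr 1
  · ring
  · rw [h0]; ring

include hF ht_mul in
lemma uu_comm (a c : F) :
    t c 0 * t a 0 = t a 0 * t c 0 * t 0 (c ^ (2 ^ (m + 1)) * a + c * a ^ (2 ^ (m + 1))) := by
  have h2 := two_eq_zero hF
  rw [ht_mul a 0 c 0, ht_mul c 0 a 0, ht_mul]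
  congr 1
  · ring
  · have h0 : ((c : F) + a) ^ (2 ^ (m + 1)) * 0 = 0 := mul_zero _
    rw [h0]
    linear_combination (- c * a ^ (2 ^ (m + 1))) * h2

include hF ht_mul ht0 in
lemma semis (b : F) : Module.End.IsSemisimple (ρ (t 0 b)) := by
  apply isSemisimple_of_sq
  rw [← map_mul, z_sq hF t ht_mul ht0, map_one]

include hF ht_mul ht0 in
lemma E_eq (χ : F → ℂ) :
    E ρ t χ = ⨅ b, Module.End.maxGenEigenspace (ρ (t 0 b)) (χ b) := by
  unfold E
  congr 1
  funext b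
  exact ((semis ρ hF t ht_mul ht0 b).isFinitelySemisimple.maxGenEigenspace_eq_eigenspace
    (χ b)).symm

include ht_mul in
lemma z_commute (b b' : F) : Commute (ρ (t 0 b)) (ρ (t 0 b')) := by
  change ρ (t 0 b) * ρ (t 0 b') = ρ (t 0 b') * ρ (t 0 b)
  rw [← map_mul, ← map_mul, z_comm_all t ht_mul]

include hF ht_mul ht0 in
lemma indepE : iSupIndep (E ρ t) := by
  have h := Module.End.independent_iInf_maxGenEigenspace_of_forall_mapsTo
    (fun b : F => ρ (t 0 b))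
    (fun i j φ => Module.End.mapsTo_maxGenEigenspace_of_comm (z_commute ρ t ht_mul j i) φ)
  have : E ρ t = fun χ : F → ℂ => ⨅ b, Module.End.maxGenEigenspace (ρ (t 0 b)) (χ b) := by
    funext χ
    exact E_eq ρ hF t ht_mul ht0 χ
  rw [this]
  exact h

include hF ht_mul ht0 in
lemma supE : ⨆ χ : F → ℂ, E ρ t χ = ⊤ := by
  have h := Module.End.iSup_iInf_maxGenEigenspace_eq_top_of_iSup_maxGenEigenspace_eq_top_of_commute
    (fun b : F => ρ (t 0 b))
    (fun i j _ => z_commute ρ t ht_mul i j)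
    (fun i => Module.End.iSup_maxGenEigenspace_eq_top _)
  have : E ρ t = fun χ : F → ℂ => ⨅ b, Module.End.maxGenEigenspace (ρ (t 0 b)) (χ b) := by
    funext χ
    exact E_eq ρ hF t ht_mul ht0 χ
  rw [this]
  exact h

include hF ht_mul ht0 hfaith in
lemma exists_chi : ∃ χ : F → ℂ, E ρ t χ ≠ ⊥ ∧ χ 1 ≠ 1 := by
  by_contra hcon
  push Not at hcon
  have hle : ∀ χ : F → ℂ, E ρ t χ ≤ Module.End.eigenspace (ρ (t 0 1)) 1 := by
    intro χ
    by_cases hb : E ρ t χ = ⊥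
    · rw [hb]; exact bot_le
    · have h1 := hcon χ hb
      have : E ρ t χ ≤ Module.End.eigenspace (ρ (t 0 1)) (χ 1) := iInf_le _ 1
      rwa [h1] at this
  have htop : (⊤ : Submodule ℂ V) ≤ Module.End.eigenspace (ρ (t 0 1)) 1 := by
    rw [← supE ρ hF t ht_mul ht0]
    exact iSup_le hle
  apply hfaith 1 one_ne_zero
  apply LinearMap.ext
  intro v
  have := htop (Submodule.mem_top : v ∈ ⊤)
  rw [Module.End.mem_eigenspace_iff, one_smul] at this
  rw [this]
  rfl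

include ht_mul ht0 in
lemma chi_mul {χ : F → ℂ} (hχ : E ρ t χ ≠ ⊥) :
    (∀ b b', χ (b + b') = χ b * χ b') ∧ χ 0 = 1 := by
  obtain ⟨v, hv, hv0⟩ := Submodule.exists_mem_ne_zero_of_ne_bot hχ
  rw [mem_E] at hv
  constructor
  · intro b b'
    have h1 := hv (b + b')
    rw [← zz_mul t ht_mul, map_mul, Module.End.mul_apply, hv b, map_smul, hv b', smul_smul] at h1
    have : (χ b * χ b' - χ (b + b')) • v = 0 := by
      rw [sub_smul, h1, sub_self]
    rcases smul_eq_zero.mp this with h | h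
    · linear_combination -h
    · exact absurd h hv0
  · have h1 := hv 0
    rw [ht0, map_one, Module.End.one_apply] at h1
    have : (1 - χ 0) • v = 0 := by
      rw [sub_smul, one_smul, ← h1, sub_self]
    rcases smul_eq_zero.mp this with h | h
    · linear_combination -h
    · exact absurd h hv0


/-- the twist of a function on `F` by a torus element -/
def tw (m : ℕ) (χ : F → ℂ) (k : Fˣ) : F → ℂ :=
  fun b => χ (((k⁻¹ : Fˣ) : F) ^ (2 ^ (m + 1) + 1) * b)

include hκ in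
lemma kappa_maps (χ : F → ℂ) (k : Fˣ) (v : V) (hv : v ∈ E ρ t χ) :
    ρ (κ k) v ∈ E ρ t (tw m χ k) := by
  rw [mem_E] at hv ⊢
  intro b
  have h1 := hκ k 0 (((k⁻¹ : Fˣ) : F) ^ (2 ^ (m + 1) + 1) * b)
  have h2 : (k : F) ^ (2 ^ (m + 1) + 1) * (((k⁻¹ : Fˣ) : F) ^ (2 ^ (m + 1) + 1) * b) = b := by
    rw [← mul_assoc, ← mul_pow, ← Units.val_mul, mul_inv_cancel, Units.val_one, one_pow, one_mul]
  rw [h2, mul_zero] at h1
  have h3 : ρ (t 0 b) (ρ (κ k) v) = (ρ (t 0 b) * ρ (κ k)) v := rfl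
  rw [h3, ← map_mul, ← h1, map_mul, Module.End.mul_apply, hv, map_smul]
  rfl

lemma rho_injective (g : G) : Function.Injective (ρ g) := by
  intro v w h
  have : ρ g⁻¹ (ρ g v) = ρ g⁻¹ (ρ g w) := by rw [h]
  have e : ∀ x, ρ g⁻¹ (ρ g x) = x := by
    intro x
    have : ρ g⁻¹ (ρ g x) = (ρ g⁻¹ * ρ g) x := rfl
    rw [this, ← map_mul, inv_mul_cancel, map_one, Module.End.one_apply]
  rwa [e, e] at this

include hκ in
lemma finrank_tw_le (χ : F → ℂ) (k : Fˣ) :
    finrank ℂ (E ρ t χ) ≤ finrank ℂ (E ρ t (tw m χ k)) := by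
  let f : E ρ t χ →ₗ[ℂ] E ρ t (tw m χ k) :=
    (ρ (κ k)).restrict (fun v hv => kappa_maps ρ t κ hκ χ k v hv)
  apply LinearMap.finrank_le_finrank_of_injective (f := f)
  intro v w h
  apply Subtype.ext
  apply rho_injective ρ (κ k)
  exact congrArg Subtype.val h

include hF in
lemma tw_injective {χ : F → ℂ} (hmul : ∀ b b', χ (b + b') = χ b * χ b') (h0 : χ 0 = 1)
    (h1 : χ 1 ≠ 1) : Function.Injective (tw m χ) := by
  intro k k' h
  have h2 := two_eq_zero hF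
  set s : F := ((k⁻¹ : Fˣ) : F) ^ (2 ^ (m + 1) + 1) with hs
  set s' : F := ((k'⁻¹ : Fˣ) : F) ^ (2 ^ (m + 1) + 1) with hs'
  have hss : s = s' := by
    by_contra hne
    have hne' : s + s' ≠ 0 := by
      intro h3
      apply hne
      linear_combination h3 - s' * h2
    apply h1
    have hb := congrFun h ((s + s')⁻¹)
    simp only [tw] at hb
    rw [← hs, ← hs'] at hb
    have : (1 : F) = s * (s + s')⁻¹ + s' * (s + s')⁻¹ := by
      rw [← add_mul, mul_inv_cancel₀ hne']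
    rw [this, hmul, ← hb, ← hmul, ← two_mul, h2, zero_mul, h0]
  have h3 : ((k⁻¹ : Fˣ) : F) = ((k'⁻¹ : Fˣ) : F) :=
    theta_succ_injective hF (Units.ne_zero _) hss
  have h4 : k⁻¹ = k'⁻¹ := Units.ext h3
  exact inv_injective h4

include hF ht_mul ht0 hκ in
lemma stage1 {χ : F → ℂ} (hχ : E ρ t χ ≠ ⊥) (h1 : χ 1 ≠ 1) :
    (2 ^ (2 * m + 1) - 1) * finrank ℂ (E ρ t χ) ≤ finrank ℂ V := by
  classical
  obtain ⟨hmul, h0⟩ := chi_mul ρ t ht_mul ht0 hχ
  have hinj := tw_injective hF hmul h0 h1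
  have hind := (indepE ρ hF t ht_mul ht0).comp hinj
  have hsum := sum_finrank_le hind Finset.univ
  have hle : ∑ k : Fˣ, finrank ℂ (E ρ t χ) ≤ ∑ k : Fˣ, finrank ℂ ((E ρ t ∘ tw m χ) k) :=
    Finset.sum_le_sum (fun k _ => finrank_tw_le ρ t κ hκ χ k)
  rw [Finset.sum_const, Finset.card_univ, Fintype.card_units, hF, smul_eq_mul] at hle
  exact hle.trans hsum

/-! ### Stage 2 -/

lemma maps_W (χ : F → ℂ) (g : G) (hg : ∀ b, t 0 b * g = g * t 0 b) (v : V) (hv : v ∈ E ρ t χ) :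
    ρ g v ∈ E ρ t χ := by
  rw [mem_E] at hv ⊢
  intro b
  have h3 : ρ (t 0 b) (ρ g v) = (ρ (t 0 b) * ρ g) v := rfl
  rw [h3, ← map_mul, hg, map_mul, Module.End.mul_apply, hv, map_smul]

include ht_mul in
lemma comm_u (a b : F) : t 0 b * t a 0 = t a 0 * t 0 b := z_comm_all t ht_mul a 0 b

include ht_mul in
lemma comm_u_inv (a b : F) : t 0 b * (t a 0)⁻¹ = (t a 0)⁻¹ * t 0 b := by
  have := comm_u t ht_mul a b
  rw [eq_inv_mul_iff_mul_eq, ← mul_assoc, ← this, mul_assoc, mul_inv_cancel, mul_one]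

/-- restriction of `ρ (t a 0)` to the eigenspace -/
def PW (χ : F → ℂ) (a : F) : Module.End ℂ (E ρ t χ) :=
  (ρ (t a 0)).restrict (fun v hv => maps_W ρ t χ (t a 0) (comm_u t ht_mul a) v hv)

/-- restriction of `ρ (t a 0)⁻¹` to the eigenspace -/
def PW' (χ : F → ℂ) (a : F) : Module.End ℂ (E ρ t χ) :=
  (ρ (t a 0)⁻¹).restrict (fun v hv => maps_W ρ t χ (t a 0)⁻¹ (comm_u_inv t ht_mul a) v hv)

lemma PW_mul_PW' (χ : F → ℂ) (a : F) : PW ρ t ht_mul χ a * PW' ρ t ht_mul χ a = 1 := by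
  apply LinearMap.ext
  intro v
  apply Subtype.ext
  change ρ (t a 0) (ρ (t a 0)⁻¹ v.1) = v.1
  have : ρ (t a 0) (ρ (t a 0)⁻¹ v.1) = (ρ (t a 0) * ρ (t a 0)⁻¹) v.1 := rfl
  rw [this, ← map_mul, mul_inv_cancel, map_one, Module.End.one_apply]

lemma PW'_mul_PW (χ : F → ℂ) (a : F) : PW' ρ t ht_mul χ a * PW ρ t ht_mul χ a = 1 := by
  apply LinearMap.ext
  intro v
  apply Subtype.ext
  change ρ (t a 0)⁻¹ (ρ (t a 0) v.1) = v.1
  have : ρ (t a 0)⁻¹ (ρ (t a 0) v.1) = (ρ (t a 0)⁻¹ * ρ (t a 0)) v.1 := rfl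
  rw [this, ← map_mul, inv_mul_cancel, map_one, Module.End.one_apply]

include hF in
lemma PW_comm (χ : F → ℂ) (c a : F) :
    PW ρ t ht_mul χ c * PW ρ t ht_mul χ a
      = χ (c ^ (2 ^ (m + 1)) * a + c * a ^ (2 ^ (m + 1)))
        • (PW ρ t ht_mul χ a * PW ρ t ht_mul χ c) := by
  apply LinearMap.ext
  intro v
  apply Subtype.ext
  change ρ (t c 0) (ρ (t a 0) v.1)
    = χ (c ^ (2 ^ (m + 1)) * a + c * a ^ (2 ^ (m + 1))) • ρ (t a 0) (ρ (t c 0) v.1)
  have hv := (mem_E ρ t χ v.1).mp v.2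
  have e1 : ρ (t c 0) (ρ (t a 0) v.1) = (ρ (t c 0) * ρ (t a 0)) v.1 := rfl
  rw [e1, ← map_mul, uu_comm hF t ht_mul, map_mul, map_mul, Module.End.mul_apply,
    Module.End.mul_apply, hv, map_smul, map_smul]

lemma PW_ne_zero {χ : F → ℂ} (hχ : E ρ t χ ≠ ⊥) (a : F) : PW ρ t ht_mul χ a ≠ 0 := by
  obtain ⟨v, hv, hv0⟩ := Submodule.exists_mem_ne_zero_of_ne_bot hχ
  intro h
  have := congrArg (fun f : Module.End ℂ (E ρ t χ) => (f ⟨v, hv⟩).1) h
  change ρ (t a 0) v = 0 at this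
  apply hv0
  apply rho_injective ρ (t a 0)
  rw [this, map_zero]

include hF ht_mul ht0 in
lemma stage2 {χ : F → ℂ} (hχ : E ρ t χ ≠ ⊥) (h1 : χ 1 ≠ 1) :
    2 ^ m ≤ finrank ℂ (E ρ t χ) := by
  classical
  obtain ⟨hmul, h0⟩ := chi_mul ρ t ht_mul ht0 hχ
  have h2 := two_eq_zero hF
  obtain ⟨d₀, hd₀⟩ := rad_le_two hF χ hmul h0 1 h1
  have hsq : ∀ x, χ x * χ x = 1 := by
    intro x
    rw [← hmul, ← two_mul, h2, zero_mul, h0]
  let Ψ : F → (F → ℂ) := fun a c => χ (c ^ (2 ^ (m + 1)) * a + c * a ^ (2 ^ (m + 1)))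
  have hfib : ∀ a a' : F, Ψ a = Ψ a' → a' = a ∨ a' = a + d₀ := by
    intro a a' h
    have hrad : ∀ c : F,
        χ (c ^ (2 ^ (m + 1)) * (a + a') + c * (a + a') ^ (2 ^ (m + 1))) = 1 := by
      intro c
      have e : c ^ (2 ^ (m + 1)) * (a + a') + c * (a + a') ^ (2 ^ (m + 1))
          = (c ^ (2 ^ (m + 1)) * a + c * a ^ (2 ^ (m + 1)))
            + (c ^ (2 ^ (m + 1)) * a' + c * a' ^ (2 ^ (m + 1))) := by
        rw [sig_add hF]; ring
      rw [e, hmul]
      have := congrFun h c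
      change χ _ = χ _ at this
      rw [← this, hsq]
    rcases hd₀ (a + a') hrad with h3 | h3
    · left
      linear_combination h3 - a * h2
    · right
      linear_combination h3 - a * h2
  have hcard : Fintype.card F ≤ 2 * (Finset.image Ψ Finset.univ).card := by
    rw [← Finset.card_univ]
    apply Finset.card_le_mul_card_image
    intro φ hφ
    obtain ⟨a, -, rfl⟩ := Finset.mem_image.mp hφ
    have hsub : (Finset.univ.filter (fun a' => Ψ a' = Ψ a)) ⊆ {a, a + d₀} := by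
      intro a' ha'
      rw [Finset.mem_filter] at ha'
      rcases hfib a a' ha'.2.symm with h | h
      · rw [h]; simp
      · rw [h]; simp
    exact (Finset.card_le_card hsub).trans Finset.card_le_two
  -- index type
  let ι := {φ // φ ∈ Finset.image Ψ Finset.univ}
  have hex : ∀ φ : ι, ∃ a, Ψ a = φ.1 := by
    intro φ
    obtain ⟨a, -, ha⟩ := Finset.mem_image.mp φ.2
    exact ⟨a, ha⟩
  choose r hr using hex
  have hli : LinearIndependent ℂ (fun φ : ι => PW ρ t ht_mul χ (r φ)) := by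
    apply linearIndependent_of_twisted (PW ρ t ht_mul χ) (PW' ρ t ht_mul χ)
      (fun φ : ι => PW ρ t ht_mul χ (r φ)) (fun c φ => φ.1 c)
      (fun c c' => χ (c ^ (2 ^ (m + 1)) * c' + c * c' ^ (2 ^ (m + 1))))
      (PW_mul_PW' ρ t ht_mul χ) (PW'_mul_PW ρ t ht_mul χ)
      (fun φ => PW_ne_zero ρ t ht_mul hχ (r φ))
    · intro c φ
      rw [PW_comm ρ hF t ht_mul χ c (r φ)]
      congr 1
      exact congrFun (hr φ) c
    · intro c c'
      exact PW_comm ρ hF t ht_mul χ c c'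
    · intro φ φ' hne
      by_contra hcon
      push Not at hcon
      apply hne
      apply Subtype.ext
      funext c
      exact hcon c
  have hle := hli.fintype_card_le_finrank
  rw [Module.finrank_linearMap, Fintype.card_coe] at hle
  have hq : 2 ^ (2 * m + 1) ≤ 2 * (finrank ℂ (E ρ t χ) * finrank ℂ (E ρ t χ)) := by
    rw [← hF]
    exact hcard.trans (Nat.mul_le_mul_left 2 hle)
  by_contra hlt
  push Not at hlt
  have : finrank ℂ (E ρ t χ) * finrank ℂ (E ρ t χ) < 2 ^ m * 2 ^ m :=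
    Nat.mul_lt_mul'' hlt hlt
  have e : 2 ^ (2 * m + 1) = 2 * (2 ^ m * 2 ^ m) := by
    rw [← pow_add, pow_succ, mul_comm]; congr 2; omega
  omega

include hF ht_mul ht0 hκ hfaith in
/-- the abstract Landazuri–Seitz bound for a group containing a copy of the Suzuki Borel
subgroup on which `ρ` is faithful on the centre of the unipotent radical -/
theorem main_bound : 2 ^ m * (2 ^ (2 * m + 1) - 1) ≤ finrank ℂ V := by
  obtain ⟨χ, hχ, h1⟩ := exists_chi ρ hF t ht_mul ht0 hfaith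
  have s1 := stage1 ρ hF t κ ht_mul ht0 hκ hχ h1
  have s2 := stage2 ρ hF t ht_mul ht0 hχ h1
  calc 2 ^ m * (2 ^ (2 * m + 1) - 1) ≤ finrank ℂ (E ρ t χ) * (2 ^ (2 * m + 1) - 1) :=
        Nat.mul_le_mul_right _ s2
    _ = (2 ^ (2 * m + 1) - 1) * finrank ℂ (E ρ t χ) := mul_comm _ _
    _ ≤ finrank ℂ V := s1

end main

end Cfsg.Agent.Lib.Helper14.SzRep
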