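import Mathlib
import Cfsg.Agent.Lib.Helper14.JordanCent2

set_option autoImplicit false

/-! # A copy of the block triangular / Jordan centraliser counts (BTCount, JordanCent3, JordanCent4)
which does not depend on `NilCount`, so that it can be imported together with the `GUConj` files. -/

namespace Cfsg.Agent.Lib.Helper14.UJC

open Cfsg.Agent.Lib.Helper14.JC

section general

theorem card_eq_sum_fibers {α β : Type*} [Finite α] [Fintype β] (f : α → β) :
    Nat.card α = ∑ b, Nat.card {a // f a = b} := by
  rw [Nat.card_congr (Equiv.sigmaFiberEquiv f).symm, Nat.card_sigma]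

theorem card_eq_mul_of_fibers {α β : Type*} [Finite α] [Finite β] (f : α → β) (c : ℕ)
    (h : ∀ b, Nat.card {a // f a = b} = c) : Nat.card α = Nat.card β * c := by
  classical
  have := Fintype.ofFinite β
  rw [card_eq_sum_fibers f]
  simp only [h, Finset.sum_const, Finset.card_univ, smul_eq_mul, Nat.card_eq_fintype_card]

end general


open Matrix

section

variable {F : Type*} [Field F] [Fintype F]

/-- The number of invertible matrices over a finite field, indexed by any finite type. -/
theorem card_unit_det (κ : Type*) [Fintype κ] [DecidableEq κ] :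
    Nat.card {B : Matrix κ κ F // IsUnit B.det} =
      ∏ j : Fin (Fintype.card κ),
        (Fintype.card F ^ Fintype.card κ - Fintype.card F ^ (j : ℕ)) := by
  have e1 : GL κ F ≃ {B : Matrix κ κ F // IsUnit B.det} :=
    ⟨fun u => ⟨u.1, (Matrix.isUnit_iff_isUnit_det _).mp u.isUnit⟩,
      fun B => ((Matrix.isUnit_iff_isUnit_det _).mpr B.2).unit,
      fun u => Units.ext (IsUnit.unit_spec _),
      fun B => Subtype.ext (IsUnit.unit_spec ((Matrix.isUnit_iff_isUnit_det _).mpr B.2))⟩
  have e2 : GL κ F ≃ GL (Fin (Fintype.card κ)) F :=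
    (Units.mapEquiv (Matrix.reindexAlgEquiv F F (Fintype.equivFin κ)).toMulEquiv).toEquiv
  rw [← Nat.card_congr e1, Nat.card_congr e2, Matrix.card_GL_field]

/-- The number of invertible block triangular matrices. -/
theorem card_blockTriangular {ι : Type*} [Fintype ι] [DecidableEq ι] {m : ℕ} (b : ι → Fin m) :
    Nat.card {A : Matrix ι ι F // A.BlockTriangular b ∧ IsUnit A.det} =
      (∏ i : Fin m, Nat.card {B : Matrix {k // b k = i} {k // b k = i} F // IsUnit B.det}) *
        Fintype.card F ^ (Fintype.card {p : ι × ι // b p.1 < b p.2}) := by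
  classical
  rw [← Nat.card_pi]
  have hunit : ∀ A : Matrix ι ι F, A.BlockTriangular b →
      (IsUnit A.det ↔ ∀ i : Fin m, IsUnit (A.toSquareBlock b i).det) := by
    intro A hA
    rw [hA.det_fintype]
    simp only [isUnit_iff_ne_zero]
    exact Finset.prod_ne_zero_iff.trans ⟨fun h i => h i (Finset.mem_univ i), fun h i _ => h i⟩
  apply card_eq_mul_of_fibers
    (fun A : {A : Matrix ι ι F // A.BlockTriangular b ∧ IsUnit A.det} =>
      (fun i : Fin m => (⟨A.1.toSquareBlock b i, (hunit A.1 A.2.1).mp A.2.2 i⟩ :
        {B : Matrix {k // b k = i} {k // b k = i} F // IsUnit B.det})))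
  intro B
  rw [← Fintype.card_fun, ← Nat.card_eq_fintype_card]
  have hblock : ∀ (A : Matrix ι ι F) (i : Fin m) (k l : {k // b k = i}),
      A.toSquareBlock b i k l = A k.1 l.1 := fun A i k l => rfl
  let Ac : ({p : ι × ι // b p.1 < b p.2} → F) → Matrix ι ι F := fun c k l =>
    if h : b k < b l then c ⟨(k, l), h⟩ else
      if h' : b l = b k then (B (b k)).1 ⟨k, rfl⟩ ⟨l, h'⟩ else 0
  have hAc1 : ∀ c, (Ac c).BlockTriangular b := by
    intro c i j hij
    show (if h : b i < b j then c ⟨(i, j), h⟩ else
      if h' : b j = b i then (B (b i)).1 ⟨i, rfl⟩ ⟨j, h'⟩ else 0) = 0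
    rw [dif_neg (not_lt_of_gt hij), dif_neg hij.ne]
  have hAc2 : ∀ c (i : Fin m), (Ac c).toSquareBlock b i = (B i).1 := by
    intro c i
    ext k l
    rw [hblock]
    obtain ⟨k, hk⟩ := k
    obtain ⟨l, hl⟩ := l
    subst hk
    show (if h : b k < b l then c ⟨(k, l), h⟩ else
      if h' : b l = b k then (B (b k)).1 ⟨k, rfl⟩ ⟨l, h'⟩ else 0) = _
    rw [dif_neg (by rw [hl]; exact lt_irrefl _), dif_pos hl]
  have hAc3 : ∀ c, IsUnit (Ac c).det := by
    intro c
    rw [hunit _ (hAc1 c)]
    intro i
    rw [hAc2 c i]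
    exact (B i).2
  refine Nat.card_congr
    { toFun := fun A p => A.1.1 p.1.1 p.1.2
      invFun := fun c => ⟨⟨Ac c, hAc1 c, hAc3 c⟩, ?_⟩
      left_inv := ?_
      right_inv := ?_ }
  · funext i
    apply Subtype.ext
    exact hAc2 c i
  · intro A
    apply Subtype.ext
    apply Subtype.ext
    ext k l
    show (if h : b k < b l then A.1.1 k l else
      if h' : b l = b k then (B (b k)).1 ⟨k, rfl⟩ ⟨l, h'⟩ else 0) = A.1.1 k l
    by_cases h : b k < b l
    · rw [dif_pos h]
    · rw [dif_neg h]
      by_cases h' : b l = b k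
      · rw [dif_pos h']
        have h1 := congrFun A.2 (b k)
        have h2 : (B (b k)).1 = A.1.1.toSquareBlock b (b k) := by
          rw [← h1]
        rw [h2, hblock]
      · rw [dif_neg h']
        have hlt : b l < b k := lt_of_le_of_ne (not_lt.mp h) h'
        exact (A.1.2.1 hlt).symm
  · intro c
    funext p
    obtain ⟨⟨k, l⟩, hp⟩ := p
    show (if h : b k < b l then c ⟨(k, l), h⟩ else
      if h' : b l = b k then (B (b k)).1 ⟨k, rfl⟩ ⟨l, h'⟩ else 0) = c ⟨(k, l), hp⟩
    rw [dif_pos hp]

end




open Matrix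

variable {F : Type*} [Field F] {t : ℕ} (d : Fin t → ℕ) (hd : ∀ k, 1 ≤ d k)

include hd in
/-- The centraliser of the Jordan type matrix is parametrised by the images of the generators. -/
theorem card_centralizer_eq :
    Nat.card {g : GL (Idx d) F // (g : Matrix (Idx d) (Idx d) F) * Cfsg.jordanTypeMatrix d F =
        Cfsg.jordanTypeMatrix d F * (g : Matrix (Idx d) (Idx d) F)} =
      Nat.card {v : Fin t → Idx d → F // Supp d v ∧ IsUnit (Amat d hd v).det} := by
  have key : ∀ g : Matrix (Idx d) (Idx d) F,
      g * Cfsg.jordanTypeMatrix d F = Cfsg.jordanTypeMatrix d F * g →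
      (∀ x, Matrix.toLin' g (shift d x) = shift d (Matrix.toLin' g x)) := by
    intro g hg x
    rw [Matrix.toLin'_apply, Matrix.toLin'_apply]
    exact (commute_iff d g).mp hg x
  refine Nat.card_congr (Equiv.ofBijective
    (fun g => ⟨fun k => g.1.1 *ᵥ gen d hd k, ?_, ?_⟩) ⟨?_, ?_⟩)
  · rw [supp_iff]
    intro k
    have := gen_pow_zero d hd (Matrix.toLin' g.1.1) (key g.1.1 g.2) k
    rwa [Matrix.toLin'_apply] at this
  · have hsupp : Supp d (fun k => g.1.1 *ᵥ gen d hd k) := by
      rw [supp_iff]
      intro k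
      have := gen_pow_zero d hd (Matrix.toLin' g.1.1) (key g.1.1 g.2) k
      rwa [Matrix.toLin'_apply] at this
    rw [← Lmap_injective_iff d hd _ hsupp]
    have h1 := eq_Lmap d hd (Matrix.toLin' g.1.1) (key g.1.1 g.2)
    have h2 : (fun k => Matrix.toLin' g.1.1 (gen d hd k)) = fun k => g.1.1 *ᵥ gen d hd k := by
      funext k
      rw [Matrix.toLin'_apply]
    rw [h2] at h1
    rw [← h1]
    have h3 : Function.Injective g.1.1.mulVec :=
      Matrix.mulVec_injective_iff_isUnit.mpr g.1.isUnit
    intro x y hxy
    rw [Matrix.toLin'_apply, Matrix.toLin'_apply] at hxy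
    exact h3 hxy
  · intro g g' h
    have h0 : (fun k => g.1.1 *ᵥ gen d hd k) = fun k => g'.1.1 *ᵥ gen d hd k :=
      congrArg Subtype.val h
    have h1 := eq_Lmap d hd (Matrix.toLin' g.1.1) (key g.1.1 g.2)
    have h2 := eq_Lmap d hd (Matrix.toLin' g'.1.1) (key g'.1.1 g'.2)
    have h3 : (fun k => Matrix.toLin' g.1.1 (gen d hd k)) =
        fun k => Matrix.toLin' g'.1.1 (gen d hd k) := by
      funext k
      rw [Matrix.toLin'_apply, Matrix.toLin'_apply]
      exact congrFun h0 k
    rw [h3, ← h2] at h1
    apply Subtype.ext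
    apply Units.ext
    exact Matrix.toLin'.injective h1
  · rintro ⟨v, hv, hu⟩
    have hinj := (Lmap_injective_iff d hd v hv).mpr hu
    set M := LinearMap.toMatrix' (Lmap d v) with hM
    have hMv : ∀ x, M *ᵥ x = Lmap d v x := by
      intro x
      rw [← Matrix.toLin'_apply, hM, Matrix.toLin'_toMatrix']
    have hMu : IsUnit M := by
      rw [← Matrix.mulVec_injective_iff_isUnit]
      intro x y hxy
      rw [hMv, hMv] at hxy
      exact hinj hxy
    refine ⟨⟨hMu.unit, ?_⟩, ?_⟩
    · show M * Cfsg.jordanTypeMatrix d F = Cfsg.jordanTypeMatrix d F * M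
      rw [commute_iff]
      intro x
      rw [hMv, hMv]
      exact Lmap_shift d hd v ((supp_iff d v).mp hv) x
    · apply Subtype.ext
      funext k
      show M *ᵥ gen d hd k = v k
      rw [hMv, Lmap_gen]

/-- The block index of a block: its size. -/
def bsize (k : Fin t) : Fin (Finset.univ.sup d + 1) :=
  ⟨d k, Nat.lt_succ_of_le (Finset.le_sup (f := d) (Finset.mem_univ k))⟩

theorem bsize_lt (k l : Fin t) : bsize d k < bsize d l ↔ d k < d l := Iff.rfl

theorem bsize_eq (k : Fin t) (i : Fin (Finset.univ.sup d + 1)) : bsize d k = i ↔ d k = i.val := by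
  rw [Fin.ext_iff]
  rfl

theorem Amat_blockTriangular (v : Fin t → Idx d → F) :
    (Amat d hd v).BlockTriangular (bsize d) := by
  intro k l hkl
  rw [bsize_lt] at hkl
  show (if h : d k ≤ d l then _ else 0) = 0
  rw [dif_neg (by omega)]

variable [Fintype F]

include hd in
/-- The parametrising set fibres over the invertible block triangular matrices. -/
theorem card_param :
    Nat.card {v : Fin t → Idx d → F // Supp d v ∧ IsUnit (Amat d hd v).det} =
      Nat.card {A : Matrix (Fin t) (Fin t) F // A.BlockTriangular (bsize d) ∧ IsUnit A.det} *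
        Fintype.card F ^
          (Fintype.card {p : Fin t × Idx d // d p.2.1 < p.2.2.val + d p.1}) := by
  classical
  apply card_eq_mul_of_fibers
    (fun v : {v : Fin t → Idx d → F // Supp d v ∧ IsUnit (Amat d hd v).det} =>
      (⟨Amat d hd v.1, Amat_blockTriangular d hd v.1, v.2.2⟩ :
        {A : Matrix (Fin t) (Fin t) F // A.BlockTriangular (bsize d) ∧ IsUnit A.det}))
  intro A
  rw [← Fintype.card_fun, ← Nat.card_eq_fintype_card]
  let vc : ({p : Fin t × Idx d // d p.2.1 < p.2.2.val + d p.1} → F) → Fin t → Idx d → F :=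
    fun c k p => if h : d p.1 < p.2.val + d k then c ⟨(k, p), h⟩ else
      if d p.1 = p.2.val + d k then A.1 k p.1 else 0
  have hvc1 : ∀ c, Supp d (vc c) := by
    intro c k p hp
    show (if h : d p.1 < p.2.val + d k then c ⟨(k, p), h⟩ else
      if d p.1 = p.2.val + d k then A.1 k p.1 else 0) = 0
    rw [dif_neg (by omega), if_neg (by omega)]
  have hvc2 : ∀ c, Amat d hd (vc c) = A.1 := by
    intro c
    ext k l
    show (if h : d k ≤ d l then vc c k ⟨l, ⟨d l - d k, _⟩⟩ else 0) = A.1 k l
    by_cases h : d k ≤ d l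
    · rw [dif_pos h]
      show (if h : d l < d l - d k + d k then c ⟨(k, _), h⟩ else
        if d l = d l - d k + d k then A.1 k l else 0) = A.1 k l
      rw [dif_neg (by omega), if_pos (by omega)]
    · rw [dif_neg h]
      have h1 : bsize d l < bsize d k := by
        rw [bsize_lt]
        omega
      exact (A.2.1 h1).symm
  refine Nat.card_congr
    { toFun := fun v p => v.1.1 p.1.1 p.1.2
      invFun := fun c => ⟨⟨vc c, hvc1 c, by rw [hvc2 c]; exact A.2.2⟩, Subtype.ext (hvc2 c)⟩
      left_inv := ?_
      right_inv := ?_ }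
  · intro v
    apply Subtype.ext
    apply Subtype.ext
    funext k p
    show (if h : d p.1 < p.2.val + d k then v.1.1 k p else
      if d p.1 = p.2.val + d k then A.1 k p.1 else 0) = v.1.1 k p
    by_cases h : d p.1 < p.2.val + d k
    · rw [dif_pos h]
    · rw [dif_neg h]
      by_cases h' : d p.1 = p.2.val + d k
      · rw [if_pos h']
        have h1 : Amat d hd v.1.1 = A.1 := congrArg Subtype.val v.2
        rw [← h1]
        show (if h : d k ≤ d p.1 then v.1.1 k ⟨p.1, ⟨d p.1 - d k, _⟩⟩ else 0) = v.1.1 k p
        rw [dif_pos (by omega)]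
        have h2 : (⟨p.1, ⟨d p.1 - d k, by have := hd p.1; have := hd k; omega⟩⟩ : Idx d) = p := by
          apply idx_ext
          · rfl
          · simp only
            omega
        rw [h2]
      · rw [if_neg h']
        exact (v.1.2.1 k p (by omega)).symm
  · intro c
    funext p
    obtain ⟨⟨k, p⟩, hp⟩ := p
    show (if h : d p.1 < p.2.val + d k then c ⟨(k, p), h⟩ else
      if d p.1 = p.2.val + d k then A.1 k p.1 else 0) = c ⟨(k, p), hp⟩
    rw [dif_pos hp]




open Matrix

variable {t : ℕ} (d : Fin t → ℕ)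

/-- The multiplicity of the block size `i`. -/
abbrev mult (i : ℕ) : ℕ := (Finset.univ.filter (fun k : Fin t => d k = i)).card

theorem sum_regroup (f : ℕ → ℕ) :
    ∑ k, f (d k) = ∑ i ∈ Finset.range (Finset.univ.sup d + 1), mult d i * f i := by
  have hmaps : ∀ k ∈ (Finset.univ : Finset (Fin t)), d k ∈ Finset.range (Finset.univ.sup d + 1) := by
    intro k _
    rw [Finset.mem_range]
    exact Nat.lt_succ_of_le (Finset.le_sup (f := d) (Finset.mem_univ k))
  rw [← Finset.sum_fiberwise_of_maps_to hmaps]
  apply Finset.sum_congr rfl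
  intro i _
  rw [Finset.sum_congr rfl (g := fun _ => f i)]
  · rw [Finset.sum_const, smul_eq_mul]
  · intro k hk
    rw [(Finset.mem_filter.mp hk).2]

theorem sum_regroup₂ (f : ℕ → ℕ → ℕ) :
    ∑ k, ∑ l, f (d k) (d l) = ∑ i ∈ Finset.range (Finset.univ.sup d + 1),
      ∑ j ∈ Finset.range (Finset.univ.sup d + 1), mult d i * mult d j * f i j := by
  rw [sum_regroup d (fun i => ∑ l, f i (d l))]
  apply Finset.sum_congr rfl
  intro i _
  rw [sum_regroup d (fun j => f i j), Finset.mul_sum]
  apply Finset.sum_congr rfl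
  intro j _
  ring

theorem card_fin_filter (n a : ℕ) (ha : 1 ≤ a) :
    Fintype.card {j : Fin n // n < j.val + a} = if a ≤ n then a - 1 else n := by
  classical
  rw [Fintype.card_subtype, Finset.card_filter,
    Fin.sum_univ_eq_sum_range (fun j => if n < j + a then 1 else 0) n, ← Finset.card_filter]
  by_cases h : a ≤ n
  · rw [if_pos h]
    have h1 : (Finset.range n).filter (fun j => n < j + a) = Finset.Ico (n + 1 - a) n := by
      ext j
      simp only [Finset.mem_filter, Finset.mem_range, Finset.mem_Ico]
      omega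
    rw [h1, Nat.card_Ico]
    omega
  · rw [if_neg h]
    have h1 : (Finset.range n).filter (fun j => n < j + a) = Finset.range n := by
      ext j
      simp only [Finset.mem_filter, Finset.mem_range]
      omega
    rw [h1, Finset.card_range]

theorem exponent_eq (hd : ∀ k, 1 ≤ d k) :
    Fintype.card {p : Fin t × Fin t // bsize d p.1 < bsize d p.2} +
      Fintype.card {p : Fin t × Idx d // d p.2.1 < p.2.2.val + d p.1} =
    2 * (∑ i ∈ Finset.range (Finset.univ.sup d + 1), ∑ j ∈ Finset.range (Finset.univ.sup d + 1),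
        if i < j then i * mult d i * mult d j else 0) +
      ∑ i ∈ Finset.range (Finset.univ.sup d + 1), (i - 1) * mult d i ^ 2 := by
  classical
  have E1 : Fintype.card {p : Fin t × Fin t // bsize d p.1 < bsize d p.2} =
      ∑ k, ∑ l, if d k < d l then 1 else 0 := by
    rw [Fintype.card_subtype, Finset.card_filter, Fintype.sum_prod_type]
    rfl
  have E2 : Fintype.card {p : Fin t × Idx d // d p.2.1 < p.2.2.val + d p.1} =
      ∑ k, ∑ l, if d k ≤ d l then d k - 1 else d l := by
    rw [Fintype.card_subtype, Finset.card_filter, Fintype.sum_prod_type]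
    apply Finset.sum_congr rfl
    intro k _
    rw [Fintype.sum_sigma]
    apply Finset.sum_congr rfl
    intro l _
    rw [← Finset.card_filter, ← Fintype.card_subtype]
    exact card_fin_filter (d l) (d k) (hd k)
  have S1 : (∑ i ∈ Finset.range (Finset.univ.sup d + 1),
      ∑ j ∈ Finset.range (Finset.univ.sup d + 1),
        if i < j then i * mult d i * mult d j else 0) =
      ∑ k, ∑ l, if d k < d l then d k else 0 := by
    rw [sum_regroup₂ d (fun i j => if i < j then i else 0)]
    apply Finset.sum_congr rfl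
    intro i _
    apply Finset.sum_congr rfl
    intro j _
    split_ifs
    · ring
    · rw [mul_zero]
  have S2 : (∑ i ∈ Finset.range (Finset.univ.sup d + 1), (i - 1) * mult d i ^ 2) =
      ∑ k, ∑ l, if d k = d l then d k - 1 else 0 := by
    rw [sum_regroup₂ d (fun i j => if i = j then i - 1 else 0)]
    apply Finset.sum_congr rfl
    intro i hi
    rw [Finset.sum_eq_single i]
    · rw [if_pos rfl]
      ring
    · intro j _ hj
      rw [if_neg (Ne.symm hj), mul_zero]
    · intro h
      exact absurd hi h
  have S1' : (∑ k, ∑ l, if d k < d l then d k else 0) =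
      ∑ k, ∑ l, if d l < d k then d l else 0 := Finset.sum_comm
  rw [E1, E2, S1, S2, two_mul]
  nth_rewrite 2 [S1']
  rw [← Finset.sum_add_distrib, ← Finset.sum_add_distrib, ← Finset.sum_add_distrib]
  apply Finset.sum_congr rfl
  intro k _
  rw [← Finset.sum_add_distrib, ← Finset.sum_add_distrib, ← Finset.sum_add_distrib]
  apply Finset.sum_congr rfl
  intro l _
  have := hd k
  have := hd l
  split_ifs <;> omega

theorem prod_fin_congr (n n' : ℕ) (h : n = n') (f : ℕ → ℕ → ℕ) :
    ∏ j : Fin n, f n j = ∏ j : Fin n', f n' j := by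
  subst h
  rfl

section final

variable {F : Type*} [Field F] [Fintype F]

/-- The order of the centraliser of the unipotent matrix of Jordan type `d`. -/
theorem card_centralizer (hd : ∀ k, 1 ≤ d k) :
    Nat.card {g : GL (Idx d) F // (g : Matrix (Idx d) (Idx d) F) * Cfsg.jordanTypeMatrix d F =
        Cfsg.jordanTypeMatrix d F * (g : Matrix (Idx d) (Idx d) F)} =
      Fintype.card F ^ (2 * (∑ i ∈ Finset.range (Finset.univ.sup d + 1),
          ∑ j ∈ Finset.range (Finset.univ.sup d + 1),
            if i < j then i * mult d i * mult d j else 0) +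
        ∑ i ∈ Finset.range (Finset.univ.sup d + 1), (i - 1) * mult d i ^ 2) *
      ∏ i ∈ Finset.range (Finset.univ.sup d + 1), ∏ j : Fin (mult d i),
        (Fintype.card F ^ mult d i - Fintype.card F ^ (j : ℕ)) := by
  classical
  rw [card_centralizer_eq d hd, card_param d hd, card_blockTriangular (bsize d),
    ← exponent_eq d hd, pow_add]
  have hprod : (∏ i : Fin (Finset.univ.sup d + 1),
      Nat.card {B : Matrix {k // bsize d k = i} {k // bsize d k = i} F // IsUnit B.det}) =
      ∏ i ∈ Finset.range (Finset.univ.sup d + 1), ∏ j : Fin (mult d i),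
        (Fintype.card F ^ mult d i - Fintype.card F ^ (j : ℕ)) := by
    rw [← Fin.prod_univ_eq_prod_range (fun i => ∏ j : Fin (mult d i),
      (Fintype.card F ^ mult d i - Fintype.card F ^ (j : ℕ)))]
    apply Finset.prod_congr rfl
    intro i _
    rw [card_unit_det]
    have hc : Fintype.card {k // bsize d k = i} = mult d i.val := by
      rw [Fintype.card_subtype]
      congr 1
      apply Finset.filter_congr
      intro k _
      exact bsize_eq d k i
    exact prod_fin_congr _ _ hc (fun n j => Fintype.card F ^ n - Fintype.card F ^ j)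
  rw [hprod]
  ring

end final


end Cfsg.Agent.Lib.Helper14.UJC
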