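import Cfsg.Agent.Lib.Helper14.GUConj7
import Cfsg.Agent.Lib.Helper14.UCentJC

set_option autoImplicit false
set_option linter.unusedSectionVars false

/-! # Unipotent centralisers in the unitary group: the conjugate transpose on any index type -/

namespace Cfsg.Agent.Lib.Helper14.UCent

open Matrix

section shp

variable {F : Type*} [Field F] (σ : F ≃+* F) {ι : Type*} [Fintype ι] [DecidableEq ι]

/-- the conjugate transpose -/
def shp (M : Matrix ι ι F) : Matrix ι ι F := (M.map σ)ᵀ

theorem shp_apply (M : Matrix ι ι F) (i j : ι) : shp σ M i j = σ (M j i) := rfl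

theorem shp_mul (M N : Matrix ι ι F) : shp σ (M * N) = shp σ N * shp σ M := by
  unfold shp
  have h : (M * N).map σ = M.map σ * N.map σ := Matrix.map_mul (f := (σ : F →+* F))
  rw [h, Matrix.transpose_mul]

theorem shp_shp (hσσ : ∀ a, σ (σ a) = a) (M : Matrix ι ι F) : shp σ (shp σ M) = M := by
  ext i j
  rw [shp_apply, shp_apply, hσσ]

theorem shp_one : shp σ (1 : Matrix ι ι F) = 1 := by
  ext i j
  rw [shp_apply, Matrix.one_apply, Matrix.one_apply]
  by_cases h : i = j
  · rw [if_pos h, if_pos h.symm, map_one]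
  · rw [if_neg h, if_neg (Ne.symm h), map_zero]

theorem shp_zero : shp σ (0 : Matrix ι ι F) = 0 := by
  ext i j
  rw [shp_apply, Matrix.zero_apply, Matrix.zero_apply, map_zero]

theorem shp_add (M N : Matrix ι ι F) : shp σ (M + N) = shp σ M + shp σ N := by
  ext i j
  rw [shp_apply, Matrix.add_apply, Matrix.add_apply, map_add, shp_apply, shp_apply]

theorem shp_neg (M : Matrix ι ι F) : shp σ (-M) = -shp σ M := by
  ext i j
  rw [shp_apply, Matrix.neg_apply, Matrix.neg_apply, map_neg, shp_apply]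

theorem shp_sub (M N : Matrix ι ι F) : shp σ (M - N) = shp σ M - shp σ N := by
  rw [sub_eq_add_neg, shp_add, shp_neg, ← sub_eq_add_neg]

theorem shp_smul (a : F) (M : Matrix ι ι F) : shp σ (a • M) = σ a • shp σ M := by
  ext i j
  rw [shp_apply, Matrix.smul_apply, Matrix.smul_apply, smul_eq_mul, smul_eq_mul, map_mul, shp_apply]

theorem det_shp (M : Matrix ι ι F) : (shp σ M).det = σ M.det := by
  unfold shp
  rw [Matrix.det_transpose]
  exact (RingHom.map_det (σ : F →+* F) M).symm

theorem shp_injective (hσσ : ∀ a, σ (σ a) = a) : Function.Injective (shp σ (ι := ι)) := by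
  intro M N h
  rw [← shp_shp σ hσσ M, h, shp_shp σ hσσ]

theorem shp_reindex {κ : Type*} [Fintype κ] [DecidableEq κ] (e : ι ≃ κ) (M : Matrix ι ι F) :
    shp σ (Matrix.reindex e e M) = Matrix.reindex e e (shp σ M) := by
  ext i j
  rfl

theorem shp_transpose (M : Matrix ι ι F) : shp σ Mᵀ = (shp σ M)ᵀ := by
  ext i j
  rfl

theorem shp_inv (M : Matrix ι ι F) (hM : IsUnit M.det) : shp σ M⁻¹ = (shp σ M)⁻¹ := by
  symm
  apply Matrix.inv_eq_right_inv
  rw [← shp_mul, Matrix.nonsing_inv_mul _ hM, shp_one]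

end shp

section fin

variable {F : Type*} [Field F] [Fintype F] {q : ℕ} (hF : Fintype.card F = q ^ 2) {n : ℕ}

open Cfsg.Agent.Lib.Helper14.HSemi (sigQ sigQ_apply)
open Cfsg.Agent.Lib.Helper14.GUConj (sharp)

theorem sharp_eq_shp (M : Matrix (Fin n) (Fin n) F) : sharp hF M = shp (sigQ hF) M := rfl

end fin

end Cfsg.Agent.Lib.Helper14.UCent
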