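import Cfsg.Agent.Lib.Helper14.UCent1

set_option autoImplicit false
set_option linter.unusedSectionVars false

/-! # Unipotent centralisers in the unitary group: invariant forms of a Jordan type matrix -/

namespace Cfsg.Agent.Lib.Helper14.UCent

open Matrix Cfsg.Agent.Lib.Helper14.JC

variable {F : Type*} [Field F] {t : ℕ} (d : Fin t → ℕ)

theorem J_mulVec (x : Idx d → F) : Cfsg.jordanTypeMatrix d F *ᵥ x = x + shift d x := by
  funext p
  exact jordanType_mulVec d x p

theorem isUnit_J : IsUnit (Cfsg.jordanTypeMatrix d F) := by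
  have h1 : IsNilpotent (Cfsg.jordanTypeMatrix d F - 1) := by
    refine ⟨Finset.univ.sup d, ?_⟩
    apply Matrix.toLin'.injective
    rw [Matrix.toLin'_pow, map_sub, toLin'_jordanType, Matrix.toLin'_one, map_zero]
    have h2 : (1 : Module.End F (Idx d → F)) + shift d - LinearMap.id = shift d := by
      rw [add_sub_assoc, add_comm]
      exact sub_add_cancel _ _
    have h3 : ((1 : Module.End F (Idx d → F)) + shift d - LinearMap.id) ^ Finset.univ.sup d = 0 := by
      rw [h2]
      apply LinearMap.ext
      intro x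
      exact shift_pow_large d x _ (fun k => Finset.le_sup (f := d) (Finset.mem_univ k))
    exact h3
  have h2 := h1.isUnit_add_one
  rwa [sub_add_cancel] at h2

theorem isUnit_J_det : IsUnit (Cfsg.jordanTypeMatrix d F).det :=
  (Matrix.isUnit_iff_isUnit_det _).mp (isUnit_J d)

/-- the bilinear pairing of a matrix -/
def bf (T : Matrix (Idx d) (Idx d) F) (x y : Idx d → F) : F := x ⬝ᵥ (T *ᵥ y)

theorem bf_add_left (T : Matrix (Idx d) (Idx d) F) (x x' y : Idx d → F) :
    bf d T (x + x') y = bf d T x y + bf d T x' y := by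
  unfold bf
  rw [add_dotProduct]

theorem bf_add_right (T : Matrix (Idx d) (Idx d) F) (x y y' : Idx d → F) :
    bf d T x (y + y') = bf d T x y + bf d T x y' := by
  unfold bf
  rw [Matrix.mulVec_add, dotProduct_add]

theorem bf_zero_left (T : Matrix (Idx d) (Idx d) F) (y : Idx d → F) : bf d T 0 y = 0 := by
  unfold bf
  rw [zero_dotProduct]

theorem bf_zero_right (T : Matrix (Idx d) (Idx d) F) (x : Idx d → F) : bf d T x 0 = 0 := by
  unfold bf
  rw [Matrix.mulVec_zero, dotProduct_zero]

theorem bf_single_left (T : Matrix (Idx d) (Idx d) F) (p : Idx d) (y : Idx d → F) :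
    bf d T (Pi.single p 1) y = (T *ᵥ y) p := by
  unfold bf
  rw [single_dotProduct, one_mul]

theorem bf_single (T : Matrix (Idx d) (Idx d) F) (p q : Idx d) :
    bf d T (Pi.single p 1) (Pi.single q 1) = T p q := by
  rw [bf_single_left, Matrix.mulVec_single_one]
  rfl

/-- invariance of the form under the Jordan type matrix -/
def Inv (T : Matrix (Idx d) (Idx d) F) : Prop :=
  (Cfsg.jordanTypeMatrix d F)ᵀ * T * Cfsg.jordanTypeMatrix d F = T

theorem bf_J (T : Matrix (Idx d) (Idx d) F) (x y : Idx d → F) :
    bf d T (x + shift d x) (y + shift d y) =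
      bf d ((Cfsg.jordanTypeMatrix d F)ᵀ * T * Cfsg.jordanTypeMatrix d F) x y := by
  unfold bf
  rw [← J_mulVec, ← J_mulVec, ← Matrix.mulVec_mulVec, ← Matrix.mulVec_mulVec,
    ← Matrix.vecMul_transpose, ← Matrix.dotProduct_mulVec]

theorem Inv.bf_eq {T : Matrix (Idx d) (Idx d) F} (hT : Inv d T) (x y : Idx d → F) :
    bf d T (x + shift d x) (y + shift d y) = bf d T x y := by
  rw [bf_J, hT]

theorem inv_of_bf {T : Matrix (Idx d) (Idx d) F}
    (h : ∀ x y, bf d T (x + shift d x) (y + shift d y) = bf d T x y) : Inv d T := by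
  unfold Inv
  ext p q
  have h1 := bf_single d ((Cfsg.jordanTypeMatrix d F)ᵀ * T * Cfsg.jordanTypeMatrix d F) p q
  rw [← h1, ← bf_J, h, bf_single]

/-- the basic adjunction -/
theorem Inv.adj {T : Matrix (Idx d) (Idx d) F} (hT : Inv d T) (x y : Idx d → F) :
    bf d T (shift d x) (y + shift d y) = - bf d T x (shift d y) := by
  have h := hT.bf_eq d x y
  rw [bf_add_left, bf_add_right] at h
  have h2 : bf d T x y + bf d T x (shift d y) + bf d T (shift d x) (y + shift d y) = bf d T x y := h
  have h3 : bf d T x (shift d y) + bf d T (shift d x) (y + shift d y) = 0 := by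
    have := congrArg (fun z => z - bf d T x y) h2
    simp only [sub_self] at this
    rw [← this]
    ring
  exact eq_neg_of_add_eq_zero_right h3

theorem Inv.adj_pow {T : Matrix (Idx d) (Idx d) F} (hT : Inv d T) (m : ℕ) (x y : Idx d → F) :
    bf d T x (((shift d) ^ m) y) =
      (-1) ^ m * bf d T (((shift d) ^ m) x) (((1 + shift d) ^ m) y) := by
  induction m generalizing x y with
  | zero => simp
  | succ m ih =>
    have hcomm : ∀ z : Idx d → F, ((shift d) ^ m) (z + shift d z) =
        ((shift d) ^ m) z + shift d (((shift d) ^ m) z) := by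
      intro z
      rw [map_add, ← Module.End.mul_apply, ← Module.End.mul_apply, ← pow_succ, ← pow_succ']
    have h1 : ((shift d) ^ (m + 1)) y = shift d (((shift d) ^ m) y) := by
      rw [pow_succ', Module.End.mul_apply]
    have h2 := hT.adj d x (((shift d) ^ m) y)
    have h3 : bf d T x (shift d (((shift d) ^ m) y)) =
        - bf d T (shift d x) (((shift d) ^ m) (y + shift d y)) := by
      rw [hcomm, h2, neg_neg]
    rw [h1, h3, ih (shift d x) (y + shift d y)]
    have h4 : ((shift d) ^ m) (shift d x) = ((shift d) ^ (m + 1)) x := by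
      rw [pow_succ, Module.End.mul_apply]
    have h5 : ((1 + shift d) ^ m) (y + shift d y) = ((1 + shift d) ^ (m + 1)) y := by
      rw [pow_succ, Module.End.mul_apply]
      rfl
    rw [h4, h5, pow_succ]
    ring

/-- vectors killed by the shift are orthogonal to the image of the shift -/
theorem Inv.kill {T : Matrix (Idx d) (Idx d) F} (hT : Inv d T) (x y : Idx d → F)
    (hx : shift d x = 0) : bf d T x (shift d y) = 0 := by
  have h := hT.adj d x y
  rw [hx, bf_zero_left] at h
  exact neg_eq_zero.mp h.symm

theorem Inv.kill_pow {T : Matrix (Idx d) (Idx d) F} (hT : Inv d T) (x y : Idx d → F)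
    (hx : shift d x = 0) (m : ℕ) : bf d T x (((1 + shift d) ^ m) y) = bf d T x y := by
  induction m with
  | zero => simp
  | succ m ih =>
    rw [pow_succ', Module.End.mul_apply, LinearMap.add_apply, Module.End.one_apply, bf_add_right, ih,
      hT.kill d x _ hx, add_zero]

/-- vectors killed by the shift: orthogonality on the other side -/
theorem Inv.kill' {T : Matrix (Idx d) (Idx d) F} (hT : Inv d T) (x y : Idx d → F)
    (hy : shift d y = 0) : bf d T (shift d x) y = 0 := by
  have h := hT.adj d x y
  rw [hy, add_zero, bf_zero_right, neg_zero] at h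
  exact h

section gen

variable (hd : ∀ k, 1 ≤ d k)

/-- the first index of a block -/
def first (k : Fin t) : Idx d := ⟨k, ⟨0, hd k⟩⟩

theorem gen_eq (k : Fin t) : gen (F := F) d hd k = Pi.single (first d hd k) 1 := rfl

theorem single_last (l : Fin t) :
    (Pi.single (last d hd l) 1 : Idx d → F) = ((shift d) ^ (d l - 1)) (gen d hd l) :=
  (shift_pow_gen d hd (last d hd l)).symm

theorem shift_pow_gen_ge (k : Fin t) (m : ℕ) (hm : d k ≤ m) :
    ((shift d) ^ m) (gen (F := F) d hd k) = 0 := by
  obtain ⟨j, rfl⟩ := Nat.exists_eq_add_of_le hm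
  rw [add_comm, pow_add, Module.End.mul_apply, shift_pow_gen_top, map_zero]

/-- the matrix of the pairing between generators and socle vectors -/
def Gm (T : Matrix (Idx d) (Idx d) F) : Matrix (Fin t) (Fin t) F :=
  fun l k => T (first d hd k) (last d hd l)

theorem Gm_apply (T : Matrix (Idx d) (Idx d) F) (l k : Fin t) :
    Gm d hd T l k = bf d T (gen d hd k) (((shift d) ^ (d l - 1)) (gen d hd l)) := by
  rw [← single_last, gen_eq, bf_single]
  rfl

theorem Gm_blockTriangular {T : Matrix (Idx d) (Idx d) F} (hT : Inv d T) :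
    (Gm d hd T).BlockTriangular (UJC.bsize d) := by
  intro l k hkl
  rw [UJC.bsize_lt] at hkl
  rw [Gm_apply, hT.adj_pow, shift_pow_gen_ge d hd k _ (by omega), bf_zero_left, mul_zero]

/-- the symmetry of the diagonal blocks -/
theorem Gm_symm {T : Matrix (Idx d) (Idx d) F} (hT : Inv d T) (k l : Fin t) (hkl : d k = d l) :
    T (first d hd k) (last d hd l) = (-1) ^ (d k - 1) * T (last d hd k) (first d hd l) := by
  have h0 : T (first d hd k) (last d hd l) = Gm d hd T l k := rfl
  rw [h0, Gm_apply, hT.adj_pow, ← hkl]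
  have hx : shift d (((shift d) ^ (d k - 1)) (gen (F := F) d hd k)) = 0 := by
    rw [← Module.End.mul_apply, ← pow_succ']
    have h1 : d k - 1 + 1 = d k := by have := hd k; omega
    rw [h1, shift_pow_gen_top]
  rw [hT.kill_pow d _ _ hx, ← single_last, gen_eq, bf_single]

theorem sum_socEmb (f : Idx d → F) (c : Fin t → F) :
    ∑ p, f p * socEmb d c p = ∑ l, f (last d hd l) * c l := by
  rw [Fintype.sum_sigma]
  apply Finset.sum_congr rfl
  intro l _
  rw [Finset.sum_eq_single (⟨d l - 1, by have := hd l; omega⟩ : Fin (d l))]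
  · show f (last d hd l) * (if (d l - 1) + 1 = d l then c l else 0) = _
    rw [if_pos (by have := hd l; omega)]
  · intro j _ hj
    have h1 : ¬ (j.val + 1 = d l) := by
      intro h
      apply hj
      apply Fin.ext
      simp only
      omega
    show f ⟨l, j⟩ * (if j.val + 1 = d l then c l else 0) = 0
    rw [if_neg h1, mul_zero]
  · intro h
    exact absurd (Finset.mem_univ _) h

theorem shift_socEmb (c : Fin t → F) : shift d (socEmb d c) = 0 := by
  funext p
  rw [shift_apply]
  by_cases h : 0 < p.2.val
  · rw [dif_pos h]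
    show (if (p.2.val - 1) + 1 = d p.1 then c p.1 else 0) = 0
    rw [if_neg]
    have := p.2.isLt
    omega
  · rw [dif_neg h]
    rfl

theorem eq_socEmb (w : Idx d → F) (hw : shift d w = 0) :
    w = socEmb d (fun l => w (last d hd l)) := by
  funext p
  show w p = if p.2.val + 1 = d p.1 then w (last d hd p.1) else 0
  by_cases h : p.2.val + 1 = d p.1
  · rw [if_pos h, ← eq_last d hd p h]
  · rw [if_neg h]
    apply shift_eq_zero d w hw
    have := p.2.isLt
    omega

theorem mulVec_socEmb_first (T : Matrix (Idx d) (Idx d) F) (c : Fin t → F) (k : Fin t) :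
    (T *ᵥ socEmb d c) (first d hd k) = (c ᵥ* Gm d hd T) k := by
  show ∑ p, T (first d hd k) p * socEmb d c p = ∑ l, c l * Gm d hd T l k
  rw [sum_socEmb d hd]
  apply Finset.sum_congr rfl
  intro l _
  rw [mul_comm]
  rfl

/-- the invertibility criterion -/
theorem Inv.isUnit_iff {T : Matrix (Idx d) (Idx d) F} (hT : Inv d T) :
    IsUnit T.det ↔ IsUnit (Gm d hd T).det := by
  rw [isUnit_iff_ne_zero, isUnit_iff_ne_zero, not_iff_not]
  constructor
  · intro h0
    obtain ⟨y, hy0, hy⟩ := Matrix.exists_mulVec_eq_zero_iff.mpr h0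
    -- the kernel is stable under the shift
    have hJT : IsUnit ((Cfsg.jordanTypeMatrix d F)ᵀ).det := by
      rw [Matrix.det_transpose]
      exact isUnit_J_det d
    have hstab : ∀ z, T *ᵥ z = 0 → T *ᵥ (shift d z) = 0 := by
      intro z hz
      have h1 : (Cfsg.jordanTypeMatrix d F)ᵀ *ᵥ (T *ᵥ (Cfsg.jordanTypeMatrix d F *ᵥ z)) = 0 := by
        rw [Matrix.mulVec_mulVec, Matrix.mulVec_mulVec, hT, hz]
      have h2 : T *ᵥ (Cfsg.jordanTypeMatrix d F *ᵥ z) = 0 := by
        have hinj := Matrix.mulVec_injective_iff_isUnit.mpr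
          ((Matrix.isUnit_iff_isUnit_det _).mpr hJT)
        apply hinj
        rw [h1, Matrix.mulVec_zero]
      rw [J_mulVec, Matrix.mulVec_add, hz, zero_add] at h2
      exact h2
    have hstabp : ∀ (j : ℕ) z, T *ᵥ z = 0 → T *ᵥ (((shift d) ^ j) z) = 0 := by
      intro j
      induction j with
      | zero => intro z hz; simpa using hz
      | succ j ih =>
        intro z hz
        rw [pow_succ', Module.End.mul_apply]
        exact hstab _ (ih z hz)
    obtain ⟨j, hj1, hj2⟩ := exists_socle_vector d y hy0
    set w := ((shift d) ^ j) y with hw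
    have hTw : T *ᵥ w = 0 := hstabp j y hy
    have hwe := eq_socEmb d hd w hj2
    apply Matrix.exists_vecMul_eq_zero_iff.mp
    refine ⟨fun l => w (last d hd l), ?_, ?_⟩
    · intro hc
      apply hj1
      rw [hwe, hc]
      exact map_zero _
    · funext k
      rw [← mulVec_socEmb_first, ← hwe, hTw]
      rfl
  · intro h0
    obtain ⟨c, hc0, hc⟩ := Matrix.exists_vecMul_eq_zero_iff.mpr h0
    apply Matrix.exists_mulVec_eq_zero_iff.mp
    refine ⟨socEmb d c, ?_, ?_⟩
    · intro h
      apply hc0
      apply socEmb_injective (F := F) d hd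
      rw [h, map_zero]
    · funext p
      rw [← bf_single_left, ← shift_pow_gen d hd p]
      show bf d T (((shift d) ^ p.2.val) (gen d hd p.1)) (socEmb d c) = 0
      rcases Nat.eq_zero_or_pos p.2.val with h1 | h1
      · rw [h1, pow_zero, Module.End.one_apply, gen_eq, bf_single_left, mulVec_socEmb_first, hc]
        rfl
      · obtain ⟨j, hj⟩ := Nat.exists_eq_succ_of_ne_zero (Nat.pos_iff_ne_zero.mp h1)
        rw [hj, pow_succ', Module.End.mul_apply]
        exact hT.kill' d _ _ (shift_socEmb d c)

end gen

end Cfsg.Agent.Lib.Helper14.UCent
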