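import Cfsg.Agent.Lib.Helper14.UCent2

set_option autoImplicit false
set_option linter.unusedSectionVars false

/-! # Unipotent centralisers in the unitary group: counting the commutant of a Jordan type matrix -/

namespace Cfsg.Agent.Lib.Helper14.UCent

open Matrix Cfsg.Agent.Lib.Helper14.JC

section general

/-- preimages under a homomorphism of finite additive groups -/
theorem card_preimage_addHom {G H : Type*} [AddGroup G] [AddGroup H] [Finite G] [Finite H]
    (φ : G →+ H) (Y : Set H) (hY : ∀ y ∈ Y, ∃ g, φ g = y) :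
    Nat.card {g : G // φ g ∈ Y} = Nat.card φ.ker * Nat.card Y := by
  rw [mul_comm]
  apply UJC.card_eq_mul_of_fibers (fun g : {g : G // φ g ∈ Y} => (⟨φ g.1, g.2⟩ : Y))
  intro y
  obtain ⟨g₀, hg₀⟩ := hY y.1 y.2
  refine Nat.card_congr
    { toFun := fun a => ⟨a.1.1 + -g₀, ?_⟩
      invFun := fun k => ⟨⟨k.1 + g₀, ?_⟩, ?_⟩
      left_inv := ?_
      right_inv := ?_ }
  · rw [AddMonoidHom.mem_ker, map_add, map_neg, hg₀]
    have h1 : φ a.1.1 = y.1 := congrArg Subtype.val a.2
    rw [h1, add_neg_cancel]
  · rw [map_add, hg₀, (AddMonoidHom.mem_ker).mp k.2, zero_add]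
    exact y.2
  · apply Subtype.ext
    show φ (k.1 + g₀) = y.1
    rw [map_add, hg₀, (AddMonoidHom.mem_ker).mp k.2, zero_add]
  · intro a
    apply Subtype.ext
    apply Subtype.ext
    show a.1.1 + -g₀ + g₀ = a.1.1
    rw [neg_add_cancel_right]
  · intro k
    apply Subtype.ext
    show k.1 + g₀ + -g₀ = k.1
    rw [add_neg_cancel_right]

end general

variable {F : Type*} [Field F] {t : ℕ} (d : Fin t → ℕ) (hd : ∀ k, 1 ≤ d k)

/-- the blocks of equal size -/
abbrev Kap (i : Fin (Finset.univ.sup d + 1)) : Type := {k : Fin t // UJC.bsize d k = i}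

/-- families of square matrices indexed by the block sizes -/
abbrev Blk (F : Type*) : Type _ :=
  ∀ i : Fin (Finset.univ.sup d + 1), Matrix (Kap d i) (Kap d i) F

/-- the exponent -/
def gam : ℕ :=
  2 * (∑ i ∈ Finset.range (Finset.univ.sup d + 1), ∑ j ∈ Finset.range (Finset.univ.sup d + 1),
      if i < j then i * UJC.mult d i * UJC.mult d j else 0) +
    ∑ i ∈ Finset.range (Finset.univ.sup d + 1), (i - 1) * UJC.mult d i ^ 2

theorem Amat_add (v w : Fin t → Idx d → F) : Amat d hd (v + w) = Amat d hd v + Amat d hd w := by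
  ext k l
  rw [Matrix.add_apply]
  unfold Amat
  by_cases h : d k ≤ d l
  · simp only [dif_pos h, Pi.add_apply]
  · simp only [dif_neg h, add_zero]

/-- the diagonal blocks of the matrix of leading coefficients -/
def piA : (Fin t → Idx d → F) →+ Blk d F where
  toFun v := fun i => (Amat d hd v).toSquareBlock (UJC.bsize d) i
  map_zero' := by
    funext i
    ext a b
    show Amat d hd 0 a.1 b.1 = 0
    unfold Amat
    by_cases h : d a.1 ≤ d b.1
    · simp only [dif_pos h, Pi.zero_apply]
    · simp only [dif_neg h]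
  map_add' v w := by
    funext i
    ext a b
    show Amat d hd (v + w) a.1 b.1 = Amat d hd v a.1 b.1 + Amat d hd w a.1 b.1
    rw [Amat_add, Matrix.add_apply]

/-- the generators with prescribed matrix of leading coefficients -/
def vOf (A : Matrix (Fin t) (Fin t) F) : Fin t → Idx d → F :=
  fun k p => if d p.1 = p.2.val + d k then A k p.1 else 0

theorem supp_vOf (A : Matrix (Fin t) (Fin t) F) : Supp d (vOf d A) := by
  intro k p hp
  show (if d p.1 = p.2.val + d k then A k p.1 else 0) = 0
  rw [if_neg (by omega)]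

theorem Amat_vOf (A : Matrix (Fin t) (Fin t) F) (hA : A.BlockTriangular (UJC.bsize d)) :
    Amat d hd (vOf d A) = A := by
  ext k l
  show (if h : d k ≤ d l then vOf d A k ⟨l, ⟨d l - d k, _⟩⟩ else 0) = A k l
  by_cases h : d k ≤ d l
  · rw [dif_pos h]
    show (if d l = d l - d k + d k then A k l else 0) = A k l
    rw [if_pos (by omega)]
  · rw [dif_neg h]
    have h1 : UJC.bsize d l < UJC.bsize d k := by
      rw [UJC.bsize_lt]
      omega
    exact (hA h1).symm

/-- the subgroup of admissible generator families -/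
def Vs : AddSubgroup (Fin t → Idx d → F) where
  carrier := {v | Supp d v}
  zero_mem' := fun k p _ => rfl
  add_mem' := by
    intro v w hv hw k p hp
    show v k p + w k p = 0
    rw [hv k p hp, hw k p hp, add_zero]
  neg_mem' := by
    intro v hv k p hp
    show -(v k p) = 0
    rw [hv k p hp, neg_zero]

theorem mem_Vs (v : Fin t → Idx d → F) : v ∈ Vs d ↔ Supp d v := Iff.rfl

/-- the block diagonal matrix of a family -/
def Dg (s : Blk d F) : Matrix (Fin t) (Fin t) F :=
  fun l k => if h : UJC.bsize d k = UJC.bsize d l then s (UJC.bsize d l) ⟨l, rfl⟩ ⟨k, h⟩ else 0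

theorem Dg_blockTriangular (s : Blk d F) : (Dg d s).BlockTriangular (UJC.bsize d) := by
  intro l k hkl
  show (if h : UJC.bsize d k = UJC.bsize d l then _ else 0) = 0
  rw [dif_neg (ne_of_lt hkl)]

theorem Dg_block (s : Blk d F) (i : Fin (Finset.univ.sup d + 1)) :
    (Dg d s).toSquareBlock (UJC.bsize d) i = s i := by
  ext a b
  obtain ⟨a, rfl⟩ := a
  show (if h : UJC.bsize d b.1 = UJC.bsize d a then s (UJC.bsize d a) ⟨a, rfl⟩ ⟨b.1, h⟩ else 0) = _
  rw [dif_pos b.2]

theorem isUnit_det_iff_blocks (A : Matrix (Fin t) (Fin t) F)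
    (hA : A.BlockTriangular (UJC.bsize d)) :
    IsUnit A.det ↔ ∀ i, IsUnit (A.toSquareBlock (UJC.bsize d) i).det := by
  classical
  rw [hA.det_fintype]
  simp only [isUnit_iff_ne_zero]
  exact Finset.prod_ne_zero_iff.trans ⟨fun h i => h i (Finset.mem_univ i), fun h i _ => h i⟩

section count

variable [Fintype F]

include hd in
theorem card_V_units :
    Nat.card {v : Fin t → Idx d → F // Supp d v ∧ IsUnit (Amat d hd v).det} =
      Fintype.card F ^ gam d *
        ∏ i, Nat.card {B : Matrix (Kap d i) (Kap d i) F // IsUnit B.det} := by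
  classical
  rw [UJC.card_param d hd, UJC.card_blockTriangular (UJC.bsize d), gam, ← UJC.exponent_eq d hd,
    pow_add]
  ring

/-- the restriction of `piA` to the admissible families -/
def piV : ↥(Vs (F := F) d) →+ Blk d F := (piA d hd).comp (Vs d).subtype

theorem piV_surjective (s : Blk d F) : ∃ v : ↥(Vs (F := F) d), piV d hd v = s := by
  refine ⟨⟨vOf d (Dg d s), supp_vOf d _⟩, ?_⟩
  funext i
  show (Amat d hd (vOf d (Dg d s))).toSquareBlock (UJC.bsize d) i = s i
  rw [Amat_vOf d hd _ (Dg_blockTriangular d s), Dg_block]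

theorem card_ker_piV : Nat.card (piV (F := F) d hd).ker = Fintype.card F ^ gam d := by
  classical
  have h1 := card_preimage_addHom (piV (F := F) d hd) {s | ∀ i, IsUnit (s i).det}
    (fun s _ => piV_surjective d hd s)
  have h2 : Nat.card {v : ↥(Vs (F := F) d) // piV d hd v ∈ {s : Blk d F | ∀ i, IsUnit (s i).det}} =
      Nat.card {v : Fin t → Idx d → F // Supp d v ∧ IsUnit (Amat d hd v).det} := by
    refine Nat.card_congr
      { toFun := fun v => ⟨v.1.1, v.1.2, ?_⟩
        invFun := fun v => ⟨⟨v.1, v.2.1⟩, ?_⟩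
        left_inv := fun v => rfl
        right_inv := fun v => rfl }
    · rw [isUnit_det_iff_blocks d _ (UJC.Amat_blockTriangular d hd v.1.1)]
      exact v.2
    · show ∀ i, IsUnit ((Amat d hd v.1).toSquareBlock (UJC.bsize d) i).det
      rw [← isUnit_det_iff_blocks d _ (UJC.Amat_blockTriangular d hd v.1)]
      exact v.2.2
  have h3 : Nat.card {s : Blk d F // ∀ i, IsUnit (s i).det} =
      ∏ i, Nat.card {B : Matrix (Kap d i) (Kap d i) F // IsUnit B.det} := by
    rw [← Nat.card_pi]
    exact Nat.card_congr (Equiv.subtypePiEquivPi (p := fun i (B : Matrix (Kap d i) (Kap d i) F) =>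
      IsUnit B.det))
  rw [h2, card_V_units d hd] at h1
  have h4 : Nat.card ↥{s : Blk d F | ∀ i, IsUnit (s i).det} =
      ∏ i, Nat.card {B : Matrix (Kap d i) (Kap d i) F // IsUnit B.det} := h3
  rw [h4] at h1
  have hpos : 0 < ∏ i, Nat.card {B : Matrix (Kap d i) (Kap d i) F // IsUnit B.det} := by
    apply Finset.prod_pos
    intro i _
    apply Nat.card_pos_iff.mpr
    exact ⟨⟨⟨1, by rw [Matrix.det_one]; exact isUnit_one⟩⟩, inferInstance⟩
  exact (Nat.eq_of_mul_eq_mul_right hpos h1).symm

include hd in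
theorem card_V :
    Nat.card {v : Fin t → Idx d → F // Supp d v} = Fintype.card F ^ gam d * Nat.card (Blk d F) := by
  have h1 := card_preimage_addHom (piV (F := F) d hd) Set.univ
    (fun s _ => piV_surjective d hd s)
  rw [card_ker_piV, Nat.card_congr (Equiv.Set.univ _)] at h1
  rw [← h1]
  exact Nat.card_congr
    { toFun := fun v => ⟨⟨v.1, v.2⟩, Set.mem_univ _⟩
      invFun := fun v => ⟨v.1.1, v.1.2⟩
      left_inv := fun v => rfl
      right_inv := fun v => rfl }

end count

end Cfsg.Agent.Lib.Helper14.UCent
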