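import Cfsg.Agent.Lib.Helper14.UCent3

set_option autoImplicit false
set_option linter.unusedSectionVars false

/-! # Unipotent centralisers in the unitary group: the invariant forms and the commutant -/

namespace Cfsg.Agent.Lib.Helper14.UCent

open Matrix Cfsg.Agent.Lib.Helper14.JC

variable {F : Type*} [Field F] {t : ℕ} (d : Fin t → ℕ) (hd : ∀ k, 1 ≤ d k)

theorem inv_zero : Inv d (0 : Matrix (Idx d) (Idx d) F) := by
  unfold Inv
  rw [Matrix.mul_zero, Matrix.zero_mul]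

theorem Inv.add {T T' : Matrix (Idx d) (Idx d) F} (h : Inv d T) (h' : Inv d T') :
    Inv d (T + T') := by
  unfold Inv at *
  rw [Matrix.mul_add, Matrix.add_mul, h, h']

theorem Inv.smul {T : Matrix (Idx d) (Idx d) F} (h : Inv d T) (a : F) : Inv d (a • T) := by
  unfold Inv at *
  rw [Matrix.mul_smul, Matrix.smul_mul, h]

theorem Inv.neg {T : Matrix (Idx d) (Idx d) F} (h : Inv d T) : Inv d (-T) := by
  unfold Inv at *
  rw [Matrix.mul_neg, Matrix.neg_mul, h]

theorem Inv.mul_commute {T₀ c : Matrix (Idx d) (Idx d) F} (h₀ : Inv d T₀)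
    (hc : c * Cfsg.jordanTypeMatrix d F = Cfsg.jordanTypeMatrix d F * c) : Inv d (T₀ * c) := by
  unfold Inv at *
  calc (Cfsg.jordanTypeMatrix d F)ᵀ * (T₀ * c) * Cfsg.jordanTypeMatrix d F
      = (Cfsg.jordanTypeMatrix d F)ᵀ * T₀ * (c * Cfsg.jordanTypeMatrix d F) := by
        simp only [Matrix.mul_assoc]
    _ = (Cfsg.jordanTypeMatrix d F)ᵀ * T₀ * Cfsg.jordanTypeMatrix d F * c := by
        rw [hc]
        simp only [Matrix.mul_assoc]
    _ = T₀ * c := by rw [h₀]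

theorem Inv.commute_of {T₀ T : Matrix (Idx d) (Idx d) F} (h₀ : Inv d T₀) (hT : Inv d T)
    (hu : IsUnit T₀.det) :
    (T₀⁻¹ * T) * Cfsg.jordanTypeMatrix d F = Cfsg.jordanTypeMatrix d F * (T₀⁻¹ * T) := by
  have hT₀ : T₀ * (T₀⁻¹ * T) = T := by
    rw [← Matrix.mul_assoc, Matrix.mul_nonsing_inv _ hu, Matrix.one_mul]
  have h1 : (Cfsg.jordanTypeMatrix d F)ᵀ * T₀ * ((T₀⁻¹ * T) * Cfsg.jordanTypeMatrix d F) = T := by
    calc (Cfsg.jordanTypeMatrix d F)ᵀ * T₀ * ((T₀⁻¹ * T) * Cfsg.jordanTypeMatrix d F)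
        = (Cfsg.jordanTypeMatrix d F)ᵀ * (T₀ * (T₀⁻¹ * T)) * Cfsg.jordanTypeMatrix d F := by
          simp only [Matrix.mul_assoc]
      _ = T := by rw [hT₀]; exact hT
  have h2 : (Cfsg.jordanTypeMatrix d F)ᵀ * T₀ * (Cfsg.jordanTypeMatrix d F * (T₀⁻¹ * T)) = T := by
    calc (Cfsg.jordanTypeMatrix d F)ᵀ * T₀ * (Cfsg.jordanTypeMatrix d F * (T₀⁻¹ * T))
        = ((Cfsg.jordanTypeMatrix d F)ᵀ * T₀ * Cfsg.jordanTypeMatrix d F) * (T₀⁻¹ * T) := by
          simp only [Matrix.mul_assoc]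
      _ = T := by rw [h₀, hT₀]
  have hunit : IsUnit ((Cfsg.jordanTypeMatrix d F)ᵀ * T₀) := by
    rw [Matrix.isUnit_iff_isUnit_det, Matrix.det_mul, Matrix.det_transpose]
    exact (isUnit_J_det d).mul hu
  exact hunit.mul_left_cancel (h1.trans h2.symm)

include hd in
/-- the invariant forms are parametrised by the commutant -/
theorem card_inv_eq (T₀ : Matrix (Idx d) (Idx d) F) (h₀ : Inv d T₀) (hu : IsUnit T₀.det) :
    Nat.card {T : Matrix (Idx d) (Idx d) F // Inv d T} =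
      Nat.card {v : Fin t → Idx d → F // Supp d v} := by
  have key : ∀ c : Matrix (Idx d) (Idx d) F,
      c * Cfsg.jordanTypeMatrix d F = Cfsg.jordanTypeMatrix d F * c →
      (∀ x, Matrix.toLin' c (shift d x) = shift d (Matrix.toLin' c x)) := by
    intro c hc x
    rw [Matrix.toLin'_apply, Matrix.toLin'_apply]
    exact (commute_iff d c).mp hc x
  have hLc : ∀ v : Fin t → Idx d → F, Supp d v →
      LinearMap.toMatrix' (Lmap d v) * Cfsg.jordanTypeMatrix d F =
        Cfsg.jordanTypeMatrix d F * LinearMap.toMatrix' (Lmap d v) := by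
    intro v hv
    rw [commute_iff]
    intro x
    rw [LinearMap.toMatrix'_mulVec, LinearMap.toMatrix'_mulVec]
    exact Lmap_shift d hd v ((supp_iff d v).mp hv) x
  refine Nat.card_congr
    { toFun := fun T => ⟨fun k => (T₀⁻¹ * T.1) *ᵥ gen d hd k, ?_⟩
      invFun := fun v => ⟨T₀ * LinearMap.toMatrix' (Lmap d v.1), h₀.mul_commute d (hLc v.1 v.2)⟩
      left_inv := ?_
      right_inv := ?_ }
  · rw [supp_iff]
    intro k
    have := gen_pow_zero d hd (Matrix.toLin' (T₀⁻¹ * T.1)) (key _ (h₀.commute_of d T.2 hu)) k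
    rwa [Matrix.toLin'_apply] at this
  · intro T
    apply Subtype.ext
    show T₀ * LinearMap.toMatrix' (Lmap d (fun k => (T₀⁻¹ * T.1) *ᵥ gen d hd k)) = T.1
    have h1 := eq_Lmap d hd (Matrix.toLin' (T₀⁻¹ * T.1)) (key _ (h₀.commute_of d T.2 hu))
    have h2 : (fun k => Matrix.toLin' (T₀⁻¹ * T.1) (gen d hd k)) =
        fun k => (T₀⁻¹ * T.1) *ᵥ gen d hd k := by
      funext k
      rw [Matrix.toLin'_apply]
    rw [h2] at h1
    rw [← h1, LinearMap.toMatrix'_toLin', ← Matrix.mul_assoc, Matrix.mul_nonsing_inv _ hu,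
      Matrix.one_mul]
  · intro v
    apply Subtype.ext
    funext k
    show (T₀⁻¹ * (T₀ * LinearMap.toMatrix' (Lmap d v.1))) *ᵥ gen d hd k = v.1 k
    rw [← Matrix.mul_assoc, Matrix.nonsing_inv_mul _ hu, Matrix.one_mul,
      LinearMap.toMatrix'_mulVec, Lmap_gen]

section sigma

variable (σ : F ≃+* F)

theorem jordanBlock_map (n : ℕ) : (Cfsg.jordanBlock n F).map σ = Cfsg.jordanBlock n F := by
  ext i j
  simp only [Cfsg.jordanBlock, Matrix.map_apply, Matrix.of_apply]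
  split_ifs <;> simp

theorem J_map : (Cfsg.jordanTypeMatrix d F).map σ = Cfsg.jordanTypeMatrix d F := by
  unfold Cfsg.jordanTypeMatrix
  rw [Matrix.blockDiagonal'_map _ _ (map_zero σ)]
  congr 1
  funext k
  exact jordanBlock_map σ (d k)

theorem shp_J : shp σ (Cfsg.jordanTypeMatrix d F) = (Cfsg.jordanTypeMatrix d F)ᵀ := by
  unfold shp
  rw [J_map]

theorem shp_Jt : shp σ (Cfsg.jordanTypeMatrix d F)ᵀ = Cfsg.jordanTypeMatrix d F := by
  rw [shp_transpose, shp_J, Matrix.transpose_transpose]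

theorem Inv.conjT {T : Matrix (Idx d) (Idx d) F} (h : Inv d T) : Inv d (shp σ T) := by
  unfold Inv at *
  have h1 := congrArg (shp σ) h
  rw [shp_mul, shp_mul, shp_J, shp_Jt] at h1
  rw [← Matrix.mul_assoc] at h1
  exact h1

/-- the invariant matrices -/
def Sm : Submodule F (Matrix (Idx d) (Idx d) F) where
  carrier := {T | Inv d T}
  zero_mem' := inv_zero d
  add_mem' := fun h h' => h.add d h'
  smul_mem' := fun a _ h => h.smul d a

theorem mem_Sm (T : Matrix (Idx d) (Idx d) F) : T ∈ Sm d ↔ Inv d T := Iff.rfl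

theorem card_herm_sq [Fintype F] (hσσ : ∀ a, σ (σ a) = a) (hσne : ∃ a, σ a ≠ a) :
    Nat.card {T : Matrix (Idx d) (Idx d) F // Inv d T ∧ shp σ T = T} ^ 2 =
      Nat.card {T : Matrix (Idx d) (Idx d) F // Inv d T} := by
  have h1 := HCount.card_fixed_sq σ (W := ↥(Sm (F := F) d)) hσσ hσne
    (fun T => ⟨shp σ T.1, T.2.conjT d σ⟩)
    (fun x y => Subtype.ext (shp_add σ x.1 y.1))
    (fun c w => Subtype.ext (shp_smul σ c w.1))
    (fun w => Subtype.ext (shp_shp σ hσσ w.1))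
  have h2 : Nat.card {w : ↥(Sm (F := F) d) // (⟨shp σ w.1, w.2.conjT d σ⟩ : ↥(Sm (F := F) d)) = w} =
      Nat.card {T : Matrix (Idx d) (Idx d) F // Inv d T ∧ shp σ T = T} :=
    Nat.card_congr
      { toFun := fun w => ⟨w.1.1, w.1.2, congrArg Subtype.val w.2⟩
        invFun := fun T => ⟨⟨T.1, T.2.1⟩, Subtype.ext T.2.2⟩
        left_inv := fun w => rfl
        right_inv := fun T => rfl }
  rw [← h2, h1]
  rfl

end sigma

end Cfsg.Agent.Lib.Helper14.UCent
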