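import Cfsg.Agent.Lib.Helper14.UCent4

set_option autoImplicit false
set_option linter.unusedSectionVars false

/-! # Unipotent centralisers in the unitary group: counting the invariant hermitian forms -/

namespace Cfsg.Agent.Lib.Helper14.UCent

open Matrix Cfsg.Agent.Lib.Helper14.JC

variable {F : Type*} [Field F] {t : ℕ} (d : Fin t → ℕ) (hd : ∀ k, 1 ≤ d k)

/-- the diagonal blocks of the pairing matrix -/
def Phi : Matrix (Idx d) (Idx d) F →+ Blk d F where
  toFun T := fun i => (Gm d hd T).toSquareBlock (UJC.bsize d) i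
  map_zero' := by
    funext i
    ext a b
    rfl
  map_add' T T' := by
    funext i
    ext a b
    rfl

theorem Phi_apply (T : Matrix (Idx d) (Idx d) F) (i : Fin (Finset.univ.sup d + 1))
    (a b : Kap d i) : Phi d hd T i a b = T (first d hd b.1) (last d hd a.1) := rfl

theorem Phi_smul (c : F) (T : Matrix (Idx d) (Idx d) F) (i : Fin (Finset.univ.sup d + 1)) :
    Phi d hd (c • T) i = c • Phi d hd T i := by
  ext a b
  rfl

/-- the signs -/
def eps (i : Fin (Finset.univ.sup d + 1)) : F := (-1) ^ (i.val - 1)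

theorem eps_mul_eps (i : Fin (Finset.univ.sup d + 1)) : eps (F := F) d i * eps d i = 1 := by
  unfold eps
  rw [← pow_add, ← two_mul, pow_mul]
  simp

theorem Gm_mul (T₀ : Matrix (Idx d) (Idx d) F) (v : Fin t → Idx d → F) (hv : Supp d v) :
    Gm d hd (T₀ * LinearMap.toMatrix' (Lmap d v)) = Amat d hd v * Gm d hd T₀ := by
  ext l k
  show (T₀ * LinearMap.toMatrix' (Lmap d v)) (first d hd k) (last d hd l) =
    ∑ l', Amat d hd v l l' * Gm d hd T₀ l' k
  rw [Matrix.mul_apply]
  have h1 : ∀ p, LinearMap.toMatrix' (Lmap d v) p (last d hd l) = socEmb d (Amat d hd v l) p := by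
    intro p
    rw [LinearMap.toMatrix'_apply, ← soc_eq_socEmb d hd v hv l, soc_eq_Lmap d hd v l]
  simp only [h1]
  rw [sum_socEmb d hd]
  apply Finset.sum_congr rfl
  intro l' _
  rw [mul_comm]
  rfl

section sigma

variable (σ : F ≃+* F)

theorem sig_eps (i : Fin (Finset.univ.sup d + 1)) : σ (eps (F := F) d i) = eps d i := by
  unfold eps
  rw [map_pow, map_neg, map_one]

theorem Phi_shp {T : Matrix (Idx d) (Idx d) F} (hT : Inv d T)
    (i : Fin (Finset.univ.sup d + 1)) :
    Phi d hd (shp σ T) i = eps (F := F) d i • shp σ (Phi d hd T i) := by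
  ext a b
  rw [Matrix.smul_apply, shp_apply, Phi_apply, Phi_apply, shp_apply, smul_eq_mul]
  have ha : d a.1 = i.val := (UJC.bsize_eq d a.1 i).mp a.2
  have hb : d b.1 = i.val := (UJC.bsize_eq d b.1 i).mp b.2
  have h1 := Gm_symm d hd hT a.1 b.1 (by rw [ha, hb])
  rw [h1, map_mul, ha]
  have h2 : σ ((-1 : F) ^ (i.val - 1)) = eps d i := sig_eps d σ i
  rw [h2, ← mul_assoc, eps_mul_eps, one_mul]

variable (hσσ : ∀ a, σ (σ a) = a)

include hσσ in
/-- every family of `ε`-hermitian matrices comes from an invariant hermitian form -/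
theorem exists_form (T₀ : Matrix (Idx d) (Idx d) F) (h₀ : Inv d T₀) (hu : IsUnit T₀.det)
    (lam : F) (hlam : lam + σ lam = 1) (s : Blk d F)
    (hs : ∀ i, shp σ (s i) = eps (F := F) d i • s i) :
    ∃ T : Matrix (Idx d) (Idx d) F, Inv d T ∧ shp σ T = T ∧ Phi d hd T = s := by
  have hG₀u : IsUnit (Gm d hd T₀).det := (h₀.isUnit_iff d hd).mp hu
  have hG₀bt := Gm_blockTriangular d hd h₀
  haveI : Invertible (Gm d hd T₀) := Matrix.invertibleOfIsUnitDet _ hG₀u
  set A := Dg d s * (Gm d hd T₀)⁻¹ with hA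
  have hAbt : A.BlockTriangular (UJC.bsize d) :=
    (Dg_blockTriangular d s).mul (Matrix.blockTriangular_inv_of_blockTriangular hG₀bt)
  set v := vOf d A with hv
  have hvs : Supp d v := supp_vOf d A
  have hAv : Amat d hd v = A := Amat_vOf d hd A hAbt
  set c := LinearMap.toMatrix' (Lmap d v) with hc
  have hcJ : c * Cfsg.jordanTypeMatrix d F = Cfsg.jordanTypeMatrix d F * c := by
    rw [commute_iff]
    intro x
    rw [hc, LinearMap.toMatrix'_mulVec, LinearMap.toMatrix'_mulVec]
    exact Lmap_shift d hd v ((supp_iff d v).mp hvs) x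
  set T' := T₀ * c with hT'
  have hT'inv : Inv d T' := h₀.mul_commute d hcJ
  have hGT' : Gm d hd T' = Dg d s := by
    rw [hT', hc, Gm_mul d hd T₀ v hvs, hAv, hA, Matrix.mul_assoc,
      Matrix.nonsing_inv_mul _ hG₀u, Matrix.mul_one]
  have hPT' : Phi d hd T' = s := by
    funext i
    show (Gm d hd T').toSquareBlock (UJC.bsize d) i = s i
    rw [hGT', Dg_block]
  refine ⟨lam • T' + σ lam • shp σ T', ?_, ?_, ?_⟩
  · exact (hT'inv.smul d lam).add d ((hT'inv.conjT d σ).smul d (σ lam))
  · rw [shp_add, shp_smul, shp_smul, hσσ, shp_shp σ hσσ, add_comm]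
  · funext i
    rw [map_add, Pi.add_apply, Phi_smul, Phi_smul, Phi_shp d hd σ hT'inv, hPT', hs, smul_smul,
      smul_smul, mul_assoc (σ lam), eps_mul_eps, mul_one, ← add_smul, hlam, one_smul]

end sigma

end Cfsg.Agent.Lib.Helper14.UCent
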