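import Cfsg.Agent.Lib.Helper14.UCent5

set_option autoImplicit false
set_option linter.unusedSectionVars false

/-! # Unipotent centralisers in the unitary group: the number of invariant hermitian forms -/

namespace Cfsg.Agent.Lib.Helper14.UCent

open Matrix Cfsg.Agent.Lib.Helper14.JC

variable {F : Type*} [Field F] [Fintype F] {t : ℕ} (d : Fin t → ℕ) (hd : ∀ k, 1 ≤ d k)
variable (σ : F ≃+* F) (hσσ : ∀ a, σ (σ a) = a)

/-- the invariant hermitian matrices -/
def Hm : AddSubgroup (Matrix (Idx d) (Idx d) F) where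
  carrier := {T | Inv d T ∧ shp σ T = T}
  zero_mem' := ⟨inv_zero d, shp_zero σ⟩
  add_mem' := by
    intro T T' h h'
    exact ⟨h.1.add d h'.1, by rw [shp_add, h.2, h'.2]⟩
  neg_mem' := by
    intro T h
    exact ⟨h.1.neg d, by rw [shp_neg, h.2]⟩

/-- the restriction of `Phi` to the invariant hermitian matrices -/
def phiH : ↥(Hm d σ) →+ Blk d F := (Phi d hd).comp (Hm d σ).subtype

theorem phiH_apply (T : ↥(Hm d σ)) : phiH d hd σ T = Phi d hd T.1 := rfl

theorem phiH_mem (T : ↥(Hm d σ)) (i : Fin (Finset.univ.sup d + 1)) :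
    shp σ (phiH d hd σ T i) = eps (F := F) d i • phiH d hd σ T i := by
  have h1 := Phi_shp d hd σ T.2.1 i
  rw [T.2.2] at h1
  rw [phiH_apply]
  have h2 := congrArg (fun M => eps (F := F) d i • M) h1
  simp only [smul_smul, eps_mul_eps, one_smul] at h2
  exact h2.symm

include hσσ in
theorem card_rset_sq (hσne : ∃ a, σ a ≠ a) :
    Nat.card {s : Blk d F // ∀ i, shp σ (s i) = eps (F := F) d i • s i} ^ 2 =
      Nat.card (Blk d F) := by
  have h1 := HCount.card_fixed_sq σ (W := Blk d F) hσσ hσne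
    (fun s i => eps (F := F) d i • shp σ (s i))
    (fun x y => by
      funext i
      show eps (F := F) d i • shp σ (x i + y i) = eps d i • shp σ (x i) + eps d i • shp σ (y i)
      rw [shp_add, smul_add])
    (fun c w => by
      funext i
      show eps (F := F) d i • shp σ (c • w i) = σ c • (eps d i • shp σ (w i))
      rw [shp_smul, smul_comm])
    (fun w => by
      funext i
      show eps (F := F) d i • shp σ (eps d i • shp σ (w i)) = w i
      rw [shp_smul, sig_eps, shp_shp σ hσσ, smul_smul, eps_mul_eps, one_smul])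
  rw [← h1]
  congr 1
  refine Nat.card_congr
    { toFun := fun s => ⟨s.1, ?_⟩
      invFun := fun s => ⟨s.1, ?_⟩
      left_inv := fun s => rfl
      right_inv := fun s => rfl }
  · funext i
    show eps (F := F) d i • shp σ (s.1 i) = s.1 i
    rw [s.2 i, smul_smul, eps_mul_eps, one_smul]
  · intro i
    have h2 : eps (F := F) d i • shp σ (s.1 i) = s.1 i := congrFun s.2 i
    have h3 := congrArg (fun M => eps (F := F) d i • M) h2
    simp only [smul_smul, eps_mul_eps, one_smul] at h3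
    exact h3

include hd hσσ in
/-- the number of invariant invertible hermitian matrices -/
theorem card_forms {q : ℕ} (hF : Fintype.card F = q ^ 2) (hσne : ∃ a, σ a ≠ a)
    (T₀ : Matrix (Idx d) (Idx d) F) (h₀ : Inv d T₀) (hu : IsUnit T₀.det) :
    Nat.card {T : Matrix (Idx d) (Idx d) F // Inv d T ∧ shp σ T = T ∧ IsUnit T.det} =
      q ^ gam d * ∏ i, Nat.card {M : Matrix (Kap d i) (Kap d i) F //
        shp σ M = eps (F := F) d i • M ∧ IsUnit M.det} := by
  classical
  -- an element of trace one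
  obtain ⟨lam, hlam⟩ : ∃ lam : F, lam + σ lam = 1 := by
    obtain ⟨a, ha⟩ := hσne
    have he0 : a - σ a ≠ 0 := sub_ne_zero.mpr (Ne.symm ha)
    refine ⟨a * (a - σ a)⁻¹, ?_⟩
    have hσe : σ (a - σ a) = -(a - σ a) := by rw [map_sub, hσσ]; ring
    rw [map_mul, map_inv₀, hσe, inv_neg, mul_neg, ← sub_eq_add_neg, ← sub_mul,
      mul_inv_cancel₀ he0]
  have hsurj : ∀ s : Blk d F, (∀ i, shp σ (s i) = eps (F := F) d i • s i) →
      ∃ T : ↥(Hm d σ), phiH d hd σ T = s := by
    intro s hs
    obtain ⟨T, hT1, hT2, hT3⟩ := exists_form d hd σ hσσ T₀ h₀ hu lam hlam s hs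
    exact ⟨⟨T, hT1, hT2⟩, hT3⟩
  -- the two preimage counts
  have e1 := card_preimage_addHom (phiH d hd σ)
    {s : Blk d F | ∀ i, shp σ (s i) = eps (F := F) d i • s i} (fun s hs => hsurj s hs)
  have e2 := card_preimage_addHom (phiH d hd σ)
    {s : Blk d F | ∀ i, shp σ (s i) = eps (F := F) d i • s i ∧ IsUnit (s i).det}
    (fun s hs => hsurj s (fun i => (hs i).1))
  have e1' : Nat.card {T : ↥(Hm d σ) // phiH d hd σ T ∈
      {s : Blk d F | ∀ i, shp σ (s i) = eps (F := F) d i • s i}} =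
      Nat.card {T : Matrix (Idx d) (Idx d) F // Inv d T ∧ shp σ T = T} :=
    Nat.card_congr
      { toFun := fun T => ⟨T.1.1, T.1.2⟩
        invFun := fun T => ⟨⟨T.1, T.2⟩, fun i => phiH_mem d hd σ ⟨T.1, T.2⟩ i⟩
        left_inv := fun T => rfl
        right_inv := fun T => rfl }
  have e2' : Nat.card {T : ↥(Hm d σ) // phiH d hd σ T ∈
      {s : Blk d F | ∀ i, shp σ (s i) = eps (F := F) d i • s i ∧ IsUnit (s i).det}} =
      Nat.card {T : Matrix (Idx d) (Idx d) F // Inv d T ∧ shp σ T = T ∧ IsUnit T.det} := by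
    refine Nat.card_congr
      { toFun := fun T => ⟨T.1.1, T.1.2.1, T.1.2.2, ?_⟩
        invFun := fun T => ⟨⟨T.1, T.2.1, T.2.2.1⟩, fun i => ⟨phiH_mem d hd σ ⟨T.1, T.2.1, T.2.2.1⟩ i, ?_⟩⟩
        left_inv := fun T => rfl
        right_inv := fun T => rfl }
    · rw [T.1.2.1.isUnit_iff d hd,
        isUnit_det_iff_blocks d _ (Gm_blockTriangular d hd T.1.2.1)]
      intro i
      exact (T.2 i).2
    · have h1 := (T.2.1.isUnit_iff d hd).mp T.2.2.2
      rw [isUnit_det_iff_blocks d _ (Gm_blockTriangular d hd T.2.1)] at h1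
      exact h1 i
  rw [e1'] at e1
  rw [e2'] at e2
  have e3 := card_rset_sq d σ hσσ hσne
  have e4 : Nat.card ↥{s : Blk d F | ∀ i, shp σ (s i) = eps (F := F) d i • s i ∧ IsUnit (s i).det} =
      ∏ i, Nat.card {M : Matrix (Kap d i) (Kap d i) F //
        shp σ M = eps (F := F) d i • M ∧ IsUnit M.det} := by
    rw [← Nat.card_pi]
    exact Nat.card_congr (Equiv.subtypePiEquivPi (p := fun i (M : Matrix (Kap d i) (Kap d i) F) =>
      shp σ M = eps (F := F) d i • M ∧ IsUnit M.det))
  have e5 : Nat.card {T : Matrix (Idx d) (Idx d) F // Inv d T ∧ shp σ T = T} ^ 2 =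
      Fintype.card F ^ gam d * Nat.card (Blk d F) := by
    rw [card_herm_sq d σ hσσ hσne, card_inv_eq d hd T₀ h₀ hu, card_V d hd]
  -- the kernel
  have hR : Nat.card ↥{s : Blk d F | ∀ i, shp σ (s i) = eps (F := F) d i • s i} =
      Nat.card {s : Blk d F // ∀ i, shp σ (s i) = eps (F := F) d i • s i} := rfl
  have hRpos : 0 < Nat.card {s : Blk d F // ∀ i, shp σ (s i) = eps (F := F) d i • s i} := by
    apply Nat.card_pos_iff.mpr
    refine ⟨⟨⟨0, fun i => ?_⟩⟩, inferInstance⟩
    show shp σ (0 : Matrix (Kap d i) (Kap d i) F) = eps (F := F) d i • 0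
    rw [shp_zero, smul_zero]
  have hker : Nat.card (phiH d hd σ).ker = q ^ gam d := by
    rw [hR] at e1
    rw [e1, mul_pow, e3, hF, ← pow_mul, mul_comm 2, pow_mul] at e5
    have hB : 0 < Nat.card (Blk d F) := by
      rw [← e3]
      exact pow_pos hRpos 2
    have h6 := Nat.eq_of_mul_eq_mul_right hB e5
    exact Nat.pow_left_injective (n := 2) (by norm_num) h6
  rw [e2, hker, e4]

end Cfsg.Agent.Lib.Helper14.UCent
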