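import Cfsg.Agent.Lib.Helper14.UCent7

set_option autoImplicit false
set_option linter.unusedSectionVars false

/-! # Unipotent centralisers in the unitary group: the orbit of invariant hermitian forms -/

namespace Cfsg.Agent.Lib.Helper14.UCent

open Matrix Polynomial
open Cfsg.Agent.Lib.Helper14.HSemi (sigQ sigQ_apply)
open Cfsg.Agent.Lib.Helper14.HCount (sigQ_sigQ)
open Cfsg.Agent.Lib.Helper14.GUConj (sharp sharp_mul sharp_sharp sharp_inv sharp_aeval det_sharp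
  pres_iff exists_sharp_root sig_ne gu_conj_core sharp_one)

variable {F : Type*} [Field F] [Fintype F] {q : ℕ} (hF : Fintype.card F = q ^ 2) {n : ℕ}

/-- cancellation helpers -/
theorem inv_mul_mul_cancel' (P X : Matrix (Fin n) (Fin n) F) (hP : IsUnit P.det) :
    P⁻¹ * (P * X) = X := by
  rw [← Matrix.mul_assoc, Matrix.nonsing_inv_mul _ hP, Matrix.one_mul]

theorem mul_inv_mul_cancel' (P X : Matrix (Fin n) (Fin n) F) (hP : IsUnit P.det) :
    P * (P⁻¹ * X) = X := by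
  rw [← Matrix.mul_assoc, Matrix.mul_nonsing_inv _ hP, Matrix.one_mul]

theorem mul_mul_inv_cancel' (P X : Matrix (Fin n) (Fin n) F) (hP : IsUnit P.det) :
    X * P * P⁻¹ = X := by
  rw [Matrix.mul_assoc, Matrix.mul_nonsing_inv _ hP, Matrix.mul_one]

theorem mul_inv_mul_cancel'' (P X : Matrix (Fin n) (Fin n) F) (hP : IsUnit P.det) :
    X * P⁻¹ * P = X := by
  rw [Matrix.mul_assoc, Matrix.nonsing_inv_mul _ hP, Matrix.mul_one]

/-- transitivity: every invariant hermitian form is in the orbit of `P^♯ P` -/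
theorem exists_commuting_root (J U P T : Matrix (Fin n) (Fin n) F) (hP : IsUnit P.det)
    (hU : sharp hF U * U = 1) (hPJ : P * J = U * P)
    (hT1 : sharp hF J * T * J = T) (hT2 : sharp hF T = T) (hT3 : IsUnit T.det) :
    ∃ c : Matrix (Fin n) (Fin n) F, IsUnit c.det ∧ c * J = J * c ∧
      sharp hF c * (sharp hF P * P) * c = T := by
  obtain ⟨W, hWd, hW⟩ := exists_root hF T hT2 hT3
  have hsWd : IsUnit (sharp hF W).det := by
    rw [det_sharp]
    exact hWd.map (sigQ hF)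
  -- the conjugate of `J` by `W` is unitary
  set U' := W * J * W⁻¹ with hU'
  have hU'u : sharp hF U' * U' = 1 := by
    rw [hU', sharp_mul, sharp_mul, sharp_inv hF W hWd]
    calc (sharp hF W)⁻¹ * (sharp hF J * sharp hF W) * (W * J * W⁻¹)
        = (sharp hF W)⁻¹ * (sharp hF J * (sharp hF W * W) * J) * W⁻¹ := by
          simp only [Matrix.mul_assoc]
      _ = (sharp hF W)⁻¹ * (sharp hF W * W) * W⁻¹ := by rw [hW, hT1]
      _ = 1 := by
          rw [← Matrix.mul_assoc (sharp hF W)⁻¹, Matrix.nonsing_inv_mul _ hsWd, Matrix.one_mul,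
            Matrix.mul_nonsing_inv _ hWd]
  have hG : IsUnit (P * W⁻¹).det := by
    rw [Matrix.det_mul, Matrix.det_nonsing_inv]
    exact hP.mul (by rw [Ring.inverse_eq_inv']; exact hWd.inv)
  have hconj : (P * W⁻¹) * U' = U * (P * W⁻¹) := by
    rw [hU']
    calc P * W⁻¹ * (W * J * W⁻¹) = P * (W⁻¹ * W) * J * W⁻¹ := by simp only [Matrix.mul_assoc]
      _ = P * J * W⁻¹ := by rw [Matrix.nonsing_inv_mul _ hWd, Matrix.mul_one]
      _ = U * (P * W⁻¹) := by rw [hPJ, Matrix.mul_assoc]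
  obtain ⟨V, hVd, hVu, hVc⟩ := gu_conj_core hF U' U (P * W⁻¹) hU'u hU hG hconj
  have hPiU : P⁻¹ * U = J * P⁻¹ := by
    calc P⁻¹ * U = P⁻¹ * (U * P) * P⁻¹ := by
          rw [Matrix.mul_assoc, Matrix.mul_assoc, Matrix.mul_nonsing_inv _ hP, Matrix.mul_one]
      _ = P⁻¹ * (P * J) * P⁻¹ := by rw [hPJ]
      _ = J * P⁻¹ := by rw [inv_mul_mul_cancel' P J hP]
  have hU'W : U' * W = W * J := by
    rw [hU', mul_inv_mul_cancel'' W _ hWd]
  refine ⟨P⁻¹ * V * W, ?_, ?_, ?_⟩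
  · rw [Matrix.det_mul, Matrix.det_mul, Matrix.det_nonsing_inv]
    exact ((by rw [Ring.inverse_eq_inv']; exact hP.inv : IsUnit (Ring.inverse P.det)).mul hVd).mul hWd
  · calc P⁻¹ * V * W * J = P⁻¹ * V * (W * J) := by rw [Matrix.mul_assoc]
      _ = P⁻¹ * (V * U') * W := by rw [← hU'W]; simp only [Matrix.mul_assoc]
      _ = P⁻¹ * U * V * W := by rw [hVc]; simp only [Matrix.mul_assoc]
      _ = J * (P⁻¹ * V * W) := by rw [hPiU]; simp only [Matrix.mul_assoc]
  · have hsP : IsUnit (sharp hF P).det := by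
      rw [det_sharp]
      exact hP.map (sigQ hF)
    rw [sharp_mul, sharp_mul, sharp_inv hF P hP]
    calc sharp hF W * (sharp hF V * (sharp hF P)⁻¹) * (sharp hF P * P) * (P⁻¹ * V * W)
        = sharp hF W * (sharp hF V * ((sharp hF P)⁻¹ * sharp hF P) * (P * P⁻¹) * V) * W := by
          simp only [Matrix.mul_assoc]
      _ = sharp hF W * W := by
          rw [Matrix.nonsing_inv_mul _ hsP, Matrix.mul_one, Matrix.mul_nonsing_inv _ hP,
            Matrix.mul_one, hVu, Matrix.mul_one]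
      _ = T := hW

/-- the orbit–stabiliser count -/
theorem card_cent_mul (J : Matrix (Fin n) (Fin n) F) (u : ↥(Cfsg.GU n F q))
    (P : Matrix (Fin n) (Fin n) F) (hP : IsUnit P.det)
    (hPJ : P * J = ((u : GL (Fin n) F) : Matrix (Fin n) (Fin n) F) * P) :
    Nat.card {c : GL (Fin n) F // (c : Matrix (Fin n) (Fin n) F) * J = J * (c : Matrix (Fin n) (Fin n) F)} =
      Nat.card {T : Matrix (Fin n) (Fin n) F // sharp hF J * T * J = T ∧ sharp hF T = T ∧
        IsUnit T.det} *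
      Nat.card ↥(Subgroup.centralizer ({u} : Set ↥(Cfsg.GU n F q))) := by
  set U := ((u : GL (Fin n) F) : Matrix (Fin n) (Fin n) F) with hUdef
  have hU : sharp hF U * U = 1 := (mem_GU_iff hF (u : GL (Fin n) F)).mp u.2
  have hsP : IsUnit (sharp hF P).det := by
    rw [det_sharp]
    exact hP.map (sigQ hF)
  have hT₀inv : sharp hF J * (sharp hF P * P) * J = sharp hF P * P := by
    calc sharp hF J * (sharp hF P * P) * J = sharp hF (P * J) * (P * J) := by
          rw [sharp_mul]; simp only [Matrix.mul_assoc]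
      _ = sharp hF P * (sharp hF U * U) * P := by
          rw [hPJ, sharp_mul]; simp only [Matrix.mul_assoc]
      _ = sharp hF P * P := by rw [hU, Matrix.mul_one]
  have hPiU : P⁻¹ * U = J * P⁻¹ := by
    calc P⁻¹ * U = P⁻¹ * (U * P) * P⁻¹ := by
          rw [Matrix.mul_assoc, Matrix.mul_assoc, Matrix.mul_nonsing_inv _ hP, Matrix.mul_one]
      _ = P⁻¹ * (P * J) * P⁻¹ := by rw [hPJ]
      _ = J * P⁻¹ := by rw [inv_mul_mul_cancel' P J hP]
  have hcdet : ∀ c : GL (Fin n) F, IsUnit (c : Matrix (Fin n) (Fin n) F).det :=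
    fun c => (Matrix.isUnit_iff_isUnit_det _).mp c.isUnit
  apply UJC.card_eq_mul_of_fibers
    (fun c : {c : GL (Fin n) F // (c : Matrix (Fin n) (Fin n) F) * J = J * (c : Matrix (Fin n) (Fin n) F)} =>
      (⟨sharp hF (c.1 : Matrix (Fin n) (Fin n) F) * (sharp hF P * P) * (c.1 : Matrix (Fin n) (Fin n) F),
        by
          have hc := c.2
          calc sharp hF J * (sharp hF (c.1 : Matrix (Fin n) (Fin n) F) * (sharp hF P * P) *
                (c.1 : Matrix (Fin n) (Fin n) F)) * J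
              = sharp hF ((c.1 : Matrix (Fin n) (Fin n) F) * J) * (sharp hF P * P) *
                  ((c.1 : Matrix (Fin n) (Fin n) F) * J) := by
                rw [sharp_mul]; simp only [Matrix.mul_assoc]
            _ = sharp hF (c.1 : Matrix (Fin n) (Fin n) F) * (sharp hF J * (sharp hF P * P) * J) *
                  (c.1 : Matrix (Fin n) (Fin n) F) := by
                rw [hc, sharp_mul]; simp only [Matrix.mul_assoc]
            _ = _ := by rw [hT₀inv],
        by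
          rw [sharp_mul, sharp_mul, sharp_mul, sharp_sharp, sharp_sharp]
          simp only [Matrix.mul_assoc],
        by
          rw [Matrix.det_mul, Matrix.det_mul, Matrix.det_mul, det_sharp]
          exact ((((hcdet c.1).map (sigQ hF)).mul (hsP.mul hP))).mul (hcdet c.1)⟩ :
      {T : Matrix (Fin n) (Fin n) F // sharp hF J * T * J = T ∧ sharp hF T = T ∧ IsUnit T.det}))
  intro T
  obtain ⟨c₁, hc₁d, hc₁J, hc₁T⟩ := exists_commuting_root hF J U P T.1 hP hU hPJ T.2.1 T.2.2.1 T.2.2.2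
  have hsc₁ : IsUnit (sharp hF c₁).det := by
    rw [det_sharp]
    exact hc₁d.map (sigQ hF)
  have hc₁iJ : c₁⁻¹ * J = J * c₁⁻¹ := by
    calc c₁⁻¹ * J = c₁⁻¹ * (J * c₁) * c₁⁻¹ := by
          rw [Matrix.mul_assoc, Matrix.mul_assoc, Matrix.mul_nonsing_inv _ hc₁d, Matrix.mul_one]
      _ = c₁⁻¹ * (c₁ * J) * c₁⁻¹ := by rw [hc₁J]
      _ = J * c₁⁻¹ := by rw [inv_mul_mul_cancel' c₁ J hc₁d]
  let Pg : GL (Fin n) F := ((Matrix.isUnit_iff_isUnit_det P).mpr hP).unit
  let cg : GL (Fin n) F := ((Matrix.isUnit_iff_isUnit_det c₁).mpr hc₁d).unit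
  have hPg : (Pg : Matrix (Fin n) (Fin n) F) = P := rfl
  have hcg : (cg : Matrix (Fin n) (Fin n) F) = c₁ := rfl
  have hPgi : ((Pg⁻¹ : GL (Fin n) F) : Matrix (Fin n) (Fin n) F) = P⁻¹ := by
    rw [Matrix.coe_units_inv, hPg]
  have hcgi : ((cg⁻¹ : GL (Fin n) F) : Matrix (Fin n) (Fin n) F) = c₁⁻¹ := by
    rw [Matrix.coe_units_inv, hcg]
  -- the unitarity computation
  have key1 : ∀ c : Matrix (Fin n) (Fin n) F, sharp hF c * (sharp hF P * P) * c = T.1 →
      sharp hF (P * c * c₁⁻¹ * P⁻¹) * (P * c * c₁⁻¹ * P⁻¹) = 1 := by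
    intro c hc
    rw [sharp_mul, sharp_mul, sharp_mul, sharp_inv hF P hP, sharp_inv hF c₁ hc₁d]
    calc (sharp hF P)⁻¹ * ((sharp hF c₁)⁻¹ * (sharp hF c * sharp hF P)) * (P * c * c₁⁻¹ * P⁻¹)
        = (sharp hF P)⁻¹ * ((sharp hF c₁)⁻¹ * (sharp hF c * (sharp hF P * P) * c) * c₁⁻¹) * P⁻¹ := by
          simp only [Matrix.mul_assoc]
      _ = (sharp hF P)⁻¹ * ((sharp hF c₁)⁻¹ * (sharp hF c₁ * (sharp hF P * P) * c₁) * c₁⁻¹) * P⁻¹ := by
          rw [hc, hc₁T]
      _ = (sharp hF P)⁻¹ * (((sharp hF c₁)⁻¹ * sharp hF c₁) * (sharp hF P * P) * (c₁ * c₁⁻¹)) * P⁻¹ := by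
          simp only [Matrix.mul_assoc]
      _ = 1 := by
          rw [Matrix.nonsing_inv_mul _ hsc₁, Matrix.one_mul, Matrix.mul_nonsing_inv _ hc₁d,
            Matrix.mul_one, ← Matrix.mul_assoc, Matrix.nonsing_inv_mul _ hsP, Matrix.one_mul,
            Matrix.mul_nonsing_inv _ hP]
  have key2 : ∀ c : Matrix (Fin n) (Fin n) F, c * J = J * c →
      U * (P * c * c₁⁻¹ * P⁻¹) = (P * c * c₁⁻¹ * P⁻¹) * U := by
    intro c hc
    calc U * (P * c * c₁⁻¹ * P⁻¹) = (U * P) * c * c₁⁻¹ * P⁻¹ := by simp only [Matrix.mul_assoc]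
      _ = P * (J * c) * c₁⁻¹ * P⁻¹ := by rw [← hPJ]; simp only [Matrix.mul_assoc]
      _ = P * c * (J * c₁⁻¹) * P⁻¹ := by rw [← hc]; simp only [Matrix.mul_assoc]
      _ = P * c * c₁⁻¹ * (J * P⁻¹) := by rw [← hc₁iJ]; simp only [Matrix.mul_assoc]
      _ = (P * c * c₁⁻¹ * P⁻¹) * U := by rw [← hPiU]; simp only [Matrix.mul_assoc]
  refine Nat.card_congr
    { toFun := fun c => ⟨⟨Pg * c.1.1 * cg⁻¹ * Pg⁻¹, ?_⟩, ?_⟩
      invFun := fun g => ⟨⟨Pg⁻¹ * g.1.1 * Pg * cg, ?_⟩, ?_⟩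
      left_inv := ?_
      right_inv := ?_ }
  · rw [mem_GU_iff hF]
    simp only [Units.val_mul, hPg, hPgi, hcgi]
    exact key1 _ (congrArg Subtype.val c.2)
  · rw [Subgroup.mem_centralizer_iff]
    intro g hg
    rw [Set.mem_singleton_iff] at hg
    rw [hg]
    apply Subtype.ext
    apply Units.ext
    show ((u : GL (Fin n) F) : Matrix (Fin n) (Fin n) F) *
      ((Pg * c.1.1 * cg⁻¹ * Pg⁻¹ : GL (Fin n) F) : Matrix (Fin n) (Fin n) F) =
      ((Pg * c.1.1 * cg⁻¹ * Pg⁻¹ : GL (Fin n) F) : Matrix (Fin n) (Fin n) F) *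
        ((u : GL (Fin n) F) : Matrix (Fin n) (Fin n) F)
    simp only [Units.val_mul, hPg, hPgi, hcgi]
    exact key2 _ c.1.2
  · -- commutes with `J`
    have hg : U * (g.1.1 : Matrix (Fin n) (Fin n) F) = (g.1.1 : Matrix (Fin n) (Fin n) F) * U := by
      have h1 := (Subgroup.mem_centralizer_iff.mp g.2) u (Set.mem_singleton u)
      have h2 := congrArg (fun x : ↥(Cfsg.GU n F q) => ((x : GL (Fin n) F) : Matrix (Fin n) (Fin n) F)) h1
      exact h2
    show ((Pg⁻¹ * g.1.1 * Pg * cg : GL (Fin n) F) : Matrix (Fin n) (Fin n) F) * J =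
      J * ((Pg⁻¹ * g.1.1 * Pg * cg : GL (Fin n) F) : Matrix (Fin n) (Fin n) F)
    simp only [Units.val_mul, hPg, hPgi, hcg]
    calc P⁻¹ * (g.1.1 : Matrix (Fin n) (Fin n) F) * P * c₁ * J
        = P⁻¹ * (g.1.1 : Matrix (Fin n) (Fin n) F) * (P * J) * c₁ := by
          rw [Matrix.mul_assoc _ c₁ J, hc₁J]; simp only [Matrix.mul_assoc]
      _ = P⁻¹ * (U * (g.1.1 : Matrix (Fin n) (Fin n) F)) * P * c₁ := by
          rw [hPJ, hg]; simp only [Matrix.mul_assoc]
      _ = J * (P⁻¹ * (g.1.1 : Matrix (Fin n) (Fin n) F) * P * c₁) := by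
          rw [← Matrix.mul_assoc P⁻¹ U, hPiU]; simp only [Matrix.mul_assoc]
  · -- lies in the fibre
    apply Subtype.ext
    show sharp hF ((Pg⁻¹ * g.1.1 * Pg * cg : GL (Fin n) F) : Matrix (Fin n) (Fin n) F) *
      (sharp hF P * P) * ((Pg⁻¹ * g.1.1 * Pg * cg : GL (Fin n) F) : Matrix (Fin n) (Fin n) F) = T.1
    simp only [Units.val_mul, hPg, hPgi, hcg]
    have hgu := (mem_GU_iff hF g.1.1).mp g.1.2
    rw [sharp_mul, sharp_mul, sharp_mul, sharp_inv hF P hP]
    calc sharp hF c₁ * (sharp hF P * (sharp hF (g.1.1 : Matrix (Fin n) (Fin n) F) * (sharp hF P)⁻¹)) *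
          (sharp hF P * P) * (P⁻¹ * (g.1.1 : Matrix (Fin n) (Fin n) F) * P * c₁)
        = sharp hF c₁ * (sharp hF P * (sharp hF (g.1.1 : Matrix (Fin n) (Fin n) F) *
            ((sharp hF P)⁻¹ * sharp hF P) * (P * P⁻¹) * (g.1.1 : Matrix (Fin n) (Fin n) F)) * P) * c₁ := by
          simp only [Matrix.mul_assoc]
      _ = sharp hF c₁ * (sharp hF P * P) * c₁ := by
          rw [Matrix.nonsing_inv_mul _ hsP, Matrix.mul_one, Matrix.mul_nonsing_inv _ hP,
            Matrix.mul_one, hgu, Matrix.mul_one]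
      _ = T.1 := hc₁T
  · intro c
    apply Subtype.ext
    apply Subtype.ext
    show Pg⁻¹ * (Pg * c.1.1 * cg⁻¹ * Pg⁻¹) * Pg * cg = c.1.1
    group
  · intro g
    apply Subtype.ext
    apply Subtype.ext
    show Pg * (Pg⁻¹ * g.1.1 * Pg * cg) * cg⁻¹ * Pg⁻¹ = g.1.1
    group

end Cfsg.Agent.Lib.Helper14.UCent
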