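import Cfsg.Agent.Lib.Helper14.UCent8

set_option autoImplicit false
set_option linter.unusedSectionVars false

/-! # Unipotent centralisers in the unitary group: the final count -/

namespace Cfsg.Agent.Lib.Helper14.UCent

open Matrix Polynomial Cfsg.Agent.Lib.Helper14.JC
open Cfsg.Agent.Lib.Helper14.HSemi (sigQ sigQ_apply)
open Cfsg.Agent.Lib.Helper14.HCount (sigQ_sigQ)
open Cfsg.Agent.Lib.Helper14.GUConj (sharp sharp_mul sharp_sharp sharp_inv sharp_aeval det_sharp
  pres_iff exists_sharp_root sig_ne gu_conj_core sharp_one)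

section reindex

variable {F : Type*} [Field F] {ι κ : Type*} [Fintype ι] [DecidableEq ι] [Fintype κ] [DecidableEq κ]

theorem reindex_mul (e : ι ≃ κ) (M N : Matrix ι ι F) :
    Matrix.reindex e e (M * N) = Matrix.reindex e e M * Matrix.reindex e e N := by
  simp only [Matrix.reindex_apply]
  rw [Matrix.submatrix_mul_equiv]

theorem reindex_inj (e : ι ≃ κ) {M N : Matrix ι ι F}
    (h : Matrix.reindex e e M = Matrix.reindex e e N) : M = N :=
  (Matrix.reindex e e).injective h

theorem reindex_symm_reindex (e : ι ≃ κ) (M : Matrix κ κ F) :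
    Matrix.reindex e e (Matrix.reindex e.symm e.symm M) = M := by
  ext i j
  simp

theorem reindex_reindex_symm (e : ι ≃ κ) (M : Matrix ι ι F) :
    Matrix.reindex e.symm e.symm (Matrix.reindex e e M) = M := by
  ext i j
  simp

/-- commutants correspond under reindexing -/
theorem card_commutant_reindex (e : ι ≃ κ) (J : Matrix ι ι F) :
    Nat.card {c : GL κ F // (c : Matrix κ κ F) * Matrix.reindex e e J =
        Matrix.reindex e e J * (c : Matrix κ κ F)} =
      Nat.card {g : GL ι F // (g : Matrix ι ι F) * J = J * (g : Matrix ι ι F)} := by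
  have hdet : ∀ g : GL ι F, IsUnit (Matrix.reindex e e (g : Matrix ι ι F)).det := by
    intro g
    rw [Matrix.det_reindex_self]
    exact (Matrix.isUnit_iff_isUnit_det _).mp g.isUnit
  have hdet' : ∀ c : GL κ F, IsUnit (Matrix.reindex e.symm e.symm (c : Matrix κ κ F)).det := by
    intro c
    rw [Matrix.det_reindex_self]
    exact (Matrix.isUnit_iff_isUnit_det _).mp c.isUnit
  symm
  refine Nat.card_congr
    { toFun := fun g => ⟨((Matrix.isUnit_iff_isUnit_det _).mpr (hdet g.1)).unit, ?_⟩
      invFun := fun c => ⟨((Matrix.isUnit_iff_isUnit_det _).mpr (hdet' c.1)).unit, ?_⟩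
      left_inv := ?_
      right_inv := ?_ }
  · show Matrix.reindex e e (g.1 : Matrix ι ι F) * Matrix.reindex e e J =
      Matrix.reindex e e J * Matrix.reindex e e (g.1 : Matrix ι ι F)
    rw [← reindex_mul, ← reindex_mul, g.2]
  · show Matrix.reindex e.symm e.symm (c.1 : Matrix κ κ F) * J =
      J * Matrix.reindex e.symm e.symm (c.1 : Matrix κ κ F)
    apply reindex_inj e
    rw [reindex_mul, reindex_mul, reindex_symm_reindex]
    exact c.2
  · intro g
    apply Subtype.ext
    apply Units.ext
    show Matrix.reindex e.symm e.symm (Matrix.reindex e e (g.1 : Matrix ι ι F)) = g.1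
    exact reindex_reindex_symm e _
  · intro c
    apply Subtype.ext
    apply Units.ext
    show Matrix.reindex e e (Matrix.reindex e.symm e.symm (c.1 : Matrix κ κ F)) = c.1
    exact reindex_symm_reindex e _

end reindex

variable {K : Type*} [Field K] [Fintype K] {q n t : ℕ} (hK : Fintype.card K = q ^ 2)
variable (d : Fin t → ℕ) (hd : ∀ k, 1 ≤ d k)

/-- invariant hermitian forms correspond under reindexing -/
theorem card_forms_reindex (e : Idx d ≃ Fin n) :
    Nat.card {T : Matrix (Fin n) (Fin n) K //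
        sharp hK (Matrix.reindex e e (Cfsg.jordanTypeMatrix d K)) * T *
          Matrix.reindex e e (Cfsg.jordanTypeMatrix d K) = T ∧ sharp hK T = T ∧ IsUnit T.det} =
      Nat.card {T : Matrix (Idx d) (Idx d) K // Inv d T ∧ shp (sigQ hK) T = T ∧ IsUnit T.det} := by
  have hJ : sharp hK (Matrix.reindex e e (Cfsg.jordanTypeMatrix d K)) =
      Matrix.reindex e e (Cfsg.jordanTypeMatrix d K)ᵀ := by
    rw [sharp_eq_shp, shp_reindex, shp_J]
  symm
  refine Nat.card_congr
    { toFun := fun T => ⟨Matrix.reindex e e T.1, ?_, ?_, ?_⟩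
      invFun := fun T => ⟨Matrix.reindex e.symm e.symm T.1, ?_, ?_, ?_⟩
      left_inv := ?_
      right_inv := ?_ }
  · rw [hJ, ← reindex_mul, ← reindex_mul]
    have h1 : (Cfsg.jordanTypeMatrix d K)ᵀ * T.1 * Cfsg.jordanTypeMatrix d K = T.1 := T.2.1
    rw [h1]
  · rw [sharp_eq_shp, shp_reindex, T.2.2.1]
  · rw [Matrix.det_reindex_self]
    exact T.2.2.2
  · show (Cfsg.jordanTypeMatrix d K)ᵀ * Matrix.reindex e.symm e.symm T.1 *
      Cfsg.jordanTypeMatrix d K = Matrix.reindex e.symm e.symm T.1
    apply reindex_inj e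
    rw [reindex_mul, reindex_mul, reindex_symm_reindex, ← hJ]
    exact T.2.1
  · apply reindex_inj e
    rw [← shp_reindex, reindex_symm_reindex, ← sharp_eq_shp]
    exact T.2.2.1
  · rw [Matrix.det_reindex_self]
    exact T.2.2.2
  · intro T
    apply Subtype.ext
    exact reindex_reindex_symm e _
  · intro T
    apply Subtype.ext
    exact reindex_symm_reindex e _

theorem card_kap (i : Fin (Finset.univ.sup d + 1)) :
    Fintype.card (Kap d i) = UJC.mult d i.val := by
  classical
  rw [Fintype.card_subtype]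
  congr 1
  apply Finset.filter_congr
  intro k _
  exact UJC.bsize_eq d k i

theorem eps_cases (i : Fin (Finset.univ.sup d + 1)) :
    eps (F := K) d i = 1 ∨ eps (F := K) d i = -1 := by
  unfold eps
  exact neg_one_pow_eq_or K _

include hK hd in
/-- the order of the centraliser of a unipotent element of the general unitary group, in terms of
the orders of smaller unitary groups -/
theorem card_centralizer_GU_aux (e : Idx d ≃ Fin n) (u : ↥(Cfsg.GU n K q))
    (hu : IsConj (Matrix.reindex e e (Cfsg.jordanTypeMatrix d K))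
      ((u : GL (Fin n) K) : Matrix (Fin n) (Fin n) K)) :
    Nat.card ↥(Subgroup.centralizer ({u} : Set ↥(Cfsg.GU n K q))) =
      q ^ gam d * ∏ i : Fin (Finset.univ.sup d + 1), Nat.card ↥(Cfsg.GU (UJC.mult d i.val) K q) := by
  classical
  obtain ⟨c, hc⟩ := hu
  set P : Matrix (Fin n) (Fin n) K := (c : Matrix (Fin n) (Fin n) K) with hPdef
  have hP : IsUnit P.det := (Matrix.isUnit_iff_isUnit_det _).mp c.isUnit
  have hPJ : P * Matrix.reindex e e (Cfsg.jordanTypeMatrix d K) =
      ((u : GL (Fin n) K) : Matrix (Fin n) (Fin n) K) * P := hc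
  have h1 := card_cent_mul hK (Matrix.reindex e e (Cfsg.jordanTypeMatrix d K)) u P hP hPJ
  rw [card_commutant_reindex e (Cfsg.jordanTypeMatrix d K), card_forms_reindex hK d e] at h1
  -- an invariant form exists
  have hU : sharp hK ((u : GL (Fin n) K) : Matrix (Fin n) (Fin n) K) *
      ((u : GL (Fin n) K) : Matrix (Fin n) (Fin n) K) = 1 :=
    (mem_GU_iff hK (u : GL (Fin n) K)).mp u.2
  have hsP : IsUnit (sharp hK P).det := by
    rw [det_sharp]
    exact hP.map (sigQ hK)
  have hne : Nonempty {T : Matrix (Fin n) (Fin n) K //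
      sharp hK (Matrix.reindex e e (Cfsg.jordanTypeMatrix d K)) * T *
        Matrix.reindex e e (Cfsg.jordanTypeMatrix d K) = T ∧ sharp hK T = T ∧ IsUnit T.det} := by
    refine ⟨⟨sharp hK P * P, ?_, ?_, ?_⟩⟩
    · calc sharp hK (Matrix.reindex e e (Cfsg.jordanTypeMatrix d K)) * (sharp hK P * P) *
            Matrix.reindex e e (Cfsg.jordanTypeMatrix d K)
          = sharp hK (P * Matrix.reindex e e (Cfsg.jordanTypeMatrix d K)) *
              (P * Matrix.reindex e e (Cfsg.jordanTypeMatrix d K)) := by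
            rw [sharp_mul]; simp only [Matrix.mul_assoc]
        _ = sharp hK P * (sharp hK ((u : GL (Fin n) K) : Matrix (Fin n) (Fin n) K) *
              ((u : GL (Fin n) K) : Matrix (Fin n) (Fin n) K)) * P := by
            rw [hPJ, sharp_mul]; simp only [Matrix.mul_assoc]
        _ = sharp hK P * P := by rw [hU, Matrix.mul_one]
    · rw [sharp_mul, sharp_sharp]
    · rw [Matrix.det_mul]
      exact hsP.mul hP
  have hne2 : Nonempty {T : Matrix (Idx d) (Idx d) K //
      Inv d T ∧ shp (sigQ hK) T = T ∧ IsUnit T.det} := by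
    have hfin : Finite {T : Matrix (Idx d) (Idx d) K //
      Inv d T ∧ shp (sigQ hK) T = T ∧ IsUnit T.det} := inferInstance
    have hpos : 0 < Nat.card {T : Matrix (Fin n) (Fin n) K //
      sharp hK (Matrix.reindex e e (Cfsg.jordanTypeMatrix d K)) * T *
        Matrix.reindex e e (Cfsg.jordanTypeMatrix d K) = T ∧ sharp hK T = T ∧ IsUnit T.det} :=
      Nat.card_pos_iff.mpr ⟨hne, inferInstance⟩
    rw [card_forms_reindex hK d e] at hpos
    exact (Nat.card_pos_iff.mp hpos).1
  obtain ⟨⟨T₀, h₀, _, hu₀⟩⟩ := hne2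
  rw [card_forms d hd (sigQ hK) (sigQ_sigQ hK) hK (sig_ne hK) T₀ h₀ hu₀,
    UJC.card_centralizer_eq d hd, card_V_units d hd, hK] at h1
  -- the hermitian counts
  have h2 : ∀ i : Fin (Finset.univ.sup d + 1),
      Nat.card {M : Matrix (Kap d i) (Kap d i) K // shp (sigQ hK) M = eps (F := K) d i • M ∧
        IsUnit M.det} * Nat.card ↥(Cfsg.GU (UJC.mult d i.val) K q) =
      Nat.card {B : Matrix (Kap d i) (Kap d i) K // IsUnit B.det} := by
    intro i
    have := card_eps_herm_mul hK (κ := Kap d i) (eps (F := K) d i) (eps_cases d i)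
    rwa [card_kap] at this
  have h3 : (∏ i, Nat.card {B : Matrix (Kap d i) (Kap d i) K // IsUnit B.det}) =
      (∏ i, Nat.card {M : Matrix (Kap d i) (Kap d i) K // shp (sigQ hK) M = eps (F := K) d i • M ∧
        IsUnit M.det}) * ∏ i : Fin (Finset.univ.sup d + 1),
          Nat.card ↥(Cfsg.GU (UJC.mult d i.val) K q) := by
    rw [← Finset.prod_mul_distrib]
    apply Finset.prod_congr rfl
    intro i _
    exact (h2 i).symm
  rw [h3] at h1
  have hq : 0 < q := by
    rcases Nat.eq_zero_or_pos q with h0 | hpos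
    · exfalso
      rw [h0] at hK
      simp at hK
    · exact hpos
  have hpos : 0 < q ^ gam d * ∏ i, Nat.card {M : Matrix (Kap d i) (Kap d i) K //
      shp (sigQ hK) M = eps (F := K) d i • M ∧ IsUnit M.det} := by
    apply Nat.mul_pos (pow_pos hq _)
    apply Finset.prod_pos
    intro i _
    have h4 := h2 i
    have h5 : 0 < Nat.card {B : Matrix (Kap d i) (Kap d i) K // IsUnit B.det} :=
      Nat.card_pos_iff.mpr ⟨⟨⟨1, by rw [Matrix.det_one]; exact isUnit_one⟩⟩, inferInstance⟩
    rw [← h4] at h5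
    exact Nat.pos_of_mul_pos_right h5
  have h6 : (q ^ gam d * ∏ i, Nat.card {M : Matrix (Kap d i) (Kap d i) K //
      shp (sigQ hK) M = eps (F := K) d i • M ∧ IsUnit M.det}) *
      (q ^ gam d * ∏ i : Fin (Finset.univ.sup d + 1), Nat.card ↥(Cfsg.GU (UJC.mult d i.val) K q)) =
      (q ^ gam d * ∏ i, Nat.card {M : Matrix (Kap d i) (Kap d i) K //
      shp (sigQ hK) M = eps (F := K) d i • M ∧ IsUnit M.det}) *
      Nat.card ↥(Subgroup.centralizer ({u} : Set ↥(Cfsg.GU n K q))) := by
    rw [← h1, ← pow_mul, mul_comm 2, pow_mul, sq]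
    ring
  exact (Nat.eq_of_mul_eq_mul_left hpos h6).symm

end Cfsg.Agent.Lib.Helper14.UCent
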