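import Mathlib
import Cfsg.Agent.Lib.Helper6.Symp

/-!
# Weyl operators on functions on `F^n` (helper14)
-/

set_option autoImplicit false
set_option linter.unusedSectionVars false
set_option linter.unusedVariables false

namespace Cfsg.Agent.Lib.Helper14.Weil

open Matrix Cfsg.Agent.Lib.Helper6

section weyl

variable {F : Type*} [Field F] {n : ℕ}

/-- the left part of a vector of the symplectic space -/
def lp (v : Fin n ⊕ Fin n → F) : Fin n → F := fun i => v (Sum.inl i)

/-- the right part of a vector of the symplectic space -/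
def rp (v : Fin n ⊕ Fin n → F) : Fin n → F := fun i => v (Sum.inr i)

@[simp] theorem lp_add (u v : Fin n ⊕ Fin n → F) : lp (u + v) = lp u + lp v := rfl
@[simp] theorem rp_add (u v : Fin n ⊕ Fin n → F) : rp (u + v) = rp u + rp v := rfl
@[simp] theorem lp_neg (v : Fin n ⊕ Fin n → F) : lp (-v) = -lp v := rfl
@[simp] theorem rp_neg (v : Fin n ⊕ Fin n → F) : rp (-v) = -rp v := rfl
@[simp] theorem lp_zero : lp (0 : Fin n ⊕ Fin n → F) = 0 := rfl
@[simp] theorem rp_zero : rp (0 : Fin n ⊕ Fin n → F) = 0 := rfl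
@[simp] theorem lp_elim (a b : Fin n → F) : lp (Sum.elim a b) = a := rfl
@[simp] theorem rp_elim (a b : Fin n → F) : rp (Sum.elim a b) = b := rfl

theorem eq_zero_iff_lp_rp (v : Fin n ⊕ Fin n → F) : v = 0 ↔ lp v = 0 ∧ rp v = 0 := by
  constructor
  · rintro rfl
    exact ⟨rfl, rfl⟩
  · rintro ⟨h1, h2⟩
    funext k
    rcases k with k | k
    · exact congrFun h1 k
    · exact congrFun h2 k

theorem sympForm_lr (u v : Fin n ⊕ Fin n → F) :
    Cfsg.sympForm n F u v = rp u ⬝ᵥ lp v - lp u ⬝ᵥ rp v := by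
  rw [sympForm_eq_sum, Finset.sum_sub_distrib]
  rfl

/-- the phase -/
def ph (v : Fin n ⊕ Fin n → F) (x : Fin n → F) : F := lp v ⬝ᵥ x + 2⁻¹ * (lp v ⬝ᵥ rp v)

variable [Fintype F] [DecidableEq F] (ψ : AddChar F ℂ)

/-- the Weyl operators -/
noncomputable def Wop (v : Fin n ⊕ Fin n → F) : Matrix (Fin n → F) (Fin n → F) ℂ :=
  fun x y => if y = x + rp v then ψ (ph v x) else 0

theorem Wop_apply (v : Fin n ⊕ Fin n → F) (x y : Fin n → F) :
    Wop ψ v x y = if y = x + rp v then ψ (ph v x) else 0 := rfl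

theorem Wop_mul (h2 : (2 : F) ≠ 0) (u v : Fin n ⊕ Fin n → F) :
    Wop ψ u * Wop ψ v = ψ (2⁻¹ * Cfsg.sympForm n F u v) • Wop ψ (u + v) := by
  ext x z
  rw [Matrix.mul_apply, Finset.sum_eq_single (x + rp u)]
  · rw [Matrix.smul_apply, Wop_apply, Wop_apply, Wop_apply, if_pos rfl, rp_add, ← add_assoc]
    by_cases hz : z = x + rp u + rp v
    · rw [if_pos hz, if_pos hz, smul_eq_mul, ← AddChar.map_add_eq_mul, ← AddChar.map_add_eq_mul]
      congr 1
      have h : (2 : F)⁻¹ * 2 = 1 := inv_mul_cancel₀ h2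
      simp only [ph, lp_add, rp_add, dotProduct_add, add_dotProduct, sympForm_lr]
      rw [dotProduct_comm (rp u) (lp v)]
      linear_combination (-(lp v ⬝ᵥ rp u)) * h
    · rw [if_neg hz, if_neg hz, mul_zero, smul_zero]
  · intro y _ hy
    rw [Wop_apply, if_neg hy, zero_mul]
  · intro h
    exact absurd (Finset.mem_univ _) h

theorem Wop_zero : Wop ψ (0 : Fin n ⊕ Fin n → F) = 1 := by
  ext x y
  rw [Wop_apply, Matrix.one_apply]
  simp only [rp_zero, add_zero, ph, lp_zero, zero_dotProduct, mul_zero, AddChar.map_zero_eq_one]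
  by_cases h : x = y
  · rw [if_pos h, if_pos h.symm]
  · rw [if_neg h, if_neg (Ne.symm h)]

theorem Wop_mul_neg (h2 : (2 : F) ≠ 0) (v : Fin n ⊕ Fin n → F) : Wop ψ v * Wop ψ (-v) = 1 := by
  rw [Wop_mul ψ h2, sympForm_neg_right, sympForm_self, neg_zero, mul_zero, AddChar.map_zero_eq_one,
    one_smul, add_neg_cancel, Wop_zero]

theorem Wop_neg_mul (h2 : (2 : F) ≠ 0) (v : Fin n ⊕ Fin n → F) : Wop ψ (-v) * Wop ψ v = 1 := by
  have := Wop_mul_neg ψ h2 (-v)
  rwa [neg_neg] at this

theorem Wop_conjTranspose (h2 : (2 : F) ≠ 0) (v : Fin n ⊕ Fin n → F) :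
    (Wop ψ v)ᴴ = Wop ψ (-v) := by
  ext x y
  rw [conjTranspose_apply, Wop_apply, Wop_apply, rp_neg]
  by_cases h : x = y + rp v
  · have h' : y = x + -rp v := by rw [h]; abel
    rw [if_pos h, if_pos h', ← starRingEnd_apply, ← AddChar.map_neg_eq_conj]
    congr 1
    have hh : (2 : F)⁻¹ * 2 = 1 := inv_mul_cancel₀ h2
    simp only [ph, lp_neg, rp_neg, neg_dotProduct, dotProduct_neg, h, dotProduct_add]
    linear_combination (-(lp v ⬝ᵥ rp v)) * hh
  · have h' : ¬ y = x + -rp v := by
      intro h3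
      apply h
      rw [h3]
      abel
    rw [if_neg h, if_neg h', star_zero]

variable {ψ}

/-- characters separate points -/
theorem exists_dot_ne (hψ : ψ ≠ 1) {d : Fin n → F} (hd : d ≠ 0) : ∃ b : Fin n → F, ψ (b ⬝ᵥ d) ≠ 1 := by
  obtain ⟨k, hk⟩ : ∃ k, d k ≠ 0 := by
    by_contra hcon
    push Not at hcon
    exact hd (funext hcon)
  obtain ⟨y, hy⟩ : ∃ y, ψ y ≠ 1 := by
    by_contra hcon
    push Not at hcon
    apply hψ
    ext y
    rw [hcon y, AddChar.one_apply]
  refine ⟨Pi.single k (y / d k), ?_⟩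
  rw [single_dotProduct, div_mul_cancel₀ _ hk]
  exact hy

theorem sum_char (hψ : ψ ≠ 1) (b : Fin n → F) :
    ∑ x : Fin n → F, ψ (b ⬝ᵥ x) = if b = 0 then (Fintype.card F : ℂ) ^ n else 0 := by
  by_cases hb : b = 0
  · rw [if_pos hb, hb]
    simp only [zero_dotProduct, AddChar.map_zero_eq_one, Finset.sum_const, Finset.card_univ,
      Fintype.card_fun, Fintype.card_fin, nsmul_eq_mul, mul_one, Nat.cast_pow]
  · rw [if_neg hb]
    let f : (Fin n → F) →+ F :=
      { toFun := fun x => b ⬝ᵥ x, map_zero' := dotProduct_zero b, map_add' := dotProduct_add b }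
    have h1 : ψ.compAddMonoidHom f ≠ 1 := by
      obtain ⟨c, hc⟩ := exists_dot_ne hψ hb
      intro h
      apply hc
      have := DFunLike.congr_fun h c
      rw [AddChar.one_apply] at this
      rw [dotProduct_comm]
      exact this
    exact AddChar.sum_eq_zero_of_ne_one h1

theorem trace_Wop (hψ : ψ ≠ 1) (v : Fin n ⊕ Fin n → F) :
    trace (Wop ψ v) = if v = 0 then (Fintype.card F : ℂ) ^ n else 0 := by
  rw [trace]
  simp only [diag_apply, Wop_apply]
  by_cases hr : rp v = 0
  · have h1 : ∀ x : Fin n → F, (if x = x + rp v then ψ (ph v x) else 0) = ψ (lp v ⬝ᵥ x) := by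
      intro x
      rw [if_pos (by rw [hr, add_zero]), ph, hr, dotProduct_zero, mul_zero, add_zero]
    rw [Finset.sum_congr rfl (fun x _ => h1 x), sum_char hψ]
    by_cases hl : lp v = 0
    · rw [if_pos hl, if_pos ((eq_zero_iff_lp_rp v).mpr ⟨hl, hr⟩)]
    · rw [if_neg hl, if_neg (fun h => hl ((eq_zero_iff_lp_rp v).mp h).1)]
  · rw [if_neg (fun h => hr ((eq_zero_iff_lp_rp v).mp h).2)]
    apply Finset.sum_eq_zero
    intro x _
    rw [if_neg]
    intro h
    apply hr
    exact left_eq_add.mp h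

/-- the commutant of the Weyl operators consists of the scalars -/
theorem comm_scalar (hψ : ψ ≠ 1) (M : Matrix (Fin n → F) (Fin n → F) ℂ)
    (h : ∀ v : Fin n ⊕ Fin n → F, M * Wop ψ v = Wop ψ v * M) : M = M 0 0 • 1 := by
  have hoff : ∀ x y, x ≠ y → M x y = 0 := by
    intro x y hxy
    obtain ⟨b, hb⟩ := exists_dot_ne hψ (sub_ne_zero.mpr (Ne.symm hxy))
    have h1 := congrFun (congrFun (h (Sum.elim b 0)) x) y
    rw [Matrix.mul_apply, Matrix.mul_apply, Finset.sum_eq_single y, Finset.sum_eq_single x] at h1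
    · rw [Wop_apply, Wop_apply, rp_elim, add_zero, add_zero, if_pos rfl, if_pos rfl, ph, ph, lp_elim,
        rp_elim, dotProduct_zero, mul_zero, add_zero, add_zero] at h1
      by_contra hne
      apply hb
      rw [dotProduct_sub, AddChar.map_sub_eq_div]
      have h3 : ψ (b ⬝ᵥ y) = ψ (b ⬝ᵥ x) := by
        apply mul_left_cancel₀ hne
        rw [h1, mul_comm]
      rw [h3, div_self (AddChar.val_isUnit ψ _).ne_zero]
    · intro z _ hz
      rw [Wop_apply, rp_elim, add_zero, if_neg hz, zero_mul]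
    · intro hx
      exact absurd (Finset.mem_univ _) hx
    · intro z _ hz
      rw [Wop_apply, rp_elim, add_zero, if_neg (Ne.symm hz), mul_zero]
    · intro hx
      exact absurd (Finset.mem_univ _) hx
  have hdiag : ∀ x, M x x = M 0 0 := by
    intro x
    have h1 := congrFun (congrFun (h (Sum.elim 0 x)) 0) x
    have e1 : (M * Wop ψ (Sum.elim 0 x)) 0 x = M 0 0 := by
      rw [Matrix.mul_apply, Finset.sum_eq_single 0]
      · simp only [Wop_apply, rp_elim, zero_add, if_true, ph, lp_elim,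
          zero_dotProduct, mul_zero, add_zero, AddChar.map_zero_eq_one, mul_one]
      · intro z _ hz
        have hne : ¬ x = z + x := by
          intro h3
          apply hz
          exact (add_eq_right.mp h3.symm)
        rw [Wop_apply, rp_elim, if_neg hne, mul_zero]
      · intro hx
        exact absurd (Finset.mem_univ _) hx
    have e2 : (Wop ψ (Sum.elim 0 x) * M) 0 x = M x x := by
      rw [Matrix.mul_apply, Finset.sum_eq_single x]
      · simp only [Wop_apply, rp_elim, zero_add, if_true, ph, lp_elim,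
          zero_dotProduct, mul_zero, add_zero, AddChar.map_zero_eq_one, one_mul]
      · intro z _ hz
        rw [Wop_apply, rp_elim, zero_add, if_neg hz, zero_mul]
      · intro hx
        exact absurd (Finset.mem_univ _) hx
    rw [e1, e2] at h1
    exact h1.symm
  ext x y
  rw [Matrix.smul_apply, Matrix.one_apply, smul_eq_mul]
  by_cases hxy : x = y
  · rw [if_pos hxy, mul_one, ← hxy, hdiag]
  · rw [if_neg hxy, mul_zero, hoff x y hxy]

end weyl

end Cfsg.Agent.Lib.Helper14.Weil
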