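import Mathlib
import Cfsg.Agent.Lib.Helper14.Weil8

/-!
# Intertwining operators for the Weyl operators (helper14)
-/

set_option autoImplicit false
set_option linter.unusedSectionVars false
set_option linter.unusedVariables false

namespace Cfsg.Agent.Lib.Helper14.Weil

open Matrix Cfsg.Agent.Lib.Helper6
open scoped ComplexOrder

section inter

variable {F : Type*} [Field F] [Fintype F] [DecidableEq F] {n : ℕ} (ψ : AddChar F ℂ)

/-- `M` implements the linear map `g` of the symplectic space -/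
def Impl (g : Matrix (Fin n ⊕ Fin n) (Fin n ⊕ Fin n) F)
    (M : Matrix (Fin n → F) (Fin n → F) ℂ) : Prop :=
  ∀ v, M * Wop ψ v = Wop ψ (g *ᵥ v) * M

variable {ψ}

theorem Impl.mul {g g' : Matrix (Fin n ⊕ Fin n) (Fin n ⊕ Fin n) F}
    {M M' : Matrix (Fin n → F) (Fin n → F) ℂ} (hM : Impl ψ g M) (hM' : Impl ψ g' M') :
    Impl ψ (g * g') (M * M') := by
  intro v
  rw [Matrix.mul_assoc, hM' v, ← Matrix.mul_assoc, hM, Matrix.mul_assoc, mulVec_mulVec]

theorem Impl.one : Impl ψ (1 : Matrix (Fin n ⊕ Fin n) (Fin n ⊕ Fin n) F) 1 := by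
  intro v
  rw [one_mulVec, Matrix.one_mul, Matrix.mul_one]

theorem Impl.smul {g : Matrix (Fin n ⊕ Fin n) (Fin n ⊕ Fin n) F}
    {M : Matrix (Fin n → F) (Fin n → F) ℂ} (hM : Impl ψ g M) (c : ℂ) : Impl ψ g (c • M) := by
  intro v
  rw [Matrix.smul_mul, hM v, Matrix.mul_smul]

theorem Impl.scalar (hψ : ψ ≠ 1) {M : Matrix (Fin n → F) (Fin n → F) ℂ}
    (hM : Impl ψ (1 : Matrix (Fin n ⊕ Fin n) (Fin n ⊕ Fin n) F) M) : M = M 0 0 • 1 := by
  apply comm_scalar hψ
  intro v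
  have := hM v
  rwa [one_mulVec] at this

/-- the averaged operator -/
noncomputable def Av (ψ : AddChar F ℂ) (g : Matrix (Fin n ⊕ Fin n) (Fin n ⊕ Fin n) F)
    (T : Matrix (Fin n → F) (Fin n → F) ℂ) : Matrix (Fin n → F) (Fin n → F) ℂ :=
  ∑ v : Fin n ⊕ Fin n → F, Wop ψ (g *ᵥ v) * T * Wop ψ (-v)

theorem impl_Av (h2 : (2 : F) ≠ 0) (g : Matrix (Fin n ⊕ Fin n) (Fin n ⊕ Fin n) F)
    (hg : ∀ u v, Cfsg.sympForm n F (g *ᵥ u) (g *ᵥ v) = Cfsg.sympForm n F u v)
    (T : Matrix (Fin n → F) (Fin n → F) ℂ) : Impl ψ g (Av ψ g T) := by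
  intro w
  have key : ∀ u : Fin n ⊕ Fin n → F,
      Wop ψ (g *ᵥ (u + w)) * T * Wop ψ (-(u + w)) * Wop ψ w =
        Wop ψ (g *ᵥ w) * (Wop ψ (g *ᵥ u) * T * Wop ψ (-u)) := by
    intro u
    have hA : Wop ψ (-(u + w)) * Wop ψ w =
        ψ (-(2⁻¹ * Cfsg.sympForm n F u w)) • Wop ψ (-u) := by
      rw [Wop_mul ψ h2]
      congr 2
      · rw [sympForm_neg_left, sympForm_add_left, sympForm_self, add_zero, mul_neg]
      · abel
    have hB : Wop ψ (g *ᵥ (u + w)) =
        ψ (2⁻¹ * Cfsg.sympForm n F u w) • (Wop ψ (g *ᵥ w) * Wop ψ (g *ᵥ u)) := by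
      rw [Wop_mul ψ h2, smul_smul, ← AddChar.map_add_eq_mul, hg, sympForm_swap w u, mul_neg,
        add_neg_cancel, AddChar.map_zero_eq_one, one_smul, mulVec_add, add_comm]
    rw [Matrix.mul_assoc _ (Wop ψ (-(u + w))), hA, hB, Matrix.mul_smul, Matrix.smul_mul,
      Matrix.smul_mul, smul_smul, ← AddChar.map_add_eq_mul, neg_add_cancel,
      AddChar.map_zero_eq_one, one_smul]
    simp only [Matrix.mul_assoc]
  unfold Av
  rw [Finset.sum_mul, Finset.mul_sum]
  rw [← Fintype.sum_equiv (Equiv.addRight w)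
    (fun u => Wop ψ (g *ᵥ (u + w)) * T * Wop ψ (-(u + w)) * Wop ψ w)
    (fun v => Wop ψ (g *ᵥ v) * T * Wop ψ (-v) * Wop ψ w) (fun u => rfl)]
  exact Finset.sum_congr rfl (fun u _ => key u)

theorem exists_Av_ne_zero (hψ : ψ ≠ 1) (g : Matrix (Fin n ⊕ Fin n) (Fin n ⊕ Fin n) F) :
    ∃ T, Av ψ g T ≠ 0 := by
  by_contra hcon
  push Not at hcon
  have h1 : ∑ x : Fin n → F, ∑ y : Fin n → F, (Av ψ g (Matrix.single x y (1 : ℂ))) x y = 0 := by
    apply Finset.sum_eq_zero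
    intro x _
    apply Finset.sum_eq_zero
    intro y _
    rw [hcon]
    rfl
  have h3 : ∀ (A B : Matrix (Fin n → F) (Fin n → F) ℂ) (x y : Fin n → F),
      (A * Matrix.single x y (1 : ℂ) * B) x y = A x x * B y y := by
    intro A B x y
    rw [Matrix.mul_apply, Finset.sum_eq_single y]
    · rw [Matrix.mul_apply, Finset.sum_eq_single x]
      · simp
      · intro z _ hz
        simp [Matrix.single_apply, hz.symm]
      · simp
    · intro z _ hz
      rw [Matrix.mul_apply]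
      have : ∑ j, A x j * Matrix.single x y (1 : ℂ) j z = 0 := by
        apply Finset.sum_eq_zero
        intro j _
        simp [Matrix.single_apply, hz.symm]
      rw [this, zero_mul]
    · simp
  have h5 : ∀ x y : Fin n → F, (Av ψ g (Matrix.single x y (1 : ℂ))) x y =
      ∑ v : Fin n ⊕ Fin n → F, Wop ψ (g *ᵥ v) x x * Wop ψ (-v) y y := by
    intro x y
    unfold Av
    rw [Matrix.sum_apply]
    exact Finset.sum_congr rfl (fun v _ => h3 _ _ x y)
  have h4 : ∑ x : Fin n → F, ∑ y : Fin n → F, (Av ψ g (Matrix.single x y (1 : ℂ))) x y =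
      ∑ v : Fin n ⊕ Fin n → F, trace (Wop ψ (g *ᵥ v)) * trace (Wop ψ (-v)) := by
    calc ∑ x : Fin n → F, ∑ y : Fin n → F, (Av ψ g (Matrix.single x y (1 : ℂ))) x y
        = ∑ x : Fin n → F, ∑ y : Fin n → F, ∑ v : Fin n ⊕ Fin n → F,
            Wop ψ (g *ᵥ v) x x * Wop ψ (-v) y y := by
          apply Finset.sum_congr rfl
          intro x _
          apply Finset.sum_congr rfl
          intro y _
          exact h5 x y
      _ = ∑ x : Fin n → F, ∑ v : Fin n ⊕ Fin n → F, ∑ y : Fin n → F,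
            Wop ψ (g *ᵥ v) x x * Wop ψ (-v) y y := by
          apply Finset.sum_congr rfl
          intro x _
          exact Finset.sum_comm
      _ = ∑ v : Fin n ⊕ Fin n → F, ∑ x : Fin n → F, ∑ y : Fin n → F,
            Wop ψ (g *ᵥ v) x x * Wop ψ (-v) y y := Finset.sum_comm
      _ = _ := by
          apply Finset.sum_congr rfl
          intro v _
          rw [trace, trace, Finset.sum_mul_sum]
          rfl
  rw [h4, Finset.sum_eq_single 0] at h1
  · rw [mulVec_zero, neg_zero, trace_Wop hψ, if_pos rfl] at h1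
    have hq : (Fintype.card F : ℂ) ≠ 0 := Nat.cast_ne_zero.mpr Fintype.card_ne_zero
    exact (mul_ne_zero (pow_ne_zero n hq) (pow_ne_zero n hq)) h1
  · intro v _ hv
    rw [trace_Wop hψ (-v), if_neg (neg_ne_zero.mpr hv), mul_zero]
  · intro h
    exact absurd (Finset.mem_univ _) h

theorem unit_of_impl (hψ : ψ ≠ 1) (h2 : (2 : F) ≠ 0)
    {g : Matrix (Fin n ⊕ Fin n) (Fin n ⊕ Fin n) F}
    {M : Matrix (Fin n → F) (Fin n → F) ℂ} (hM : Impl ψ g M) (hM0 : M ≠ 0) : IsUnit M.det := by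
  have h1 : ∀ v, Wop ψ v * Mᴴ = Mᴴ * Wop ψ (g *ᵥ v) := by
    intro v
    have := congrArg conjTranspose (hM (-v))
    rw [conjTranspose_mul, conjTranspose_mul, Wop_conjTranspose ψ h2, Wop_conjTranspose ψ h2,
      neg_neg, mulVec_neg, neg_neg] at this
    exact this
  have hcomm : ∀ v, (Mᴴ * M) * Wop ψ v = Wop ψ v * (Mᴴ * M) := by
    intro v
    rw [Matrix.mul_assoc, hM v, ← Matrix.mul_assoc, ← h1 v, Matrix.mul_assoc]
  have hsc := comm_scalar hψ _ hcomm
  have hc : (Mᴴ * M) 0 0 ≠ 0 := by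
    intro h0
    rw [h0, zero_smul] at hsc
    exact hM0 (conjTranspose_mul_self_eq_zero.mp hsc)
  have hdet : (Mᴴ * M).det ≠ 0 := by
    rw [hsc, det_smul, det_one, mul_one]
    exact pow_ne_zero _ hc
  rw [det_mul] at hdet
  exact isUnit_iff_ne_zero.mpr (right_ne_zero_of_mul hdet)

/-- every symplectic map is implemented by an invertible operator -/
theorem exists_impl (hψ : ψ ≠ 1) (h2 : (2 : F) ≠ 0)
    (g : Matrix (Fin n ⊕ Fin n) (Fin n ⊕ Fin n) F)
    (hg : ∀ u v, Cfsg.sympForm n F (g *ᵥ u) (g *ᵥ v) = Cfsg.sympForm n F u v) :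
    ∃ M : Matrix (Fin n → F) (Fin n → F) ℂ, IsUnit M.det ∧ Impl ψ g M := by
  obtain ⟨T, hT⟩ := exists_Av_ne_zero hψ g
  exact ⟨Av ψ g T, unit_of_impl hψ h2 (impl_Av h2 g hg T) hT, impl_Av h2 g hg T⟩

end inter

end Cfsg.Agent.Lib.Helper14.Weil
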