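import Mathlib
import Cfsg.Agent.Lib.Helper14.Weil9

/-!
# Explicit intertwining operators for the Siegel parabolic subgroup (helper14)
-/

set_option autoImplicit false
set_option linter.unusedSectionVars false
set_option linter.unusedVariables false

namespace Cfsg.Agent.Lib.Helper14.Weil

open Matrix Cfsg.Agent.Lib.Helper6

section siegel

variable {F : Type*} [Field F] [Fintype F] [DecidableEq F] {n : ℕ}

omit [DecidableEq F] in
theorem odd_card (h2 : (2 : F) ≠ 0) : Odd (Fintype.card F) := by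
  by_contra hcon
  rw [Nat.not_odd_iff_even, Nat.even_iff] at hcon
  have h3 := FiniteField.even_card_iff_char_two.mpr hcon
  apply h2
  have : CharP F 2 := by rw [← h3]; exact ringChar.charP F
  exact CharTwo.two_eq_zero

/-- the Levi matrices -/
def dmat (A : GL (Fin n) F) : Matrix (Fin n ⊕ Fin n) (Fin n ⊕ Fin n) F :=
  fromBlocks (A : Matrix (Fin n) (Fin n) F) 0 0 ((A⁻¹ : GL (Fin n) F) : Matrix (Fin n) (Fin n) F)ᵀ

/-- the unipotent matrices -/
def umat (S : Matrix (Fin n) (Fin n) F) : Matrix (Fin n ⊕ Fin n) (Fin n ⊕ Fin n) F :=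
  fromBlocks 1 S 0 1

theorem lp_dmat (A : GL (Fin n) F) (v : Fin n ⊕ Fin n → F) :
    lp (dmat A *ᵥ v) = (A : Matrix (Fin n) (Fin n) F) *ᵥ lp v := by
  have hv : v = Sum.elim (lp v) (rp v) := by
    funext k
    rcases k with k | k <;> rfl
  conv_lhs => rw [hv, dmat, fromBlocks_mulVec]
  simp

theorem rp_dmat (A : GL (Fin n) F) (v : Fin n ⊕ Fin n → F) :
    rp (dmat A *ᵥ v) = ((A⁻¹ : GL (Fin n) F) : Matrix (Fin n) (Fin n) F)ᵀ *ᵥ rp v := by
  have hv : v = Sum.elim (lp v) (rp v) := by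
    funext k
    rcases k with k | k <;> rfl
  conv_lhs => rw [hv, dmat, fromBlocks_mulVec]
  simp

theorem lp_umat (S : Matrix (Fin n) (Fin n) F) (v : Fin n ⊕ Fin n → F) :
    lp (umat S *ᵥ v) = lp v + S *ᵥ rp v := by
  have hv : v = Sum.elim (lp v) (rp v) := by
    funext k
    rcases k with k | k <;> rfl
  conv_lhs => rw [hv, umat, fromBlocks_mulVec]
  simp

theorem rp_umat (S : Matrix (Fin n) (Fin n) F) (v : Fin n ⊕ Fin n → F) :
    rp (umat S *ᵥ v) = rp v := by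
  have hv : v = Sum.elim (lp v) (rp v) := by
    funext k
    rcases k with k | k <;> rfl
  conv_lhs => rw [hv, umat, fromBlocks_mulVec]
  simp

/-- the permutation of `F^n` induced by the transpose of `A` -/
def permA (A : GL (Fin n) F) : Equiv.Perm (Fin n → F) where
  toFun x := (A : Matrix (Fin n) (Fin n) F)ᵀ *ᵥ x
  invFun x := ((A⁻¹ : GL (Fin n) F) : Matrix (Fin n) (Fin n) F)ᵀ *ᵥ x
  left_inv x := by
    show ((A⁻¹ : GL (Fin n) F) : Matrix (Fin n) (Fin n) F)ᵀ *ᵥ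
      ((A : Matrix (Fin n) (Fin n) F)ᵀ *ᵥ x) = x
    rw [mulVec_mulVec, ← transpose_mul]
    have : ((A : Matrix (Fin n) (Fin n) F) * ((A⁻¹ : GL (Fin n) F) : Matrix (Fin n) (Fin n) F)) = 1 := by
      rw [← Units.val_mul, mul_inv_cancel]; rfl
    rw [this, transpose_one, one_mulVec]
  right_inv x := by
    show (A : Matrix (Fin n) (Fin n) F)ᵀ *ᵥ
      (((A⁻¹ : GL (Fin n) F) : Matrix (Fin n) (Fin n) F)ᵀ *ᵥ x) = x
    rw [mulVec_mulVec, ← transpose_mul]
    have : (((A⁻¹ : GL (Fin n) F) : Matrix (Fin n) (Fin n) F) * (A : Matrix (Fin n) (Fin n) F)) = 1 := by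
      rw [← Units.val_mul, inv_mul_cancel]; rfl
    rw [this, transpose_one, one_mulVec]

theorem permA_apply (A : GL (Fin n) F) (x : Fin n → F) :
    permA A x = (A : Matrix (Fin n) (Fin n) F)ᵀ *ᵥ x := rfl

theorem permA_mul (A B : GL (Fin n) F) : permA (A * B) = permA B * permA A := by
  ext x : 1
  rw [Equiv.Perm.mul_apply, permA_apply, permA_apply, permA_apply, mulVec_mulVec, ← transpose_mul]
  rfl

/-- the sign of the permutation, as a complex number -/
noncomputable def sgn (A : GL (Fin n) F) : ℂ := ((Equiv.Perm.sign (permA A) : ℤˣ) : ℤ)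

theorem sgn_mul (A B : GL (Fin n) F) : sgn (A * B) = sgn A * sgn B := by
  unfold sgn
  rw [permA_mul, map_mul, mul_comm]
  push_cast
  ring

theorem sgn_sq (A : GL (Fin n) F) : sgn A * sgn A = 1 := by
  unfold sgn
  rcases Int.units_eq_one_or (Equiv.Perm.sign (permA A)) with h | h <;> rw [h] <;> simp

variable (ψ : AddChar F ℂ)

/-- the operator of a Levi element -/
noncomputable def Md (A : GL (Fin n) F) : Matrix (Fin n → F) (Fin n → F) ℂ :=
  fun x y => if y = (A : Matrix (Fin n) (Fin n) F)ᵀ *ᵥ x then sgn A else 0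

/-- the operator of a unipotent element -/
noncomputable def Mu (S : Matrix (Fin n) (Fin n) F) : Matrix (Fin n → F) (Fin n → F) ℂ :=
  Matrix.diagonal (fun x => ψ (-(2⁻¹ * (x ⬝ᵥ S *ᵥ x))))

theorem Md_apply (A : GL (Fin n) F) (x y : Fin n → F) :
    Md A x y = if y = (A : Matrix (Fin n) (Fin n) F)ᵀ *ᵥ x then sgn A else 0 := rfl

theorem Md_eq (A : GL (Fin n) F) :
    Md A = sgn A • (Equiv.toPEquiv (permA A)).toMatrix := by
  ext x y
  rw [Md_apply, Matrix.smul_apply, PEquiv.toMatrix_apply, Equiv.toPEquiv_apply, smul_eq_mul]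
  simp only [Option.mem_def, Option.some.injEq, permA_apply]
  by_cases h : y = (A : Matrix (Fin n) (Fin n) F)ᵀ *ᵥ x
  · rw [if_pos h, if_pos h.symm, mul_one]
  · rw [if_neg h, if_neg (Ne.symm h), mul_zero]

theorem det_Md (h2 : (2 : F) ≠ 0) (A : GL (Fin n) F) : (Md A).det = 1 := by
  rw [Md_eq, det_smul, det_permutation]
  have hodd : Odd (Fintype.card (Fin n → F)) := by
    rw [Fintype.card_fun, Fintype.card_fin]
    exact Odd.pow (odd_card h2)
  obtain ⟨k, hk⟩ := hodd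
  rw [hk]
  unfold sgn
  rcases Int.units_eq_one_or (Equiv.Perm.sign (permA A)) with h | h <;> rw [h] <;> simp [pow_succ, pow_mul]

theorem Md_mul_apply (A : GL (Fin n) F) (N : Matrix (Fin n → F) (Fin n → F) ℂ)
    (x z : Fin n → F) :
    (Md A * N) x z = sgn A * N ((A : Matrix (Fin n) (Fin n) F)ᵀ *ᵥ x) z := by
  rw [Matrix.mul_apply, Finset.sum_eq_single ((A : Matrix (Fin n) (Fin n) F)ᵀ *ᵥ x)]
  · rw [Md_apply, if_pos rfl]
  · intro y _ hy
    rw [Md_apply, if_neg hy, zero_mul]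
  · intro h
    exact absurd (Finset.mem_univ _) h

theorem mul_Md_apply (A : GL (Fin n) F) (N : Matrix (Fin n → F) (Fin n → F) ℂ)
    (x z : Fin n → F) :
    (N * Md A) x z =
      N x (((A⁻¹ : GL (Fin n) F) : Matrix (Fin n) (Fin n) F)ᵀ *ᵥ z) * sgn A := by
  rw [Matrix.mul_apply,
    Finset.sum_eq_single (((A⁻¹ : GL (Fin n) F) : Matrix (Fin n) (Fin n) F)ᵀ *ᵥ z)]
  · rw [Md_apply, if_pos]
    exact ((permA A).apply_symm_apply z).symm
  · intro y _ hy
    rw [Md_apply, if_neg, mul_zero]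
    intro h
    apply hy
    rw [h]
    exact ((permA A).symm_apply_apply y).symm
  · intro h
    exact absurd (Finset.mem_univ _) h

theorem Md_mul (A B : GL (Fin n) F) : Md (A * B) = Md A * Md B := by
  ext x z
  rw [Md_mul_apply, Md_apply, Md_apply, sgn_mul]
  have : ((A * B : GL (Fin n) F) : Matrix (Fin n) (Fin n) F)ᵀ *ᵥ x =
      (B : Matrix (Fin n) (Fin n) F)ᵀ *ᵥ ((A : Matrix (Fin n) (Fin n) F)ᵀ *ᵥ x) := by
    rw [mulVec_mulVec, ← transpose_mul]
    rfl
  rw [this]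
  by_cases h : z = (B : Matrix (Fin n) (Fin n) F)ᵀ *ᵥ ((A : Matrix (Fin n) (Fin n) F)ᵀ *ᵥ x)
  · rw [if_pos h, if_pos h]
  · rw [if_neg h, if_neg h, mul_zero]

theorem Md_one : Md (1 : GL (Fin n) F) = 1 := by
  ext x z
  rw [Md_apply, Matrix.one_apply]
  have h1 : sgn (1 : GL (Fin n) F) = 1 := by
    have := sgn_mul (1 : GL (Fin n) F) 1
    rw [mul_one] at this
    have h3 := sgn_sq (1 : GL (Fin n) F)
    rw [← this] at h3
    exact h3
  simp only [Units.val_one, transpose_one, one_mulVec, h1]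
  by_cases h : x = z
  · rw [if_pos h, if_pos h.symm]
  · rw [if_neg h, if_neg (Ne.symm h)]

theorem impl_Md (A : GL (Fin n) F) : Impl ψ (dmat A) (Md A) := by
  intro v
  ext x z
  rw [Md_mul_apply, mul_Md_apply, Wop_apply, Wop_apply, rp_dmat]
  have hx : x = ((A⁻¹ : GL (Fin n) F) : Matrix (Fin n) (Fin n) F)ᵀ *ᵥ
      ((A : Matrix (Fin n) (Fin n) F)ᵀ *ᵥ x) := ((permA A).symm_apply_apply x).symm
  by_cases h : z = (A : Matrix (Fin n) (Fin n) F)ᵀ *ᵥ x + rp v
  · have h' : ((A⁻¹ : GL (Fin n) F) : Matrix (Fin n) (Fin n) F)ᵀ *ᵥ z =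
        x + ((A⁻¹ : GL (Fin n) F) : Matrix (Fin n) (Fin n) F)ᵀ *ᵥ rp v := by
      rw [h, mulVec_add, ← hx]
    rw [if_pos h, if_pos h', mul_comm]
    congr 2
    unfold ph
    rw [lp_dmat, rp_dmat]
    congr 1
    · show lp v ⬝ᵥ ((A : Matrix (Fin n) (Fin n) F)ᵀ *ᵥ x) =
        ((A : Matrix (Fin n) (Fin n) F) *ᵥ lp v) ⬝ᵥ x
      rw [dotProduct_mulVec, vecMul_transpose]
    · congr 1
      rw [dotProduct_mulVec, vecMul_transpose, mulVec_mulVec, ← Units.val_mul, inv_mul_cancel,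
        Units.val_one, one_mulVec]
  · have h' : ¬ ((A⁻¹ : GL (Fin n) F) : Matrix (Fin n) (Fin n) F)ᵀ *ᵥ z =
        x + ((A⁻¹ : GL (Fin n) F) : Matrix (Fin n) (Fin n) F)ᵀ *ᵥ rp v := by
      intro h3
      apply h
      have := congrArg (fun y => (A : Matrix (Fin n) (Fin n) F)ᵀ *ᵥ y) h3
      simp only [mulVec_add] at this
      have e1 : ∀ y : Fin n → F, (A : Matrix (Fin n) (Fin n) F)ᵀ *ᵥ
          (((A⁻¹ : GL (Fin n) F) : Matrix (Fin n) (Fin n) F)ᵀ *ᵥ y) = y :=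
        fun y => (permA A).apply_symm_apply y
      rwa [e1, e1] at this
    rw [if_neg h, if_neg h', mul_zero, zero_mul]

theorem Mu_apply (S : Matrix (Fin n) (Fin n) F) (x y : Fin n → F) :
    Mu ψ S x y = if x = y then ψ (-(2⁻¹ * (x ⬝ᵥ S *ᵥ x))) else 0 := by
  rw [Mu, Matrix.diagonal_apply]

theorem Mu_add (S S' : Matrix (Fin n) (Fin n) F) : Mu ψ (S + S') = Mu ψ S * Mu ψ S' := by
  rw [Mu, Mu, Mu, Matrix.diagonal_mul_diagonal]
  congr 1
  funext x
  rw [← AddChar.map_add_eq_mul]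
  congr 1
  rw [add_mulVec, dotProduct_add]
  ring

theorem Mu_zero : Mu ψ (0 : Matrix (Fin n) (Fin n) F) = 1 := by
  rw [Mu, ← Matrix.diagonal_one]
  congr 1
  funext x
  rw [zero_mulVec, dotProduct_zero, mul_zero, neg_zero, AddChar.map_zero_eq_one]

theorem Mu_pow (S : Matrix (Fin n) (Fin n) F) (k : ℕ) : Mu ψ S ^ k = Mu ψ (k • S) := by
  induction k with
  | zero => rw [pow_zero, zero_smul, Mu_zero]
  | succ k ih => rw [pow_succ, ih, ← Mu_add, succ_nsmul]

theorem Mu_pow_char (p : ℕ) [CharP F p] (S : Matrix (Fin n) (Fin n) F) : Mu ψ S ^ p = 1 := by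
  rw [Mu_pow]
  have : p • S = 0 := by
    ext i j
    simp
  rw [this, Mu_zero]

theorem impl_Mu (h2 : (2 : F) ≠ 0) (S : Matrix (Fin n) (Fin n) F) (hS : Sᵀ = S) :
    Impl ψ (umat S) (Mu ψ S) := by
  intro v
  ext x z
  rw [Mu, Matrix.diagonal_mul, Matrix.mul_diagonal, Wop_apply, Wop_apply, rp_umat]
  by_cases h : z = x + rp v
  · rw [if_pos h, if_pos h, ← AddChar.map_add_eq_mul, ← AddChar.map_add_eq_mul]
    congr 1
    unfold ph
    rw [lp_umat, rp_umat, h]
    have hh : (2 : F)⁻¹ * 2 = 1 := inv_mul_cancel₀ h2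
    have hsym : rp v ⬝ᵥ S *ᵥ x = x ⬝ᵥ S *ᵥ rp v := by
      rw [dotProduct_mulVec, ← mulVec_transpose, hS, dotProduct_comm]
    simp only [add_dotProduct, dotProduct_add, mulVec_add]
    rw [hsym, dotProduct_comm (S *ᵥ rp v) x, dotProduct_comm (S *ᵥ rp v) (rp v)]
    linear_combination (x ⬝ᵥ S *ᵥ rp v) * hh
  · rw [if_neg h, if_neg h, mul_zero, zero_mul]

theorem Md_Mu (A : GL (Fin n) F) (S : Matrix (Fin n) (Fin n) F) :
    Md A * Mu ψ S =
      Mu ψ ((A : Matrix (Fin n) (Fin n) F) * S * (A : Matrix (Fin n) (Fin n) F)ᵀ) * Md A := by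
  ext x z
  rw [Md_mul_apply, Mu, Mu, Matrix.diagonal_mul, Matrix.diagonal_apply, Md_apply]
  by_cases h : z = (A : Matrix (Fin n) (Fin n) F)ᵀ *ᵥ x
  · rw [if_pos h.symm, if_pos h, mul_comm]
    congr 3
    rw [← mulVec_mulVec, ← mulVec_mulVec, dotProduct_mulVec x, ← mulVec_transpose]
  · rw [if_neg (Ne.symm h), if_neg h, mul_zero, mul_zero]

end siegel

end Cfsg.Agent.Lib.Helper14.Weil
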