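import Mathlib
import Cfsg.Agent.Lib.Helper14.Weil10
import Cfsg.Agent.S0765

/-!
# The group of pairs (symplectic matrix, implementing operator) (helper14)
-/

set_option autoImplicit false
set_option linter.unusedSectionVars false
set_option linter.unusedVariables false

namespace Cfsg.Agent.Lib.Helper14.Weil

open Matrix Cfsg.Agent.Lib.Helper6

section ext

variable {F : Type*} [Field F] [Fintype F] [DecidableEq F] {n : ℕ} (ψ : AddChar F ℂ)

/-- the symplectic group -/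
abbrev SpN (n : ℕ) (F : Type*) [Field F] : Type _ := ↥(symplecticGroup (Fin n) F)

/-- invertible operators on functions on `F^n` -/
abbrev GLX (n : ℕ) (F : Type*) [Field F] [Fintype F] [DecidableEq F] : Type _ :=
  GL (Fin n → F) ℂ

theorem sp_coe_mul (g h : SpN n F) :
    ((g * h : SpN n F) : Matrix (Fin n ⊕ Fin n) (Fin n ⊕ Fin n) F) =
      (g : Matrix (Fin n ⊕ Fin n) (Fin n ⊕ Fin n) F) * h := rfl

theorem sp_coe_one :
    ((1 : SpN n F) : Matrix (Fin n ⊕ Fin n) (Fin n ⊕ Fin n) F) = 1 := rfl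

/-- the subgroup of pairs `(g, M)` with `M` implementing `g` -/
def implSubgroup : Subgroup (SpN n F × GLX n F) where
  carrier := {x | Impl ψ (x.1 : Matrix (Fin n ⊕ Fin n) (Fin n ⊕ Fin n) F)
    (x.2 : Matrix (Fin n → F) (Fin n → F) ℂ)}
  mul_mem' := by
    intro x y hx hy
    exact Impl.mul hx hy
  one_mem' := Impl.one
  inv_mem' := by
    intro x hx v
    have h1 : ((x.1 : Matrix (Fin n ⊕ Fin n) (Fin n ⊕ Fin n) F)) *ᵥ
        (((x⁻¹).1 : Matrix (Fin n ⊕ Fin n) (Fin n ⊕ Fin n) F) *ᵥ v) = v := by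
      rw [mulVec_mulVec]
      have : (x.1 : Matrix (Fin n ⊕ Fin n) (Fin n ⊕ Fin n) F) *
          ((x⁻¹).1 : Matrix (Fin n ⊕ Fin n) (Fin n ⊕ Fin n) F) = 1 := by
        rw [Prod.fst_inv, ← sp_coe_mul, mul_inv_cancel]
        rfl
      rw [this, one_mulVec]
    have h3 := hx (((x⁻¹).1 : Matrix (Fin n ⊕ Fin n) (Fin n ⊕ Fin n) F) *ᵥ v)
    rw [h1] at h3
    -- h3 : M * W(g⁻¹ v) = W(v) * M
    have hM : ((x⁻¹).2 : Matrix (Fin n → F) (Fin n → F) ℂ) *
        (x.2 : Matrix (Fin n → F) (Fin n → F) ℂ) = 1 := by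
      rw [Prod.snd_inv, ← Units.val_mul, inv_mul_cancel]
      rfl
    have hM' : (x.2 : Matrix (Fin n → F) (Fin n → F) ℂ) *
        ((x⁻¹).2 : Matrix (Fin n → F) (Fin n → F) ℂ) = 1 := by
      rw [Prod.snd_inv, ← Units.val_mul, mul_inv_cancel]
      rfl
    calc ((x⁻¹).2 : Matrix (Fin n → F) (Fin n → F) ℂ) * Wop ψ v
        = ((x⁻¹).2 : Matrix (Fin n → F) (Fin n → F) ℂ) * (Wop ψ v *
            ((x.2 : Matrix (Fin n → F) (Fin n → F) ℂ) *
              ((x⁻¹).2 : Matrix (Fin n → F) (Fin n → F) ℂ))) := by rw [hM', Matrix.mul_one]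
      _ = ((x⁻¹).2 : Matrix (Fin n → F) (Fin n → F) ℂ) * ((Wop ψ v *
            (x.2 : Matrix (Fin n → F) (Fin n → F) ℂ)) *
              ((x⁻¹).2 : Matrix (Fin n → F) (Fin n → F) ℂ)) := by rw [Matrix.mul_assoc]
      _ = ((x⁻¹).2 : Matrix (Fin n → F) (Fin n → F) ℂ) *
            (((x.2 : Matrix (Fin n → F) (Fin n → F) ℂ) *
              Wop ψ (((x⁻¹).1 : Matrix (Fin n ⊕ Fin n) (Fin n ⊕ Fin n) F) *ᵥ v)) *
              ((x⁻¹).2 : Matrix (Fin n → F) (Fin n → F) ℂ)) := by rw [h3]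
      _ = (((x⁻¹).2 : Matrix (Fin n → F) (Fin n → F) ℂ) *
            (x.2 : Matrix (Fin n → F) (Fin n → F) ℂ)) *
              Wop ψ (((x⁻¹).1 : Matrix (Fin n ⊕ Fin n) (Fin n ⊕ Fin n) F) *ᵥ v) *
              ((x⁻¹).2 : Matrix (Fin n → F) (Fin n → F) ℂ) := by
            simp only [Matrix.mul_assoc]
      _ = _ := by rw [hM, Matrix.one_mul]

/-- the determinant condition -/
noncomputable def detHom (p : ℕ) : SpN n F × GLX n F →* ℂˣ :=
  (powMonoidHom p).comp (Matrix.GeneralLinearGroup.det.comp (MonoidHom.snd (SpN n F) (GLX n F)))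

/-- the extension group -/
noncomputable def Ghat (p : ℕ) : Subgroup (SpN n F × GLX n F) :=
  implSubgroup ψ ⊓ (detHom p).ker

theorem mem_Ghat (p : ℕ) (x : SpN n F × GLX n F) :
    x ∈ Ghat ψ p ↔ Impl ψ (x.1 : Matrix (Fin n ⊕ Fin n) (Fin n ⊕ Fin n) F)
      (x.2 : Matrix (Fin n → F) (Fin n → F) ℂ) ∧
      ((x.2 : Matrix (Fin n → F) (Fin n → F) ℂ).det) ^ p = 1 := by
  unfold Ghat
  rw [Subgroup.mem_inf, MonoidHom.mem_ker]
  apply and_congr Iff.rfl
  constructor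
  · intro h
    have := congrArg Units.val h
    simpa [detHom] using this
  · intro h
    apply Units.ext
    simpa [detHom] using h

/-- the projection -/
noncomputable def piHat (p : ℕ) : ↥(Ghat (n := n) ψ p) →* SpN n F :=
  (MonoidHom.fst (SpN n F) (GLX n F)).comp (Ghat (n := n) ψ p).subtype

variable {ψ}

theorem piHat_surjective (hψ : ψ ≠ 1) (h2 : (2 : F) ≠ 0) (p : ℕ) :
    Function.Surjective (piHat (n := n) ψ p) := by
  intro g
  obtain ⟨M, hMu, hMi⟩ := exists_impl hψ h2 (g : Matrix (Fin n ⊕ Fin n) (Fin n ⊕ Fin n) F)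
    (Cfsg.Agent.S0765.preserves g)
  have hcard : 0 < Fintype.card (Fin n → F) := Fintype.card_pos
  obtain ⟨c, hc⟩ := IsAlgClosed.exists_pow_nat_eq (M.det)⁻¹ hcard
  have hdet : (c • M).det = 1 := by
    rw [det_smul, hc, inv_mul_cancel₀ hMu.ne_zero]
  have hu : IsUnit (c • M).det := by rw [hdet]; exact isUnit_one
  refine ⟨⟨(g, Matrix.GeneralLinearGroup.mk'' (c • M) hu), ?_⟩, rfl⟩
  rw [mem_Ghat]
  refine ⟨hMi.smul c, ?_⟩
  show ((c • M).det) ^ p = 1
  rw [hdet, one_pow]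

theorem ker_piHat_scalar (hψ : ψ ≠ 1) (p : ℕ) (x : ↥(Ghat (n := n) ψ p)) (hx : x ∈ (piHat (n := n) ψ p).ker) :
    ((x : SpN n F × GLX n F).2 : Matrix (Fin n → F) (Fin n → F) ℂ) =
      ((x : SpN n F × GLX n F).2 : Matrix (Fin n → F) (Fin n → F) ℂ) 0 0 • 1 := by
  have h1 : (x : SpN n F × GLX n F).1 = 1 := MonoidHom.mem_ker.mp hx
  have h3 := ((mem_Ghat ψ p _).mp x.2).1
  rw [h1, sp_coe_one] at h3
  exact Impl.scalar hψ h3

theorem ker_piHat_le_center (hψ : ψ ≠ 1) (p : ℕ) :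
    (piHat (n := n) ψ p).ker ≤ Subgroup.center ↥(Ghat (n := n) ψ p) := by
  intro x hx
  rw [Subgroup.mem_center_iff]
  intro y
  have h1 : (x : SpN n F × GLX n F).1 = 1 := MonoidHom.mem_ker.mp hx
  have hsc := ker_piHat_scalar hψ p x hx
  apply Subtype.ext
  apply Prod.ext
  · show (y : SpN n F × GLX n F).1 * (x : SpN n F × GLX n F).1 =
      (x : SpN n F × GLX n F).1 * (y : SpN n F × GLX n F).1
    rw [h1, mul_one, one_mul]
  · apply Units.ext
    show ((y : SpN n F × GLX n F).2 : Matrix (Fin n → F) (Fin n → F) ℂ) *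
        ((x : SpN n F × GLX n F).2 : Matrix (Fin n → F) (Fin n → F) ℂ) =
      ((x : SpN n F × GLX n F).2 : Matrix (Fin n → F) (Fin n → F) ℂ) *
        ((y : SpN n F × GLX n F).2 : Matrix (Fin n → F) (Fin n → F) ℂ)
    rw [hsc, Matrix.mul_smul, Matrix.smul_mul, Matrix.mul_one, Matrix.one_mul]

theorem ker_piHat_pow (hψ : ψ ≠ 1) (p : ℕ) (x : ↥(Ghat (n := n) ψ p)) (hx : x ∈ (piHat (n := n) ψ p).ker) :
    x ^ (Fintype.card (Fin n → F) * p) = 1 := by
  have h1 : (x : SpN n F × GLX n F).1 = 1 := MonoidHom.mem_ker.mp hx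
  have hsc := ker_piHat_scalar hψ p x hx
  have hdet := ((mem_Ghat ψ p _).mp x.2).2
  rw [hsc, det_smul, det_one, mul_one, ← pow_mul] at hdet
  apply Subtype.ext
  apply Prod.ext
  · show ((x ^ (Fintype.card (Fin n → F) * p) : ↥(Ghat (n := n) ψ p)) : SpN n F × GLX n F).1 = 1
    rw [Subgroup.coe_pow, Prod.pow_fst, h1, one_pow]
  · apply Units.ext
    show (((x ^ (Fintype.card (Fin n → F) * p) : ↥(Ghat (n := n) ψ p)) : SpN n F × GLX n F).2 :
      Matrix (Fin n → F) (Fin n → F) ℂ) = 1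
    rw [Subgroup.coe_pow, Prod.pow_snd, Units.val_pow_eq_pow_val, hsc, smul_pow, one_pow, hdet,
      one_smul]

end ext

end Cfsg.Agent.Lib.Helper14.Weil
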