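import Mathlib
import Cfsg.Agent.Lib.Helper14.Weil11

/-!
# The Siegel parabolic subgroup inside the extension group (helper14)
-/

set_option autoImplicit false
set_option linter.unusedSectionVars false
set_option linter.unusedVariables false

namespace Cfsg.Agent.Lib.Helper14.Weil

open Matrix Cfsg.Agent.Lib.Helper6

section par

variable {F : Type*} [Field F] [Fintype F] [DecidableEq F] {n : ℕ} (ψ : AddChar F ℂ)

/-- symmetric matrices -/
abbrev SymT (n : ℕ) (F : Type*) [Field F] : Type _ :=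
  {S : Matrix (Fin n) (Fin n) F // Sᵀ = S}

theorem dmat_mem (A : GL (Fin n) F) : dmat A ∈ symplecticGroup (Fin n) F := by
  rw [dmat, SymplecticGroup.fromBlocks_mem_iff]
  refine ⟨by simp, by simp, ?_⟩
  rw [← transpose_mul, ← Units.val_mul, inv_mul_cancel, Matrix.mul_zero, sub_zero]
  simp

theorem umat_mem (S : SymT n F) : umat S.1 ∈ symplecticGroup (Fin n) F := by
  rw [umat, SymplecticGroup.fromBlocks_mem_iff]
  refine ⟨by simp, by simp [S.2], by simp⟩

theorem dmat_mul (A B : GL (Fin n) F) : dmat (A * B) = dmat A * dmat B := by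
  simp only [dmat, fromBlocks_multiply, Matrix.mul_zero, Matrix.zero_mul, add_zero, zero_add,
    Units.val_mul]
  congr 1
  rw [← transpose_mul, ← Units.val_mul, _root_.mul_inv_rev]

theorem dmat_one : dmat (1 : GL (Fin n) F) = 1 := by
  simp [dmat, fromBlocks_one]

theorem umat_add (S S' : Matrix (Fin n) (Fin n) F) : umat (S + S') = umat S * umat S' := by
  simp only [umat, fromBlocks_multiply, Matrix.mul_one, Matrix.one_mul, Matrix.mul_zero,
    Matrix.zero_mul, add_zero, zero_add]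
  rw [add_comm]

theorem umat_zero : umat (0 : Matrix (Fin n) (Fin n) F) = 1 := by
  simp [umat, fromBlocks_one]

theorem dmat_umat (A : GL (Fin n) F) (S : Matrix (Fin n) (Fin n) F) :
    dmat A * umat S =
      umat ((A : Matrix (Fin n) (Fin n) F) * S * (A : Matrix (Fin n) (Fin n) F)ᵀ) * dmat A := by
  simp only [dmat, umat, fromBlocks_multiply, Matrix.mul_one, Matrix.one_mul, Matrix.mul_zero,
    Matrix.zero_mul, add_zero, zero_add]
  congr 1
  rw [Matrix.mul_assoc, Matrix.mul_assoc, ← transpose_mul, ← Units.val_mul, inv_mul_cancel,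
    Units.val_one, transpose_one, Matrix.mul_one]

theorem dmat_umat_inj {A A' : GL (Fin n) F} {S S' : Matrix (Fin n) (Fin n) F}
    (h : dmat A * umat S = dmat A' * umat S') : A = A' ∧ S = S' := by
  simp only [dmat, umat, fromBlocks_multiply, Matrix.mul_one, Matrix.one_mul, Matrix.mul_zero,
    Matrix.zero_mul, add_zero, zero_add] at h
  obtain ⟨h1, h2, -, -⟩ := fromBlocks_inj.mp h
  have hA : A = A' := Units.ext h1
  refine ⟨hA, ?_⟩
  rw [hA] at h2
  have := congrArg (fun M => ((A'⁻¹ : GL (Fin n) F) : Matrix (Fin n) (Fin n) F) * M) h2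
  simp only [← Matrix.mul_assoc, ← Units.val_mul, inv_mul_cancel, Units.val_one,
    Matrix.one_mul] at this
  exact this

/-- symmetric matrices form an additive group -/
theorem symT_add (S S' : SymT n F) : (S.1 + S'.1)ᵀ = S.1 + S'.1 := by
  rw [transpose_add, S.2, S'.2]

theorem symT_conj (A : GL (Fin n) F) (S : SymT n F) :
    ((A : Matrix (Fin n) (Fin n) F) * S.1 * (A : Matrix (Fin n) (Fin n) F)ᵀ)ᵀ =
      (A : Matrix (Fin n) (Fin n) F) * S.1 * (A : Matrix (Fin n) (Fin n) F)ᵀ := by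
  rw [transpose_mul, transpose_mul, transpose_transpose, S.2, Matrix.mul_assoc]

variable (h2 : (2 : F) ≠ 0)

/-- the Levi elements in the product group -/
noncomputable def Dp (A : GL (Fin n) F) : SpN n F × GLX n F :=
  (⟨dmat A, dmat_mem A⟩, Matrix.GeneralLinearGroup.mk'' (Md A) (by
    rw [det_Md h2]; exact isUnit_one))

/-- the unipotent elements in the product group -/
noncomputable def Up (S : Matrix (Fin n) (Fin n) F) (hS : Sᵀ = S) : SpN n F × GLX n F :=
  (⟨umat S, umat_mem ⟨S, hS⟩⟩, ⟨Mu ψ S, Mu ψ (-S), by rw [← Mu_add, add_neg_cancel, Mu_zero],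
    by rw [← Mu_add, neg_add_cancel, Mu_zero]⟩)

theorem prod_ext' {x y : SpN n F × GLX n F}
    (h1 : (x.1 : Matrix (Fin n ⊕ Fin n) (Fin n ⊕ Fin n) F) = y.1)
    (h3 : (x.2 : Matrix (Fin n → F) (Fin n → F) ℂ) = y.2) : x = y :=
  Prod.ext (Subtype.ext h1) (Units.ext h3)

theorem Dp_mul (A B : GL (Fin n) F) : Dp h2 (A * B) = Dp h2 A * Dp h2 B :=
  prod_ext' (dmat_mul A B) (Md_mul A B)

theorem Dp_one : Dp h2 (1 : GL (Fin n) F) = 1 :=
  prod_ext' dmat_one Md_one

theorem Up_add (S S' : Matrix (Fin n) (Fin n) F) (hS : Sᵀ = S) (hS' : S'ᵀ = S')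
    (hSS : (S + S')ᵀ = S + S') : Up ψ (S + S') hSS = Up ψ S hS * Up ψ S' hS' :=
  prod_ext' (umat_add S S') (Mu_add ψ S S')

theorem Up_zero : Up ψ (0 : Matrix (Fin n) (Fin n) F) (by simp) = 1 :=
  prod_ext' umat_zero (Mu_zero ψ)

theorem Dp_Up (A : GL (Fin n) F) (S : Matrix (Fin n) (Fin n) F) (hS : Sᵀ = S)
    (hS' : ((A : Matrix (Fin n) (Fin n) F) * S * (A : Matrix (Fin n) (Fin n) F)ᵀ)ᵀ =
      (A : Matrix (Fin n) (Fin n) F) * S * (A : Matrix (Fin n) (Fin n) F)ᵀ) :
    Dp h2 A * Up ψ S hS = Up ψ _ hS' * Dp h2 A :=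
  prod_ext' (dmat_umat A S) (Md_Mu ψ A S)

/-- the parametrisation of the parabolic subgroup -/
noncomputable def pe (x : GL (Fin n) F × SymT n F) : SpN n F × GLX n F :=
  Dp h2 x.1 * Up ψ x.2.1 x.2.2

theorem pe_injective : Function.Injective (pe (n := n) ψ h2) := by
  intro x y h
  have h1 := congrArg (fun z : SpN n F × GLX n F =>
    (z.1 : Matrix (Fin n ⊕ Fin n) (Fin n ⊕ Fin n) F)) h
  have h3 : dmat x.1 * umat x.2.1 = dmat y.1 * umat y.2.1 := h1
  obtain ⟨e1, e2⟩ := dmat_umat_inj h3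
  exact Prod.ext e1 (Subtype.ext e2)

theorem fst_pe_injective {x y : GL (Fin n) F × SymT n F}
    (h : (pe ψ h2 x).1 = (pe ψ h2 y).1) : x = y := by
  have h1 := congrArg (fun z : SpN n F =>
    (z : Matrix (Fin n ⊕ Fin n) (Fin n ⊕ Fin n) F)) h
  have h3 : dmat x.1 * umat x.2.1 = dmat y.1 * umat y.2.1 := h1
  obtain ⟨e1, e2⟩ := dmat_umat_inj h3
  exact Prod.ext e1 (Subtype.ext e2)

end par

end Cfsg.Agent.Lib.Helper14.Weil
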