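import Mathlib
import Cfsg.Agent.Lib.Helper14.Weil12

/-!
# The Siegel parabolic subgroup as a subgroup of the extension group (helper14)
-/

set_option autoImplicit false
set_option linter.unusedSectionVars false
set_option linter.unusedVariables false

namespace Cfsg.Agent.Lib.Helper14.Weil

open Matrix Cfsg.Agent.Lib.Helper6

section gam

variable {F : Type*} [Field F] [Fintype F] [DecidableEq F] {n : ℕ} (ψ : AddChar F ℂ)
  (h2 : (2 : F) ≠ 0)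

theorem Up_congr {S S' : Matrix (Fin n) (Fin n) F} (h : S = S') (hS : Sᵀ = S) (hS' : S'ᵀ = S') :
    Up ψ S hS = Up ψ S' hS' := by
  subst h
  rfl

theorem symT_conj_inv (B : GL (Fin n) F) (T : Matrix (Fin n) (Fin n) F) (hT : Tᵀ = T) :
    (((B⁻¹ : GL (Fin n) F) : Matrix (Fin n) (Fin n) F) * T *
      ((B⁻¹ : GL (Fin n) F) : Matrix (Fin n) (Fin n) F)ᵀ)ᵀ =
    ((B⁻¹ : GL (Fin n) F) : Matrix (Fin n) (Fin n) F) * T *
      ((B⁻¹ : GL (Fin n) F) : Matrix (Fin n) (Fin n) F)ᵀ :=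
  symT_conj B⁻¹ ⟨T, hT⟩

theorem Up_Dp (B : GL (Fin n) F) (T : Matrix (Fin n) (Fin n) F) (hT : Tᵀ = T) :
    Up ψ T hT * Dp h2 B = Dp h2 B * Up ψ _ (symT_conj_inv B T hT) := by
  have hS' : ((B : Matrix (Fin n) (Fin n) F) *
      (((B⁻¹ : GL (Fin n) F) : Matrix (Fin n) (Fin n) F) * T *
        ((B⁻¹ : GL (Fin n) F) : Matrix (Fin n) (Fin n) F)ᵀ) *
      (B : Matrix (Fin n) (Fin n) F)ᵀ) = T := by
    have e1 : (B : Matrix (Fin n) (Fin n) F) *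
        ((B⁻¹ : GL (Fin n) F) : Matrix (Fin n) (Fin n) F) = 1 := by
      rw [← Units.val_mul, mul_inv_cancel]; rfl
    have e2 : ((B⁻¹ : GL (Fin n) F) : Matrix (Fin n) (Fin n) F)ᵀ *
        (B : Matrix (Fin n) (Fin n) F)ᵀ = 1 := by
      rw [← transpose_mul, e1, transpose_one]
    rw [← Matrix.mul_assoc, ← Matrix.mul_assoc, e1, Matrix.one_mul, Matrix.mul_assoc, e2,
      Matrix.mul_one]
  have h := Dp_Up ψ h2 B _ (symT_conj_inv B T hT) (by rw [hS']; exact hT)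
  rw [h]
  congr 1
  exact Up_congr ψ hS'.symm _ _

theorem Up_neg_mul (S : Matrix (Fin n) (Fin n) F) (hS : Sᵀ = S) :
    Up ψ (-S) (by rw [transpose_neg, hS]) * Up ψ S hS = 1 := by
  rw [← Up_add ψ (-S) S _ hS (by rw [neg_add_cancel]; simp)]
  rw [Up_congr ψ (neg_add_cancel S) _ (by simp), Up_zero]

theorem Up_inv (S : Matrix (Fin n) (Fin n) F) (hS : Sᵀ = S) :
    (Up ψ S hS)⁻¹ = Up ψ (-S) (by rw [transpose_neg, hS]) :=
  inv_eq_of_mul_eq_one_left (Up_neg_mul ψ S hS)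

theorem Dp_inv (A : GL (Fin n) F) : (Dp h2 A)⁻¹ = Dp h2 A⁻¹ := by
  apply inv_eq_of_mul_eq_one_left
  rw [← Dp_mul, inv_mul_cancel, Dp_one]

/-- the parabolic subgroup of the product group -/
noncomputable def Gam : Subgroup (SpN n F × GLX n F) where
  carrier := Set.range (pe ψ h2)
  one_mem' := by
    refine ⟨(1, ⟨0, by simp⟩), ?_⟩
    show Dp h2 1 * Up ψ 0 _ = 1
    rw [Dp_one, Up_zero, mul_one]
  mul_mem' := by
    rintro _ _ ⟨x, rfl⟩ ⟨y, rfl⟩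
    refine ⟨(x.1 * y.1, ⟨((y.1⁻¹ : GL (Fin n) F) : Matrix (Fin n) (Fin n) F) * x.2.1 *
      ((y.1⁻¹ : GL (Fin n) F) : Matrix (Fin n) (Fin n) F)ᵀ + y.2.1, ?_⟩), ?_⟩
    · rw [transpose_add, symT_conj_inv y.1 x.2.1 x.2.2, y.2.2]
    · show Dp h2 (x.1 * y.1) * Up ψ _ _ = (Dp h2 x.1 * Up ψ x.2.1 x.2.2) *
        (Dp h2 y.1 * Up ψ y.2.1 y.2.2)
      rw [Up_add ψ _ _ (symT_conj_inv y.1 x.2.1 x.2.2) y.2.2, Dp_mul]
      calc Dp h2 x.1 * Dp h2 y.1 * (Up ψ _ (symT_conj_inv y.1 x.2.1 x.2.2) * Up ψ y.2.1 y.2.2)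
          = Dp h2 x.1 * (Dp h2 y.1 * Up ψ _ (symT_conj_inv y.1 x.2.1 x.2.2)) *
              Up ψ y.2.1 y.2.2 := by simp only [mul_assoc]
        _ = Dp h2 x.1 * (Up ψ x.2.1 x.2.2 * Dp h2 y.1) * Up ψ y.2.1 y.2.2 := by
              rw [Up_Dp]
        _ = _ := by simp only [mul_assoc]
  inv_mem' := by
    rintro _ ⟨x, rfl⟩
    refine ⟨(x.1⁻¹, ⟨(x.1 : Matrix (Fin n) (Fin n) F) * (-x.2.1) *
      (x.1 : Matrix (Fin n) (Fin n) F)ᵀ, ?_⟩), ?_⟩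
    · exact symT_conj x.1 ⟨-x.2.1, by rw [transpose_neg, x.2.2]⟩
    · show Dp h2 x.1⁻¹ * Up ψ _ _ = (Dp h2 x.1 * Up ψ x.2.1 x.2.2)⁻¹
      rw [_root_.mul_inv_rev, Up_inv, Dp_inv, Up_Dp]
      congr 1

theorem mem_Gam (z : SpN n F × GLX n F) : z ∈ Gam ψ h2 ↔ ∃ x, pe ψ h2 x = z := Iff.rfl

theorem Gam_le (hψ : ψ ≠ 1) (p : ℕ) [CharP F p] : Gam (n := n) ψ h2 ≤ Ghat ψ p := by
  rintro _ ⟨x, rfl⟩
  rw [mem_Ghat]
  constructor
  · exact Impl.mul (impl_Md ψ x.1) (impl_Mu ψ h2 x.2.1 x.2.2)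
  · show (Md x.1 * Mu ψ x.2.1).det ^ p = 1
    rw [det_mul, det_Md h2, one_mul, ← det_pow, Mu_pow_char, det_one]

end gam

end Cfsg.Agent.Lib.Helper14.Weil
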