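import Mathlib

/-!
# Counting symmetric matrices over a finite field, and the `p`-part of `|GL_n(q)|` (helper14)
-/

set_option autoImplicit false
set_option linter.unusedSectionVars false
set_option linter.unusedVariables false

namespace Cfsg.Agent.Lib.Helper14.Weil

open Matrix

section symcount

variable {F : Type*} [Field F] [Fintype F] {n : ℕ}

/-- the index set of the upper triangle -/
abbrev UpIdx (n : ℕ) : Type := {p : Fin n × Fin n // p.1 ≤ p.2}

/-- the symmetric matrix with given upper triangle -/
def symMat (f : UpIdx n → F) : Matrix (Fin n) (Fin n) F :=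
  Matrix.of fun i j => if h : i ≤ j then f ⟨(i, j), h⟩ else f ⟨(j, i), le_of_not_ge h⟩

theorem symMat_apply (f : UpIdx n → F) (i j : Fin n) :
    symMat f i j = if h : i ≤ j then f ⟨(i, j), h⟩ else f ⟨(j, i), le_of_not_ge h⟩ := rfl

theorem symMat_transpose (f : UpIdx n → F) : (symMat f)ᵀ = symMat f := by
  ext i j
  rw [transpose_apply, symMat_apply, symMat_apply]
  by_cases h : i ≤ j
  · by_cases h' : j ≤ i
    · have : i = j := le_antisymm h h'
      subst this
      rfl
    · rw [dif_neg h', dif_pos h]
  · have h' : j ≤ i := le_of_not_ge h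
    rw [dif_pos h', dif_neg h]

/-- symmetric matrices are determined by their upper triangle -/
def symEquiv : {S : Matrix (Fin n) (Fin n) F // Sᵀ = S} ≃ (UpIdx n → F) where
  toFun S := fun p => S.1 p.1.1 p.1.2
  invFun f := ⟨symMat f, symMat_transpose f⟩
  left_inv S := by
    apply Subtype.ext
    ext i j
    show symMat (fun p : UpIdx n => S.1 p.1.1 p.1.2) i j = S.1 i j
    rw [symMat_apply]
    by_cases h : i ≤ j
    · rw [dif_pos h]
    · rw [dif_neg h]
      have := congrFun (congrFun S.2 i) j
      rw [transpose_apply] at this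
      exact this
  right_inv f := by
    funext p
    show symMat f p.1.1 p.1.2 = f p
    rw [symMat_apply, dif_pos p.2]

theorem card_upIdx (n : ℕ) : 2 * Fintype.card (UpIdx n) = n * (n + 1) := by
  classical
  have h1 : Fintype.card (UpIdx n) = ∑ j : Fin n, ((j : ℕ) + 1) := by
    rw [Fintype.card_subtype]
    rw [Finset.card_eq_sum_card_fiberwise (f := fun p : Fin n × Fin n => p.2)
      (t := Finset.univ) (fun _ _ => Finset.mem_univ _)]
    apply Finset.sum_congr rfl
    intro j _
    rw [← Fin.card_Iic j]
    apply Finset.card_bij (fun p _ => p.1)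
    · intro p hp
      simp only [Finset.mem_filter, Finset.mem_univ, true_and] at hp
      rw [Finset.mem_Iic, ← hp.2]
      exact hp.1
    · intro p hp p' hp' h
      simp only [Finset.mem_filter, Finset.mem_univ, true_and] at hp hp'
      exact Prod.ext h (hp.2.trans hp'.2.symm)
    · intro i hi
      refine ⟨(i, j), ?_, rfl⟩
      simp only [Finset.mem_filter, Finset.mem_univ, true_and]
      exact ⟨Finset.mem_Iic.mp hi, trivial⟩
  rw [h1, Fin.sum_univ_eq_sum_range (fun j => j + 1) n, Finset.sum_add_distrib, Finset.sum_const,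
    Finset.card_range, smul_eq_mul, mul_one, mul_add, mul_comm 2 (∑ i ∈ Finset.range n, i),
    Finset.sum_range_id_mul_two]
  rcases n with _ | n
  · rfl
  · simp only [Nat.add_sub_cancel]
    ring

theorem card_symT : Nat.card {S : Matrix (Fin n) (Fin n) F // Sᵀ = S} =
    Fintype.card F ^ Fintype.card (UpIdx n) := by
  classical
  rw [Nat.card_congr symEquiv, Nat.card_eq_fintype_card, Fintype.card_fun]

/-- the `q`-part of the order of the general linear group -/
theorem card_GL_factor (n : ℕ) :
    ∏ i : Fin n, (Fintype.card F ^ n - Fintype.card F ^ (i : ℕ)) =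
      Fintype.card F ^ (∑ i : Fin n, (i : ℕ)) *
        ∏ i : Fin n, (Fintype.card F ^ (n - (i : ℕ)) - 1) := by
  rw [← Finset.prod_pow_eq_pow_sum, ← Finset.prod_mul_distrib]
  apply Finset.prod_congr rfl
  intro i _
  have hi : (i : ℕ) ≤ n := i.2.le
  rw [Nat.mul_sub, mul_one, ← pow_add, Nat.add_sub_cancel' hi]

theorem sum_fin_id (n : ℕ) : 2 * ∑ i : Fin n, (i : ℕ) = n * (n - 1) := by
  rw [Fin.sum_univ_eq_sum_range (fun j => j) n, mul_comm, Finset.sum_range_id_mul_two]

end symcount

end Cfsg.Agent.Lib.Helper14.Weil
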