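import Mathlib

/-!
# Splitting a central extension with kernel of exponent prime to the index of a subgroup over
which it splits (helper14)
-/

set_option autoImplicit false
set_option linter.unusedSectionVars false
set_option linter.unusedVariables false

namespace Cfsg.Agent.Lib.Helper14.Weil

open Subgroup
open scoped IsMulCommutative

/-- If a central extension `π : E → G` with kernel of exponent `N` splits over a subgroup `H` of
index prime to `N`, then it splits. -/
theorem split_of_section {E G : Type*} [Group E] [Group G] (π : E →* G)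
    (hπ : Function.Surjective π) (hc : π.ker ≤ Subgroup.center E) (N : ℕ)
    (hN : ∀ z ∈ π.ker, z ^ N = 1) (H : Subgroup G) [H.FiniteIndex]
    (hcop : Nat.Coprime H.index N) (σ : H →* E) (hσ : ∀ h : H, π (σ h) = h) :
    ∃ τ : G →* E, ∀ g, π (τ g) = g := by
  classical
  have hidx : (H.comap π).index = H.index := Subgroup.index_comap_of_surjective H hπ
  have : (H.comap π).FiniteIndex := ⟨by rw [hidx]; exact Subgroup.FiniteIndex.index_ne_zero⟩
  -- the target group
  let A : Subgroup (Subgroup.center E) := (π.ker).subgroupOf (Subgroup.center E)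
  have hval : ∀ x : ↥(H.comap π), (x : E) * (σ ⟨π x, x.2⟩)⁻¹ ∈ π.ker := by
    intro x
    rw [MonoidHom.mem_ker, map_mul, map_inv, hσ]
    exact mul_inv_cancel _
  let ϕ : ↥(H.comap π) →* ↥A :=
    { toFun := fun x => ⟨⟨(x : E) * (σ ⟨π x, x.2⟩)⁻¹, hc (hval x)⟩, by
        rw [Subgroup.mem_subgroupOf]
        exact hval x⟩
      map_one' := by
        apply Subtype.ext
        apply Subtype.ext
        show ((1 : ↥(H.comap π)) : E) * (σ ⟨π ((1 : ↥(H.comap π)) : E), _⟩)⁻¹ = 1
        have : (⟨π ((1 : ↥(H.comap π)) : E), (1 : ↥(H.comap π)).2⟩ : H) = 1 := by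
          apply Subtype.ext
          simp
        rw [this, map_one]
        simp
      map_mul' := by
        intro x y
        apply Subtype.ext
        apply Subtype.ext
        show ((x * y : ↥(H.comap π)) : E) * (σ ⟨π ((x * y : ↥(H.comap π)) : E), _⟩)⁻¹ =
          ((x : E) * (σ ⟨π x, x.2⟩)⁻¹) * ((y : E) * (σ ⟨π y, y.2⟩)⁻¹)
        have h1 : (⟨π ((x * y : ↥(H.comap π)) : E), (x * y).2⟩ : H) =
            ⟨π x, x.2⟩ * ⟨π y, y.2⟩ := by
          apply Subtype.ext
          simp
        rw [h1, map_mul, mul_inv_rev]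
        have hcen := hc (hval y)
        rw [Subgroup.mem_center_iff] at hcen
        have h2 := hcen (σ ⟨π x, x.2⟩)⁻¹
        calc ((x * y : ↥(H.comap π)) : E) * ((σ ⟨π y, y.2⟩)⁻¹ * (σ ⟨π x, x.2⟩)⁻¹)
            = (x : E) * (((y : E) * (σ ⟨π y, y.2⟩)⁻¹) * (σ ⟨π x, x.2⟩)⁻¹) := by
              simp [mul_assoc]
          _ = (x : E) * ((σ ⟨π x, x.2⟩)⁻¹ * ((y : E) * (σ ⟨π y, y.2⟩)⁻¹)) := by rw [h2]
          _ = _ := by simp [mul_assoc] }
  let φ : E →* ↥A := MonoidHom.transfer (A := ↥A) ϕ
  -- values on the kernel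
  have hφker : ∀ z ∈ π.ker, (((φ z : ↥A) : Subgroup.center E) : E) = z ^ (H.comap π).index := by
    intro z hz
    have hzc := hc hz
    have key : ∀ (k : ℕ) (g₀ : E), g₀⁻¹ * z ^ k * g₀ ∈ H.comap π →
        g₀⁻¹ * z ^ k * g₀ = z ^ k := by
      intro k g₀ _
      have h1 := (Subgroup.center E).pow_mem hzc k
      rw [Subgroup.mem_center_iff] at h1
      rw [mul_assoc, ← h1 g₀, ← mul_assoc, inv_mul_cancel, one_mul]
    have h1 := MonoidHom.transfer_eq_pow ϕ z key
    show (((MonoidHom.transfer ϕ z : ↥A) : Subgroup.center E) : E) = _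
    rw [h1]
    show z ^ (H.comap π).index * (σ ⟨π (z ^ (H.comap π).index), _⟩)⁻¹ = z ^ (H.comap π).index
    have h2 : π (z ^ (H.comap π).index) = 1 := by
      rw [map_pow, MonoidHom.mem_ker.mp hz, one_pow]
    have h3 : (⟨π (z ^ (H.comap π).index), by rw [h2]; exact H.one_mem⟩ : H) = 1 := Subtype.ext h2
    rw [h3, map_one, inv_one, mul_one]
  have hφmem : ∀ x : E, (((φ x : ↥A) : Subgroup.center E) : E) ∈ π.ker := by
    intro x
    have := (φ x).2
    rwa [Subgroup.mem_subgroupOf] at this
  -- the complement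
  let K : Subgroup E := φ.ker
  let f : ↥K →* G := π.comp K.subtype
  have hinj : Function.Injective f := by
    rw [injective_iff_map_eq_one]
    intro x hx
    have hxk : (x : E) ∈ π.ker := MonoidHom.mem_ker.mpr hx
    have h1 := hφker _ hxk
    have h2 : φ (x : E) = 1 := MonoidHom.mem_ker.mp x.2
    rw [h2] at h1
    have h3 : (x : E) ^ H.index = 1 := by rw [← hidx]; exact h1.symm
    have h4 : (x : E) ^ N = 1 := hN _ hxk
    have h5 : orderOf (x : E) ∣ Nat.gcd H.index N :=
      Nat.dvd_gcd (orderOf_dvd_of_pow_eq_one h3) (orderOf_dvd_of_pow_eq_one h4)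
    rw [hcop.gcd_eq_one, Nat.dvd_one, orderOf_eq_one_iff] at h5
    exact Subtype.ext h5
  have hsurj : Function.Surjective f := by
    intro g
    obtain ⟨x, rfl⟩ := hπ g
    set c : E := (((φ x : ↥A) : Subgroup.center E) : E) with hcdef
    have hck : c ∈ π.ker := hφmem x
    have hcN : c ^ N = 1 := hN _ hck
    obtain ⟨a, b, hab⟩ : IsCoprime (H.index : ℤ) (N : ℤ) := Nat.isCoprime_iff_coprime.mpr hcop
    set z : E := c ^ (-a) with hzdef
    have hzk : z ∈ π.ker := π.ker.zpow_mem hck _
    have hzval : z ^ H.index = c⁻¹ := by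
      rw [hzdef, ← zpow_natCast, ← zpow_mul]
      have h1 : -a * (H.index : ℤ) = -1 + b * N := by linarith
      rw [h1, zpow_add, zpow_neg_one, mul_comm b, zpow_mul, zpow_natCast, hcN, one_zpow, mul_one]
    have hy : x * z ∈ K := by
      rw [MonoidHom.mem_ker, map_mul]
      apply Subtype.ext
      apply Subtype.ext
      show (((φ x * φ z : ↥A) : Subgroup.center E) : E) = 1
      have : (((φ x * φ z : ↥A) : Subgroup.center E) : E) =
          (((φ x : ↥A) : Subgroup.center E) : E) * (((φ z : ↥A) : Subgroup.center E) : E) := rfl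
      rw [this, hφker z hzk, hidx, hzval, ← hcdef, mul_inv_cancel]
    refine ⟨⟨x * z, hy⟩, ?_⟩
    show π (x * z) = π x
    rw [map_mul, MonoidHom.mem_ker.mp hzk, mul_one]
  let e : ↥K ≃* G := MulEquiv.ofBijective f ⟨hinj, hsurj⟩
  refine ⟨K.subtype.comp e.symm.toMonoidHom, fun g => ?_⟩
  show f (e.symm g) = g
  exact e.apply_symm_apply g

end Cfsg.Agent.Lib.Helper14.Weil
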