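import Mathlib
import Cfsg.Agent.Lib.Helper14.Weil13
import Cfsg.Agent.Lib.Helper14.Weil14
import Cfsg.Agent.Lib.Helper14.Weil7
import Cfsg.Agent.Lib.Helper15.SympOrder

/-!
# Linearising the Weil representation (helper14)
-/

set_option autoImplicit false
set_option linter.unusedSectionVars false
set_option linter.unusedVariables false

namespace Cfsg.Agent.Lib.Helper14.Weil

open Matrix Cfsg.Agent.Lib.Helper6

section lift

variable {F : Type*} [Field F] [Fintype F] [DecidableEq F] {n : ℕ} (ψ : AddChar F ℂ)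
  (h2 : (2 : F) ≠ 0)

/-- the first projection on the parabolic subgroup of the product -/
noncomputable def fGam : ↥(Gam (n := n) ψ h2) →* SpN n F :=
  (MonoidHom.fst (SpN n F) (GLX n F)).comp (Gam (n := n) ψ h2).subtype

theorem fGam_injective : Function.Injective (fGam (n := n) ψ h2) := by
  intro a b hab
  obtain ⟨x, hx⟩ := a.2
  obtain ⟨y, hy⟩ := b.2
  have hab' : (a : SpN n F × GLX n F).1 = (b : SpN n F × GLX n F).1 := hab
  have : x = y := fst_pe_injective ψ h2 (by rw [hx, hy]; exact hab')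
  apply Subtype.ext
  rw [← hx, ← hy, this]

/-- the Siegel parabolic subgroup -/
noncomputable def Par : Subgroup (SpN n F) := (fGam (n := n) ψ h2).range

theorem card_Par : Nat.card ↥(Par (n := n) ψ h2) =
    Nat.card (GL (Fin n) F) * Fintype.card F ^ Fintype.card (UpIdx n) := by
  have e1 : ↥(Gam (n := n) ψ h2) ≃ ↥(Par (n := n) ψ h2) :=
    (MonoidHom.ofInjective (fGam_injective ψ h2)).toEquiv
  have e2 : (GL (Fin n) F × SymT n F) ≃ ↥(Gam (n := n) ψ h2) :=
    Equiv.ofInjective (pe ψ h2) (pe_injective ψ h2)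
  rw [← Nat.card_congr e1, ← Nat.card_congr e2, Nat.card_prod, card_symT]

variable (p : ℕ) [Fact p.Prime] [CharP F p]

theorem not_dvd_index : ¬ p ∣ (Par (n := n) ψ h2).index := by
  intro hdvd
  have h1 := (Par (n := n) ψ h2).index_mul_card
  rw [card_Par, Cfsg.Agent.Lib.Helper15.card_symplecticGroup, Matrix.card_GL_field,
    card_GL_factor] at h1
  obtain ⟨f, hf⟩ : ∃ f : ℕ, Fintype.card F = p ^ f := by
    obtain ⟨f, -, hf⟩ := FiniteField.card F p
    exact ⟨f, hf⟩
  have hq1 : 1 < Fintype.card F := Fintype.one_lt_card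
  have hqpos : 0 < Fintype.card F := by omega
  have hexp : ∑ i : Fin n, (i : ℕ) + Fintype.card (UpIdx n) = n ^ 2 := by
    have e1 := sum_fin_id n
    have e2 := card_upIdx n
    have e3 : n * (n - 1) + n * (n + 1) = 2 * n ^ 2 := by
      rcases n with _ | n
      · rfl
      · simp only [Nat.add_sub_cancel]
        ring
    omega
  have h3 : (Par (n := n) ψ h2).index * ∏ i : Fin n, (Fintype.card F ^ (n - (i : ℕ)) - 1) =
      ∏ i ∈ Finset.range n, (Fintype.card F ^ (2 * (i + 1)) - 1) := by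
    have h4 : Fintype.card F ^ (n ^ 2) * ((Par (n := n) ψ h2).index *
        ∏ i : Fin n, (Fintype.card F ^ (n - (i : ℕ)) - 1)) =
        Fintype.card F ^ (n ^ 2) * ∏ i ∈ Finset.range n, (Fintype.card F ^ (2 * (i + 1)) - 1) := by
      rw [← h1, ← hexp, pow_add]
      ring
    exact Nat.eq_of_mul_eq_mul_left (pow_pos hqpos _) h4
  have h5 : p ∣ ∏ i ∈ Finset.range n, (Fintype.card F ^ (2 * (i + 1)) - 1) := by
    rw [← h3]
    exact Dvd.dvd.mul_right hdvd _
  obtain ⟨i, -, hi⟩ := (Nat.Prime.prime (Fact.out : p.Prime)).exists_mem_finset_dvd h5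
  have hpq : p ∣ Fintype.card F ^ (2 * (i + 1)) := by
    have hf0 : f ≠ 0 := by
      rintro rfl
      rw [pow_zero] at hf
      omega
    rw [hf, ← pow_mul]
    exact dvd_pow_self p (by positivity)
  have hge : 1 ≤ Fintype.card F ^ (2 * (i + 1)) := Nat.one_le_pow _ _ hqpos
  have h6 : p ∣ 1 := by
    have := Nat.dvd_sub hpq hi
    rwa [Nat.sub_sub_self hge] at this
  exact (Fact.out : p.Prime).one_lt.ne' (Nat.dvd_one.mp h6)

variable (hψ : ψ ≠ 1)

/-- the section over the parabolic subgroup -/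
noncomputable def sigmaPar : ↥(Par (n := n) ψ h2) →* ↥(Ghat (n := n) ψ p) :=
  (Subgroup.inclusion (Gam_le ψ h2 hψ p)).comp
    (MonoidHom.ofInjective (fGam_injective ψ h2)).symm.toMonoidHom

theorem piHat_sigmaPar (h : ↥(Par (n := n) ψ h2)) :
    piHat ψ p (sigmaPar ψ h2 p hψ h) = h := by
  show fGam ψ h2 ((MonoidHom.ofInjective (fGam_injective ψ h2)).symm h) = h
  exact MonoidHom.apply_ofInjective_symm _ h

end lift

section weil

variable {F : Type*} [Field F] [Fintype F] [DecidableEq F] {n : ℕ}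

/-- **The Weil representation**, as a homomorphism to invertible operators implementing the
action on the Weyl operators. -/
theorem exists_weil (ψ : AddChar F ℂ) (hψ : ψ ≠ 1) (h2 : (2 : F) ≠ 0) (p : ℕ) [Fact p.Prime]
    [CharP F p] : ∃ τ : SpN n F →* GLX n F, ∀ g : SpN n F,
    Impl ψ (g : Matrix (Fin n ⊕ Fin n) (Fin n ⊕ Fin n) F)
      ((τ g : GLX n F) : Matrix (Fin n → F) (Fin n → F) ℂ) := by
  have hfin : (Par (n := n) ψ h2).FiniteIndex := Subgroup.finiteIndex_of_finite
  have hcop : Nat.Coprime (Par (n := n) ψ h2).index (Fintype.card (Fin n → F) * p) := by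
    have h1 : Nat.Coprime (Par (n := n) ψ h2).index p :=
      (Nat.Coprime.symm ((Nat.Prime.coprime_iff_not_dvd Fact.out).mpr (not_dvd_index ψ h2 p)))
    apply Nat.Coprime.mul_right _ h1
    rw [Fintype.card_fun, Fintype.card_fin]
    obtain ⟨f, -, hf⟩ := FiniteField.card F p
    rw [hf, ← pow_mul]
    exact Nat.Coprime.pow_right _ h1
  obtain ⟨τ', hτ'⟩ := split_of_section (piHat (n := n) ψ p) (piHat_surjective hψ h2 p)
    (ker_piHat_le_center hψ p) (Fintype.card (Fin n → F) * p) (ker_piHat_pow hψ p)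
    (Par (n := n) ψ h2) hcop (sigmaPar ψ h2 p hψ) (piHat_sigmaPar ψ h2 p hψ)
  refine ⟨(MonoidHom.snd (SpN n F) (GLX n F)).comp ((Ghat (n := n) ψ p).subtype.comp τ'), ?_⟩
  intro g
  have h1 := ((mem_Ghat ψ p _).mp (τ' g).2).1
  have h3 : ((τ' g : ↥(Ghat (n := n) ψ p)) : SpN n F × GLX n F).1 = g := hτ' g
  rw [h3] at h1
  exact h1

end weil

end Cfsg.Agent.Lib.Helper14.Weil
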