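import Mathlib
import Cfsg.Agent.Lib.Helper14.Weil15

/-!
# The odd part of the Weil representation (helper14)
-/

set_option autoImplicit false
set_option linter.unusedSectionVars false
set_option linter.unusedVariables false

namespace Cfsg.Agent.Lib.Helper14.Weil

open Matrix Module Cfsg.Agent.Lib.Helper6

section parity

variable {F : Type*} [Field F] [Fintype F] [DecidableEq F] {n : ℕ}

/-- the parity operator -/
def Rm (n : ℕ) (F : Type*) [Field F] [Fintype F] [DecidableEq F] :
    Matrix (Fin n → F) (Fin n → F) ℂ :=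
  fun x y => if y = -x then 1 else 0

theorem Rm_apply (x y : Fin n → F) : Rm n F x y = if y = -x then 1 else 0 := rfl

theorem Rm_mulVec (f : (Fin n → F) → ℂ) (x : Fin n → F) : (Rm n F *ᵥ f) x = f (-x) := by
  rw [mulVec, dotProduct, Finset.sum_eq_single (-x)]
  · rw [Rm_apply, if_pos rfl, one_mul]
  · intro y _ hy
    rw [Rm_apply, if_neg hy, zero_mul]
  · intro h
    exact absurd (Finset.mem_univ _) h

theorem Rm_mul_apply (N : Matrix (Fin n → F) (Fin n → F) ℂ) (x z : Fin n → F) :
    (Rm n F * N) x z = N (-x) z := by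
  rw [Matrix.mul_apply, Finset.sum_eq_single (-x)]
  · rw [Rm_apply, if_pos rfl, one_mul]
  · intro y _ hy
    rw [Rm_apply, if_neg hy, zero_mul]
  · intro h
    exact absurd (Finset.mem_univ _) h

theorem mul_Rm_apply (N : Matrix (Fin n → F) (Fin n → F) ℂ) (x z : Fin n → F) :
    (N * Rm n F) x z = N x (-z) := by
  rw [Matrix.mul_apply, Finset.sum_eq_single (-z)]
  · rw [Rm_apply, if_pos (neg_neg z).symm, mul_one]
  · intro y _ hy
    rw [Rm_apply, if_neg, mul_zero]
    intro h
    apply hy
    rw [h, neg_neg]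
  · intro h
    exact absurd (Finset.mem_univ _) h

theorem Rm_mul_self : Rm n F * Rm n F = 1 := by
  ext x z
  rw [Rm_mul_apply, Rm_apply, Matrix.one_apply, neg_neg]
  by_cases h : x = z
  · rw [if_pos h, if_pos h.symm]
  · rw [if_neg h, if_neg (Ne.symm h)]

theorem impl_Rm (ψ : AddChar F ℂ) :
    Impl ψ (-1 : Matrix (Fin n ⊕ Fin n) (Fin n ⊕ Fin n) F) (Rm n F) := by
  intro v
  ext x z
  rw [Rm_mul_apply, mul_Rm_apply, Wop_apply, Wop_apply, neg_mulVec, one_mulVec, rp_neg]
  by_cases h : z = -x + rp v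
  · have h' : -z = x + -rp v := by rw [h]; abel
    rw [if_pos h, if_pos h']
    congr 1
    simp only [ph, lp_neg, rp_neg, neg_dotProduct, dotProduct_neg, neg_neg]
  · have h' : ¬ -z = x + -rp v := by
      intro h3
      apply h
      have := congrArg Neg.neg h3
      rw [neg_neg] at this
      rw [this]
      abel
    rw [if_neg h, if_neg h']

theorem trace_Rm (h2 : (2 : F) ≠ 0) : trace (Rm n F) = 1 := by
  rw [trace]
  simp only [diag_apply, Rm_apply]
  rw [Finset.sum_eq_single 0]
  · rw [if_pos neg_zero.symm]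
  · intro x _ hx
    rw [if_neg]
    intro h
    apply hx
    funext i
    have h3 := congrFun h i
    rw [Pi.neg_apply] at h3
    have : (2 : F) * x i = 0 := by linear_combination h3
    rcases mul_eq_zero.mp this with h4 | h4
    · exact absurd h4 h2
    · exact h4
  · intro h
    exact absurd (Finset.mem_univ _) h

/-- the space of odd functions -/
def Sm (n : ℕ) (F : Type*) [Field F] [Fintype F] [DecidableEq F] :
    Submodule ℂ ((Fin n → F) → ℂ) where
  carrier := {f | ∀ x, f (-x) = -f x}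
  add_mem' := by
    intro f g hf hg x
    rw [Pi.add_apply, Pi.add_apply, hf x, hg x]
    ring
  zero_mem' := by
    intro x
    simp
  smul_mem' := by
    intro c f hf x
    rw [Pi.smul_apply, Pi.smul_apply, hf x]
    simp

theorem mem_Sm (f : (Fin n → F) → ℂ) : f ∈ Sm n F ↔ ∀ x, f (-x) = -f x := Iff.rfl

theorem mem_Sm_iff (f : (Fin n → F) → ℂ) : f ∈ Sm n F ↔ Rm n F *ᵥ f = -f := by
  rw [mem_Sm]
  constructor
  · intro h
    funext x
    rw [Rm_mulVec, h x]
    rfl
  · intro h x
    have := congrFun h x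
    rw [Rm_mulVec] at this
    exact this

theorem Sm_zero (h2 : (2 : F) ≠ 0) {f : (Fin n → F) → ℂ} (hf : f ∈ Sm n F) : f 0 = 0 := by
  have := hf 0
  rw [neg_zero] at this
  have h3 : (2 : ℂ) * f 0 = 0 := by linear_combination this
  rcases mul_eq_zero.mp h3 with h | h
  · norm_num at h
  · exact h

/-- the projection onto the odd functions -/
noncomputable def Pm (n : ℕ) (F : Type*) [Field F] [Fintype F] [DecidableEq F] :
    ((Fin n → F) → ℂ) →ₗ[ℂ] ((Fin n → F) → ℂ) :=
  Matrix.toLin' ((2 : ℂ)⁻¹ • (1 - Rm n F))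

theorem Pm_apply (f : (Fin n → F) → ℂ) (x : Fin n → F) :
    Pm n F f x = 2⁻¹ * (f x - f (-x)) := by
  rw [Pm, Matrix.toLin'_apply, smul_mulVec, sub_mulVec, one_mulVec, Pi.smul_apply, Pi.sub_apply,
    Rm_mulVec, smul_eq_mul]

theorem isProj_Pm : LinearMap.IsProj (Sm n F) (Pm n F) := by
  constructor
  · intro f x
    rw [Pm_apply, Pm_apply, neg_neg]
    ring
  · intro f hf
    funext x
    rw [Pm_apply, hf x]
    ring

theorem finrank_Sm (h2 : (2 : F) ≠ 0) :
    2 * finrank ℂ ↥(Sm n F) + 1 = Fintype.card F ^ n := by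
  have h1 := (isProj_Pm (n := n) (F := F)).trace
  rw [Pm, Matrix.trace_toLin'_eq, trace_smul, trace_sub, trace_one, trace_Rm h2,
    Fintype.card_fun, Fintype.card_fin] at h1
  have h3 : ((2 * finrank ℂ ↥(Sm n F) + 1 : ℕ) : ℂ) = ((Fintype.card F ^ n : ℕ) : ℂ) := by
    push_cast
    rw [← h1, smul_eq_mul]
    push_cast
    ring
  exact_mod_cast h3

end parity

end Cfsg.Agent.Lib.Helper14.Weil
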