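import Mathlib
import Cfsg.Agent.Lib.Helper14.Weil16
import Cfsg.Agent.Lib.Helper14.Weil5

/-!
# Invariant subspaces of the odd part of the Weil representation (helper14)
-/

set_option autoImplicit false
set_option linter.unusedSectionVars false
set_option linter.unusedVariables false

namespace Cfsg.Agent.Lib.Helper14.Weil

open Matrix Module Cfsg.Agent.Lib.Helper6

section uniq

variable {F : Type*} [Field F] [Fintype F] [DecidableEq F] {n : ℕ} {ψ : AddChar F ℂ}

theorem impl_unique (hψ : ψ ≠ 1) {g : Matrix (Fin n ⊕ Fin n) (Fin n ⊕ Fin n) F}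
    {M₁ M₂ M₂' : Matrix (Fin n → F) (Fin n → F) ℂ} (h1 : Impl ψ g M₁) (h3 : Impl ψ g M₂)
    (hinv : M₂' * M₂ = 1) (hinv' : M₂ * M₂' = 1) : M₁ = (M₂' * M₁) 0 0 • M₂ := by
  have h4 : ∀ v, Wop ψ v * M₂' = M₂' * Wop ψ (g *ᵥ v) := by
    intro v
    calc Wop ψ v * M₂' = (M₂' * M₂) * Wop ψ v * M₂' := by rw [hinv, Matrix.one_mul]
      _ = M₂' * (M₂ * Wop ψ v) * M₂' := by simp only [Matrix.mul_assoc]
      _ = M₂' * (Wop ψ (g *ᵥ v) * M₂) * M₂' := by rw [h3 v]
      _ = M₂' * Wop ψ (g *ᵥ v) * (M₂ * M₂') := by simp only [Matrix.mul_assoc]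
      _ = _ := by rw [hinv', Matrix.mul_one]
  have hcomm : ∀ v, (M₂' * M₁) * Wop ψ v = Wop ψ v * (M₂' * M₁) := by
    intro v
    rw [Matrix.mul_assoc, h1 v, ← Matrix.mul_assoc, ← h4 v, Matrix.mul_assoc]
  have hsc := comm_scalar hψ _ hcomm
  calc M₁ = (M₂ * M₂') * M₁ := by rw [hinv', Matrix.one_mul]
    _ = M₂ * (M₂' * M₁) := by rw [Matrix.mul_assoc]
    _ = M₂ * ((M₂' * M₁) 0 0 • 1) := by rw [← hsc]
    _ = _ := by rw [Matrix.mul_smul, Matrix.mul_one]

theorem single_quad (x : Fin n → F) (i j : Fin n) :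
    x ⬝ᵥ (Matrix.single i j (1 : F)) *ᵥ x = x i * x j := by
  rw [Matrix.single_mulVec]
  simp [dotProduct, Pi.single_apply, Function.update_apply]

/-- the characters `S ↦ ψ(-xᵀSx/2)` separate points up to sign -/
theorem sep (hψ : ψ ≠ 1) (h2 : (2 : F) ≠ 0) {x y : Fin n → F}
    (h : ∀ S : Matrix (Fin n) (Fin n) F, Sᵀ = S →
      ψ (-(2⁻¹ * (x ⬝ᵥ S *ᵥ x))) = ψ (-(2⁻¹ * (y ⬝ᵥ S *ᵥ y)))) : y = x ∨ y = -x := by
  have step1 : ∀ S : Matrix (Fin n) (Fin n) F, Sᵀ = S → x ⬝ᵥ S *ᵥ x = y ⬝ᵥ S *ᵥ y := by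
    intro S hS
    by_contra hne
    have hd : x ⬝ᵥ S *ᵥ x - y ⬝ᵥ S *ᵥ y ≠ 0 := sub_ne_zero.mpr hne
    apply hψ
    ext t
    rw [AddChar.one_apply]
    set c : F := -2 * t / (x ⬝ᵥ S *ᵥ x - y ⬝ᵥ S *ᵥ y) with hc
    have h3 := h (c • S) (by rw [transpose_smul, hS])
    rw [smul_mulVec, smul_mulVec, dotProduct_smul, dotProduct_smul, smul_eq_mul, smul_eq_mul] at h3
    have h4 : ψ (-(2⁻¹ * (c * (x ⬝ᵥ S *ᵥ x))) - -(2⁻¹ * (c * (y ⬝ᵥ S *ᵥ y)))) = 1 := by
      rw [AddChar.map_sub_eq_div, h3, div_self (AddChar.val_isUnit ψ _).ne_zero]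
    have h5 : -(2⁻¹ * (c * (x ⬝ᵥ S *ᵥ x))) - -(2⁻¹ * (c * (y ⬝ᵥ S *ᵥ y))) = t := by
      rw [hc]
      field_simp
    rw [h5] at h4
    exact h4
  have hsq : ∀ i j, x i * x j = y i * y j := by
    intro i j
    have h3 := step1 (Matrix.single i j 1 + Matrix.single j i 1) (by
      rw [transpose_add, transpose_single, transpose_single, add_comm])
    rw [add_mulVec, add_mulVec, dotProduct_add, dotProduct_add, single_quad, single_quad,
      single_quad, single_quad] at h3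
    have h4 : (2 : F) * (x i * x j) = 2 * (y i * y j) := by linear_combination h3
    exact mul_left_cancel₀ h2 h4
  by_cases hx : x = 0
  · left
    funext i
    have := hsq i i
    rw [hx] at this ⊢
    simp only [Pi.zero_apply, mul_zero] at this
    exact (mul_self_eq_zero.mp this.symm)
  · obtain ⟨k, hk⟩ : ∃ k, x k ≠ 0 := by
      by_contra hcon
      push Not at hcon
      exact hx (funext hcon)
    have hkk := hsq k k
    have h3 : y k = x k ∨ y k = -x k := by
      have : y k * y k = x k * x k := hkk.symm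
      exact mul_self_eq_mul_self_iff.mp this
    rcases h3 with h3 | h3
    · left
      funext j
      have := hsq k j
      rw [h3] at this
      exact (mul_left_cancel₀ hk this).symm
    · right
      funext j
      have := hsq k j
      rw [h3] at this
      rw [Pi.neg_apply]
      have h4 : x k * x j = x k * (-y j) := by linear_combination this
      have h5 := mul_left_cancel₀ hk h4
      rw [h5, neg_neg]

end uniq

end Cfsg.Agent.Lib.Helper14.Weil
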