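import Mathlib
import Cfsg.Agent.Lib.Helper14.Weil17

/-!
# Irreducibility of the odd part of the Weil representation (helper14)
-/

set_option autoImplicit false
set_option linter.unusedSectionVars false
set_option linter.unusedVariables false

namespace Cfsg.Agent.Lib.Helper14.Weil

open Matrix Module Cfsg.Agent.Lib.Helper6

section core

variable {F : Type*} [Field F] [Fintype F] [DecidableEq F] {n : ℕ} {ψ : AddChar F ℂ}

theorem Md_mulVec (A : GL (Fin n) F) (f : (Fin n → F) → ℂ) (y : Fin n → F) :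
    (Md A *ᵥ f) y = sgn A * f ((A : Matrix (Fin n) (Fin n) F)ᵀ *ᵥ y) := by
  rw [mulVec, dotProduct, Finset.sum_eq_single ((A : Matrix (Fin n) (Fin n) F)ᵀ *ᵥ y)]
  · rw [Md_apply, if_pos rfl]
  · intro z _ hz
    rw [Md_apply, if_neg hz, zero_mul]
  · intro h
    exact absurd (Finset.mem_univ _) h

theorem Mu_mulVec (ψ : AddChar F ℂ) (S : Matrix (Fin n) (Fin n) F) (f : (Fin n → F) → ℂ)
    (y : Fin n → F) : (Mu ψ S *ᵥ f) y = ψ (-(2⁻¹ * (y ⬝ᵥ S *ᵥ y))) * f y := by
  rw [Mu, mulVec_diagonal]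

theorem aM_coe (M : Matrix (Fin n) (Fin n) F) :
    ((aM M : SpN n F) : Matrix (Fin n ⊕ Fin n) (Fin n ⊕ Fin n) F) = umat (M + Mᵀ) := rfl

/-- a representation of the symplectic group on an invariant subspace -/
noncomputable def subRep (τ : SpN n F →* GLX n F) (K : Submodule ℂ ((Fin n → F) → ℂ))
    (hinv : ∀ g, ∀ f ∈ K, ((τ g : GLX n F) : Matrix (Fin n → F) (Fin n → F) ℂ) *ᵥ f ∈ K) :
    SpN n F →* (↥K →ₗ[ℂ] ↥K) where
  toFun g := (Matrix.toLin' ((τ g : GLX n F) : Matrix (Fin n → F) (Fin n → F) ℂ)).restrict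
    (fun f hf => by rw [Matrix.toLin'_apply]; exact hinv g f hf)
  map_one' := by
    apply LinearMap.ext
    intro f
    apply Subtype.ext
    rw [LinearMap.restrict_apply]
    simp
  map_mul' := by
    intro g h
    apply LinearMap.ext
    intro f
    apply Subtype.ext
    rw [LinearMap.restrict_apply, Module.End.mul_apply, LinearMap.restrict_apply]
    simp only [Matrix.toLin'_apply, map_mul, Units.val_mul, LinearMap.coe_restrict_apply,
      mulVec_mulVec]

theorem subRep_apply (τ : SpN n F →* GLX n F) (K : Submodule ℂ ((Fin n → F) → ℂ))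
    (hinv : ∀ g, ∀ f ∈ K, ((τ g : GLX n F) : Matrix (Fin n → F) (Fin n → F) ℂ) *ᵥ f ∈ K)
    (g : SpN n F) (f : ↥K) :
    ((subRep τ K hinv g f : ↥K) : (Fin n → F) → ℂ) =
      ((τ g : GLX n F) : Matrix (Fin n → F) (Fin n → F) ℂ) *ᵥ (f : (Fin n → F) → ℂ) := by
  unfold subRep
  simp only [MonoidHom.coe_mk, OneHom.coe_mk, LinearMap.restrict_apply, Matrix.toLin'_apply]

/-- **Irreducibility**: an invariant subspace of the odd functions is trivial. -/
theorem odd_invariant (hψ : ψ ≠ 1) (h2 : (2 : F) ≠ 0) (hn : 2 ≤ n) (τ : SpN n F →* GLX n F)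
    (hτ : ∀ g : SpN n F, Impl ψ (g : Matrix (Fin n ⊕ Fin n) (Fin n ⊕ Fin n) F)
      ((τ g : GLX n F) : Matrix (Fin n → F) (Fin n → F) ℂ))
    (K : Submodule ℂ ((Fin n → F) → ℂ)) (hK : K ≤ Sm n F)
    (hinv : ∀ g, ∀ f ∈ K, ((τ g : GLX n F) : Matrix (Fin n → F) (Fin n → F) ℂ) *ᵥ f ∈ K) :
    K = ⊥ ∨ K = Sm n F := by
  by_cases hcase : ∃ M, subRep τ K hinv (aM M) ≠ 1
  · right
    have h1 := sp_bound h2 (subRep τ K hinv) hcase
    have h3 := finrank_Sm (n := n) (F := F) h2
    have h4 := Submodule.finrank_mono hK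
    apply Submodule.eq_of_le_of_finrank_le hK
    omega
  · left
    push Not at hcase
    by_contra hne
    obtain ⟨f, hfK, hf0⟩ := Submodule.exists_mem_ne_zero_of_ne_bot hne
    obtain ⟨x₀, hx₀⟩ : ∃ x₀, f x₀ ≠ 0 := by
      by_contra hcon
      push Not at hcon
      exact hf0 (funext hcon)
    -- the unipotent radical acts trivially
    have htriv : ∀ (S : Matrix (Fin n) (Fin n) F), Sᵀ = S → ∀ h ∈ K,
        ((τ (aM ((2 : F)⁻¹ • S)) : GLX n F) : Matrix (Fin n → F) (Fin n → F) ℂ) *ᵥ h = h := by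
      intro S hS h hh
      have h1 := hcase ((2 : F)⁻¹ • S)
      have h3 := congrArg (fun φ : ↥K →ₗ[ℂ] ↥K => ((φ ⟨h, hh⟩ : ↥K) : (Fin n → F) → ℂ)) h1
      simp only [subRep_apply, Module.End.one_apply] at h3
      exact h3
    have hval : ∀ (S : Matrix (Fin n) (Fin n) F), Sᵀ = S → ∃ c : ℂ, ∀ h ∈ K, ∀ y,
        c * (ψ (-(2⁻¹ * (y ⬝ᵥ S *ᵥ y))) * h y) = h y := by
      intro S hS
      have hcoe : ((aM ((2 : F)⁻¹ • S) : SpN n F) :
          Matrix (Fin n ⊕ Fin n) (Fin n ⊕ Fin n) F) = umat S := by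
        rw [aM_coe, transpose_smul, hS, ← add_smul]
        have : (2 : F)⁻¹ + 2⁻¹ = 1 := by field_simp; norm_num
        rw [this, one_smul]
      have h1 := hτ (aM ((2 : F)⁻¹ • S))
      rw [hcoe] at h1
      have h3 := impl_unique hψ h1 (impl_Mu ψ h2 S hS)
        (by rw [← Mu_add, neg_add_cancel, Mu_zero] : Mu ψ (-S) * Mu ψ S = 1)
        (by rw [← Mu_add, add_neg_cancel, Mu_zero] : Mu ψ S * Mu ψ (-S) = 1)
      refine ⟨(Mu ψ (-S) * ((τ (aM ((2 : F)⁻¹ • S)) : GLX n F) :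
        Matrix (Fin n → F) (Fin n → F) ℂ)) 0 0, fun h hh y => ?_⟩
      have h4 := congrFun (htriv S hS h hh) y
      rw [h3, smul_mulVec, Pi.smul_apply, Mu_mulVec, smul_eq_mul] at h4
      exact h4
    -- supports
    have hsupp : ∀ h ∈ K, ∀ y, h y ≠ 0 → y = x₀ ∨ y = -x₀ := by
      intro h hh y hy
      apply sep hψ h2
      intro S hS
      obtain ⟨c, hc⟩ := hval S hS
      have e1 := hc f hfK x₀
      have e2 := hc h hh y
      have e1' : c * ψ (-(2⁻¹ * (x₀ ⬝ᵥ S *ᵥ x₀))) = 1 := by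
        apply mul_right_cancel₀ hx₀
        rw [one_mul, mul_assoc]
        exact e1
      have e2' : c * ψ (-(2⁻¹ * (y ⬝ᵥ S *ᵥ y))) = 1 := by
        apply mul_right_cancel₀ hy
        rw [one_mul, mul_assoc]
        exact e2
      have hc0 : c ≠ 0 := by
        rintro rfl
        rw [zero_mul] at e1'
        exact zero_ne_one e1'
      apply mul_left_cancel₀ hc0
      rw [e1', e2']
    have hx₀0 : x₀ ≠ 0 := by
      rintro rfl
      exact hx₀ (Sm_zero h2 (hK hfK))
    obtain ⟨k, hk⟩ : ∃ k, x₀ k ≠ 0 := by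
      by_contra hcon
      push Not at hcon
      exact hx₀0 (funext hcon)
    obtain ⟨j, hj⟩ : ∃ j : Fin n, j ≠ k := by
      by_cases hk0 : (k : ℕ) = 0
      · refine ⟨⟨1, by omega⟩, ?_⟩
        intro h
        have := congrArg Fin.val h
        simp only at this
        omega
      · refine ⟨⟨0, by omega⟩, ?_⟩
        intro h
        have := congrArg Fin.val h
        simp only at this
        omega
    set y₁ : Fin n → F := x₀ + Pi.single j 1 with hy₁
    have hy₁k : y₁ k = x₀ k := by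
      rw [hy₁, Pi.add_apply, Pi.single_eq_of_ne (Ne.symm hj), add_zero]
    have hy₁j : y₁ j = x₀ j + 1 := by
      rw [hy₁, Pi.add_apply, Pi.single_eq_same]
    have hy₁0 : y₁ ≠ 0 := by
      intro h
      apply hk
      rw [← hy₁k, h]
      rfl
    have hy₁a : y₁ ≠ x₀ := by
      intro h
      have := congrFun h j
      rw [hy₁j] at this
      exact one_ne_zero (add_eq_left.mp this)
    have hy₁b : y₁ ≠ -x₀ := by
      intro h
      have := congrFun h k
      rw [hy₁k, Pi.neg_apply] at this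
      have h3 : (2 : F) * x₀ k = 0 := by linear_combination this
      rcases mul_eq_zero.mp h3 with h4 | h4
      · exact h2 h4
      · exact hk h4
    obtain ⟨D, hD, hDy⟩ := exists_gl_mulVec hy₁0 hx₀0
    have hDt : IsUnit Dᵀ.det := by rwa [det_transpose]
    set A : GL (Fin n) F := Matrix.GeneralLinearGroup.mk'' Dᵀ hDt with hA
    have hAt : (A : Matrix (Fin n) (Fin n) F)ᵀ = D := by
      rw [hA]
      simp
    have h1 := hτ ⟨dmat A, dmat_mem A⟩
    have h3 := impl_unique hψ h1 (impl_Md ψ A)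
      (by rw [← Md_mul, inv_mul_cancel, Md_one] : Md A⁻¹ * Md A = 1)
      (by rw [← Md_mul, mul_inv_cancel, Md_one] : Md A * Md A⁻¹ = 1)
    set c' := (Md A⁻¹ *
      ((τ ⟨dmat A, dmat_mem A⟩ : GLX n F) : Matrix (Fin n → F) (Fin n → F) ℂ)) 0 0 with hc'
    have hc'0 : c' ≠ 0 := by
      intro h0
      rw [h0, zero_smul] at h3
      have h4 : ((τ ⟨dmat A, dmat_mem A⟩ : GLX n F) : Matrix (Fin n → F) (Fin n → F) ℂ) *
          (((τ ⟨dmat A, dmat_mem A⟩)⁻¹ : GLX n F) : Matrix (Fin n → F) (Fin n → F) ℂ) = 1 := by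
        rw [← Units.val_mul, mul_inv_cancel]
        rfl
      rw [h3, Matrix.zero_mul] at h4
      have h5 := congrFun (congrFun h4 0) 0
      simp at h5
    have hmem := hinv ⟨dmat A, dmat_mem A⟩ f hfK
    have hvalue : (((τ ⟨dmat A, dmat_mem A⟩ : GLX n F) :
        Matrix (Fin n → F) (Fin n → F) ℂ) *ᵥ f) y₁ ≠ 0 := by
      rw [h3, smul_mulVec, Pi.smul_apply, Md_mulVec, hAt, hDy, smul_eq_mul]
      refine mul_ne_zero hc'0 (mul_ne_zero ?_ hx₀)
      intro h0
      have := sgn_sq A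
      rw [h0, mul_zero] at this
      exact zero_ne_one this
    rcases hsupp _ hmem y₁ hvalue with h | h
    · exact hy₁a h
    · exact hy₁b h

end core

end Cfsg.Agent.Lib.Helper14.Weil
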