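import Mathlib
import Cfsg.Agent.Lib.Helper14.Weil5
import Cfsg.Agent.Lib.Helper14.SpBN9

/-!
# The lower bound `(q ^ n - 1) / 2` for non-trivial representations of `Sp_{2n}(q)`, `q` odd
(helper14)
-/

set_option autoImplicit false
set_option linter.unusedSectionVars false
set_option linter.unusedVariables false

namespace Cfsg.Agent.Lib.Helper14.Weil

open Matrix Module Cfsg.Agent.Lib.Helper14.SpBN Cfsg.Agent.Lib.Helper6

section gen

variable {F : Type*} [Field F] {m : ℕ}

/-- the transvection along the first basis vector lies in the Siegel radical -/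
theorem tvE_e0 (h2 : (2 : F) ≠ 0) (c : F) :
    tvE (Pi.single (Sum.inl 0) 1 : Idx m → F) c =
      aM ((c / 2) • Matrix.single (0 : Fin (m + 1)) 0 (1 : F)) := by
  apply sp_ext'
  intro x
  rw [tvE_apply]
  show _ = (fromBlocks (1 : Matrix (Fin (m + 1)) (Fin (m + 1)) F)
    ((c / 2) • Matrix.single (0 : Fin (m + 1)) 0 (1 : F) +
      ((c / 2) • Matrix.single (0 : Fin (m + 1)) 0 (1 : F))ᵀ) 0 1) *ᵥ x
  have hx : x = Sum.elim (fun i => x (Sum.inl i)) (fun i => x (Sum.inr i)) := by
    funext k
    rcases k with k | k <;> rfl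
  rw [sympForm_eq_sum]
  conv_rhs => rw [hx, fromBlocks_mulVec]
  funext k
  rcases k with k | k
  · simp only [Pi.add_apply, Pi.smul_apply, smul_eq_mul, Sum.elim_inl, one_mulVec, transpose_smul,
      transpose_single]
    rw [← add_smul, smul_mulVec]
    have : c / 2 + c / 2 = c := by field_simp; ring
    rw [this]
    simp only [Pi.smul_apply, smul_eq_mul]
    congr 1
    by_cases hk : k = 0
    · subst hk
      simp [Matrix.single_mulVec, Pi.single_apply]
    · simp [Matrix.single_mulVec, Pi.single_apply, hk, Ne.symm hk]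
  · simp [Pi.single_apply]

/-- every non-zero vector has a partner -/
theorem exists_partner {w : Idx m → F} (hw : w ≠ 0) :
    ∃ v : Idx m → F, Cfsg.sympForm (m + 1) F w v = 1 := by
  obtain ⟨k, hk⟩ : ∃ k, w k ≠ 0 := by
    by_contra hcon
    push Not at hcon
    exact hw (funext hcon)
  have key : ∃ y : Idx m → F, Cfsg.sympForm (m + 1) F w y ≠ 0 := by
    rcases k with i | i
    · refine ⟨Pi.single (Sum.inr i) 1, ?_⟩
      rw [sympForm_eq_sum, Finset.sum_eq_single i]
      · simpa using hk
      · intro b _ hb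
        simp [hb]
      · simp
    · refine ⟨Pi.single (Sum.inl i) 1, ?_⟩
      rw [sympForm_eq_sum, Finset.sum_eq_single i]
      · simpa using hk
      · intro b _ hb
        simp [hb]
      · simp
  obtain ⟨y, hy⟩ := key
  refine ⟨(Cfsg.sympForm (m + 1) F w y)⁻¹ • y, ?_⟩
  rw [sympForm_smul_right, inv_mul_cancel₀ hy]

variable {V : Type*} [AddCommGroup V] [Module ℂ V]

/-- a representation trivial on the Siegel radical is trivial -/
theorem exists_aM_ne_one (h2 : (2 : F) ≠ 0) (ρ : SpG m F →* (V →ₗ[ℂ] V)) (h : ∃ g, ρ g ≠ 1) :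
    ∃ M, ρ (aM M) ≠ 1 := by
  by_contra hcon
  push Not at hcon
  obtain ⟨g, hg⟩ := h
  apply hg
  have hker : ρ.ker = ⊤ := by
    rw [eq_top_iff, ← Cfsg.Agent.S0765.result (F := F) (m + 1), Subgroup.closure_le]
    rintro A ⟨w, c, hA⟩
    have hA' : A = tvE w c := Subtype.ext hA
    rw [hA']
    by_cases hw : w = 0
    · rw [hw, tvE_zero]
      exact ρ.ker.one_mem
    · obtain ⟨v, hv⟩ := exists_partner hw
      have h' : Cfsg.sympForm (m + 1) F (Pi.single (Sum.inl 0) 1 : Idx m → F)
          (Pi.single (Sum.inr 0) (-1)) = 1 := by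
        rw [sympForm_eq_sum, Finset.sum_eq_single 0]
        · simp
        · intro b _ hb
          simp [hb]
        · simp
      obtain ⟨A', -, hA'w, -, -⟩ := Cfsg.Agent.S0765.trans_pairs w v _ _ hv h'
      have h3 := conj_tvE A' w c
      have h4 : matHom m F A' *ᵥ w = Pi.single (Sum.inl 0) 1 := hA'w
      rw [h4, tvE_e0 h2] at h3
      have h5 : A' * tvE w c * A'⁻¹ ∈ ρ.ker := by
        rw [h3, MonoidHom.mem_ker]
        exact hcon _
      have h6 := (MonoidHom.normal_ker ρ).conj_mem _ h5 A'⁻¹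
      simpa [mul_assoc] using h6
  have : g ∈ ρ.ker := by rw [hker]; trivial
  exact MonoidHom.mem_ker.mp this

end gen

section irr

variable {F : Type*} [Field F] [Fintype F] [DecidableEq F]

/-- **The Landazuri–Seitz bound** for `Sp_{2n}(q)`, `q` odd. -/
theorem sp_irr_bound (n : ℕ) (hn : 1 ≤ n) (h2 : (2 : F) ≠ 0) (k : ℕ)
    (ρ : Representation ℂ ↥(symplecticGroup (Fin n) F) (Fin k → ℂ)) (hirr : ρ.IsIrreducible)
    (hk : 2 ≤ k) : (Fintype.card F ^ n - 1) / 2 ≤ k := by
  obtain ⟨m, rfl⟩ : ∃ m, n = m + 1 := ⟨n - 1, by omega⟩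
  have hne : ∃ g, (ρ : SpG m F →* ((Fin k → ℂ) →ₗ[ℂ] (Fin k → ℂ))) g ≠ 1 := by
    by_contra hcon
    push Not at hcon
    let v : Fin k → ℂ := Pi.single ⟨0, by omega⟩ 1
    have hv : v ≠ 0 := by
      intro h0
      have := congrFun h0 ⟨0, by omega⟩
      simp [v] at this
    let S : Subrepresentation ρ :=
      ⟨Submodule.span ℂ {v}, by
        intro g w hw
        have := hcon g
        rw [show ρ g = 1 from this]
        exact hw⟩
    rcases hirr.eq_bot_or_eq_top S with hS | hS
    · have h1 : S.toSubmodule = ⊥ := congrArg Subrepresentation.toSubmodule hS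
      exact hv (Submodule.span_singleton_eq_bot.mp h1)
    · have h1 : S.toSubmodule = ⊤ := congrArg Subrepresentation.toSubmodule hS
      have h3 := finrank_span_singleton (K := ℂ) hv
      change Module.finrank ℂ ↥S.toSubmodule = 1 at h3
      rw [h1, finrank_top, Module.finrank_fin_fun] at h3
      omega
  have h3 := sp_bound h2 (ρ : SpG m F →* ((Fin k → ℂ) →ₗ[ℂ] (Fin k → ℂ)))
    (exists_aM_ne_one h2 _ hne)
  rw [Module.finrank_fin_fun] at h3
  omega

end irr

end Cfsg.Agent.Lib.Helper14.Weil
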