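import Mathlib
import Cfsg.Agent.Lib.Helper14.Weil18
import Cfsg.Agent.Lib.Helper14.Weil6

/-!
# The Weil representation of `Sp_{2n}(q)`: the irreducible constituent of degree `(q^n-1)/2`
(helper14)
-/

set_option autoImplicit false
set_option linter.unusedSectionVars false
set_option linter.unusedVariables false

namespace Cfsg.Agent.Lib.Helper14.Weil

open Matrix Module Cfsg.Agent.Lib.Helper6

section transport

/-- transporting an irreducible action on a `d`-dimensional space to `Fin d → ℂ` -/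
theorem irr_transport {G : Type*} [Group G] {W : Type*} [AddCommGroup W] [Module ℂ W]
    [FiniteDimensional ℂ W] (ρ : G →* (W →ₗ[ℂ] W)) (d : ℕ) (hd : finrank ℂ W = d) (hpos : 0 < d)
    (hirr : ∀ K : Submodule ℂ W, (∀ g, ∀ w ∈ K, ρ g w ∈ K) → K = ⊥ ∨ K = ⊤) :
    ∃ ρ' : Representation ℂ G (Fin d → ℂ), ρ'.IsIrreducible := by
  have hfr : finrank ℂ W = finrank ℂ (Fin d → ℂ) := by rw [hd, Module.finrank_fin_fun]
  let e : W ≃ₗ[ℂ] (Fin d → ℂ) := LinearEquiv.ofFinrankEq _ _ hfr
  let ρ' : Representation ℂ G (Fin d → ℂ) :=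
    { toFun := fun g => e.conj (ρ g)
      map_one' := by
        rw [map_one]
        exact LinearEquiv.conj_id e
      map_mul' := fun g h => by
        rw [map_mul]
        apply LinearMap.ext
        intro x
        rw [Module.End.mul_apply, LinearEquiv.conj_apply_apply, LinearEquiv.conj_apply_apply,
          LinearEquiv.conj_apply_apply, Module.End.mul_apply, LinearEquiv.symm_apply_apply] }
  have hρ' : ∀ g x, ρ' g x = e (ρ g (e.symm x)) := fun g x => LinearEquiv.conj_apply_apply e _ _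
  refine ⟨ρ', ?_⟩
  have hnt : Nontrivial (Subrepresentation ρ') := by
    refine ⟨⊥, ⊤, ?_⟩
    intro h
    have h1 : (⊥ : Submodule ℂ (Fin d → ℂ)) = ⊤ := congrArg Subrepresentation.toSubmodule h
    have h3 : finrank ℂ (Fin d → ℂ) = 0 := by
      rw [← finrank_top ℂ (Fin d → ℂ), ← h1, finrank_bot]
    rw [Module.finrank_fin_fun] at h3
    omega
  refine { toNontrivial := hnt, eq_bot_or_eq_top := ?_ }
  intro K'
  have hK := hirr (K'.toSubmodule.comap e.toLinearMap) (by
    intro g w hw
    rw [Submodule.mem_comap] at hw ⊢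
    have h1 := K'.apply_mem_toSubmodule g hw
    rw [hρ'] at h1
    simpa using h1)
  rcases hK with hK | hK
  · left
    apply Subrepresentation.toSubmodule_injective
    show K'.toSubmodule = ⊥
    rw [eq_bot_iff]
    intro x hx
    have h1 : e.symm x ∈ K'.toSubmodule.comap e.toLinearMap := by
      rw [Submodule.mem_comap]
      simpa using hx
    rw [hK, Submodule.mem_bot] at h1
    rw [Submodule.mem_bot]
    have := congrArg e h1
    simpa using this
  · right
    apply Subrepresentation.toSubmodule_injective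
    show K'.toSubmodule = ⊤
    rw [eq_top_iff]
    intro x _
    have h1 : e.symm x ∈ K'.toSubmodule.comap e.toLinearMap := by
      rw [hK]
      exact Submodule.mem_top
    rw [Submodule.mem_comap] at h1
    simpa using h1

end transport

section final

variable {F : Type*} [Field F] [Fintype F] [DecidableEq F] {n : ℕ} {ψ : AddChar F ℂ}

/-- the central element `-1` of the symplectic group -/
def negOne (n : ℕ) (F : Type*) [Field F] [Fintype F] [DecidableEq F] : SpN n F :=
  ⟨-1, SymplecticGroup.neg_mem (one_mem _)⟩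

theorem negOne_comm (g : SpN n F) : negOne n F * g = g * negOne n F := by
  apply Subtype.ext
  show (-1 : Matrix (Fin n ⊕ Fin n) (Fin n ⊕ Fin n) F) * g.1 = g.1 * -1
  rw [neg_mul, mul_neg, Matrix.one_mul, Matrix.mul_one]

/-- the Weil operators commute with the parity operator -/
theorem weil_comm_Rm (hψ : ψ ≠ 1) (τ : SpN n F →* GLX n F)
    (hτ : ∀ g : SpN n F, Impl ψ (g : Matrix (Fin n ⊕ Fin n) (Fin n ⊕ Fin n) F)
      ((τ g : GLX n F) : Matrix (Fin n → F) (Fin n → F) ℂ)) (g : SpN n F) :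
    Rm n F * ((τ g : GLX n F) : Matrix (Fin n → F) (Fin n → F) ℂ) =
      ((τ g : GLX n F) : Matrix (Fin n → F) (Fin n → F) ℂ) * Rm n F := by
  have h1 : Impl ψ (-1 : Matrix (Fin n ⊕ Fin n) (Fin n ⊕ Fin n) F)
      ((τ (negOne n F) : GLX n F) : Matrix (Fin n → F) (Fin n → F) ℂ) := hτ (negOne n F)
  have h3 := impl_unique hψ h1 (impl_Rm ψ) Rm_mul_self Rm_mul_self
  set c : ℂ := (Rm n F * ((τ (negOne n F) : GLX n F) : Matrix (Fin n → F) (Fin n → F) ℂ)) 0 0
    with hc
  have hc0 : c ≠ 0 := by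
    intro h0
    rw [h0, zero_smul] at h3
    have h4 : ((τ (negOne n F) : GLX n F) : Matrix (Fin n → F) (Fin n → F) ℂ) *
        (((τ (negOne n F))⁻¹ : GLX n F) : Matrix (Fin n → F) (Fin n → F) ℂ) = 1 := by
      rw [← Units.val_mul, mul_inv_cancel]
      rfl
    rw [h3, Matrix.zero_mul] at h4
    have h5 := congrFun (congrFun h4 0) 0
    simp at h5
  have h4 : ((τ (negOne n F) : GLX n F) : Matrix (Fin n → F) (Fin n → F) ℂ) *
      ((τ g : GLX n F) : Matrix (Fin n → F) (Fin n → F) ℂ) =
      ((τ g : GLX n F) : Matrix (Fin n → F) (Fin n → F) ℂ) *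
      ((τ (negOne n F) : GLX n F) : Matrix (Fin n → F) (Fin n → F) ℂ) := by
    rw [← Units.val_mul, ← Units.val_mul, ← map_mul, ← map_mul, negOne_comm]
  rw [h3, Matrix.smul_mul, Matrix.mul_smul] at h4
  have h5 := congrArg (fun M => c⁻¹ • M) h4
  simp only [smul_smul, inv_mul_cancel₀ hc0, one_smul] at h5
  exact h5

theorem weil_Sm_invariant (hψ : ψ ≠ 1) (τ : SpN n F →* GLX n F)
    (hτ : ∀ g : SpN n F, Impl ψ (g : Matrix (Fin n ⊕ Fin n) (Fin n ⊕ Fin n) F)
      ((τ g : GLX n F) : Matrix (Fin n → F) (Fin n → F) ℂ)) (g : SpN n F)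
    (f : (Fin n → F) → ℂ) (hf : f ∈ Sm n F) :
    ((τ g : GLX n F) : Matrix (Fin n → F) (Fin n → F) ℂ) *ᵥ f ∈ Sm n F := by
  rw [mem_Sm_iff] at hf ⊢
  rw [mulVec_mulVec, weil_comm_Rm hψ τ hτ g, ← mulVec_mulVec, hf, mulVec_neg]

/-- **Existence of an irreducible Weil representation** of degree `(q^n-1)/2`. -/
theorem exists_weil_irr (n : ℕ) (hn : 2 ≤ n) (h2 : (2 : F) ≠ 0) :
    ∃ ρ : Representation ℂ ↥(symplecticGroup (Fin n) F)
      (Fin ((Fintype.card F ^ n - 1) / 2) → ℂ), ρ.IsIrreducible := by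
  obtain ⟨ψ, hψ1⟩ := (AddChar.exists_apply_ne_zero (α := F) (a := 1)).mpr one_ne_zero
  have hψ : ψ ≠ 1 := fun h => hψ1 (by rw [h]; rfl)
  have : CharP F (ringChar F) := ringChar.charP F
  have : Fact (ringChar F).Prime := ⟨CharP.char_is_prime F _⟩
  obtain ⟨τ, hτ⟩ := exists_weil (n := n) ψ hψ h2 (ringChar F)
  have hinv := weil_Sm_invariant hψ τ hτ
  have hfr := finrank_Sm (n := n) (F := F) h2
  have hq : 3 ≤ Fintype.card F := by
    have h1 : 1 < Fintype.card F := Fintype.one_lt_card
    by_contra hlt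
    have h3 : Fintype.card F = 2 := by omega
    have h4 : ((Fintype.card F : ℕ) : F) = 0 := Nat.cast_card_eq_zero F
    rw [h3] at h4
    exact h2 (by exact_mod_cast h4)
  have hqn : 3 ≤ Fintype.card F ^ n := by
    calc 3 ≤ Fintype.card F := hq
      _ = Fintype.card F ^ 1 := (pow_one _).symm
      _ ≤ Fintype.card F ^ n := Nat.pow_le_pow_right (by omega) (by omega)
  apply irr_transport (subRep τ (Sm n F) hinv) _ (by omega) (by omega)
  intro K hKinv
  have hres := odd_invariant hψ h2 hn τ hτ (K.map (Sm n F).subtype)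
    (by
      intro f hf
      obtain ⟨w, -, rfl⟩ := Submodule.mem_map.mp hf
      exact w.2)
    (by
      intro g f hf
      obtain ⟨w, hw, rfl⟩ := Submodule.mem_map.mp hf
      refine Submodule.mem_map.mpr ⟨subRep τ (Sm n F) hinv g w, hKinv g w hw, ?_⟩
      rw [Submodule.subtype_apply, Submodule.subtype_apply, subRep_apply])
  rcases hres with h | h
  · left
    rw [eq_bot_iff]
    intro w hw
    have h1 : (w : (Fin n → F) → ℂ) ∈ K.map (Sm n F).subtype :=
      Submodule.mem_map.mpr ⟨w, hw, rfl⟩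
    rw [h, Submodule.mem_bot] at h1
    rw [Submodule.mem_bot]
    exact Subtype.ext h1
  · right
    rw [eq_top_iff]
    intro w _
    have h1 : (w : (Fin n → F) → ℂ) ∈ K.map (Sm n F).subtype := by
      rw [h]
      exact w.2
    obtain ⟨w', hw', hww⟩ := Submodule.mem_map.mp h1
    have : w' = w := Subtype.ext hww
    rwa [this] at hw'

end final

end Cfsg.Agent.Lib.Helper14.Weil
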